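import Mathlib
import Groth.Agent.Lib.Helper29.DepthLoc
import Groth.Agent.Lib.Helper29.DepthLoc4
import Groth.Agent.H46.CatenaryMax
import Groth.Agent.H46.CatenaryDim
import Groth.Agent.Lib.Helper82.CMPoly

/-!
# Cohen–Macaulay ⟹ catenary (helper89)

For a Noetherian local ring `A` with a finite Cohen–Macaulay module `M` of full support:
* `ringKrullDim_quotient_add_height` : `dim A/p + ht p = dim A` for all primes `p`;
* `height_eq_add_one_of_covBy` : `p ⋖ q` implies `ht q = ht p + 1`.
Consequences: `isCatenary_of_isCohenMacaulayModule`, `isCatenary_of_isCohenMacaulayRing`,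
`isUniversallyCatenary_of_isCohenMacaulayRing`.
-/

set_option autoImplicit false

namespace Groth.Agent.Lib.Helper89.CMCatenary

open Groth.Agent.Lib.Helper29

universe u

section Local

variable (A : Type u) [CommRing A] [IsLocalRing A] [IsNoetherianRing A]
  (M : Type u) [AddCommGroup M] [Module A M] [Module.Finite A M]

theorem supportDim_eq_ringKrullDim_of_support_eq_univ {A : Type*} [CommRing A]
    {M : Type*} [AddCommGroup M] [Module A M]
    (hsupp : Module.support A M = Set.univ) : Module.supportDim A M = ringKrullDim A := by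
  unfold Module.supportDim ringKrullDim
  rw [hsupp]
  exact Order.krullDim_eq_of_orderIso OrderIso.Set.univ

theorem ringKrullDim_quotient_add_height_le {A : Type*} [CommRing A] (p : PrimeSpectrum A) :
    ringKrullDim (A ⧸ p.asIdeal) + ((p.asIdeal.height : ℕ∞) : WithBot ℕ∞) ≤ ringKrullDim A := by
  have : Nonempty (PrimeSpectrum A) := ⟨p⟩
  rw [Groth.Agent.H46.ringKrullDim_quotient_eq_coheight, PrimeSpectrum.height_eq_orderHeight,
    ringKrullDim, Order.krullDim_eq_iSup_height_add_coheight_of_nonempty, add_comm]
  exact_mod_cast le_iSup (fun a : PrimeSpectrum A => Order.height a + Order.coheight a) p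

/-- In a Noetherian local ring with a finite CM module of full support, `dim A/p + ht p = dim A`. -/
theorem ringKrullDim_quotient_add_height (hM : LocCoh.IsCohenMacaulayModule A M)
    (hsupp : Module.support A M = Set.univ) (p : PrimeSpectrum A) :
    ringKrullDim (A ⧸ p.asIdeal) + ((p.asIdeal.height : ℕ∞) : WithBot ℕ∞) = ringKrullDim A := by
  have hp : p ∈ Module.support A M := by rw [hsupp]; trivial
  obtain ⟨r, h1, h2, -⟩ := supportDim_localizedModule_eq_of_isCohenMacaulayModule A M hM p hp
  rw [supportDim_eq_ringKrullDim_of_support_eq_univ hsupp] at h1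
  apply le_antisymm
  · exact ringKrullDim_quotient_add_height_le p
  · rw [← h1]
    have h3 : ((r : ℕ) : WithBot ℕ∞) ≤ ((p.asIdeal.height : ℕ∞) : WithBot ℕ∞) := by
      rw [← h2, ← IsLocalization.AtPrime.ringKrullDim_eq_height p.asIdeal
        (Localization.AtPrime p.asIdeal)]
      exact Module.supportDim_le_ringKrullDim _ _
    gcongr

/-- A prime `p ≤ q` in the support of `M` gives a prime of `A_q` in the support of `M_q`. -/
theorem map_mem_support_localizedModule {A : Type*} [CommRing A] {M : Type*} [AddCommGroup M]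
    [Module A M] (p q : PrimeSpectrum A) (hpq : p ≤ q) (hp : p ∈ Module.support A M)
    (P : PrimeSpectrum (Localization.AtPrime q.asIdeal))
    (hP : P.asIdeal.comap (algebraMap A (Localization.AtPrime q.asIdeal)) = p.asIdeal) :
    P ∈ Module.support (Localization.AtPrime q.asIdeal)
      (LocalizedModule q.asIdeal.primeCompl M) := by
  rw [Module.mem_support_iff'] at hp ⊢
  obtain ⟨m, hm⟩ := hp
  refine ⟨LocalizedModule.mk m 1, fun r hr h0 => ?_⟩
  obtain ⟨a, s, rfl⟩ := IsLocalization.exists_mk'_eq q.asIdeal.primeCompl r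
  have ha : a ∉ p.asIdeal := by
    intro ha
    apply hr
    have : algebraMap A (Localization.AtPrime q.asIdeal) a ∈ P.asIdeal := by
      rw [← Ideal.mem_comap, hP]; exact ha
    exact (IsLocalization.mk'_mem_iff).mpr this
  rw [IsLocalizedModule.mk_eq_mk', IsLocalizedModule.mk'_smul_mk',
    IsLocalizedModule.mk'_eq_zero'] at h0
  obtain ⟨u, hu⟩ := h0
  have hu' : ((u : A) * a) • m = 0 := by
    rw [mul_smul]; exact hu
  refine hm _ ?_ hu'
  have h1 : (u : A) ∉ p.asIdeal := fun h => u.2 (hpq h)
  intro h
  rcases p.isPrime.mem_or_mem h with h | h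
  · exact h1 h
  · exact ha h

/-- `ht(q/p) = 1` for `p ⋖ q`. -/
theorem height_map_quotient_of_covBy {A : Type*} [CommRing A] (p q : PrimeSpectrum A)
    (h : p ⋖ q) : (q.asIdeal.map (Ideal.Quotient.mk p.asIdeal)).height = 1 := by
  have hpq : p.asIdeal ≤ q.asIdeal := h.le
  have hprime : (q.asIdeal.map (Ideal.Quotient.mk p.asIdeal)).IsPrime :=
    Ideal.map_isPrime_of_surjective Ideal.Quotient.mk_surjective (by rwa [Ideal.mk_ker])
  have hcm : (q.asIdeal.map (Ideal.Quotient.mk p.asIdeal)).comap (Ideal.Quotient.mk p.asIdeal) =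
      q.asIdeal := by
    rw [Ideal.comap_map_of_surjective _ Ideal.Quotient.mk_surjective, ← RingHom.ker_eq_comap_bot,
      Ideal.mk_ker]
    exact sup_eq_left.mpr hpq
  apply le_antisymm
  · rw [show (1 : ℕ∞) = ((1 : ℕ) : ℕ∞) from rfl, Ideal.height_le_iff]
    intro Q hQ hlt
    have hQb : Q = ⊥ := by
      let p' : PrimeSpectrum A := ⟨Q.comap (Ideal.Quotient.mk p.asIdeal), inferInstance⟩
      have h1 : p ≤ p' := by
        change p.asIdeal ≤ Q.comap (Ideal.Quotient.mk p.asIdeal)
        intro x hx
        rw [Ideal.mem_comap, Ideal.Quotient.eq_zero_iff_mem.mpr hx]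
        exact Q.zero_mem
      have h2 : p' ≤ q := by
        change Q.comap (Ideal.Quotient.mk p.asIdeal) ≤ q.asIdeal
        rw [← hcm]
        exact Ideal.comap_mono hlt.le
      rcases h.eq_or_eq h1 h2 with h3 | h3
      · have h4 : Q.comap (Ideal.Quotient.mk p.asIdeal) = p.asIdeal := congrArg (·.asIdeal) h3
        rw [← Ideal.map_comap_of_surjective _ Ideal.Quotient.mk_surjective Q, h4,
          Ideal.map_quotient_self]
      · exfalso
        have h4 : Q.comap (Ideal.Quotient.mk p.asIdeal) = q.asIdeal := congrArg (·.asIdeal) h3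
        apply hlt.ne
        rw [← Ideal.map_comap_of_surjective _ Ideal.Quotient.mk_surjective Q, h4]
    rw [hQb, Ideal.height_bot]
    norm_num
  · rw [Order.one_le_iff_ne_zero, Ne, Ideal.height_eq_zero_iff_eq_bot]
    intro hbot
    rw [hbot, ← RingHom.ker_eq_comap_bot, Ideal.mk_ker] at hcm
    exact h.lt.ne (PrimeSpectrum.ext hcm)

/-- In a Noetherian local ring with a finite CM module of full support, `p ⋖ q` implies
`ht q = ht p + 1`. -/
theorem height_eq_add_one_of_covBy (hM : LocCoh.IsCohenMacaulayModule A M)
    (hsupp : Module.support A M = Set.univ) (p q : PrimeSpectrum A) (h : p ⋖ q) :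
    q.asIdeal.height = p.asIdeal.height + 1 := by
  have hpq : p.asIdeal ≤ q.asIdeal := h.le
  have hlt : p.asIdeal < q.asIdeal := h.lt
  have := p.isPrime
  have := q.isPrime
  apply le_antisymm
  · have hq : q ∈ Module.support A M := by rw [hsupp]; trivial
    have hp : p ∈ Module.support A M := by rw [hsupp]; trivial
    obtain ⟨r, h1, h2, -⟩ := supportDim_localizedModule_eq_of_isCohenMacaulayModule A M hM q hq
    have hA := ringKrullDim_quotient_add_height A M hM hsupp q
    rw [supportDim_eq_ringKrullDim_of_support_eq_univ hsupp, ← hA] at h1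
    obtain ⟨a, ha⟩ := exists_nat_ringKrullDim_quotient_eq A q
    rw [ha] at h1
    have hr : (r : ℕ∞) = q.asIdeal.height := by
      have h1' : ((a : ℕ∞) + (r : ℕ∞) : ℕ∞) = (a : ℕ∞) + q.asIdeal.height := by
        exact_mod_cast h1
      exact ENat.add_right_injective_of_ne_top (ENat.natCast_ne_top a) h1'
    have hCM : LocCoh.IsCohenMacaulayModule (Localization.AtPrime q.asIdeal)
        (LocalizedModule q.asIdeal.primeCompl M) :=
      isCohenMacaulayModule_localizedModule A M hM q hq
    have hdisj : Disjoint (q.asIdeal.primeCompl : Set A) p.asIdeal := by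
      rw [Set.disjoint_left]
      intro x hx hxp
      exact hx (hpq hxp)
    let P : PrimeSpectrum (Localization.AtPrime q.asIdeal) :=
      ⟨p.asIdeal.map (algebraMap A (Localization.AtPrime q.asIdeal)),
        IsLocalization.isPrime_of_isPrime_disjoint q.asIdeal.primeCompl _ _ p.isPrime hdisj⟩
    have hPc : P.asIdeal.comap (algebraMap A (Localization.AtPrime q.asIdeal)) = p.asIdeal :=
      IsLocalization.under_map_of_isPrime_disjoint q.asIdeal.primeCompl _ p.isPrime hdisj
    have hPs := map_mem_support_localizedModule p q h.le hp P hPc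
    obtain ⟨r', h1', h2', -⟩ := supportDim_localizedModule_eq_of_isCohenMacaulayModule
      (Localization.AtPrime q.asIdeal) (LocalizedModule q.asIdeal.primeCompl M) hCM P hPs
    rw [h2] at h1'
    have hone : ringKrullDim (Localization.AtPrime q.asIdeal ⧸ P.asIdeal) = 1 := by
      change ringKrullDim (Localization.AtPrime q.asIdeal ⧸
        p.asIdeal.map (algebraMap A (Localization.AtPrime q.asIdeal))) = 1
      rw [ringKrullDim_localization_quotient_map_eq_height A hpq,
        height_map_quotient_of_covBy p q h]
      rfl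
    have := P.isPrime
    have hr' : ((r' : ℕ) : WithBot ℕ∞) ≤ ((p.asIdeal.height : ℕ∞) : WithBot ℕ∞) := by
      have h3 : P.asIdeal.height = p.asIdeal.height :=
        IsLocalization.height_map_of_disjoint q.asIdeal.primeCompl p.asIdeal hdisj
      rw [← h2', ← h3, ← IsLocalization.AtPrime.ringKrullDim_eq_height P.asIdeal
        (Localization.AtPrime P.asIdeal)]
      exact Module.supportDim_le_ringKrullDim _ _
    rw [hone] at h1'
    have h5 : ((1 : ℕ∞) + (r' : ℕ∞) : ℕ∞) = (r : ℕ∞) := by exact_mod_cast h1'
    have h6 : (r' : ℕ∞) ≤ p.asIdeal.height := by exact_mod_cast hr'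
    rw [← hr, ← h5, add_comm]
    gcongr
  · exact Ideal.height_add_one_le_of_lt_of_isPrime hlt

/-- A Noetherian local ring with a finite CM module of full support is catenary. -/
theorem isCatenary_of_isCohenMacaulayModule (hM : LocCoh.IsCohenMacaulayModule A M)
    (hsupp : Module.support A M = Set.univ) : CAlg.IsCatenary A := by
  rw [Groth.Agent.H46.isCatenary_iff_dimFun]
  intro p q hpq
  have hfin : FiniteDimensionalOrder (PrimeSpectrum A) := (inferInstance : FiniteRingKrullDim A)
  refine ⟨?_, fun hcov => ?_⟩
  · rw [Groth.Agent.H46.ringKrullDim_quotient_eq_coheight,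
      Groth.Agent.H46.ringKrullDim_quotient_eq_coheight]
    exact_mod_cast Order.coheight_strictAnti hpq (Order.coheight_lt_top q)
  · have hp := ringKrullDim_quotient_add_height A M hM hsupp p
    have hq := ringKrullDim_quotient_add_height A M hM hsupp q
    rw [height_eq_add_one_of_covBy A M hM hsupp p q hcov, ← hp] at hq
    obtain ⟨a, ha⟩ := exists_nat_ringKrullDim_quotient_eq A p
    obtain ⟨b, hb⟩ := exists_nat_ringKrullDim_quotient_eq A q
    have := p.isPrime
    obtain ⟨c, hc⟩ := ENat.ne_top_iff_exists.mp (Ideal.height_ne_top_of_isPrime (I := p.asIdeal))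
    rw [ha, hb, ← hc] at hq
    rw [ha, hb]
    have hq' : b + (c + 1) = a + c := by exact_mod_cast hq
    have : a = b + 1 := by omega
    rw [this]
    rfl

/-- Along a saturated chain of primes, the height increases by one at each step. -/
theorem height_eq_height_head_add (hM : LocCoh.IsCohenMacaulayModule A M)
    (hsupp : Module.support A M = Set.univ) (s : LTSeries (PrimeSpectrum A))
    (hsat : ∀ i : Fin s.length, s (Fin.castSucc i) ⋖ s (Fin.succ i)) (i : Fin (s.length + 1)) :
    (s i).asIdeal.height = s.head.asIdeal.height + (i : ℕ) := by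
  induction i using Fin.induction with
  | zero => simp [RelSeries.head]
  | succ i ih =>
    rw [height_eq_add_one_of_covBy A M hM hsupp _ _ (hsat i), ih, add_assoc]
    simp

end Local

section Ring

theorem support_self_eq_univ (A : Type*) [CommRing A] : Module.support A A = Set.univ := by
  ext p
  simp only [Set.mem_univ, iff_true]
  rw [Module.mem_support_iff_of_finite]
  have : Module.annihilator A A = ⊥ := by
    rw [eq_bot_iff]
    intro x hx
    have := Module.mem_annihilator.mp hx 1
    simpa using this
  rw [this]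
  exact bot_le

theorem isCatenary_of_isCohenMacaulayLocalRing (A : Type u) [CommRing A]
    [LocCoh.IsCohenMacaulayLocalRing A] : CAlg.IsCatenary A :=
  isCatenary_of_isCohenMacaulayModule A A
    (LocCoh.IsCohenMacaulayLocalRing.supportDim_eq_depth) (support_self_eq_univ A)

theorem isCatenary_of_isCohenMacaulayRing (T : Type u) [CommRing T]
    [LocCoh.IsCohenMacaulayRing T] : CAlg.IsCatenary T :=
  Groth.Agent.H46.isCatenary_of_forall_maximal fun m hm => by
    have := LocCoh.IsCohenMacaulayRing.isCohenMacaulayLocalRing_localization (R := T) m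
    exact isCatenary_of_isCohenMacaulayLocalRing _

theorem isUniversallyCatenary_of_isCohenMacaulayRing (R : Type u) [CommRing R]
    [LocCoh.IsCohenMacaulayRing R] : CAlg.IsUniversallyCatenary R := by
  refine ⟨inferInstance, fun S _ _ hft => ?_⟩
  obtain ⟨n, f, hf⟩ := Algebra.FiniteType.iff_quotient_mvPolynomial''.mp hft
  have := Groth.Agent.Lib.Helper82.CMPoly.isCohenMacaulayRing_mvPolynomial (R := R) n
  exact Groth.Agent.H46.isCatenary_of_surjective f.toRingHom hf
    (isCatenary_of_isCohenMacaulayRing _)

end Ring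

end Groth.Agent.Lib.Helper89.CMCatenary
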