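import Mathlib

set_option autoImplicit false
universe u

open CategoryTheory Abelian TensorProduct ChangeOfRings

namespace Groth.Agent.Lib.Helper89.ExtBaseChange

variable {A B : Type u} [CommRing A] [CommRing B] [Algebra A B]

variable (A B) in
/-- Extension of scalars along `A → B`. -/
noncomputable abbrev F : ModuleCat.{u} A ⥤ ModuleCat.{u} B :=
  ModuleCat.extendScalars.{u, u, u} (algebraMap A B)

instance : (F A B).Additive :=
  (ModuleCat.extendRestrictScalarsAdj.{u, u, u} (algebraMap A B)).left_adjoint_additive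

instance : (F A B).PreservesProjectiveObjects :=
  Functor.preservesProjectiveObjects_of_adjunction_of_preservesEpimorphisms
    (ModuleCat.extendRestrictScalarsAdj.{u, u, u} (algebraMap A B))

/-- `Ext` groups over `B` are `A`-modules. -/
noncomputable instance extModule (X Y : ModuleCat.{u} B) (n : ℕ) : Module A (Ext.{u} X Y n) :=
  Module.compHom _ (algebraMap A B)

theorem smul_ext_def (X Y : ModuleCat.{u} B) (n : ℕ) (a : A) (e : Ext.{u} X Y n) :
    a • e = algebraMap A B a • e := rfl

instance (X Y : ModuleCat.{u} B) (n : ℕ) : IsScalarTower A B (Ext.{u} X Y n) :=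
  ⟨fun a b e => by
    show (a • b) • e = algebraMap A B a • (b • e)
    rw [Algebra.smul_def, mul_smul]⟩

theorem F_map_smul_id (a : A) (Y : ModuleCat.{u} A) :
    (F A B).map (a • 𝟙 Y) = (algebraMap A B a) • 𝟙 ((F A B).obj Y) := by
  apply ModuleCat.ExtendScalars.hom_ext
  intro m
  change (1 : B) ⊗ₜ[A, algebraMap A B] (a • m) =
    (algebraMap A B a * 1) ⊗ₜ[A, algebraMap A B] m
  let _ : Module A B := Module.compHom _ (algebraMap A B)
  exact (TensorProduct.smul_tmul (R := A) (R' := A) (M := B) (N := Y) a (1 : B) m).symm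

variable [Module.Flat A B]

instance : Limits.PreservesFiniteLimits (F A B) :=
  ModuleCat.preservesFiniteLimits_extendScalars_of_flat
    (RingHom.flat_algebraMap_iff.mpr inferInstance)

example : Limits.PreservesFiniteColimits (F A B) := inferInstance

/-- The base change map on `Ext`, as an `A`-linear map. -/
noncomputable def mapExtLin (X Y : ModuleCat.{u} A) (n : ℕ) :
    Ext.{u} X Y n →ₗ[A] Ext.{u} ((F A B).obj X) ((F A B).obj Y) n where
  toFun e := e.mapExactFunctor (F A B)
  map_add' := by simp
  map_smul' a e := by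
    rw [RingHom.id_apply, Ext.smul_eq_comp_mk₀, Ext.mapExactFunctor_comp,
      Ext.mapExactFunctor_mk₀, F_map_smul_id, smul_ext_def, Ext.smul_eq_comp_mk₀]


theorem mapExtLin_apply (X Y : ModuleCat.{u} A) (n : ℕ) (e : Ext.{u} X Y n) :
    mapExtLin (B := B) X Y n e = e.mapExactFunctor (F A B) := rfl

theorem exists_toAlgebra (A B : Type u) [CommRing A] [CommRing B] (inst : Algebra A B) :
    ∃ f : A →+* B, inst = f.toAlgebra :=
  ⟨algebraMap A B, Algebra.algebra_ext _ _ (fun _ => rfl)⟩

end Groth.Agent.Lib.Helper89.ExtBaseChange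

namespace Groth.Agent.Lib.Helper89.ExtBaseChange

/-- Base case. -/
theorem isBaseChange_mapExtLin_zero {A B : Type u} [CommRing A] [CommRing B] [inst : Algebra A B]
    [hflat : Module.Flat A B]
    (X Y : ModuleCat.{u} A) [Module.FinitePresentation A X] :
    IsBaseChange B (mapExtLin (B := B) X Y 0) := by
  obtain ⟨f, rfl⟩ := exists_toAlgebra A B inst
  letI : Algebra A B := f.toAlgebra
  let eM : Ext.{u} X Y 0 ≃ₗ[A] (X →ₗ[A] Y) :=
    (Ext.linearEquiv₀ (R := A)).trans ModuleCat.homLinearEquiv
  let eN : Ext.{u} ((F A B).obj X) ((F A B).obj Y) 0 ≃ₗ[B] (B ⊗[A] X →ₗ[B] B ⊗[A] Y) :=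
    (Ext.linearEquiv₀ (R := B)).trans ModuleCat.homLinearEquiv
  refine (IsBaseChange.iff_of_equiv_comm (S := B) (f := mapExtLin (B := B) X Y 0)
    (f' := LinearMap.baseChangeHom A B X Y) eM eN ?_).mpr
    (Module.FinitePresentation.isBaseChange_map A X Y B)
  refine LinearMap.ext fun e => ?_
  obtain ⟨φ, rfl⟩ := (Ext.mk₀_bijective X Y).2 e
  have h1 : eM (Ext.mk₀ φ) = φ.hom := by
    have : Ext.linearEquiv₀ (R := A) (Ext.mk₀ φ) = φ := by
      rw [← Ext.linearEquiv₀_symm_apply (R := A), LinearEquiv.apply_symm_apply]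
    simp [eM, this]
  have h2 : eN ((Ext.mk₀ φ).mapExactFunctor (F A B)) = ((F A B).map φ).hom := by
    rw [Ext.mapExactFunctor_mk₀]
    have : Ext.linearEquiv₀ (R := B) (Ext.mk₀ ((F A B).map φ)) = (F A B).map φ := by
      rw [← Ext.linearEquiv₀_symm_apply (R := B), LinearEquiv.apply_symm_apply]
    change ModuleCat.homLinearEquiv (S := B)
      (Ext.linearEquiv₀ (R := B) (Ext.mk₀ ((F A B).map φ))) = _
    rw [this]
    rfl
  rw [LinearMap.comp_apply, LinearMap.comp_apply, LinearEquiv.coe_coe, h1, mapExtLin_apply]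
  erw [h2]
  rfl


attribute [local instance] Ext.subsingleton_of_projective in
/-- Inductive step. -/
theorem isBaseChange_mapExtLin_succ {A B : Type u} [CommRing A] [CommRing B] [Algebra A B]
    [Module.Flat A B] [IsNoetherianRing A] (Y : ModuleCat.{u} A) (n : ℕ)
    (ih : ∀ (X : ModuleCat.{u} A) [Module.Finite A X], IsBaseChange B (mapExtLin (B := B) X Y n))
    (X : ModuleCat.{u} A) [Module.Finite A X] :
    IsBaseChange B (mapExtLin (B := B) X Y (n + 1)) := by
  obtain ⟨m, π, hπ⟩ := Module.Finite.exists_fin' A X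
  let p : ModuleCat.of A (Fin m → A) ⟶ X := ModuleCat.ofHom π
  haveI : Epi p := (ModuleCat.epi_iff_surjective p).mpr hπ
  let S : ShortComplex (ModuleCat.{u} A) :=
    ShortComplex.mk (Limits.kernel.ι p) p (Limits.kernel.condition p)
  have hS : S.ShortExact := { exact := ShortComplex.exact_kernel p }
  haveI : Module.Finite A S.X₂ := inferInstanceAs (Module.Finite A (Fin m → A))
  haveI : Module.Finite A S.X₁ :=
    Module.Finite.of_injective (Limits.kernel.ι p).hom
      ((ModuleCat.mono_iff_injective (Limits.kernel.ι p)).mp inferInstance)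
  haveI : Projective S.X₂ :=
    (IsProjective.iff_projective (R := A) (Fin m → A)).mp inferInstance
  haveI : Projective (S.map (F A B)).X₂ := inferInstanceAs (Projective ((F A B).obj S.X₂))
  have hS' : (S.map (F A B)).ShortExact := hS.map_of_exact (F A B)
  refine IsBaseChange.of_right_exact B
    (mapExtLin (B := B) S.X₂ Y n) (mapExtLin (B := B) S.X₁ Y n) (mapExtLin (B := B) S.X₃ Y (n + 1))
    (f := Ext.precompOfLinear (Ext.mk₀ S.f) A Y (zero_add n))
    (g := Ext.precompOfLinear hS.extClass A Y (add_comm 1 n))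
    (f' := Ext.precompOfLinear (Ext.mk₀ ((F A B).map S.f)) B ((F A B).obj Y) (zero_add n))
    (g' := Ext.precompOfLinear hS'.extClass B ((F A B).obj Y) (add_comm 1 n))
    ?_ ?_ (ih S.X₂) (ih S.X₁) ?_ ?_ ?_ ?_
  · refine LinearMap.ext fun e => ?_
    change ((Ext.mk₀ S.f).comp e (zero_add n)).mapExactFunctor (F A B) =
      (Ext.mk₀ ((F A B).map S.f)).comp (e.mapExactFunctor (F A B)) (zero_add n)
    rw [Ext.mapExactFunctor_comp, Ext.mapExactFunctor_mk₀]
  · refine LinearMap.ext fun e => ?_
    change (hS.extClass.comp e (add_comm 1 n)).mapExactFunctor (F A B) =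
      hS'.extClass.comp (e.mapExactFunctor (F A B)) (add_comm 1 n)
    rw [Ext.mapExactFunctor_comp, Ext.mapExactFunctor_extClass]
    rfl
  · exact (ShortComplex.ab_exact_iff_function_exact _).1
      (Ext.contravariant_sequence_exact₁' hS Y n (n + 1) (add_comm 1 n))
  · intro x₃
    exact Ext.contravariant_sequence_exact₃ hS _ x₃ (by subsingleton) (add_comm 1 n)
  · exact (ShortComplex.ab_exact_iff_function_exact _).1
      (Ext.contravariant_sequence_exact₁' hS' ((F A B).obj Y) n (n + 1) (add_comm 1 n))
  · intro y₃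
    exact Ext.contravariant_sequence_exact₃ hS' _ y₃ (by subsingleton) (add_comm 1 n)


/-- The base change map on `Ext` is a base change for finite modules over a Noetherian ring and
flat `B`. -/
theorem isBaseChange_mapExtLin {A B : Type u} [CommRing A] [CommRing B] [Algebra A B]
    [Module.Flat A B] [IsNoetherianRing A] (Y : ModuleCat.{u} A) (n : ℕ) :
    ∀ (X : ModuleCat.{u} A) [Module.Finite A X], IsBaseChange B (mapExtLin (B := B) X Y n) := by
  induction n with
  | zero =>
    intro X _
    haveI : Module.FinitePresentation A X := Module.finitePresentation_of_finite A X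
    exact isBaseChange_mapExtLin_zero X Y
  | succ n ih =>
    intro X _
    exact isBaseChange_mapExtLin_succ Y n ih X

/-- Flat base change for `Ext` of a finite module over a Noetherian ring. -/
theorem main (A B : Type u) [CommRing A] [CommRing B] [inst : Algebra A B]
    [hflat : Module.Flat A B] [IsNoetherianRing A] (M N : Type u) [AddCommGroup M] [Module A M]
    [Module.Finite A M] [AddCommGroup N] [Module A N] (r : ℕ) :
    Nonempty ((B ⊗[A] Ext.{u} (ModuleCat.of A M) (ModuleCat.of A N) r) ≃ₗ[B]
      Ext.{u} (ModuleCat.of B (B ⊗[A] M)) (ModuleCat.of B (B ⊗[A] N)) r) := by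
  obtain ⟨f, rfl⟩ := exists_toAlgebra A B inst
  letI : Algebra A B := f.toAlgebra
  haveI : Module.Finite A (ModuleCat.of A M) := inferInstanceAs (Module.Finite A M)
  exact ⟨(isBaseChange_mapExtLin (B := B) (ModuleCat.of A N) r (ModuleCat.of A M)).equiv⟩

end Groth.Agent.Lib.Helper89.ExtBaseChange
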