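import Mathlib.RingTheory.Flat.Equalizer
import Mathlib.Tactic

/-!
# Flatness helpers: product of flats, kernel of a surjection of flats (helper89)
-/

set_option autoImplicit false
universe u
open TensorProduct

namespace Groth.Agent.Lib.Helper89

theorem flat_prod (R : Type u) [CommRing R] (M N : Type u)
    [AddCommGroup M] [Module R M] [AddCommGroup N] [Module R N]
    [Module.Flat R M] [Module.Flat R N] : Module.Flat R (M × N) := by
  rw [Module.Flat.iff_lTensor_preserves_injective_linearMap]
  intro X Y _ _ _ _ f hf
  rw [injective_iff_map_eq_zero]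
  intro t ht
  have hM : Function.Injective (f.lTensor M) := Module.Flat.lTensor_preserves_injective_linearMap f hf
  have hN : Function.Injective (f.lTensor N) := Module.Flat.lTensor_preserves_injective_linearMap f hf
  have h1 : (LinearMap.fst R M N).rTensor X t = 0 := by
    apply hM
    rw [map_zero]
    have : (f.lTensor M) ((LinearMap.fst R M N).rTensor X t) =
        (LinearMap.fst R M N).rTensor Y (f.lTensor (M × N) t) := by
      rw [← LinearMap.comp_apply, ← LinearMap.comp_apply, LinearMap.lTensor_comp_rTensor,
        LinearMap.rTensor_comp_lTensor]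
    rw [this, ht, map_zero]
  have h2 : (LinearMap.snd R M N).rTensor X t = 0 := by
    apply hN
    rw [map_zero]
    have : (f.lTensor N) ((LinearMap.snd R M N).rTensor X t) =
        (LinearMap.snd R M N).rTensor Y (f.lTensor (M × N) t) := by
      rw [← LinearMap.comp_apply, ← LinearMap.comp_apply, LinearMap.lTensor_comp_rTensor,
        LinearMap.rTensor_comp_lTensor]
    rw [this, ht, map_zero]
  have h3 : t = (LinearMap.inl R M N).rTensor X ((LinearMap.fst R M N).rTensor X t) +
      (LinearMap.inr R M N).rTensor X ((LinearMap.snd R M N).rTensor X t) := by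
    rw [← LinearMap.comp_apply, ← LinearMap.comp_apply, ← LinearMap.rTensor_comp,
      ← LinearMap.rTensor_comp, ← LinearMap.add_apply, ← LinearMap.rTensor_add]
    have : LinearMap.inl R M N ∘ₗ LinearMap.fst R M N + LinearMap.inr R M N ∘ₗ LinearMap.snd R M N =
        LinearMap.id := by
      ext x <;> simp
    rw [this, LinearMap.rTensor_id, LinearMap.id_apply]
  rw [h3, h1, h2, map_zero, map_zero, add_zero]

/-- In a short exact sequence `0 → K → F → P → 0` with `P` flat, `K ⊗ X → F ⊗ X` is injective. -/
theorem rTensor_injective_of_exact_of_flat (R : Type u) [CommRing R] (K F P : Type u)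
    [AddCommGroup K] [Module R K] [AddCommGroup F] [Module R F] [AddCommGroup P] [Module R P]
    [Module.Flat R P]
    (i : K →ₗ[R] F) (p : F →ₗ[R] P) (hi : Function.Injective i) (hp : Function.Surjective p)
    (hex : Function.Exact i p) (X : Type u) [AddCommGroup X] [Module R X] :
    Function.Injective (i.rTensor X) := by
  have := LinearMap.lTensor_injective_of_exact_of_flat p hp i hi hex X
  have e : i.rTensor X = (TensorProduct.comm R X F).toLinearMap ∘ₗ (i.lTensor X) ∘ₗ
      (TensorProduct.comm R K X).toLinearMap := by
    ext k x
    simp
  rw [e]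
  exact (TensorProduct.comm R X F).injective.comp (this.comp (TensorProduct.comm R K X).injective)

/-- Kernel of a surjection `F → P` of flat modules is flat (stated for an injective map `K → F`
whose range is the kernel). -/
theorem flat_of_exact_of_flat (R : Type u) [CommRing R] (K F P : Type u)
    [AddCommGroup K] [Module R K] [AddCommGroup F] [Module R F] [AddCommGroup P] [Module R P]
    [Module.Flat R F] [Module.Flat R P]
    (i : K →ₗ[R] F) (p : F →ₗ[R] P) (hi : Function.Injective i) (hp : Function.Surjective p)
    (hex : Function.Exact i p) : Module.Flat R K := by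
  rw [Module.Flat.iff_lTensor_preserves_injective_linearMap]
  intro X Y _ _ _ _ f hf
  have h1 : Function.Injective (i.rTensor X) :=
    rTensor_injective_of_exact_of_flat R K F P i p hi hp hex X
  have h2 : Function.Injective (f.lTensor F) :=
    Module.Flat.lTensor_preserves_injective_linearMap f hf
  have h3 : (i.rTensor Y) ∘ₗ (f.lTensor K) = (f.lTensor F) ∘ₗ (i.rTensor X) := by
    ext k x
    simp
  have h4 : Function.Injective ((i.rTensor Y) ∘ₗ (f.lTensor K)) := by
    rw [h3]
    exact h2.comp h1
  exact Function.Injective.of_comp h4

end Groth.Agent.Lib.Helper89
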