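import Mathlib.RingTheory.Flat.Tensor
import Mathlib.RingTheory.Filtration
import Mathlib.RingTheory.TensorProduct.Finite
import Mathlib.LinearAlgebra.TensorProduct.RightExactness
import Mathlib.LinearAlgebra.TensorProduct.Tower
import Groth.Agent.Lib.Helper89.FlatKer

/-!
# Flatness of a module from flatness of its associated graded (helper89)
-/

set_option autoImplicit false
universe u
open TensorProduct

namespace Groth.Agent.Lib.Helper89

/-- Extension of flat modules is flat. -/
theorem flat_of_exact_of_flat_flat (R : Type u) [CommRing R] (K F P : Type u)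
    [AddCommGroup K] [Module R K] [AddCommGroup F] [Module R F] [AddCommGroup P] [Module R P]
    [Module.Flat R K] [Module.Flat R P]
    (i : K →ₗ[R] F) (p : F →ₗ[R] P) (hi : Function.Injective i) (hp : Function.Surjective p)
    (hex : Function.Exact i p) : Module.Flat R F := by
  rw [Module.Flat.iff_lTensor_preserves_injective_linearMap]
  intro X Y _ _ _ _ f hf
  rw [injective_iff_map_eq_zero]
  intro t ht
  have hKX : Function.Injective (i.rTensor X) :=
    rTensor_injective_of_exact_of_flat R K F P i p hi hp hex X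
  have hKY : Function.Injective (i.rTensor Y) :=
    rTensor_injective_of_exact_of_flat R K F P i p hi hp hex Y
  have hPf : Function.Injective (f.lTensor P) :=
    Module.Flat.lTensor_preserves_injective_linearMap f hf
  have hKf : Function.Injective (f.lTensor K) :=
    Module.Flat.lTensor_preserves_injective_linearMap f hf
  have hexX : Function.Exact (i.rTensor X) (p.rTensor X) := rTensor_exact X hex hp
  -- image of t in P ⊗ X is zero
  have h1 : p.rTensor X t = 0 := by
    apply hPf
    rw [map_zero]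
    have : (f.lTensor P) (p.rTensor X t) = p.rTensor Y (f.lTensor F t) := by
      rw [← LinearMap.comp_apply, ← LinearMap.comp_apply, LinearMap.lTensor_comp_rTensor,
        LinearMap.rTensor_comp_lTensor]
    rw [this, ht, map_zero]
  obtain ⟨s, rfl⟩ := (hexX t).mp h1
  have h2 : f.lTensor K s = 0 := by
    apply hKY
    rw [map_zero]
    have : (i.rTensor Y) (f.lTensor K s) = f.lTensor F (i.rTensor X s) := by
      rw [← LinearMap.comp_apply, ← LinearMap.comp_apply, LinearMap.lTensor_comp_rTensor,
        LinearMap.rTensor_comp_lTensor]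
    rw [this, ht]
  have h3 : s = 0 := hKf (by rw [h2, map_zero])
  rw [h3, map_zero]

section GrFlat

variable (A : Type u) [CommRing A] (B : Type u) [CommRing B] [Algebra A B]
    (N : Type u) [AddCommGroup N] [Module B N] [Module A N] [IsScalarTower A B N]
    (I : Ideal B)

/-- The quotients `N / I^n N` are flat over `A` when the graded pieces are. -/
theorem flat_quotient_pow_of_gr_flat
    (hgr : ∀ n : ℕ, Module.Flat A
      (↥(I ^ n • (⊤ : Submodule B N)) ⧸ (I • (⊤ : Submodule B ↥(I ^ n • (⊤ : Submodule B N))))))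
    (n : ℕ) : Module.Flat A (N ⧸ (I ^ n • (⊤ : Submodule B N))) := by
  induction n with
  | zero =>
    have : Subsingleton (N ⧸ (I ^ 0 • (⊤ : Submodule B N))) := by
      rw [pow_zero, Ideal.one_eq_top, Submodule.top_smul]
      exact Submodule.Quotient.subsingleton_iff.mpr rfl
    infer_instance
  | succ n ih =>
    have hle : (I ^ (n + 1) • (⊤ : Submodule B N)) ≤ (I ^ n • (⊤ : Submodule B N)) :=
      Submodule.smul_mono_left (Ideal.pow_le_pow_right (Nat.le_succ n))
    have hmap : Submodule.map (I ^ n • (⊤ : Submodule B N)).subtype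
        (I • (⊤ : Submodule B ↥(I ^ n • (⊤ : Submodule B N)))) = I ^ (n + 1) • (⊤ : Submodule B N) := by
      rw [Submodule.map_smul'', Submodule.map_subtype_top, ← Submodule.mul_smul, ← pow_succ']
    -- the maps
    let iB : (↥(I ^ n • (⊤ : Submodule B N)) ⧸ (I • (⊤ : Submodule B ↥(I ^ n • (⊤ : Submodule B N)))))
        →ₗ[B] (N ⧸ (I ^ (n + 1) • (⊤ : Submodule B N))) :=
      Submodule.liftQ _ ((I ^ (n + 1) • (⊤ : Submodule B N)).mkQ ∘ₗ
        (I ^ n • (⊤ : Submodule B N)).subtype) (by
          intro z hz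
          rw [LinearMap.mem_ker, LinearMap.comp_apply, Submodule.mkQ_apply,
            Submodule.Quotient.mk_eq_zero, ← hmap]
          exact Submodule.mem_map_of_mem hz)
    let pB : (N ⧸ (I ^ (n + 1) • (⊤ : Submodule B N))) →ₗ[B] (N ⧸ (I ^ n • (⊤ : Submodule B N))) :=
      Submodule.mapQ _ _ LinearMap.id (by simpa using hle)
    have hiB : ∀ (y : N) (hy : y ∈ I ^ n • (⊤ : Submodule B N)),
        iB (Submodule.Quotient.mk ⟨y, hy⟩) = Submodule.Quotient.mk y := fun y hy => rfl
    have hpB : ∀ y : N, pB (Submodule.Quotient.mk y) = Submodule.Quotient.mk y := fun y => rfl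
    have hinj : Function.Injective iB := by
      rw [injective_iff_map_eq_zero]
      intro g hg
      obtain ⟨⟨y, hy⟩, rfl⟩ := Submodule.Quotient.mk_surjective _ g
      rw [hiB, Submodule.Quotient.mk_eq_zero, ← hmap] at hg
      obtain ⟨z, hz, hzy⟩ := hg
      rw [Submodule.Quotient.mk_eq_zero]
      have : z = ⟨y, hy⟩ := Subtype.ext hzy
      rwa [← this]
    have hsurj : Function.Surjective pB := by
      intro q
      obtain ⟨y, rfl⟩ := Submodule.Quotient.mk_surjective _ q
      exact ⟨Submodule.Quotient.mk y, rfl⟩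
    have hex : Function.Exact iB pB := by
      intro q
      obtain ⟨x, rfl⟩ := Submodule.Quotient.mk_surjective _ q
      rw [hpB, Submodule.Quotient.mk_eq_zero]
      constructor
      · intro hx
        exact ⟨Submodule.Quotient.mk ⟨x, hx⟩, rfl⟩
      · rintro ⟨g, hg⟩
        obtain ⟨⟨y, hy⟩, rfl⟩ := Submodule.Quotient.mk_surjective _ g
        rw [hiB] at hg
        have h2 : x - y ∈ I ^ (n + 1) • (⊤ : Submodule B N) := by
          rw [← Submodule.Quotient.mk_eq_zero, Submodule.Quotient.mk_sub, hg, sub_self]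
        have : x = (x - y) + y := by abel
        rw [this]
        exact Submodule.add_mem _ (hle h2) hy
    have := hgr n
    have := ih
    exact flat_of_exact_of_flat_flat A _ _ _ (iB.restrictScalars A) (pB.restrictScalars A)
      hinj hsurj hex

end GrFlat

section GrFlatMain

variable (A : Type u) [CommRing A] (B : Type u) [CommRing B] [Algebra A B]
    (N : Type u) [AddCommGroup N] [Module B N] [Module A N] [IsScalarTower A B N]
    (I : Ideal B)

theorem finite_tensor_of_fg [Module.Finite B N] (𝔞 : Ideal A) (h𝔞 : 𝔞.FG) :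
    Module.Finite B (N ⊗[A] 𝔞) := by
  have : Module.Finite A 𝔞 := Module.Finite.iff_fg.mpr h𝔞
  exact Module.Finite.equiv
    (TensorProduct.AlgebraTensorModule.cancelBaseChange A B B N 𝔞)

/-- the range of `I^n N ⊗ 𝔞 → N ⊗ 𝔞` is contained in `I^n (N ⊗ 𝔞)`. -/
theorem range_rTensor_le_pow_smul (𝔞 : Ideal A) (n : ℕ) (x : ↥(I ^ n • (⊤ : Submodule B N)) ⊗[A] 𝔞) :
    (((I ^ n • (⊤ : Submodule B N)).subtype.restrictScalars A).rTensor 𝔞 x) ∈
      (I ^ n • (⊤ : Submodule B (N ⊗[A] 𝔞))) := by
  induction x with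
  | zero => rw [map_zero]; exact Submodule.zero_mem _
  | add x y hx hy => rw [map_add]; exact Submodule.add_mem _ hx hy
  | tmul y a =>
    obtain ⟨y, hy⟩ := y
    rw [LinearMap.rTensor_tmul]
    change y ⊗ₜ[A] a ∈ _
    refine Submodule.smul_induction_on hy ?_ ?_
    · intro r hr m _
      have : (r • m) ⊗ₜ[A] a = r • (m ⊗ₜ[A] a) := rfl
      rw [this]
      exact Submodule.smul_mem_smul hr Submodule.mem_top
    · intro x y hx hy
      rw [TensorProduct.add_tmul]
      exact Submodule.add_mem _ hx hy

theorem mem_range_rTensor_of_flat_quotient (P : Submodule B N) [Module.Flat A (N ⧸ P)]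
    (𝔞 : Ideal A) (x : N ⊗[A] 𝔞) (hx : 𝔞.subtype.lTensor N x = 0) :
    ∃ s : ↥P ⊗[A] 𝔞, ((P.subtype.restrictScalars A).rTensor 𝔞) s = x := by
  have hπ : Function.Surjective (P.mkQ.restrictScalars A) := fun q => Submodule.mkQ_surjective P q
  have hex : Function.Exact (P.subtype.restrictScalars A) (P.mkQ.restrictScalars A) := by
    intro y
    constructor
    · intro hy
      have : y ∈ P := (Submodule.Quotient.mk_eq_zero P).mp hy
      exact ⟨⟨y, this⟩, rfl⟩
    · rintro ⟨z, rfl⟩
      exact (Submodule.Quotient.mk_eq_zero P).mpr z.2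
  have hex2 : Function.Exact ((P.subtype.restrictScalars A).rTensor 𝔞)
      ((P.mkQ.restrictScalars A).rTensor 𝔞) := rTensor_exact 𝔞 hex hπ
  have hinj : Function.Injective (𝔞.subtype.lTensor (N ⧸ P)) :=
    Module.Flat.lTensor_preserves_injective_linearMap _ Subtype.val_injective
  have h0 : (P.mkQ.restrictScalars A).rTensor 𝔞 x = 0 := by
    apply hinj
    rw [map_zero]
    have : (𝔞.subtype.lTensor (N ⧸ P)) ((P.mkQ.restrictScalars A).rTensor 𝔞 x) =
        (P.mkQ.restrictScalars A).rTensor A (𝔞.subtype.lTensor N x) := by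
      rw [← LinearMap.comp_apply, ← LinearMap.comp_apply, LinearMap.lTensor_comp_rTensor,
        LinearMap.rTensor_comp_lTensor]
    rw [this, hx, map_zero]
  exact (hex2 x).mp h0

theorem flat_of_gr_flat [IsNoetherianRing B] [Module.Finite B N] (hI : I ≤ Ideal.jacobson ⊥)
    (hgr : ∀ n : ℕ, Module.Flat A
      (↥(I ^ n • (⊤ : Submodule B N)) ⧸ (I • (⊤ : Submodule B ↥(I ^ n • (⊤ : Submodule B N)))))) :
    Module.Flat A N := by
  rw [Module.Flat.iff_lTensor_injective]
  intro 𝔞 h𝔞
  have : Module.Finite B (N ⊗[A] 𝔞) := finite_tensor_of_fg A B N 𝔞 h𝔞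
  have hkrull : (⨅ i : ℕ, I ^ i • ⊤ : Submodule B (N ⊗[A] 𝔞)) = ⊥ :=
    Ideal.iInf_pow_smul_eq_bot_of_le_jacobson I hI
  rw [injective_iff_map_eq_zero]
  intro x hx
  have hmem : x ∈ (⨅ i : ℕ, I ^ i • ⊤ : Submodule B (N ⊗[A] 𝔞)) := by
    rw [Submodule.mem_iInf]
    intro n
    have hflat : Module.Flat A (N ⧸ (I ^ n • (⊤ : Submodule B N))) :=
      flat_quotient_pow_of_gr_flat A B N I hgr n
    obtain ⟨s, rfl⟩ := mem_range_rTensor_of_flat_quotient A B N
      (I ^ n • (⊤ : Submodule B N)) 𝔞 x hx
    exact range_rTensor_le_pow_smul A B N I 𝔞 n s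
  rw [hkrull] at hmem
  exact (Submodule.mem_bot _).mp hmem

end GrFlatMain

end Groth.Agent.Lib.Helper89
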