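import Mathlib

/-!
# Module-level Jacobian criterion tools (helper89)

* `exists_det_ne_zero`: selecting a nonzero minor from a separating family of functionals.
-/

set_option autoImplicit false

universe u

namespace Groth.Agent.Lib.Helper89

namespace JacCrit

open TensorProduct

section Minor

variable {K : Type*} [Field K] {V : Type*} [AddCommGroup V] [Module K V]

/-- Given linearly independent `y₁, …, yₙ` and a separating set `Λ` of functionals, some `n`
functionals in `Λ` give a nonzero determinant `det (φ_l (y_i))`. -/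
theorem exists_det_ne_zero {n : ℕ} (y : Fin n → V) (hy : LinearIndependent K y)
    (Λ : Set (V →ₗ[K] K)) (hΛ : ∀ v, (∀ φ ∈ Λ, φ v = 0) → v = 0) :
    ∃ φ : Fin n → V →ₗ[K] K, (∀ l, φ l ∈ Λ) ∧ (Matrix.of fun l i => φ l (y i)).det ≠ 0 := by
  classical
  -- the rows
  let r : (V →ₗ[K] K) → (Fin n → K) := fun φ i => φ (y i)
  have hspan : Submodule.span K (r '' Λ) = ⊤ := by
    by_contra hne
    obtain ⟨f, hf0, hf⟩ := Submodule.exists_le_ker_of_lt_top _ (lt_top_iff_ne_top.mpr hne)
    apply hf0
    -- f is given by coefficients c i = f (Pi.single i 1)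
    have hc : ∑ i, f (Pi.single i 1) • y i = 0 := by
      apply hΛ
      intro φ hφ
      have h1 : r φ ∈ LinearMap.ker f := hf (Submodule.subset_span ⟨φ, hφ, rfl⟩)
      rw [LinearMap.mem_ker] at h1
      have h2 : r φ = ∑ i, (φ (y i)) • (Pi.single i (1 : K) : Fin n → K) := by
        ext j
        simp [r, Finset.sum_apply, Pi.single_apply]
      rw [h2, map_sum] at h1
      simp only [map_smul, smul_eq_mul] at h1
      rw [map_sum]
      simp only [map_smul, smul_eq_mul]
      rw [← h1]
      exact Finset.sum_congr rfl fun i _ => mul_comm _ _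
    have hc0 := (Fintype.linearIndependent_iff.mp hy) _ hc
    apply LinearMap.ext
    intro v
    have hv : v = ∑ i, v i • (Pi.single i (1 : K) : Fin n → K) := by
      ext j
      simp [Finset.sum_apply, Pi.single_apply]
    rw [hv, map_sum]
    simp only [map_smul, hc0, smul_zero, Finset.sum_const_zero, LinearMap.zero_apply]
  obtain ⟨b, hb_sub, hb_span, hb_li⟩ := exists_linearIndependent K (r '' Λ)
  rw [hspan] at hb_span
  have hspan' : Submodule.span K (Set.range (Subtype.val : b → (Fin n → K))) = ⊤ := by
    rw [Subtype.range_coe, hb_span]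
  let bas : Module.Basis b K (Fin n → K) := Module.Basis.mk hb_li hspan'.ge
  have hfin : Finite b := Module.Finite.finite_basis bas
  have : Fintype b := Fintype.ofFinite b
  have hcard : Fintype.card b = n := by
    have h1 := Module.finrank_eq_card_basis bas
    rw [Module.finrank_fin_fun] at h1
    exact h1.symm
  let e : Fin n ≃ b := (Fintype.equivFinOfCardEq hcard).symm
  choose ψ hψΛ hψ using fun l : Fin n => hb_sub (e l).2
  refine ⟨ψ, hψΛ, ?_⟩
  have hrows : LinearIndependent K (Matrix.of fun l i => ψ l (y i) : Matrix (Fin n) (Fin n) K).row := by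
    have h3 : (Matrix.of fun l i => ψ l (y i) : Matrix (Fin n) (Fin n) K).row =
        (Subtype.val : b → (Fin n → K)) ∘ e := by
      funext l
      exact hψ l
    rw [h3]
    exact hb_li.comp e e.injective
  have hunit := Matrix.linearIndependent_rows_iff_isUnit.mp hrows
  exact ((Matrix.isUnit_iff_isUnit_det _).mp hunit).ne_zero

end Minor

section ModuleLevel

variable {C : Type*} [CommRing C] (p : Ideal C) [p.IsPrime]
  {M N : Type*} [AddCommGroup M] [Module C M] [AddCommGroup N] [Module C N]

/-- The functional on `κ(p) ⊗ N` induced by a functional on `N`. -/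
noncomputable def resFunctional (φ : N →ₗ[C] C) :
    p.ResidueField ⊗[C] N →ₗ[p.ResidueField] p.ResidueField :=
  (TensorProduct.AlgebraTensorModule.rid C p.ResidueField p.ResidueField).toLinearMap ∘ₗ
    φ.baseChange p.ResidueField

theorem resFunctional_tmul (φ : N →ₗ[C] C) (t : p.ResidueField) (z : N) :
    resFunctional p φ (t ⊗ₜ[C] z) = algebraMap C p.ResidueField (φ z) * t := by
  rw [resFunctional, LinearMap.comp_apply, LinearMap.baseChange_tmul, LinearEquiv.coe_coe,
    TensorProduct.AlgebraTensorModule.rid_tmul, Algebra.smul_def]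

/-- For projective `N`, the induced functionals separate the points of `κ(p) ⊗ N`. -/
theorem resFunctional_separating [Module.Projective C N] (z : p.ResidueField ⊗[C] N)
    (hz : ∀ φ : N →ₗ[C] C, resFunctional p φ z = 0) : z = 0 := by
  classical
  obtain ⟨s, hs⟩ := Module.projective_def'.mp (inferInstance : Module.Projective C N)
  have hinj : Function.Injective (s.baseChange p.ResidueField) := by
    have h1 : (Finsupp.linearCombination C id).baseChange p.ResidueField ∘ₗ
        s.baseChange p.ResidueField = LinearMap.id := by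
      rw [← LinearMap.baseChange_comp, hs, LinearMap.baseChange_id]
    exact Function.LeftInverse.injective (g := (Finsupp.linearCombination C id).baseChange
      p.ResidueField) (fun x => LinearMap.congr_fun h1 x)
  apply hinj
  rw [map_zero]
  apply (TensorProduct.finsuppScalarRight C p.ResidueField p.ResidueField N).injective
  rw [map_zero]
  ext j
  rw [TensorProduct.finsuppScalarRight_apply, Finsupp.zero_apply]
  have h2 := hz (Finsupp.lapply j ∘ₗ s)
  rw [resFunctional, LinearMap.comp_apply, LinearMap.baseChange_comp, LinearMap.comp_apply] at h2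
  exact h2

/-- **Minor selection.** If `κ(p) ⊗ u` is injective for `u : M → N`, `M` finite and `N`
projective, there are `m₁, …, mₙ ∈ M` spanning `κ(p) ⊗ M` and functionals `w₁, …, wₙ` on `N`
with `det (w_l (u m_i)) ∉ p`. -/
theorem exists_minor [Module.Finite C M] [Module.Projective C N] (u : M →ₗ[C] N)
    (hu : Function.Injective (u.baseChange p.ResidueField)) :
    ∃ (n : ℕ) (m : Fin n → M) (w : Fin n → (N →ₗ[C] C)),
      (Matrix.of fun l i => w l (u (m i))).det ∉ p ∧
      Submodule.span p.ResidueField
        (Set.range fun i => (1 : p.ResidueField) ⊗ₜ[C] m i) = ⊤ := by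
  classical
  have htop : Submodule.span p.ResidueField
      (Set.range (TensorProduct.mk C p.ResidueField M 1)) = ⊤ := by
    have h1 := Submodule.baseChange_span (R := C) (A := p.ResidueField) (Set.univ : Set M)
    rw [Submodule.span_univ, Submodule.baseChange_top, Set.image_univ] at h1
    exact h1.symm
  obtain ⟨b, hb_sub, hb_span, hb_li⟩ := exists_linearIndependent p.ResidueField
    (Set.range (TensorProduct.mk C p.ResidueField M 1))
  rw [htop] at hb_span
  have hfin : Finite b := hb_li.finite
  let e : b ≃ Fin (Nat.card b) := Finite.equivFin b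
  choose x hx using fun i : b => hb_sub i.2
  let m : Fin (Nat.card b) → M := fun i => x (e.symm i)
  have hm : (fun i => (1 : p.ResidueField) ⊗ₜ[C] m i) =
      (Subtype.val : b → p.ResidueField ⊗[C] M) ∘ e.symm := by
    funext i
    exact hx (e.symm i)
  have hli : LinearIndependent p.ResidueField (fun i => (1 : p.ResidueField) ⊗ₜ[C] m i) := by
    rw [hm]
    exact hb_li.comp _ e.symm.injective
  have hsp : Submodule.span p.ResidueField
      (Set.range fun i => (1 : p.ResidueField) ⊗ₜ[C] m i) = ⊤ := by
    rw [hm, Set.range_comp, Equiv.range_eq_univ, Set.image_univ, Subtype.range_coe, hb_span]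
  have hy : LinearIndependent p.ResidueField
      (fun i => (1 : p.ResidueField) ⊗ₜ[C] u (m i)) := by
    have h2 := hli.map' (u.baseChange p.ResidueField) (LinearMap.ker_eq_bot.mpr hu)
    have h3 : (u.baseChange p.ResidueField) ∘ (fun i => (1 : p.ResidueField) ⊗ₜ[C] m i) =
        fun i => (1 : p.ResidueField) ⊗ₜ[C] u (m i) := by
      funext i
      simp only [Function.comp_apply, LinearMap.baseChange_tmul]
    rw [← h3]
    exact h2
  obtain ⟨φ, hφΛ, hdet⟩ := exists_det_ne_zero _ hy (Set.range (resFunctional p))
    (fun v hv => resFunctional_separating p v (fun ψ => hv _ ⟨ψ, rfl⟩))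
  choose w hw using hφΛ
  refine ⟨_, m, w, ?_, hsp⟩
  intro hmem
  apply hdet
  have h4 : (Matrix.of fun l i => φ l ((1 : p.ResidueField) ⊗ₜ[C] u (m i))) =
      (algebraMap C p.ResidueField).mapMatrix (Matrix.of fun l i => w l (u (m i))) := by
    ext l i
    rw [RingHom.mapMatrix_apply, Matrix.map_apply, Matrix.of_apply, Matrix.of_apply, ← hw l,
      resFunctional_tmul, mul_one]
  rw [h4, ← RingHom.map_det]
  exact Ideal.algebraMap_residueField_eq_zero.mpr hmem

/-- **Nakayama.** If the `1 ⊗ mᵢ` span `κ(p) ⊗ M`, `M` finite, then some `f' ∉ p` multiplies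
`M` into the span of the `mᵢ`. -/
theorem exists_smul_mem_span [Module.Finite C M] {n : ℕ} (m : Fin n → M)
    (hspan : Submodule.span p.ResidueField
      (Set.range fun i => (1 : p.ResidueField) ⊗ₜ[C] m i) = ⊤) :
    ∃ f', f' ∉ p ∧ ∀ x : M, f' • x ∈ Submodule.span C (Set.range m) := by
  set M' : Submodule C M := Submodule.span C (Set.range m) with hM'
  -- κ ⊗ (M / M') = 0
  have hsub : Subsingleton (p.ResidueField ⊗[C] (M ⧸ M')) := by
    have hsurj : Function.Surjective (M'.mkQ.baseChange p.ResidueField) := by
      rw [LinearMap.baseChange_eq_ltensor]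
      exact LinearMap.lTensor_surjective _ (Submodule.mkQ_surjective M')
    have hzero : ∀ z : p.ResidueField ⊗[C] M, M'.mkQ.baseChange p.ResidueField z = 0 := by
      intro z
      have hz : z ∈ Submodule.span p.ResidueField
          (Set.range fun i => (1 : p.ResidueField) ⊗ₜ[C] m i) := by rw [hspan]; trivial
      induction hz using Submodule.span_induction with
      | mem y hy =>
        obtain ⟨i, rfl⟩ := hy
        rw [LinearMap.baseChange_tmul]
        have : M'.mkQ (m i) = 0 := by
          rw [Submodule.mkQ_apply, Submodule.Quotient.mk_eq_zero]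
          exact Submodule.subset_span ⟨i, rfl⟩
        rw [this, TensorProduct.tmul_zero]
      | zero => rw [map_zero]
      | add y z _ _ hy hz => rw [map_add, hy, hz, add_zero]
      | smul a y _ hy => rw [map_smul, hy, smul_zero]
    refine ⟨fun a b => ?_⟩
    obtain ⟨a', rfl⟩ := hsurj a
    obtain ⟨b', rfl⟩ := hsurj b
    rw [hzero a', hzero b']
  have hnot : (⟨p, inferInstance⟩ : PrimeSpectrum C) ∉ Module.support C (M ⧸ M') := by
    rw [Module.mem_support_iff_nontrivial_residueField_tensorProduct]
    exact not_nontrivial_iff_subsingleton.mpr hsub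
  rw [Module.support_eq_zeroLocus, PrimeSpectrum.mem_zeroLocus, Set.not_subset] at hnot
  obtain ⟨f', hf'ann, hf'p⟩ := hnot
  refine ⟨f', hf'p, fun x => ?_⟩
  have h5 : f' • M'.mkQ x = 0 := Module.mem_annihilator.mp hf'ann _
  rw [← map_smul, Submodule.mkQ_apply, Submodule.Quotient.mk_eq_zero] at h5
  exact h5

end ModuleLevel

section Retraction

variable {C : Type*} [CommRing C]
  {M N : Type*} [AddCommGroup M] [Module C M] [AddCommGroup N] [Module C N]

/-- The "retraction up to `f'`" built from a minor. -/
theorem exists_retraction_up_to {n : ℕ} (u : M →ₗ[C] N) (m : Fin n → M)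
    (w : Fin n → (N →ₗ[C] C)) (f' : C)
    (hf' : ∀ x : M, f' • x ∈ Submodule.span C (Set.range m)) :
    ∃ ρ : N →ₗ[C] M, ∀ x : M,
      f' • ρ (u x) = ((Matrix.of fun l i => w l (u (m i))).det * f') • x := by
  classical
  set Tm : Matrix (Fin n) (Fin n) C := Matrix.of fun l i => w l (u (m i)) with hTm
  let g : (Fin n → C) →ₗ[C] M := Fintype.linearCombination C m
  let W : N →ₗ[C] (Fin n → C) := LinearMap.pi w
  have hWug : ∀ c, W (u (g c)) = Tm.mulVec c := by
    intro c
    ext l
    simp only [W, g, LinearMap.pi_apply, Fintype.linearCombination_apply, map_sum, map_smul,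
      smul_eq_mul, Matrix.mulVec, dotProduct, hTm, Matrix.of_apply]
    exact Finset.sum_congr rfl fun i _ => mul_comm _ _
  let ρ : N →ₗ[C] M := g ∘ₗ (Matrix.mulVecLin Tm.adjugate) ∘ₗ W
  refine ⟨ρ, fun x => ?_⟩
  obtain ⟨c, hc⟩ : ∃ c, g c = f' • x := by
    have h1 := hf' x
    rw [← Fintype.range_linearCombination] at h1
    exact h1
  have h1 : ρ (u (g c)) = Tm.det • g c := by
    simp only [ρ, LinearMap.comp_apply, hWug, Matrix.mulVecLin_apply, Matrix.mulVec_mulVec,
      Matrix.adjugate_mul, Matrix.smul_mulVec, Matrix.one_mulVec, map_smul]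
  rw [← map_smul, ← map_smul, ← hc, h1, hc, smul_smul]

theorem smul_eq_zero_of_map_eq_zero (u : M →ₗ[C] N) (ρ : N →ₗ[C] M) (d f' : C)
    (hρ : ∀ x : M, f' • ρ (u x) = (d * f') • x) (x : M) (hx : u x = 0) : (d * f') • x = 0 := by
  rw [← hρ x, hx, map_zero, smul_zero]

/-- After inverting `d * f'`, a retraction up to `f'` gives an honest retraction. -/
theorem exists_baseChange_retraction (T : Type*) [CommRing T] [Algebra C T] (u : M →ₗ[C] N)
    (ρ : N →ₗ[C] M) (d f' : C) (hρ : ∀ x : M, f' • ρ (u x) = (d * f') • x)
    (hunit : IsUnit (algebraMap C T (d * f'))) :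
    ∃ ρ' : T ⊗[C] N →ₗ[T] T ⊗[C] M, ρ' ∘ₗ u.baseChange T = LinearMap.id := by
  rw [map_mul] at hunit
  have ha : IsUnit (algebraMap C T f') := isUnit_of_mul_isUnit_right hunit
  have hb : IsUnit (algebraMap C T d) := isUnit_of_mul_isUnit_left hunit
  have key : ∀ y : T ⊗[C] M, ρ.baseChange T (u.baseChange T y) = algebraMap C T d • y := by
    intro y
    induction y using TensorProduct.induction_on with
    | zero => simp
    | add y z hy hz => rw [map_add, map_add, hy, hz, smul_add]
    | tmul t x =>
      rw [LinearMap.baseChange_tmul, LinearMap.baseChange_tmul]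
      apply (ha.smul_left_cancel).mp
      rw [TensorProduct.smul_tmul', smul_smul, TensorProduct.smul_tmul', ← map_mul,
        algebraMap_smul, algebraMap_smul, TensorProduct.smul_tmul, TensorProduct.smul_tmul,
        hρ x, mul_comm]
  refine ⟨(↑hb.unit⁻¹ : T) • ρ.baseChange T, ?_⟩
  apply LinearMap.ext
  intro y
  rw [LinearMap.comp_apply, LinearMap.smul_apply, key, smul_smul, LinearMap.id_apply,
    IsUnit.val_inv_mul, one_smul]

end Retraction

end JacCrit

end Groth.Agent.Lib.Helper89
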