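import Mathlib
import Groth.Agent.Lib.Helper89.JacCrit

/-!
# Formal smoothness of localizations of a quotient of a formally smooth algebra (helper89)

`formallySmooth_localization_iff`: for an extension `P` of `C` by a formally smooth `A`-algebra
and a localization `T` of `C`, `T` is formally smooth over `A` iff the base change to `T` of
the cotangent complex `I/I² → C ⊗ Ω[P/A]` has a `T`-linear retraction.
-/

set_option autoImplicit false

universe u

namespace Groth.Agent.Lib.Helper89

namespace JacCrit

open TensorProduct KaehlerDifferential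

section Split

variable {R : Type*} [CommRing R] {M' N' Q' : Type*} [AddCommGroup M'] [Module R M']
  [AddCommGroup N'] [Module R N'] [AddCommGroup Q'] [Module R Q']

theorem projective_of_retraction (u' : M' →ₗ[R] N') (π' : N' →ₗ[R] Q')
    (hex : Function.Exact u' π') (hsurj : Function.Surjective π')
    (ρ' : N' →ₗ[R] M') (hρ : ρ' ∘ₗ u' = LinearMap.id) [Module.Projective R N'] :
    Module.Projective R Q' := by
  have h10 := hex.split_tfae'.out 1 0
  obtain ⟨-, l, hl⟩ := h10.mp ⟨hsurj, ρ', hρ⟩
  exact Module.Projective.of_split l π' hl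

theorem exists_retraction_of_projective (u' : M' →ₗ[R] N') (π' : N' →ₗ[R] Q')
    (hex : Function.Exact u' π') (hsurj : Function.Surjective π')
    (hinj : Function.Injective u') [Module.Projective R Q'] :
    ∃ ρ' : N' →ₗ[R] M', ρ' ∘ₗ u' = LinearMap.id := by
  obtain ⟨l, hl⟩ := Module.projective_lifting_property π' LinearMap.id hsurj
  have h01 := hex.split_tfae'.out 0 1
  exact (h01.mp ⟨hinj, l, hl⟩).2

end Split

section FS

variable {A C : Type u} [CommRing A] [CommRing C] [Algebra A C]
  (P : Algebra.Extension.{u} A C) [Algebra.FormallySmooth A P.Ring]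
  (T : Type u) [CommRing T] [Algebra C T] [Algebra A T] [IsScalarTower A C T]
  (S : Submonoid C) [IsLocalization S T]

include S in
theorem formallySmooth_localization_iff :
    Algebra.FormallySmooth A T ↔
      ∃ ρ' : T ⊗[C] P.CotangentSpace →ₗ[T] T ⊗[C] P.Cotangent,
        ρ' ∘ₗ P.cotangentComplex.baseChange T = LinearMap.id := by
  have hflat : Module.Flat C T := IsLocalization.flat T S
  have hetale : Algebra.FormallyEtale C T := Algebra.FormallyEtale.of_isLocalization (Rₘ := T) S
  -- the base-changed sequence
  have hex : Function.Exact (P.cotangentComplex.baseChange T) (P.toKaehler.baseChange T) := by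
    have := lTensor_exact T P.exact_cotangentComplex_toKaehler P.toKaehler_surjective
    intro x
    rw [LinearMap.baseChange_eq_ltensor, LinearMap.baseChange_eq_ltensor]
    exact this x
  have hsurj : Function.Surjective (P.toKaehler.baseChange T) := by
    rw [LinearMap.baseChange_eq_ltensor]
    exact LinearMap.lTensor_surjective T P.toKaehler_surjective
  -- the kernel
  let ι : P.H1Cotangent →ₗ[C] P.Cotangent := (LinearMap.ker P.cotangentComplex).subtype
  have hexι : Function.Exact ι P.cotangentComplex := LinearMap.exact_subtype_ker_map _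
  have hexιT : Function.Exact (ι.lTensor T) (P.cotangentComplex.lTensor T) :=
    Module.Flat.lTensor_exact T hexι
  have hιTinj : Function.Injective (ι.lTensor T) :=
    Module.Flat.lTensor_preserves_injective_linearMap ι (Submodule.subtype_injective _)
  -- comparison isomorphisms
  let eΩ : T ⊗[C] Ω[C⁄A] ≃ₗ[T] Ω[T⁄A] := KaehlerDifferential.tensorKaehlerEquivOfFormallyEtale A C T
  let eH : T ⊗[C] Algebra.H1Cotangent A C ≃ₗ[T] Algebra.H1Cotangent A T :=
    Algebra.tensorH1CotangentOfIsLocalization A T S
  let eP : P.H1Cotangent ≃ₗ[C] Algebra.H1Cotangent A C := P.equivH1CotangentOfFormallySmooth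
  have hsub_iff : Subsingleton (Algebra.H1Cotangent A T) ↔ Subsingleton (T ⊗[C] P.H1Cotangent) := by
    rw [← eH.toEquiv.subsingleton_congr]
    exact (LinearEquiv.lTensor T eP).toEquiv.subsingleton_congr.symm
  rw [Algebra.formallySmooth_iff]
  constructor
  · rintro ⟨hproj, hsub⟩
    have hsub' : Subsingleton (T ⊗[C] P.H1Cotangent) := hsub_iff.mp hsub
    have hprojT : Module.Projective T (T ⊗[C] Ω[C⁄A]) := Module.Projective.of_equiv eΩ.symm
    have hinj : Function.Injective (P.cotangentComplex.baseChange T) := by
      rw [injective_iff_map_eq_zero]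
      intro x hx
      rw [LinearMap.baseChange_eq_ltensor] at hx
      obtain ⟨y, rfl⟩ := (hexιT x).mp hx
      rw [Subsingleton.elim y 0, map_zero]
    exact exists_retraction_of_projective _ _ hex hsurj hinj
  · rintro ⟨ρ', hρ'⟩
    have hinj : Function.Injective (P.cotangentComplex.baseChange T) :=
      Function.LeftInverse.injective (g := ρ') (fun x => LinearMap.congr_fun hρ' x)
    refine ⟨?_, ?_⟩
    · have hprojT : Module.Projective T (T ⊗[C] Ω[C⁄A]) :=
        projective_of_retraction _ _ hex hsurj ρ' hρ'
      exact Module.Projective.of_equiv eΩ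
    · rw [hsub_iff]
      refine ⟨fun a b => ?_⟩
      apply hιTinj
      apply hinj
      have h0 : ∀ z, P.cotangentComplex.baseChange T (ι.lTensor T z) = 0 := by
        intro z
        rw [LinearMap.baseChange_eq_ltensor]
        exact hexιT.apply_apply_eq_zero z
      rw [h0 a, h0 b]

end FS

section Bridge

/-- A retraction over `T` forces injectivity after base change to any `T`-algebra `κ`. -/
theorem injective_baseChange_of_retraction {C : Type*} [CommRing C]
    {M N : Type*} [AddCommGroup M] [Module C M] [AddCommGroup N] [Module C N]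
    (T κ : Type*) [CommRing T] [Algebra C T] [CommRing κ] [Algebra C κ] [Algebra T κ]
    [IsScalarTower C T κ] (u : M →ₗ[C] N) (ρ' : T ⊗[C] N →ₗ[T] T ⊗[C] M)
    (h : ρ' ∘ₗ u.baseChange T = LinearMap.id) : Function.Injective (u.baseChange κ) := by
  have h1 : ρ'.baseChange κ ∘ₗ (u.baseChange T).baseChange κ = LinearMap.id := by
    rw [← LinearMap.baseChange_comp, h, LinearMap.baseChange_id]
  have h2 : Function.Injective ((u.baseChange T).baseChange κ) :=
    Function.LeftInverse.injective (g := ρ'.baseChange κ) (fun x => LinearMap.congr_fun h1 x)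
  rw [LinearMap.baseChange_baseChange] at h2
  intro a b hab
  have h3 := @h2 ((TensorProduct.AlgebraTensorModule.cancelBaseChange C T κ κ M).symm a)
    ((TensorProduct.AlgebraTensorModule.cancelBaseChange C T κ κ M).symm b) (by
      simp only [LinearMap.comp_apply, LinearEquiv.coe_coe, LinearEquiv.apply_symm_apply, hab])
  exact (TensorProduct.AlgebraTensorModule.cancelBaseChange C T κ κ M).symm.injective h3

/-- Tensoring over `B` or over a quotient `C` of `B` gives the same injectivity condition. -/
theorem injective_baseChange_iff_lTensor {B C : Type*} [CommRing B] [CommRing C] [Algebra B C]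
    (hsurj : Function.Surjective (algebraMap B C))
    (κ : Type*) [CommRing κ] [Algebra C κ] [Module B κ] [IsScalarTower B C κ]
    {X Y : Type*} [AddCommGroup X] [Module C X] [Module B X] [IsScalarTower B C X]
    [AddCommGroup Y] [Module C Y] [Module B Y] [IsScalarTower B C Y] (u : X →ₗ[C] Y) :
    Function.Injective (u.baseChange κ) ↔
      Function.Injective ((u.restrictScalars B).lTensor κ) := by
  have hX : TensorProduct.CompatibleSMul B C κ X :=
    TensorProduct.CompatibleSMul.of_algebraMap_surjective κ X hsurj
  have hY : TensorProduct.CompatibleSMul B C κ Y :=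
    TensorProduct.CompatibleSMul.of_algebraMap_surjective κ Y hsurj
  let eX : κ ⊗[C] X ≃ₗ[C] κ ⊗[B] X := TensorProduct.equivOfCompatibleSMul B C C κ X
  let eY : κ ⊗[C] Y ≃ₗ[C] κ ⊗[B] Y := TensorProduct.equivOfCompatibleSMul B C C κ Y
  have comm : ∀ z, eY (u.baseChange κ z) = (u.restrictScalars B).lTensor κ (eX z) := by
    intro z
    induction z using TensorProduct.induction_on with
    | zero => simp
    | add a b ha hb => rw [map_add, map_add, map_add, map_add, ha, hb]
    | tmul t x => rfl
  constructor
  · intro h a b hab
    obtain ⟨a', rfl⟩ := eX.surjective a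
    obtain ⟨b', rfl⟩ := eX.surjective b
    rw [← comm, ← comm] at hab
    rw [h (eY.injective hab)]
  · intro h a b hab
    apply eX.injective
    apply h
    rw [← comm, ← comm, hab]

end Bridge

end JacCrit

end Groth.Agent.Lib.Helper89
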