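import Mathlib
import Groth.Agent.Lib.Helper89.JacCritSmooth

/-!
# The Jacobian criterion for localizations of `C = B/J`, `B` formally smooth over `A` (helper89)
-/

set_option autoImplicit false

universe u

namespace Groth.Agent.Lib.Helper89

namespace JacCrit

open TensorProduct KaehlerDifferential

section TFAE

variable {A B C : Type u} [CommRing A] [CommRing B] [CommRing C] [Algebra A B] [Algebra B C]
  [Algebra A C] [IsScalarTower A B C]

/-- The extension of `C` given by the surjection `B → C`. -/
noncomputable abbrev ext (hsurj : Function.Surjective (algebraMap B C)) : Algebra.Extension.{u} A C :=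
  ⟨B, _, Function.surjInv_eq hsurj⟩

variable (hsurj : Function.Surjective (algebraMap B C))

theorem finite_cotangent [Module.Finite B (RingHom.ker (algebraMap B C)).Cotangent] :
    Module.Finite C (ext (A := A) hsurj).Cotangent := by
  have : Module.Finite B (ext (A := A) hsurj).Cotangent :=
    Module.Finite.equiv ((ext (A := A) hsurj).cotangentEquivCotangentKer).symm
  exact Module.Finite.of_restrictScalars_finite B C _

/-- The injectivity condition over `B` (as in the statement) and over `C`. -/
theorem injective_lTensor_iff (κ : Type u) [CommRing κ] [Algebra C κ] [Module B κ]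
    [IsScalarTower B C κ] :
    Function.Injective ((kerCotangentToTensor A B C).lTensor κ) ↔
      Function.Injective ((ext (A := A) hsurj).cotangentComplex.baseChange κ) := by
  rw [injective_baseChange_iff_lTensor hsurj κ (ext (A := A) hsurj).cotangentComplex]
  have hcomp : ((ext (A := A) hsurj).cotangentComplex.restrictScalars B) =
      (kerCotangentToTensor A B C) ∘ₗ
        ((ext (A := A) hsurj).cotangentEquivCotangentKer).toLinearMap := by
    ext x
    rfl
  rw [hcomp, LinearMap.lTensor_comp]
  have hbij : Function.Bijective
      (((ext (A := A) hsurj).cotangentEquivCotangentKer).toLinearMap.lTensor κ) :=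
    (LinearEquiv.lTensor κ ((ext (A := A) hsurj).cotangentEquivCotangentKer)).bijective
  constructor
  · intro h
    exact h.comp hbij.injective
  · intro h a b hab
    obtain ⟨a', rfl⟩ := hbij.surjective a
    obtain ⟨b', rfl⟩ := hbij.surjective b
    rw [h hab]

variable [Algebra.FormallySmooth A B]

/-- (1) ⟹ (2). -/
theorem injective_of_formallySmooth_atPrime (p : Ideal C) [p.IsPrime]
    (h : Algebra.FormallySmooth A (Localization.AtPrime p)) :
    Function.Injective ((ext (A := A) hsurj).cotangentComplex.baseChange p.ResidueField) := by
  have hPfs : Algebra.FormallySmooth A (ext (A := A) hsurj).Ring := ‹Algebra.FormallySmooth A B›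
  obtain ⟨ρ', hρ'⟩ := (formallySmooth_localization_iff (ext (A := A) hsurj)
    (Localization.AtPrime p) p.primeCompl).mp h
  exact injective_baseChange_of_retraction (Localization.AtPrime p) p.ResidueField _ ρ' hρ'

/-- (2) ⟹ (3), with the data of the minor. -/
theorem exists_away_of_injective [Module.Finite B (RingHom.ker (algebraMap B C)).Cotangent]
    (p : Ideal C) [p.IsPrime]
    (h : Function.Injective ((ext (A := A) hsurj).cotangentComplex.baseChange p.ResidueField)) :
    ∃ f : C, f ∉ p ∧ Algebra.FormallySmooth A (Localization.Away f) := by
  have hPfs : Algebra.FormallySmooth A (ext (A := A) hsurj).Ring := ‹Algebra.FormallySmooth A B›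
  have hfin := finite_cotangent (A := A) hsurj
  have hproj : Module.Projective C (ext (A := A) hsurj).CotangentSpace := inferInstance
  obtain ⟨n, m, w, hdet, hsp⟩ := exists_minor p (ext (A := A) hsurj).cotangentComplex h
  obtain ⟨f', hf'p, hf'⟩ := exists_smul_mem_span p m hsp
  obtain ⟨ρ, hρ⟩ := exists_retraction_up_to (ext (A := A) hsurj).cotangentComplex m w f' hf'
  set d := (Matrix.of fun l i => w l ((ext (A := A) hsurj).cotangentComplex (m i))).det with hd
  refine ⟨d * f', fun hmem => ?_, ?_⟩
  · rcases (‹p.IsPrime›).mem_or_mem hmem with h1 | h1
    · exact hdet h1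
    · exact hf'p h1
  · obtain ⟨ρ', hρ'⟩ := exists_baseChange_retraction (Localization.Away (d * f'))
      (ext (A := A) hsurj).cotangentComplex ρ d f' hρ
      (IsLocalization.Away.algebraMap_isUnit (d * f'))
    exact (formallySmooth_localization_iff (ext (A := A) hsurj)
      (Localization.Away (d * f')) (Submonoid.powers (d * f'))).mpr ⟨ρ', hρ'⟩

omit [Algebra.FormallySmooth A B] [Algebra A B] [Algebra B C] [IsScalarTower A B C] in
/-- (3) ⟹ (1). -/
theorem formallySmooth_atPrime_of_away (p : Ideal C) [p.IsPrime] (f : C) (hf : f ∉ p)
    (h : Algebra.FormallySmooth A (Localization.Away f)) :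
    Algebra.FormallySmooth A (Localization.AtPrime p) := by
  have hu : IsUnit (algebraMap C (Localization.AtPrime p) f) :=
    IsLocalization.map_units (Localization.AtPrime p) (⟨f, hf⟩ : p.primeCompl)
  let _ : Algebra (Localization.Away f) (Localization.AtPrime p) :=
    (IsLocalization.Away.lift f hu).toAlgebra
  have hst : IsScalarTower C (Localization.Away f) (Localization.AtPrime p) :=
    IsScalarTower.of_algebraMap_eq (fun x => (IsLocalization.Away.lift_eq f hu x).symm)
  have hst2 : IsScalarTower A (Localization.Away f) (Localization.AtPrime p) := by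
    refine IsScalarTower.of_algebraMap_eq (fun x => ?_)
    rw [IsScalarTower.algebraMap_apply A C (Localization.AtPrime p),
      IsScalarTower.algebraMap_apply A C (Localization.Away f),
      ← IsScalarTower.algebraMap_apply C (Localization.Away f) (Localization.AtPrime p)]
  have hle : Submonoid.powers f ≤ p.primeCompl := by
    rintro _ ⟨k, rfl⟩
    exact fun hmem => hf ((‹p.IsPrime›).mem_of_pow_mem k hmem)
  have hloc : IsLocalization (p.primeCompl.map (algebraMap C (Localization.Away f)))
      (Localization.AtPrime p) :=
    IsLocalization.isLocalization_of_submonoid_le (Localization.Away f) (Localization.AtPrime p)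
      (Submonoid.powers f) p.primeCompl hle
  have hfs : Algebra.FormallySmooth (Localization.Away f) (Localization.AtPrime p) :=
    Algebra.FormallySmooth.of_isLocalization (p.primeCompl.map (algebraMap C (Localization.Away f)))
  exact Algebra.FormallySmooth.comp A (Localization.Away f) (Localization.AtPrime p)

include hsurj in
/-- The three conditions are equivalent. -/
theorem tfae_localization [Module.Finite B (RingHom.ker (algebraMap B C)).Cotangent]
    (p : Ideal C) [p.IsPrime] :
    [Algebra.FormallySmooth A (Localization.AtPrime p),
     Function.Injective ((kerCotangentToTensor A B C).lTensor p.ResidueField),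
     ∃ f : C, f ∉ p ∧ Algebra.FormallySmooth A (Localization.Away f)].TFAE := by
  have hiff := injective_lTensor_iff (A := A) hsurj p.ResidueField
  tfae_have 1 → 2 := by
    intro h
    exact hiff.mpr (injective_of_formallySmooth_atPrime hsurj p h)
  tfae_have 2 → 3 := by
    intro h
    exact exists_away_of_injective hsurj p (hiff.mp h)
  tfae_have 3 → 1 := by
    rintro ⟨f, hf, h⟩
    exact formallySmooth_atPrime_of_away p f hf h
  tfae_finish

end TFAE

end JacCrit

end Groth.Agent.Lib.Helper89
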