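import Mathlib.RingTheory.AdicCompletion.Basic
import Mathlib.Algebra.Module.Projective
import Mathlib.RingTheory.Finiteness.Basic
import Mathlib.Tactic

/-!
# Finitely generated projective modules over an adically complete ring are adically complete
(helper89)
-/

set_option autoImplicit false
universe u v w

namespace Groth.Agent.Lib.Helper89

variable {R : Type u} [CommRing R] (I : Ideal R)

theorem map_mem_smul_top {M : Type v} {N : Type w} [AddCommGroup M] [Module R M]
    [AddCommGroup N] [Module R N] (J : Ideal R) (φ : M →ₗ[R] N) {x : M}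
    (hx : x ∈ (J • ⊤ : Submodule R M)) : φ x ∈ (J • ⊤ : Submodule R N) :=
  Submodule.smul_top_le_comap_smul_top J φ hx

/-- A retract of an adically complete module is adically complete. -/
theorem isAdicComplete_of_retract {M : Type v} {Q : Type w} [AddCommGroup M] [Module R M]
    [AddCommGroup Q] [Module R Q] [IsAdicComplete I M]
    (i : Q →ₗ[R] M) (ρ : M →ₗ[R] Q) (h : ρ ∘ₗ i = LinearMap.id) : IsAdicComplete I Q := by
  have hρi : ∀ x, ρ (i x) = x := fun x => LinearMap.congr_fun h x
  haveI : IsHausdorff I Q := by
    refine ⟨fun x hx => ?_⟩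
    have : i x = 0 := by
      apply IsHausdorff.haus (inferInstance : IsHausdorff I M)
      intro n
      rw [SModEq.zero]
      exact map_mem_smul_top _ i (SModEq.zero.1 (hx n))
    rw [← hρi x, this, map_zero]
  haveI : IsPrecomplete I Q := by
    refine ⟨fun f hf => ?_⟩
    obtain ⟨L, hL⟩ := IsPrecomplete.prec (inferInstance : IsPrecomplete I M) (f := fun n => i (f n))
      (by
        intro m n hmn
        rw [SModEq.sub_mem, ← map_sub]
        exact map_mem_smul_top _ i (SModEq.sub_mem.1 (hf hmn)))
    refine ⟨ρ L, fun n => ?_⟩
    rw [SModEq.sub_mem]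
    have := map_mem_smul_top _ ρ (SModEq.sub_mem.1 (hL n))
    rwa [map_sub, hρi] at this
  exact {}

/-- `Fin m → R` is adically complete when `R` is. -/
theorem isAdicComplete_pi_fin [IsAdicComplete I R] (m : ℕ) : IsAdicComplete I (Fin m → R) := by
  have hcoord : ∀ (J : Ideal R) (x : Fin m → R), x ∈ (J • ⊤ : Submodule R (Fin m → R)) ↔ ∀ k, x k ∈ J := by
    intro J x
    constructor
    · intro hx k
      have := map_mem_smul_top J (LinearMap.proj k : (Fin m → R) →ₗ[R] R) hx
      simpa using this
    · intro hx
      have : x = ∑ k, x k • (Pi.single k (1 : R) : Fin m → R) := by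
        funext j
        simp [Finset.sum_apply, Pi.single_apply]
      rw [this]
      apply Submodule.sum_mem
      intro k _
      exact Submodule.smul_mem_smul (hx k) Submodule.mem_top
  haveI : IsHausdorff I (Fin m → R) := by
    refine ⟨fun x hx => ?_⟩
    funext k
    apply IsHausdorff.haus (inferInstance : IsHausdorff I R)
    intro n
    rw [SModEq.zero]
    have := (hcoord (I ^ n) x).1 (SModEq.zero.1 (hx n)) k
    simpa using this
  haveI : IsPrecomplete I (Fin m → R) := by
    refine ⟨fun f hf => ?_⟩
    have hk : ∀ k : Fin m, ∃ L : R, ∀ n, f n k ≡ L [SMOD (I ^ n • ⊤ : Submodule R R)] := by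
      intro k
      apply IsPrecomplete.prec (inferInstance : IsPrecomplete I R)
      intro a b hab
      rw [SModEq.sub_mem]
      have := (hcoord (I ^ a) (f a - f b)).1 (SModEq.sub_mem.1 (hf hab)) k
      simpa using this
    choose L hL using hk
    refine ⟨L, fun n => ?_⟩
    rw [SModEq.sub_mem, hcoord]
    intro k
    have := SModEq.sub_mem.1 (hL k n)
    simpa using this
  exact {}

/-- A finitely generated projective module over an adically complete ring is adically complete. -/
theorem isAdicComplete_of_finite_projective [IsAdicComplete I R] (Q : Type v) [AddCommGroup Q]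
    [Module R Q] [Module.Finite R Q] [Module.Projective R Q] : IsAdicComplete I Q := by
  obtain ⟨m, f, hf⟩ := Module.Finite.exists_fin' R Q
  obtain ⟨g, hg⟩ := Module.projective_lifting_property f LinearMap.id hf
  haveI := isAdicComplete_pi_fin I m
  exact isAdicComplete_of_retract I g f hg

end Groth.Agent.Lib.Helper89
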