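import Mathlib

/-!
# Clopen subsets of a scheme and idempotent global sections (helper89)

For an arbitrary scheme `X`, clopen subsets correspond to idempotents of `Γ(X, ⊤)` via
`e ↦ X.basicOpen e`.
-/

set_option autoImplicit false
universe u

open CategoryTheory CategoryTheory.Limits AlgebraicGeometry TopologicalSpace Opposite

namespace Groth.Agent.Lib.Helper89.HensCouple

/-- In a local ring an idempotent which is a unit equals `1`. -/
theorem idem_eq_one_of_isUnit {R : Type*} [CommRing R] {e : R} (he : IsIdempotentElem e)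
    (hu : IsUnit e) : e = 1 := by
  obtain ⟨u, rfl⟩ := hu
  have h : (u : R) * u = u * 1 := by rw [mul_one]; exact he.eq
  exact u.isUnit.mul_left_cancel h

/-- In a local ring an idempotent which is not a unit equals `0`. -/
theorem idem_eq_zero_of_not_isUnit {R : Type*} [CommRing R] [IsLocalRing R] {e : R}
    (he : IsIdempotentElem e) (hu : ¬ IsUnit e) : e = 0 := by
  have h1 : IsUnit (1 - e) := by
    rcases IsLocalRing.isUnit_or_isUnit_of_add_one (a := e) (b := 1 - e) (by ring) with h | h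
    · exact absurd h hu
    · exact h
  have h2 : (1 - e) * e = (1 - e) * 0 := by
    rw [mul_zero, sub_mul, one_mul, he.eq, sub_self]
  exact h1.mul_left_cancel h2

theorem basicOpen_one_sub_eq_compl (X : Scheme.{u}) (e : Γ(X, ⊤)) (he : IsIdempotentElem e) :
    ((X.basicOpen (1 - e) : X.Opens) : Set X) = ((X.basicOpen e : X.Opens) : Set X)ᶜ := by
  ext x
  simp only [Set.mem_compl_iff, SetLike.mem_coe]
  rw [Scheme.mem_basicOpen_top, Scheme.mem_basicOpen_top, map_sub, map_one]
  have hidem : IsIdempotentElem ((X.presheaf.germ ⊤ x trivial).hom e) := he.map _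
  constructor
  · intro h1 h2
    have := idem_eq_one_of_isUnit hidem h2
    rw [this, sub_self] at h1
    exact not_isUnit_zero h1
  · intro h2
    have := idem_eq_zero_of_not_isUnit hidem h2
    rw [this, sub_zero]
    exact isUnit_one

theorem isClopen_basicOpen (X : Scheme.{u}) (e : Γ(X, ⊤)) (he : IsIdempotentElem e) :
    IsClopen ((X.basicOpen e : X.Opens) : Set X) := by
  refine ⟨?_, (X.basicOpen e).2⟩
  rw [← isOpen_compl_iff, ← basicOpen_one_sub_eq_compl X e he]
  exact (X.basicOpen (1 - e)).2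

/-- Idempotent global sections with the same non-vanishing locus are equal. -/
theorem idem_eq_of_basicOpen_eq (X : Scheme.{u}) {e e' : Γ(X, ⊤)} (he : IsIdempotentElem e)
    (he' : IsIdempotentElem e')
    (h : ((X.basicOpen e : X.Opens) : Set X) = ((X.basicOpen e' : X.Opens) : Set X)) : e = e' := by
  apply TopCat.Presheaf.section_ext X.sheaf ⊤
  intro x hx
  have hidem : IsIdempotentElem ((X.presheaf.germ ⊤ x trivial).hom e) := he.map _
  have hidem' : IsIdempotentElem ((X.presheaf.germ ⊤ x trivial).hom e') := he'.map _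
  have hiff : IsUnit ((X.presheaf.germ ⊤ x trivial).hom e) ↔
      IsUnit ((X.presheaf.germ ⊤ x trivial).hom e') := by
    rw [← Scheme.mem_basicOpen_top, ← Scheme.mem_basicOpen_top, ← SetLike.mem_coe, h,
      SetLike.mem_coe]
  by_cases hu : IsUnit ((X.presheaf.germ ⊤ x trivial).hom e)
  · exact (idem_eq_one_of_isUnit hidem hu).trans (idem_eq_one_of_isUnit hidem' (hiff.mp hu)).symm
  · exact (idem_eq_zero_of_not_isUnit hidem hu).trans
      (idem_eq_zero_of_not_isUnit hidem' (fun h' => hu (hiff.mpr h'))).symm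

/-- A clopen subset of a scheme is the non-vanishing locus of an idempotent global section. -/
theorem exists_idem_basicOpen_eq (X : Scheme.{u}) (s : Set X) (hs : IsClopen s) :
    ∃ e : Γ(X, ⊤), IsIdempotentElem e ∧ ((X.basicOpen e : X.Opens) : Set X) = s := by
  let W : Bool → X.Opens := fun b => if b then ⟨s, hs.isOpen⟩ else ⟨sᶜ, hs.compl.isOpen⟩
  have hdisj : ∀ i j, i ≠ j → W i ⊓ W j = ⊥ := by
    intro i j hij
    apply TopologicalSpace.Opens.ext
    rcases i with _ | _ <;> rcases j with _ | _ <;> simp_all [W]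
  let sf : ∀ b : Bool, Γ(X, W b) := fun b => if b then 1 else 0
  have hsf : ∀ b, sf b * sf b = sf b := by
    intro b
    rcases b with _ | _ <;> simp [sf]
  have hcompat : TopCat.Presheaf.IsCompatible X.presheaf W sf := by
    intro i j
    by_cases hij : i = j
    · subst hij
      rfl
    · have : Subsingleton Γ(X, W i ⊓ W j) := by
        rw [hdisj i j hij]; infer_instance
      exact Subsingleton.elim _ _
  have hcov : (⊤ : X.Opens) ≤ ⨆ b, W b := by
    intro x _
    by_cases hx : x ∈ s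
    · exact TopologicalSpace.Opens.mem_iSup.mpr ⟨true, hx⟩
    · exact TopologicalSpace.Opens.mem_iSup.mpr ⟨false, hx⟩
  obtain ⟨e0, he, huniq⟩ :=
    X.sheaf.existsUnique_gluing' W ⊤ (fun b => homOfLE le_top) hcov sf hcompat
  let e : Γ(X, ⊤) := e0
  have hidem : IsIdempotentElem e := by
    have : (e * e : Γ(X, ⊤)) = e0 := by
      apply huniq
      intro b
      have hb : (X.presheaf.map (homOfLE (le_top : W b ≤ ⊤)).op).hom e = sf b := he b
      show (X.presheaf.map (homOfLE (le_top : W b ≤ ⊤)).op).hom (e * e) = sf b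
      rw [map_mul, hb, hsf]
    exact this
  have het : (X.presheaf.map (homOfLE (le_top : W true ≤ ⊤)).op).hom e = 1 := he true
  have hef : (X.presheaf.map (homOfLE (le_top : W false ≤ ⊤)).op).hom e = 0 := he false
  have h1 := X.basicOpen_res e (homOfLE (le_top : W true ≤ ⊤)).op
  have h2 := X.basicOpen_res e (homOfLE (le_top : W false ≤ ⊤)).op
  refine ⟨e, hidem, ?_⟩
  apply Set.Subset.antisymm
  · intro x hx
    by_contra hxs
    have hxW : x ∈ W false := hxs
    have : x ∈ W false ⊓ X.basicOpen e := ⟨hxW, hx⟩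
    rw [← h2] at this
    have h0 : X.basicOpen ((X.presheaf.map (homOfLE (le_top : W false ≤ ⊤)).op).hom e) = ⊥ := by
      rw [hef]; exact X.basicOpen_zero _
    rw [h0] at this
    exact this
  · intro x hx
    have hxW : x ∈ W true := hx
    have h0 : X.basicOpen ((X.presheaf.map (homOfLE (le_top : W true ≤ ⊤)).op).hom e) = W true := by
      rw [het]; exact X.basicOpen_of_isUnit isUnit_one
    have : x ∈ W true ⊓ X.basicOpen e := by
      rw [← h1, h0]; exact hxW
    exact this.2

/-- If every clopen subset of `P` is the preimage of a clopen subset of `Y` along `p : P ⟶ Y`,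
then every idempotent of `Γ(P, ⊤)` is the image of an idempotent of `Γ(Y, ⊤)`. -/
theorem exists_idem_lift_of_clopen_lift {P Y : Scheme.{u}} (p : P ⟶ Y)
    (h : ∀ V : Set P, IsClopen V → ∃ U : Set Y, IsClopen U ∧ p.base ⁻¹' U = V)
    (ε₀ : Γ(P, ⊤)) (hε₀ : IsIdempotentElem ε₀) :
    ∃ ε : Γ(Y, ⊤), IsIdempotentElem ε ∧ p.appTop.hom ε = ε₀ := by
  obtain ⟨U, hU, hUV⟩ := h _ (isClopen_basicOpen P ε₀ hε₀)
  obtain ⟨ε, hε, hεU⟩ := exists_idem_basicOpen_eq Y U hU
  refine ⟨ε, hε, ?_⟩
  apply idem_eq_of_basicOpen_eq P (hε.map _) hε₀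
  rw [← hUV, ← hεU]
  have := Scheme.preimage_basicOpen_top p ε
  exact (congrArg (fun O : P.Opens => (O : Set P)) this).symm

/-- If `Γ(Y, ⊤) → Γ(P, ⊤)` is bijective on idempotents then every clopen subset of `P` is the
preimage of a unique clopen subset of `Y`. -/
theorem existsUnique_clopen_of_idem_bij {P Y : Scheme.{u}} (p : P ⟶ Y)
    (hinj : ∀ ε ε' : Γ(Y, ⊤), IsIdempotentElem ε → IsIdempotentElem ε' →
      p.appTop.hom ε = p.appTop.hom ε' → ε = ε')
    (hsurj : ∀ ε₀ : Γ(P, ⊤), IsIdempotentElem ε₀ →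
      ∃ ε : Γ(Y, ⊤), IsIdempotentElem ε ∧ p.appTop.hom ε = ε₀)
    (V : Set P) (hV : IsClopen V) :
    ∃! U : Set Y, IsClopen U ∧ p.base ⁻¹' U = V := by
  have key : ∀ ε : Γ(Y, ⊤), p.base ⁻¹' ((Y.basicOpen ε : Y.Opens) : Set Y) =
      ((P.basicOpen (p.appTop.hom ε) : P.Opens) : Set P) := fun ε =>
    congrArg (fun O : P.Opens => (O : Set P)) (Scheme.preimage_basicOpen_top p ε)
  obtain ⟨ε₀, hε₀, hε₀V⟩ := exists_idem_basicOpen_eq P V hV
  obtain ⟨ε, hε, hεε₀⟩ := hsurj ε₀ hε₀
  refine ⟨((Y.basicOpen ε : Y.Opens) : Set Y), ⟨isClopen_basicOpen Y ε hε, ?_⟩, ?_⟩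
  · rw [key, hεε₀, hε₀V]
  · rintro U ⟨hU, hUV⟩
    obtain ⟨ε', hε', hε'U⟩ := exists_idem_basicOpen_eq Y U hU
    rw [← hε'U]
    congr 2
    apply hinj _ _ hε' hε
    apply idem_eq_of_basicOpen_eq P (hε'.map _) (hε.map _)
    rw [← key, ← key, hε'U, hUV, key, hεε₀, hε₀V]

end Groth.Agent.Lib.Helper89.HensCouple
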