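import Mathlib
import Groth.Agent.Lib.Helper89.CMCatenary
import Groth.Prelude.Def_Cyc

/-!
# Dimension functions on Cohen–Macaulay schemes (helper89)

If `O_{X,x}` is Cohen–Macaulay and `δ` is a dimension function, then every generic point `ξ ⤳ x`
has `δ ξ = δ x + dim O_{X,x}`.
-/

set_option autoImplicit false
set_option linter.style.haveILetI false

namespace Groth.Agent.Lib.Helper89.CMDimFun

open CategoryTheory AlgebraicGeometry Groth.Agent.Lib.Helper89.CMCatenary

universe u

section Alg

variable (R : Type u) [CommRing R] [IsNoetherianRing R]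

/-- In a Noetherian ring, every non-maximal-element prime `q < m` is covered by some prime. -/
theorem exists_covBy_of_lt (q m : PrimeSpectrum R) (h : q < m) : ∃ q' : PrimeSpectrum R, q ⋖ q' := by
  classical
  -- choose `q'` above `q` of minimal height
  have hne : {r : PrimeSpectrum R | q < r}.Nonempty := ⟨m, h⟩
  let ht : PrimeSpectrum R → ℕ∞ := fun r => r.asIdeal.height
  obtain ⟨q', hq', hmin⟩ := WellFounded.has_min (measure (fun r : PrimeSpectrum R =>
    (r.asIdeal.height).toNat)).wf _ hne
  refine ⟨q', hq', ?_⟩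
  intro r hqr hrq'
  apply hmin r hqr
  show r.asIdeal.height.toNat < q'.asIdeal.height.toNat
  have := r.isPrime
  have := q'.isPrime
  have h1 : r.asIdeal.height < q'.asIdeal.height :=
    Ideal.height_strict_mono_of_isPrime_of_isPrime hrq'
  have h2 : q'.asIdeal.height ≠ ⊤ := Ideal.height_ne_top q'.isPrime.ne_top
  have h3 : r.asIdeal.height ≠ ⊤ := ne_top_of_lt h1
  rw [← ENat.natCast_toNat h3, ← ENat.natCast_toNat h2] at h1
  exact_mod_cast h1

end Alg

section Scheme

variable (X : Scheme.{u}) (δ : X → ℤ)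

/-- On a scheme whose local ring at `x` is Cohen–Macaulay, a dimension function takes the value
`δ x + dim O_{X,x}` at every maximal generization of `x`. -/
theorem delta_eq_of_generic (hdim : Cyc.IsDimFun X δ) (x : X)
    (hCM : LocCoh.IsCohenMacaulayLocalRing ↑(X.presheaf.stalk x))
    (ξ : X) (hξx : ξ ⤳ x) (hgen : ∀ ξ' : X, ξ' ⤳ ξ → ξ' = ξ) :
    δ ξ = δ x + ((IsLocalRing.maximalIdeal ↑(X.presheaf.stalk x)).height.toNat : ℤ) := by
  classical
  set R := X.presheaf.stalk x with hR
  have hN : IsNoetherianRing R := inferInstance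
  let j := X.fromSpecStalk x
  have hemb : Topology.IsEmbedding j := (X.fromSpecStalk x).isEmbedding
  have hinj : Function.Injective j := hemb.injective
  have hle : ∀ p q : PrimeSpectrum R, p ≤ q ↔ j p ⤳ j q := by
    intro p q
    rw [PrimeSpectrum.le_iff_specializes]
    exact (hemb.isInducing.specializes_iff).symm
  have hrange : ∀ z : X, z ⤳ x ↔ ∃ p : PrimeSpectrum R, j p = z := by
    intro z
    have := Set.ext_iff.mp (Scheme.range_fromSpecStalk (X := X) (x := x)) z
    exact this.symm
  have hjx : ∀ p : PrimeSpectrum R, j p ⤳ x := fun p => (hrange _).mpr ⟨p, rfl⟩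
  have hclosed : j (IsLocalRing.closedPoint R) = x := Scheme.fromSpecStalk_closedPoint
  have hmfin : (IsLocalRing.maximalIdeal R).height ≠ ⊤ :=
    Ideal.height_ne_top (IsLocalRing.maximalIdeal.isMaximal R).ne_top
  have key : ∀ c : ℕ, ∀ q : PrimeSpectrum R,
      q.asIdeal.height + c = (IsLocalRing.maximalIdeal R).height → δ (j q) = δ x + c := by
    intro c
    induction c with
    | zero =>
      intro q hq
      have hqc : q = IsLocalRing.closedPoint R := by
        by_contra hne
        have hlt : q < IsLocalRing.closedPoint R :=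
          lt_of_le_of_ne (IsLocalRing.le_maximalIdeal q.isPrime.ne_top) hne
        have := q.isPrime
        have h1 : q.asIdeal.height < (IsLocalRing.maximalIdeal R).height :=
          Ideal.height_strict_mono_of_isPrime_of_isPrime hlt
        rw [Nat.cast_zero, add_zero] at hq
        rw [hq] at h1
        exact lt_irrefl _ h1
      rw [hqc, hclosed]
      simp
    | succ c ih =>
      intro q hq
      have hne : q ≠ IsLocalRing.closedPoint R := by
        rintro rfl
        have h1 : (IsLocalRing.maximalIdeal R).height + ((c + 1 : ℕ) : ℕ∞) =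
            (IsLocalRing.maximalIdeal R).height := hq
        obtain ⟨a, ha⟩ := ENat.ne_top_iff_exists.mp hmfin
        rw [← ha] at h1
        have h2 : a + (c + 1) = a := by exact_mod_cast h1
        omega
      have hlt : q < IsLocalRing.closedPoint R :=
        lt_of_le_of_ne (IsLocalRing.le_maximalIdeal q.isPrime.ne_top) hne
      obtain ⟨q', hcov⟩ := exists_covBy_of_lt R q _ hlt
      have hht := height_eq_add_one_of_covBy R R hCM.supportDim_eq_depth
        (support_self_eq_univ R) q q' hcov
      have hq' : q'.asIdeal.height + (c : ℕ∞) = (IsLocalRing.maximalIdeal R).height := by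
        rw [hht, ← hq]
        push_cast
        ring
      have ih' := ih q' hq'
      have hspec : j q ⤳ j q' := (hle _ _).mp hcov.le
      have hne' : j q ≠ j q' := fun h => hcov.lt.ne (hinj h)
      obtain ⟨-, himm⟩ := hdim (j q) (j q') hspec hne'
      have h3 := himm (by
        intro z hz1 hz2
        have hzx : z ⤳ x := hz2.trans (hjx q')
        obtain ⟨r, rfl⟩ := (hrange z).mp hzx
        have h1 : q ≤ r := (hle _ _).mpr hz1
        have h2 : r ≤ q' := (hle _ _).mpr hz2
        rcases hcov.eq_or_eq h1 h2 with h | h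
        · left; rw [h]
        · right; rw [h])
      rw [h3, ih']
      push_cast
      ring
  obtain ⟨p, rfl⟩ := (hrange ξ).mp hξx
  have hpmin : IsMin p := by
    intro q hq
    have h1 : j q ⤳ j p := (hle _ _).mp hq
    have h2 := hgen _ h1
    have h3 : q = p := hinj h2
    rw [h3]
  have hp0 : p.asIdeal.height = 0 := by
    rw [PrimeSpectrum.height_eq_orderHeight, Order.height_eq_zero]
    exact hpmin
  have := key (IsLocalRing.maximalIdeal R).height.toNat p (by
    rw [hp0, zero_add, ENat.natCast_toNat hmfin])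
  exact this

/-- In a locally Noetherian scheme every point has an open neighbourhood all of whose maximal
points specialize to it. -/
theorem exists_open_generic_specializes [IsLocallyNoetherian X] (x : X) :
    ∃ U : X.Opens, x ∈ U ∧ ∀ ξ : X, ξ ∈ U → (∀ ξ' : X, ξ' ⤳ ξ → ξ' = ξ) → ξ ⤳ x := by
  classical
  obtain ⟨V, hV, hxV, -⟩ := exists_isAffineOpen_mem_and_subset (x := x) (U := ⊤) trivial
  haveI : IsNoetherianRing Γ(X, V) := IsLocallyNoetherian.component_noetherian ⟨V, hV⟩
  haveI hNS : TopologicalSpace.NoetherianSpace ↥V := noetherianSpace_of_isAffineOpen V hV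
  haveI hQS : QuasiSober ↥V := V.isOpen.isOpenEmbedding_subtypeVal.quasiSober
  let x' : ↥V := ⟨x, hxV⟩
  let S : Set (Set ↥V) := {Z | Z ∈ irreducibleComponents ↥V ∧ x' ∉ Z}
  have hSfin : S.Finite :=
    (TopologicalSpace.NoetherianSpace.finite_irreducibleComponents (α := ↥V)).subset
      (fun Z hZ => hZ.1)
  have hWclosed : IsClosed (⋃₀ S) := by
    rw [Set.sUnion_eq_biUnion]
    exact hSfin.isClosed_biUnion (fun Z hZ => isClosed_of_mem_irreducibleComponents Z hZ.1)
  have hopen : IsOpen (Subtype.val '' (⋃₀ S)ᶜ : Set X) :=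
    V.isOpen.isOpenMap_subtype_val _ hWclosed.isOpen_compl
  refine ⟨⟨Subtype.val '' (⋃₀ S)ᶜ, hopen⟩, ⟨x', ?_, rfl⟩, ?_⟩
  · rintro ⟨Z, hZ, hxZ⟩
    exact hZ.2 hxZ
  · rintro ξ ⟨ξ', hξ'W, rfl⟩ hgen
    have hZmem : irreducibleComponent ξ' ∈ irreducibleComponents ↥V :=
      irreducibleComponent_mem_irreducibleComponents ξ'
    have hξZ : ξ' ∈ irreducibleComponent ξ' := mem_irreducibleComponent
    have hxZ : x' ∈ irreducibleComponent ξ' := by
      by_contra h
      exact hξ'W ⟨_, ⟨hZmem, h⟩, hξZ⟩
    have hZirr : IsIrreducible (irreducibleComponent ξ') := isIrreducible_irreducibleComponent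
    have hZcl : IsClosed (irreducibleComponent ξ') := isClosed_irreducibleComponent
    obtain ⟨η, hη⟩ := QuasiSober.sober hZirr hZcl
    have h1 : η ⤳ ξ' := hη.specializes hξZ
    have h2 : (η : X) ⤳ (ξ' : X) := h1.map continuous_subtype_val
    have h3 : (η : X) = ξ' := hgen _ h2
    have h4 : η = ξ' := Subtype.ext h3
    have h5 : ξ' ⤳ x' := by
      rw [← h4]
      exact hη.specializes hxZ
    exact h5.map continuous_subtype_val

/-- **CM schemes are locally equidimensional w.r.t. a dimension function.** -/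
theorem exists_open_delta_const (hX : Cyc.IsSetup X δ)
    (hCM : ∀ x : X, LocCoh.IsCohenMacaulayLocalRing ↑(X.presheaf.stalk x)) (x : X) :
    ∃ (U : X.Opens) (n : ℤ), x ∈ U ∧
      ∀ ξ : X, ξ ∈ U → (∀ ξ' : X, ξ' ⤳ ξ → ξ' = ξ) → δ ξ = n := by
  obtain ⟨hLN, -, hdim⟩ := hX
  obtain ⟨U, hxU, hU⟩ := exists_open_generic_specializes X x
  exact ⟨U, _, hxU, fun ξ hξ hgen =>
    delta_eq_of_generic X δ hdim x (hCM x) ξ (hU ξ hξ hgen) hgen⟩

end Scheme

end Groth.Agent.Lib.Helper89.CMDimFun
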