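import Mathlib
import Groth.Agent.Lib.Helper89.CMDimFun

/-!
# Dimension of dense opens in Jacobson schemes (helper89)
-/

set_option autoImplicit false
set_option linter.style.haveILetI false

namespace Groth.Agent.Lib.Helper89.DenseOpenDim

open CategoryTheory AlgebraicGeometry TopologicalSpace

universe u

section Top

variable {X : Type u} [TopologicalSpace X] [QuasiSober X] [T0Space X]

/-- A chain of irreducible closed subsets of a sober space whose generic points lie in a subspace
`Y` gives a chain of the same length in `Y`. -/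
theorem length_le_topologicalKrullDim_of_genericPoint_mem (Y : Set X)
    (s : LTSeries (IrreducibleCloseds X))
    (hs : ∀ i, (s i).isIrreducible'.genericPoint ∈ Y) :
    (s.length : WithBot ℕ∞) ≤ topologicalKrullDim ↥Y := by
  classical
  let g : Fin (s.length + 1) → ↥Y := fun i => ⟨(s i).isIrreducible'.genericPoint, hs i⟩
  have hg : ∀ i, closure ({(g i : X)} : Set X) = (s i : Set X) := by
    intro i
    have := (s i).isIrreducible'.isGenericPoint_genericPoint_closure
    rw [(s i).isClosed'.closure_eq] at this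
    exact this
  have hstep : ∀ i : Fin s.length, g (Fin.succ i) ⤳ g (Fin.castSucc i) ∧
      ¬ g (Fin.castSucc i) ⤳ g (Fin.succ i) := by
    intro i
    have hlt : s (Fin.castSucc i) < s (Fin.succ i) := s.step i
    have hsub : (s (Fin.castSucc i) : Set X) ⊆ (s (Fin.succ i) : Set X) :=
      SetLike.coe_subset_coe.mpr hlt.le
    constructor
    · rw [subtype_specializes_iff, specializes_iff_closure_subset, hg, hg]
      exact hsub
    · rw [subtype_specializes_iff, specializes_iff_closure_subset, hg, hg]
      intro hsub'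
      exact hlt.not_ge (SetLike.coe_subset_coe.mp hsub')
  let t : LTSeries (IrreducibleCloseds ↥Y) :=
    { length := s.length
      toFun := fun i => ⟨closure {g i}, isIrreducible_singleton.closure, isClosed_closure⟩
      step := by
        intro i
        obtain ⟨h1, h2⟩ := hstep i
        show (⟨closure {g (Fin.castSucc i)}, isIrreducible_singleton.closure, isClosed_closure⟩ :
          IrreducibleCloseds ↥Y) < ⟨closure {g (Fin.succ i)}, isIrreducible_singleton.closure,
            isClosed_closure⟩
        refine lt_of_le_of_ne ?_ ?_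
        · exact SetLike.coe_subset_coe.mp (specializes_iff_closure_subset.mp h1)
        · intro heq
          have heq' : closure {g (Fin.castSucc i)} = closure {g (Fin.succ i)} :=
            congrArg (fun T : IrreducibleCloseds ↥Y => (T : Set ↥Y)) heq
          apply h2
          rw [specializes_iff_closure_subset, heq'] }
  exact Order.LTSeries.length_le_krullDim t

end Top

section Scheme

variable (X : Scheme.{u})

/-- Every point of a scheme has a maximal generization. -/
theorem exists_maximal_generization (y : X) :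
    ∃ ξ : X, ξ ⤳ y ∧ ∀ ξ' : X, ξ' ⤳ ξ → ξ' = ξ := by
  classical
  have hemb : Topology.IsEmbedding (X.fromSpecStalk y) := (X.fromSpecStalk y).isEmbedding
  have hinj : Function.Injective (X.fromSpecStalk y) := hemb.injective
  have hle : ∀ p q : PrimeSpectrum ↑(X.presheaf.stalk y),
      p ≤ q ↔ X.fromSpecStalk y p ⤳ X.fromSpecStalk y q := by
    intro p q
    rw [PrimeSpectrum.le_iff_specializes]
    exact (hemb.isInducing.specializes_iff).symm
  have hrange : ∀ z : X, z ⤳ y ↔ ∃ p : PrimeSpectrum ↑(X.presheaf.stalk y),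
      X.fromSpecStalk y p = z := by
    intro z
    have := Set.ext_iff.mp (Scheme.range_fromSpecStalk (X := X) (x := y)) z
    exact this.symm
  obtain ⟨p, hp, -⟩ := Ideal.exists_minimalPrimes_le
    (I := (⊥ : Ideal ↑(X.presheaf.stalk y))) (J := IsLocalRing.maximalIdeal _) bot_le
  have hpprime : p.IsPrime := hp.1.1
  refine ⟨X.fromSpecStalk y ⟨p, hpprime⟩, (hrange _).mpr ⟨_, rfl⟩, ?_⟩
  intro ξ' hξ'
  have hξ'y : ξ' ⤳ y := hξ'.trans ((hrange _).mpr ⟨_, rfl⟩)
  obtain ⟨q, rfl⟩ := (hrange ξ').mp hξ'y
  have hqp : q ≤ ⟨p, hpprime⟩ := (hle _ _).mpr hξ'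
  have hpq : p ≤ q.asIdeal := hp.2 ⟨q.isPrime, bot_le⟩ hqp
  have : q = ⟨p, hpprime⟩ := le_antisymm hqp hpq
  rw [this]

/-- A dense open subset of a locally Noetherian scheme contains all maximal points. -/
theorem mem_of_dense_of_maximal [IsLocallyNoetherian X] (U : Set X) (hU : IsOpen U) (hd : Dense U)
    (η : X) (hη : ∀ ξ : X, ξ ⤳ η → ξ = η) : η ∈ U := by
  obtain ⟨U₀, hηU₀, hU₀⟩ := CMDimFun.exists_open_generic_specializes X η
  obtain ⟨y, hyU₀, hyU⟩ := hd.inter_open_nonempty (U₀ : Set X) U₀.isOpen ⟨η, hηU₀⟩
  obtain ⟨ξ, hξy, hξmax⟩ := exists_maximal_generization X y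
  have hξU₀ : ξ ∈ U₀ := hξy.mem_open U₀.isOpen hyU₀
  have hξU : ξ ∈ U := hξy.mem_open hU hyU
  have := hη ξ (hU₀ ξ hξU₀ hξmax)
  rwa [this] at hξU

/-- **EGA IV 10.6.2-type statement**: in a Jacobson locally Noetherian scheme whose irreducible
components are equidimensional at closed points, dense opens have full dimension. -/
theorem topologicalKrullDim_dense_open [IsLocallyNoetherian X] [JacobsonSpace X]
    (h3 : ∀ X' ∈ irreducibleComponents (X : Type u), ∀ x ∈ X', IsClosed ({x} : Set X) →
      topologicalKrullDim (↥X' : Type u) = topologicalKrullDim ↥{t : X | t ∈ X' ∧ t ⤳ x})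
    (U : Set X) (hU : IsOpen U) (hd : Dense U) :
    topologicalKrullDim ↥U = topologicalKrullDim X := by
  classical
  apply le_antisymm (topologicalKrullDim_subspace_le X U)
  unfold topologicalKrullDim
  conv_lhs => unfold Order.krullDim
  refine iSup_le fun s => ?_
  obtain ⟨X', hX', hTX'⟩ := exists_mem_irreducibleComponents_subset_of_isIrreducible
    (s.last : Set X) s.last.isIrreducible
  have hirr : IsIrreducible X' := hX'.1
  have hcl : IsClosed X' := isClosed_of_mem_irreducibleComponents X' hX'
  -- the chain lies in `X'`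
  have hA : (s.length : WithBot ℕ∞) ≤ topologicalKrullDim ↥X' := by
    apply length_le_topologicalKrullDim_of_genericPoint_mem X' s
    intro i
    apply hTX'
    have h1 : s i ≤ s.last := s.monotone (Fin.le_last i)
    apply SetLike.coe_subset_coe.mpr h1
    have h2 := (s i).isIrreducible'.isGenericPoint_genericPoint_closure
    rw [(s i).isClosed'.closure_eq] at h2
    exact h2.mem
  -- generic point of `X'`
  obtain ⟨η, hη⟩ := QuasiSober.sober hirr hcl
  have hηmax : ∀ ξ : X, ξ ⤳ η → ξ = η := by
    intro ξ hξ
    have hsub : X' ⊆ closure ({ξ} : Set X) := by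
      rw [← hη.def]
      exact specializes_iff_closure_subset.mp hξ
    have hirr' : IsIrreducible (closure ({ξ} : Set X)) := isIrreducible_singleton.closure
    have hsub' : closure ({ξ} : Set X) ⊆ X' := hX'.2 hirr' hsub
    have heq : closure ({ξ} : Set X) = X' := le_antisymm hsub' hsub
    have hξgen : IsGenericPoint ξ X' := heq
    exact hξgen.eq hη
  have hηU : η ∈ U := mem_of_dense_of_maximal X U hU hd η hηmax
  have hηX' : η ∈ X' := hη.mem
  obtain ⟨x, ⟨hxX', hxU⟩, hxcl⟩ := nonempty_inter_closedPoints (X := X) (Z := X' ∩ U)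
    ⟨η, hηX', hηU⟩ (hcl.isLocallyClosed.inter hU.isLocallyClosed)
  have h4 := h3 X' hX' x hxX' hxcl
  have hWU : {t : X | t ∈ X' ∧ t ⤳ x} ⊆ U := fun t ht => ht.2.mem_open hU hxU
  have h5 : topologicalKrullDim ↥{t : X | t ∈ X' ∧ t ⤳ x} ≤ topologicalKrullDim ↥U :=
    (Topology.IsEmbedding.inclusion hWU).isInducing.topologicalKrullDim_le
  calc (s.length : WithBot ℕ∞) ≤ topologicalKrullDim ↥X' := hA
    _ = topologicalKrullDim ↥{t : X | t ∈ X' ∧ t ⤳ x} := h4
    _ ≤ topologicalKrullDim ↥U := h5

end Scheme

end Groth.Agent.Lib.Helper89.DenseOpenDim
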