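import Mathlib
import Groth.Prelude.Def_EGA41

/-!
# Towers and imperfection modules: universe-polymorphic comparison maps (helper89)

For `Λ → A → B → C` we define the `C`-linear map `tm : C ⊗[A] Ω[A/Λ] → C ⊗[B] Ω[B/Λ]` and prove
its compatibility with `mapBaseChange` and the exactness of
`C ⊗[A] Ω[A/Λ] → C ⊗[B] Ω[B/Λ] → C ⊗[B] Ω[B/A] → 0`.
-/

set_option autoImplicit false
universe u₁ u₂ u₃ u₄ u₅ u₆

namespace Groth.Agent.Lib.Helper89

namespace ImperfTower

open TensorProduct KaehlerDifferential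

section Basic

variable {Λ : Type u₁} {A : Type u₂} {B : Type u₃} {C : Type u₄}
  [CommRing Λ] [CommRing A] [CommRing B] [CommRing C]
  [Algebra Λ A] [Algebra Λ B] [Algebra A B] [IsScalarTower Λ A B]
  [Algebra B C] [Algebra A C] [IsScalarTower A B C]

/-- Two additive maps out of `Ω[A/Λ]` that are compatible with scalars agree if they agree on
differentials. -/
theorem kaehler_hom_ext {M : Type u₅} [AddCommGroup M] [Module A M] (f g : Ω[A⁄Λ] →ₗ[A] M)
    (h : ∀ a : A, f (D Λ A a) = g (D Λ A a)) (ω : Ω[A⁄Λ]) : f ω = g ω := by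
  have hω : ω ∈ Submodule.span A (Set.range (KaehlerDifferential.D Λ A)) := by
    rw [KaehlerDifferential.span_range_derivation]; trivial
  induction hω using Submodule.span_induction with
  | mem x hx =>
    obtain ⟨a, rfl⟩ := hx
    exact h a
  | zero => simp
  | add x y _ _ hx hy => rw [map_add, map_add, hx, hy]
  | smul a x _ hx => rw [map_smul, map_smul, hx]

variable (Λ A B C) in
/-- The natural `C`-linear map `C ⊗[A] Ω[A/Λ] → C ⊗[B] Ω[B/Λ]`. -/
noncomputable def tm : C ⊗[A] Ω[A⁄Λ] →ₗ[C] C ⊗[B] Ω[B⁄Λ] :=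
  LinearMap.liftBaseChange C
    (((TensorProduct.mk B C Ω[B⁄Λ] 1).restrictScalars A) ∘ₗ (KaehlerDifferential.map Λ Λ A B))

theorem tm_tmul (c : C) (ω : Ω[A⁄Λ]) :
    tm Λ A B C (c ⊗ₜ[A] ω) = c ⊗ₜ[B] KaehlerDifferential.map Λ Λ A B ω := by
  rw [tm, LinearMap.liftBaseChange_tmul]
  change c • ((1 : C) ⊗ₜ[B] KaehlerDifferential.map Λ Λ A B ω) = _
  rw [TensorProduct.smul_tmul', smul_eq_mul, mul_one]

end Basic

section MapMap

variable {R : Type u₁} {S : Type u₂} {T : Type u₃} {A : Type u₄} {B : Type u₅} {C : Type u₆}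
  [CommRing R] [CommRing S] [CommRing T] [CommRing A] [CommRing B] [CommRing C]
  [Algebra R S] [Algebra S T] [Algebra R T]
  [Algebra R A] [Algebra A B] [Algebra B C] [Algebra A C] [IsScalarTower A B C]
  [Algebra S B] [Algebra T C] [Algebra R B] [Algebra R C] [Algebra S C]
  [IsScalarTower R A B] [IsScalarTower R S B] [IsScalarTower S B C] [IsScalarTower S T C]
  [IsScalarTower R A C] [IsScalarTower R T C]
  [SMulCommClass S A B] [SMulCommClass T B C] [SMulCommClass T A C]

/-- Functoriality of `KaehlerDifferential.map` for two stacked squares. -/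
theorem map_map (ω : Ω[A⁄R]) :
    KaehlerDifferential.map S T B C (KaehlerDifferential.map R S A B ω) =
      KaehlerDifferential.map R T A C ω := by
  have hω : ω ∈ Submodule.span A (Set.range (KaehlerDifferential.D R A)) := by
    rw [KaehlerDifferential.span_range_derivation]; trivial
  induction hω using Submodule.span_induction with
  | mem x hx =>
    obtain ⟨a, rfl⟩ := hx
    rw [map_D, map_D, map_D, ← IsScalarTower.algebraMap_apply]
  | zero => simp
  | add x y _ _ hx hy => rw [map_add, map_add, map_add, hx, hy]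
  | smul a x _ hx =>
    rw [map_smul (KaehlerDifferential.map R S A B),
      ← IsScalarTower.algebraMap_smul B a (KaehlerDifferential.map R S A B x),
      map_smul, hx, IsScalarTower.algebraMap_smul, map_smul]

end MapMap

section Tower

variable {Λ : Type u₁} {A : Type u₂} {B : Type u₃} {C : Type u₄}
  [CommRing Λ] [CommRing A] [CommRing B] [CommRing C]
  [Algebra Λ A] [Algebra Λ B] [Algebra A B] [IsScalarTower Λ A B]
  [Algebra B C] [Algebra A C] [IsScalarTower A B C]

theorem map_map_eq_zero (ω : Ω[A⁄Λ]) :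
    KaehlerDifferential.map Λ A B B (KaehlerDifferential.map Λ Λ A B ω) = 0 := by
  have hω : ω ∈ Submodule.span A (Set.range (KaehlerDifferential.D Λ A)) := by
    rw [KaehlerDifferential.span_range_derivation]; trivial
  induction hω using Submodule.span_induction with
  | mem x hx =>
    obtain ⟨a, rfl⟩ := hx
    rw [map_D, map_D]
    exact Derivation.map_algebraMap _ _
  | zero => simp
  | add x y _ _ hx hy => rw [map_add, map_add, hx, hy, add_zero]
  | smul a x _ hx =>
    rw [map_smul (KaehlerDifferential.map Λ Λ A B),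
      ← IsScalarTower.algebraMap_smul B a (KaehlerDifferential.map Λ Λ A B x),
      map_smul, hx, smul_zero]

theorem baseChange_map_tm (z : C ⊗[A] Ω[A⁄Λ]) :
    (KaehlerDifferential.map Λ A B B).baseChange C (tm Λ A B C z) = 0 := by
  induction z using TensorProduct.induction_on with
  | zero => simp
  | add x y hx hy => rw [map_add, map_add, hx, hy, add_zero]
  | tmul c ω =>
    rw [tm_tmul, LinearMap.baseChange_tmul, map_map_eq_zero, TensorProduct.tmul_zero]

theorem baseChange_cancelBaseChange_symm (z : C ⊗[A] Ω[A⁄Λ]) :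
    ((KaehlerDifferential.mapBaseChange Λ A B).baseChange C)
      ((TensorProduct.AlgebraTensorModule.cancelBaseChange A B C C Ω[A⁄Λ]).symm z) =
      tm Λ A B C z := by
  induction z using TensorProduct.induction_on with
  | zero => simp
  | add x y hx hy => rw [map_add, map_add, map_add, hx, hy]
  | tmul c ω =>
    rw [TensorProduct.AlgebraTensorModule.cancelBaseChange_symm_tmul, LinearMap.baseChange_tmul,
      mapBaseChange_tmul, one_smul, tm_tmul]

/-- Exactness in the middle of `C ⊗[A] Ω[A/Λ] → C ⊗[B] Ω[B/Λ] → C ⊗[B] Ω[B/A]`. -/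
theorem exists_tm_eq (w : C ⊗[B] Ω[B⁄Λ])
    (hw : (KaehlerDifferential.map Λ A B B).baseChange C w = 0) :
    ∃ z : C ⊗[A] Ω[A⁄Λ], tm Λ A B C z = w := by
  have hex := lTensor_exact C (KaehlerDifferential.exact_mapBaseChange_map Λ A B)
    (KaehlerDifferential.map_surjective Λ A B)
  obtain ⟨v, hv⟩ := (hex w).mp hw
  refine ⟨TensorProduct.AlgebraTensorModule.cancelBaseChange A B C C Ω[A⁄Λ] v, ?_⟩
  rw [← baseChange_cancelBaseChange_symm, LinearEquiv.symm_apply_apply, ← hv]
  rfl

variable [Algebra Λ C] [IsScalarTower Λ A C] [IsScalarTower Λ B C]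

theorem mapBaseChange_tm (z : C ⊗[A] Ω[A⁄Λ]) :
    KaehlerDifferential.mapBaseChange Λ B C (tm Λ A B C z) =
      KaehlerDifferential.mapBaseChange Λ A C z := by
  induction z using TensorProduct.induction_on with
  | zero => simp
  | add x y hx hy => rw [map_add, map_add, map_add, hx, hy]
  | tmul c ω =>
    rw [tm_tmul, mapBaseChange_tmul, mapBaseChange_tmul, map_map]

end Tower

section BaseRing

variable {Λ : Type u₁} {Λ' : Type u₂} {B : Type u₃} {C : Type u₄}
  [CommRing Λ] [CommRing Λ'] [CommRing B] [CommRing C]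
  [Algebra Λ Λ'] [Algebra Λ B] [Algebra Λ' B] [IsScalarTower Λ Λ' B]
  [Algebra B C] [Algebra Λ C] [Algebra Λ' C] [IsScalarTower Λ B C] [IsScalarTower Λ' B C]

/-- Changing the base ring commutes with `mapBaseChange`. -/
theorem map_mapBaseChange [IsScalarTower Λ Λ' C] (z : C ⊗[B] Ω[B⁄Λ]) :
    KaehlerDifferential.map Λ Λ' C C (KaehlerDifferential.mapBaseChange Λ B C z) =
      KaehlerDifferential.mapBaseChange Λ' B C
        ((KaehlerDifferential.map Λ Λ' B B).baseChange C z) := by
  induction z using TensorProduct.induction_on with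
  | zero => simp
  | add x y hx hy => rw [map_add, map_add, map_add, map_add, hx, hy]
  | tmul c ω =>
    rw [mapBaseChange_tmul, map_smul, LinearMap.baseChange_tmul, mapBaseChange_tmul,
      map_map, map_map]

end BaseRing

section BaseRing3

variable {Λ : Type u₁} {Λ' : Type u₂} {Λ'' : Type u₃} {B : Type u₄} {C : Type u₅}
  [CommRing Λ] [CommRing Λ'] [CommRing Λ''] [CommRing B] [CommRing C]
  [Algebra Λ Λ'] [Algebra Λ' Λ''] [Algebra Λ Λ'']
  [Algebra Λ B] [Algebra Λ' B] [Algebra Λ'' B] [IsScalarTower Λ Λ' B] [IsScalarTower Λ' Λ'' B]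
  [IsScalarTower Λ Λ'' B] [Algebra B C]

theorem baseChange_map_map (z : C ⊗[B] Ω[B⁄Λ]) :
    (KaehlerDifferential.map Λ' Λ'' B B).baseChange C
        ((KaehlerDifferential.map Λ Λ' B B).baseChange C z) =
      (KaehlerDifferential.map Λ Λ'' B B).baseChange C z := by
  induction z using TensorProduct.induction_on with
  | zero => simp
  | add x y hx hy => rw [map_add, map_add, map_add, hx, hy]
  | tmul c ω =>
    rw [LinearMap.baseChange_tmul, LinearMap.baseChange_tmul, LinearMap.baseChange_tmul, map_map]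

end BaseRing3

section Lift

variable {k : Type u₁} {k' : Type u₂} {K : Type u₃} {L : Type u₄}
  [CommRing k] [CommRing k'] [CommRing K] [CommRing L]
  [Algebra k k'] [Algebra k K] [Algebra k' K] [IsScalarTower k k' K]
  [Algebra K L] [Algebra k L] [Algebra k' L] [IsScalarTower k K L] [IsScalarTower k' K L]

/-- The map of imperfection modules `Υ_{L/K/k} → Υ_{L/K/k'}` is surjective. -/
theorem exists_imperfection_lift [IsScalarTower k k' L] (w : L ⊗[K] Ω[K⁄k'])
    (hw : KaehlerDifferential.mapBaseChange k' K L w = 0) :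
    ∃ z : L ⊗[K] Ω[K⁄k], KaehlerDifferential.mapBaseChange k K L z = 0 ∧
      (KaehlerDifferential.map k k' K K).baseChange L z = w := by
  obtain ⟨z₀, hz₀⟩ := LinearMap.baseChange_surjective L
    (KaehlerDifferential.map_surjective k k' K) w
  have h1 : KaehlerDifferential.map k k' L L (KaehlerDifferential.mapBaseChange k K L z₀) = 0 := by
    rw [map_mapBaseChange, hz₀, hw]
  have h2 : KaehlerDifferential.mapBaseChange k K L z₀ ∈
      LinearMap.range (KaehlerDifferential.mapBaseChange k k' L) := by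
    rw [KaehlerDifferential.range_mapBaseChange, LinearMap.mem_ker, h1]
  obtain ⟨β, hβ⟩ := h2
  refine ⟨z₀ - tm k k' K L β, ?_, ?_⟩
  · rw [map_sub, mapBaseChange_tm, hβ, sub_self]
  · rw [map_sub, baseChange_map_tm, sub_zero, hz₀]

end Lift

section Rank

variable {F : Type u₁} [Field F] {V W W' : Type u₂} [AddCommGroup V] [Module F V]
  [AddCommGroup W] [Module F W] [AddCommGroup W'] [Module F W']

/-- Rank additivity for the kernels of a composite restricted to a subspace. -/
theorem rank_inf_ker_comp (g₁ : V →ₗ[F] W) (g₃ : W →ₗ[F] W') (g₂ : V →ₗ[F] W')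
    (hg : ∀ z, g₃ (g₁ z) = g₂ z) (P : Submodule F V) (Q : Submodule F W)
    (hPQ : ∀ z ∈ P, g₁ z ∈ Q)
    (hsurj : ∀ w ∈ Q, g₃ w = 0 → ∃ z ∈ P, g₁ z = w) :
    Module.rank F ↥(P ⊓ LinearMap.ker g₂) =
      Module.rank F ↥(Q ⊓ LinearMap.ker g₃) + Module.rank F ↥(P ⊓ LinearMap.ker g₁) := by
  let f : ↥(P ⊓ LinearMap.ker g₂) →ₗ[F] W := g₁.domRestrict (P ⊓ LinearMap.ker g₂)
  have hf : ∀ x : ↥(P ⊓ LinearMap.ker g₂), f x = g₁ (x : V) := fun x => rfl
  have hrange : LinearMap.range f = Q ⊓ LinearMap.ker g₃ := by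
    ext w
    constructor
    · rintro ⟨⟨z, hz⟩, rfl⟩
      refine ⟨hPQ z hz.1, ?_⟩
      change g₃ (f ⟨z, hz⟩) = 0
      rw [hf, hg]
      exact hz.2
    · rintro ⟨hQ, h3⟩
      obtain ⟨z, hzP, rfl⟩ := hsurj w hQ h3
      refine ⟨⟨z, ⟨hzP, ?_⟩⟩, rfl⟩
      change g₂ z = 0
      rw [← hg]
      exact h3
  have hmem : ∀ x : ↥(LinearMap.ker f), ((x : ↥(P ⊓ LinearMap.ker g₂)) : V) ∈
      P ⊓ LinearMap.ker g₁ := fun x => ⟨x.1.2.1, x.2⟩
  let φ : ↥(LinearMap.ker f) →ₗ[F] ↥(P ⊓ LinearMap.ker g₁) :=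
    LinearMap.codRestrict _ ((P ⊓ LinearMap.ker g₂).subtype ∘ₗ (LinearMap.ker f).subtype) hmem
  have hφ : Function.Bijective φ := by
    constructor
    · intro x y hxy
      have h1 : ((x : ↥(P ⊓ LinearMap.ker g₂)) : V) = ((y : ↥(P ⊓ LinearMap.ker g₂)) : V) :=
        congrArg (fun t : ↥(P ⊓ LinearMap.ker g₁) => (t : V)) hxy
      exact Subtype.ext (Subtype.ext h1)
    · intro y
      have hy2 : (y : V) ∈ P ⊓ LinearMap.ker g₂ := by
        refine ⟨y.2.1, ?_⟩
        have : g₁ (y : V) = 0 := y.2.2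
        change g₂ (y : V) = 0
        rw [← hg, this, map_zero]
      exact ⟨⟨⟨(y : V), hy2⟩, y.2.2⟩, Subtype.ext rfl⟩
  rw [← LinearMap.rank_range_add_rank_ker f, hrange, (LinearEquiv.ofBijective φ hφ).rank_eq]

end Rank

end ImperfTower

end Groth.Agent.Lib.Helper89
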