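import Mathlib
import Groth.Agent.Lib.Helper89.ImperfTower

/-!
# Admissible subfields: linear algebra and Kähler tools (helper89)

Used for EGA 0_IV 21.8 (S4545, S4546, S4549).
-/

set_option autoImplicit false

universe u₁ u₂ u₃ u₄ u₅

namespace Groth.Agent.Lib.Helper89

namespace AdmSub

open TensorProduct KaehlerDifferential

section LinAlg

variable {K : Type u₁} {L : Type u₂} [Field K] [Field L] [Algebra K L]
  {V : Type u₃} [AddCommGroup V] [Module K V]

/-- Components of a base-changed map with respect to a basis of `L` over `K`. -/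
theorem equivFinsupp_baseChange {S : Type*} [DecidableEq S] (bL : Module.Basis S K L)
    {W : Type u₄} [AddCommGroup W] [Module K W] (f : V →ₗ[K] W) (z : L ⊗[K] V) (s : S) :
    TensorProduct.equivFinsuppOfBasisLeft bL (f.baseChange L z) s =
      f (TensorProduct.equivFinsuppOfBasisLeft bL z s) := by
  induction z using TensorProduct.induction_on with
  | zero => simp
  | add x y hx hy => rw [map_add, map_add, map_add, Finsupp.add_apply, Finsupp.add_apply, hx, hy,
      map_add]
  | tmul l v =>
    rw [LinearMap.baseChange_tmul, TensorProduct.equivFinsuppOfBasisLeft_apply_tmul_apply,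
      TensorProduct.equivFinsuppOfBasisLeft_apply_tmul_apply, map_smul]

/-- A base-changed map kills `z` iff the map kills all components of `z`. -/
theorem baseChange_eq_zero_iff {S : Type*} [DecidableEq S] (bL : Module.Basis S K L)
    {W : Type u₄} [AddCommGroup W] [Module K W] (f : V →ₗ[K] W) (z : L ⊗[K] V) :
    f.baseChange L z = 0 ↔ ∀ s, f (TensorProduct.equivFinsuppOfBasisLeft bL z s) = 0 := by
  constructor
  · intro h s
    rw [← equivFinsupp_baseChange, h, map_zero, Finsupp.zero_apply]
  · intro h
    apply (TensorProduct.equivFinsuppOfBasisLeft bL).injective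
    rw [map_zero]
    ext s
    rw [equivFinsupp_baseChange, h s, Finsupp.zero_apply]

/-- Monotonicity of kernels passes to the base change. -/
theorem baseChange_eq_zero_of_ker_le {W W' : Type u₄} [AddCommGroup W] [Module K W]
    [AddCommGroup W'] [Module K W'] (f : V →ₗ[K] W) (g : V →ₗ[K] W')
    (h : ∀ v, f v = 0 → g v = 0) (z : L ⊗[K] V) (hz : f.baseChange L z = 0) :
    g.baseChange L z = 0 := by
  classical
  let bL := Module.Free.chooseBasis K L
  rw [baseChange_eq_zero_iff bL] at hz ⊢
  exact fun s => h _ (hz s)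

/-- A jointly injective family of maps stays jointly injective after base change to `L`. -/
theorem eq_zero_of_forall_baseChange_eq_zero {ι : Type*} {W : ι → Type u₄}
    [∀ i, AddCommGroup (W i)] [∀ i, Module K (W i)] (f : ∀ i, V →ₗ[K] W i)
    (hf : ∀ v, (∀ i, f i v = 0) → v = 0) (z : L ⊗[K] V)
    (hz : ∀ i, (f i).baseChange L z = 0) : z = 0 := by
  classical
  let bL := Module.Free.chooseBasis K L
  apply (TensorProduct.equivFinsuppOfBasisLeft bL).injective
  rw [map_zero]
  ext s
  rw [Finsupp.zero_apply]
  apply hf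
  intro i
  exact (baseChange_eq_zero_iff bL (f i) z).mp (hz i) s

/-- A directed decreasing family of subspaces with zero intersection eventually meets a given
finite-dimensional subspace trivially. -/
theorem exists_inf_eq_bot {M : Type u₃} [AddCommGroup M] [Module L M]
    {ι : Type*} [Preorder ι] [IsDirected ι (· ≤ ·)] [Nonempty ι]
    (Υ : Submodule L M) [Module.Finite L Υ] (N : ι → Submodule L M) (hN : Antitone N)
    (h : ∀ z, (∀ i, z ∈ N i) → z = 0) : ∃ i, ∀ z ∈ Υ, z ∈ N i → z = 0 := by
  obtain ⟨n, ⟨i₀, rfl⟩, hmin⟩ := (wellFounded_lt (α := ℕ)).has_min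
    (Set.range fun i => Module.finrank L ↥(Υ ⊓ N i)) (Set.range_nonempty _)
  refine ⟨i₀, fun z hzΥ hz => h z fun i => ?_⟩
  obtain ⟨j, hij, hi₀j⟩ := exists_ge_ge i i₀
  have hle : Υ ⊓ N j ≤ Υ ⊓ N i₀ := inf_le_inf_left _ (hN hi₀j)
  have hfr : Module.finrank L ↥(Υ ⊓ N i₀) ≤ Module.finrank L ↥(Υ ⊓ N j) :=
    not_lt.mp (hmin _ ⟨j, rfl⟩)
  have heq : Υ ⊓ N j = Υ ⊓ N i₀ := Submodule.eq_of_le_of_finrank_le hle hfr
  have hz' : z ∈ Υ ⊓ N j := by
    rw [heq]
    exact ⟨hzΥ, hz⟩
  exact hN hij hz'.2

/-- The abstract form of the existence of admissible members of a separating family. -/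
theorem exists_admissible_index {ι : Type*} [Preorder ι] [IsDirected ι (· ≤ ·)] [Nonempty ι]
    {W : ι → Type u₄} [∀ i, AddCommGroup (W i)] [∀ i, Module K (W i)] (f : ∀ i, V →ₗ[K] W i)
    (hmono : ∀ i j, i ≤ j → ∀ v, f j v = 0 → f i v = 0)
    (hsep : ∀ v, (∀ i, f i v = 0) → v = 0)
    (Υ : Submodule L (L ⊗[K] V)) [Module.Finite L Υ] :
    ∃ i, ∀ ω ∈ Υ, (f i).baseChange L ω = 0 → ω = 0 := by
  have := exists_inf_eq_bot Υ (fun i => LinearMap.ker ((f i).baseChange L))
    (fun i j hij z hz => baseChange_eq_zero_of_ker_le (f j) (f i) (hmono i j hij) z hz)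
    (fun z hz => eq_zero_of_forall_baseChange_eq_zero f hsep z hz)
  exact this

end LinAlg

section Kaehler

variable {R : Type u₁} {A : Type u₂} {B : Type u₃} [CommRing R] [CommRing A] [CommRing B]
  [Algebra R A] [Algebra R B] [Algebra A B] [IsScalarTower R A B]

/-- The kernel of `Ω[B/R] → Ω[B/A]` is spanned by the differentials of elements of `A`. -/
theorem mem_span_of_map_eq_zero (ω : Ω[B⁄R]) (hω : KaehlerDifferential.map R A B B ω = 0) :
    ω ∈ Submodule.span B (Set.range fun a : A => KaehlerDifferential.D R B (algebraMap A B a)) := by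
  obtain ⟨t, rfl⟩ := (KaehlerDifferential.exact_mapBaseChange_map R A B ω).mp hω
  clear hω
  have key : ∀ η : Ω[A⁄R], KaehlerDifferential.map R R A B η ∈
      Submodule.span B (Set.range fun a : A => KaehlerDifferential.D R B (algebraMap A B a)) := by
    intro η
    have hη : η ∈ Submodule.span A (Set.range (KaehlerDifferential.D R A)) := by
      rw [KaehlerDifferential.span_range_derivation]; trivial
    induction hη using Submodule.span_induction with
    | mem x hx =>
      obtain ⟨a, rfl⟩ := hx
      rw [KaehlerDifferential.map_D]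
      exact Submodule.subset_span ⟨a, rfl⟩
    | zero => rw [map_zero]; exact Submodule.zero_mem _
    | add x y _ _ hx hy => rw [map_add]; exact Submodule.add_mem _ hx hy
    | smul a x _ hx =>
      rw [map_smul, ← IsScalarTower.algebraMap_smul B a]
      exact Submodule.smul_mem _ _ hx
  induction t using TensorProduct.induction_on with
  | zero => rw [map_zero]; exact Submodule.zero_mem _
  | add x y hx hy => rw [map_add]; exact Submodule.add_mem _ hx hy
  | tmul b η =>
    rw [KaehlerDifferential.mapBaseChange_tmul]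
    exact Submodule.smul_mem _ _ (key η)

end Kaehler

section Fields

variable {k₀ : Type u₁} {K : Type u₂} [Field k₀] [Field K] [Algebra k₀ K]

/-- Enlarging the intermediate field enlarges the kernel of `Ω[K/k₀] → Ω[K/k]`. -/
theorem map_eq_zero_mono {k₁ k₂ : IntermediateField k₀ K} (h : k₁ ≤ k₂) (ω : Ω[K⁄k₀])
    (hω : KaehlerDifferential.map k₀ k₁ K K ω = 0) :
    KaehlerDifferential.map k₀ k₂ K K ω = 0 := by
  have h1 := mem_span_of_map_eq_zero ω hω
  clear hω
  induction h1 using Submodule.span_induction with
  | mem x hx =>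
    obtain ⟨a, rfl⟩ := hx
    rw [KaehlerDifferential.map_D]
    have : algebraMap K K (algebraMap (↥k₁) K a) = algebraMap (↥k₂) K ⟨a.1, h a.2⟩ := rfl
    rw [this, Derivation.map_algebraMap]
  | zero => rw [map_zero]
  | add x y _ _ hx hy => rw [map_add, hx, hy, add_zero]
  | smul a x _ hx => rw [map_smul, hx, smul_zero]

end Fields

end AdmSub

end Groth.Agent.Lib.Helper89

namespace Groth.Agent.Lib.Helper89

namespace AdmSub

open TensorProduct KaehlerDifferential

section FiniteImperfection

universe v w

/-- The imperfection module of a finitely presented extension of fields is finite. -/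
theorem finite_imperfection_of_finitePresentation {k₀ : Type v} {K L : Type w}
    [Field k₀] [Field K] [Field L] [Algebra k₀ K] [Algebra K L] [Algebra k₀ L]
    [IsScalarTower k₀ K L] [Algebra.FinitePresentation K L] :
    Module.Finite L (EGA41.imperfection k₀ K L) := by
  have hex := Algebra.H1Cotangent.exact_δ_mapBaseChange k₀ K L
  have h : EGA41.imperfection k₀ K L = LinearMap.range (Algebra.H1Cotangent.δ k₀ K L) :=
    hex.linearMap_ker_eq
  rw [h]
  infer_instance

end FiniteImperfection

end AdmSub

end Groth.Agent.Lib.Helper89
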