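import Mathlib
import Groth.Agent.Lib.Helper89.CMDimFun
import Groth.Prelude.Def_Cyc

/-!
# Dimension functions compute dimensions of local rings and closures (helper89)
-/

set_option autoImplicit false
set_option linter.style.haveILetI false

namespace Groth.Agent.Lib.Helper89.DimFunJacobson

open CategoryTheory AlgebraicGeometry Groth.Agent.Lib.Helper89.CMDimFun

universe u

variable (X : Scheme.{u}) (δ : X → ℤ)

/-- a dimension function is weakly decreasing along specialization -/
theorem delta_le_of_specializes (hdim : Cyc.IsDimFun X δ) {x y : X} (h : x ⤳ y) : δ y ≤ δ x := by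
  by_cases hxy : x = y
  · rw [hxy]
  · exact (hdim x y h hxy).1.le

/-- For a dimension function `δ` on a locally Noetherian scheme, the coheight of a prime `q` of
`O_{X,z}` is `δ(q) - δ(z)`. -/
theorem coheight_eq_of_isDimFun [IsLocallyNoetherian X] (hdim : Cyc.IsDimFun X δ) (z : X)
    (q : PrimeSpectrum ↑(X.presheaf.stalk z)) :
    Order.coheight q = (((δ (X.fromSpecStalk z q) - δ z).toNat : ℕ) : ℕ∞) := by
  classical
  let j := X.fromSpecStalk z
  have hemb : Topology.IsEmbedding j := (X.fromSpecStalk z).isEmbedding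
  have hinj : Function.Injective j := hemb.injective
  have hle : ∀ p q : PrimeSpectrum ↑(X.presheaf.stalk z), p ≤ q ↔ j p ⤳ j q := by
    intro p q
    rw [PrimeSpectrum.le_iff_specializes]
    exact (hemb.isInducing.specializes_iff).symm
  have hrange : ∀ y : X, y ⤳ z ↔ ∃ p : PrimeSpectrum ↑(X.presheaf.stalk z), j p = y := by
    intro y
    have := Set.ext_iff.mp (Scheme.range_fromSpecStalk (X := X) (x := z)) y
    exact this.symm
  have hjz : ∀ p : PrimeSpectrum ↑(X.presheaf.stalk z), j p ⤳ z := fun p => (hrange _).mpr ⟨p, rfl⟩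
  have hclosed : j (IsLocalRing.closedPoint ↑(X.presheaf.stalk z)) = z := Scheme.fromSpecStalk_closedPoint
  have hδz : ∀ p : PrimeSpectrum ↑(X.presheaf.stalk z), δ z ≤ δ (j p) := fun p =>
    delta_le_of_specializes X δ hdim (hjz p)
  apply le_antisymm
  · -- upper bound
    rw [Order.coheight_le_iff]
    intro p hp
    have hmono : ∀ i : Fin (p.length + 1), δ (j (p i)) + (i : ℕ) ≤ δ (j (p 0)) := by
      intro i
      induction i using Fin.induction with
      | zero => simp
      | succ i ih =>
        have hlt : p (Fin.castSucc i) < p (Fin.succ i) := p.step i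
        have hspec : j (p (Fin.castSucc i)) ⤳ j (p (Fin.succ i)) := (hle _ _).mp hlt.le
        have hne : j (p (Fin.castSucc i)) ≠ j (p (Fin.succ i)) := fun h => hlt.ne (hinj h)
        have h1 := (hdim _ _ hspec hne).1
        have h2 : ((Fin.succ i : Fin (p.length + 1)) : ℕ) = (i : ℕ) + 1 := by simp
        have h3 : ((Fin.castSucc i : Fin (p.length + 1)) : ℕ) = (i : ℕ) := by simp
        rw [h2]
        rw [h3] at ih
        push_cast
        omega
    have h1 := hmono (Fin.last p.length)
    have h2 : δ (j (p 0)) ≤ δ (j q) :=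
      delta_le_of_specializes X δ hdim ((hle _ _).mp hp)
    have h3 := hδz (p (Fin.last p.length))
    have h4 : ((Fin.last p.length : Fin (p.length + 1)) : ℕ) = p.length := by simp
    rw [h4] at h1
    have h5 : p.length ≤ (δ (j q) - δ z).toNat := by omega
    exact_mod_cast h5
  · -- lower bound
    have key : ∀ c : ℕ, ∀ q : PrimeSpectrum ↑(X.presheaf.stalk z), (δ (j q) - δ z).toNat = c →
        (c : ℕ∞) ≤ Order.coheight q := by
      intro c
      induction c with
      | zero => intro q _; simp
      | succ c ih =>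
        intro q hq
        have hne : q ≠ IsLocalRing.closedPoint ↑(X.presheaf.stalk z) := by
          rintro rfl
          rw [hclosed] at hq
          simp at hq
        have hlt : q < IsLocalRing.closedPoint ↑(X.presheaf.stalk z) :=
          lt_of_le_of_ne (IsLocalRing.le_maximalIdeal q.isPrime.ne_top) hne
        obtain ⟨q', hcov⟩ := exists_covBy_of_lt ↑(X.presheaf.stalk z) q _ hlt
        have hspec : j q ⤳ j q' := (hle _ _).mp hcov.le
        have hne' : j q ≠ j q' := fun h => hcov.lt.ne (hinj h)
        obtain ⟨-, himm⟩ := hdim (j q) (j q') hspec hne'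
        have h3 := himm (by
          intro y hy1 hy2
          have hyz : y ⤳ z := hy2.trans (hjz q')
          obtain ⟨r, rfl⟩ := (hrange y).mp hyz
          have h1 : q ≤ r := (hle _ _).mpr hy1
          have h2 : r ≤ q' := (hle _ _).mpr hy2
          rcases hcov.eq_or_eq h1 h2 with h | h
          · left; rw [h]
          · right; rw [h])
        have h4 := hδz q'
        have hq' : (δ (j q') - δ z).toNat = c := by omega
        have h5 := ih q' hq'
        have h6 := Order.coheight_add_one_le hcov.lt
        calc ((c + 1 : ℕ) : ℕ∞) = (c : ℕ∞) + 1 := by push_cast; rfl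
          _ ≤ Order.coheight q' + 1 := by gcongr
          _ ≤ Order.coheight q := h6
    exact key _ q rfl

/-- The prime of `O_{X,z}` given by the kernel of `O_{X,z} → κ(ξ)` corresponds to `ξ`. -/
theorem fromSpecStalk_ker_specMap {z ξ : X} (h : ξ ⤳ z) :
    X.fromSpecStalk z (⟨RingHom.ker (Cyc.specMap z ξ h), RingHom.ker_isPrime _⟩ :
      PrimeSpectrum ↑(X.presheaf.stalk z)) = ξ := by
  have h1 := Scheme.fromSpecStalk_closedPoint (X := X) (x := ξ)
  rw [← Scheme.SpecMap_stalkSpecializes_fromSpecStalk h] at h1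
  have h2 : X.fromSpecStalk z ((Spec.map (X.presheaf.stalkSpecializes h))
      (IsLocalRing.closedPoint ↑(X.presheaf.stalk ξ))) = ξ := h1
  have h3 : (Spec.map (X.presheaf.stalkSpecializes h))
      (IsLocalRing.closedPoint ↑(X.presheaf.stalk ξ)) =
      (⟨RingHom.ker (Cyc.specMap z ξ h), RingHom.ker_isPrime _⟩ :
        PrimeSpectrum ↑(X.presheaf.stalk z)) := by
    apply PrimeSpectrum.ext
    show Ideal.comap (X.presheaf.stalkSpecializes h).hom (IsLocalRing.maximalIdeal _) =
      RingHom.ker (Cyc.specMap z ξ h)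
    unfold Cyc.specMap
    rw [CommRingCat.hom_comp, ← RingHom.comap_ker]
    congr 1
    exact IsLocalRing.ker_residue.symm
  rw [h3] at h2
  exact h2

/-- `dim O_{X,z}/𝔭_ξ = δ ξ - δ z`. -/
theorem ringKrullDim_locQuot [IsLocallyNoetherian X] (hdim : Cyc.IsDimFun X δ) {z ξ : X}
    (h : ξ ⤳ z) :
    ringKrullDim (Cyc.LocQuot z ξ h) = (((δ ξ - δ z).toNat : ℕ) : WithBot ℕ∞) := by
  have h1 := Groth.Agent.H46.ringKrullDim_quotient_eq_coheight
    (⟨RingHom.ker (Cyc.specMap z ξ h), RingHom.ker_isPrime _⟩ :
      PrimeSpectrum ↑(X.presheaf.stalk z))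
  have h2 := coheight_eq_of_isDimFun X δ hdim z
    (⟨RingHom.ker (Cyc.specMap z ξ h), RingHom.ker_isPrime _⟩ :
      PrimeSpectrum ↑(X.presheaf.stalk z))
  rw [fromSpecStalk_ker_specMap X h] at h2
  rw [h2] at h1
  exact h1

section Jacobson

variable [JacobsonSpace X]

/-- In a Jacobson space every point specializes to a closed point. -/
theorem exists_closed_specializes (y : X) : ∃ c : X, IsClosed ({c} : Set X) ∧ y ⤳ c := by
  obtain ⟨c, hc1, hc2⟩ := nonempty_inter_closedPoints (X := X) (Z := closure {y})
    ⟨y, subset_closure rfl⟩ isClosed_closure.isLocallyClosed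
  exact ⟨c, hc2, specializes_iff_mem_closure.mpr hc1⟩

theorem delta_nonneg (hdim : Cyc.IsDimFun X δ) (h0 : ∀ x : X, IsClosed ({x} : Set X) → δ x = 0)
    (y : X) : 0 ≤ δ y := by
  obtain ⟨c, hc, hyc⟩ := exists_closed_specializes X y
  have := delta_le_of_specializes X δ hdim hyc
  rw [h0 c hc] at this
  exact this

theorem topologicalKrullDim_closure_le (hdim : Cyc.IsDimFun X δ)
    (h0 : ∀ x : X, IsClosed ({x} : Set X) → δ x = 0) (ξ : X) :
    topologicalKrullDim ↥(closure ({ξ} : Set X)) ≤ (((δ ξ).toNat : ℕ) : WithBot ℕ∞) := by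
  classical
  haveI : QuasiSober ↥(closure ({ξ} : Set X)) :=
    (isClosed_closure (s := ({ξ} : Set X))).isClosedEmbedding_subtypeVal.quasiSober
  unfold topologicalKrullDim
  haveI : Nonempty (TopologicalSpace.IrreducibleCloseds ↥(closure ({ξ} : Set X))) :=
    ⟨⟨closure {⟨ξ, subset_closure rfl⟩}, isIrreducible_singleton.closure, isClosed_closure⟩⟩
  rw [Order.krullDim_eq_iSup_length]
  have key : ∀ s : LTSeries (TopologicalSpace.IrreducibleCloseds ↥(closure ({ξ} : Set X))),
      s.length ≤ (δ ξ).toNat := by
    intro s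
    -- generic points
    let g : Fin (s.length + 1) → ↥(closure ({ξ} : Set X)) :=
      fun i => (s i).isIrreducible'.genericPoint
    have hg : ∀ i, closure ({g i} : Set ↥(closure ({ξ} : Set X))) =
        (s i : Set ↥(closure ({ξ} : Set X))) := by
      intro i
      have := (s i).isIrreducible'.isGenericPoint_genericPoint_closure
      rw [(s i).isClosed'.closure_eq] at this
      exact this
    have hstep : ∀ i : Fin s.length, δ (g (Fin.castSucc i) : X) + 1 ≤ δ (g (Fin.succ i) : X) := by
      intro i
      have hlt : s (Fin.castSucc i) < s (Fin.succ i) := s.step i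
      have hsub : (s (Fin.castSucc i) : Set ↥(closure ({ξ} : Set X))) ⊆
          (s (Fin.succ i) : Set ↥(closure ({ξ} : Set X))) := SetLike.coe_subset_coe.mpr hlt.le
      have hmem : g (Fin.castSucc i) ∈ (s (Fin.succ i) : Set ↥(closure ({ξ} : Set X))) := by
        apply hsub
        rw [← hg (Fin.castSucc i)]
        exact subset_closure rfl
      rw [← hg (Fin.succ i)] at hmem
      have hspec : g (Fin.succ i) ⤳ g (Fin.castSucc i) := specializes_iff_mem_closure.mpr hmem
      have hspecX : (g (Fin.succ i) : X) ⤳ (g (Fin.castSucc i) : X) :=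
        (subtype_specializes_iff _ _).mp hspec
      have hne : (g (Fin.succ i) : X) ≠ (g (Fin.castSucc i) : X) := by
        intro heq
        have heq' : g (Fin.succ i) = g (Fin.castSucc i) := Subtype.ext heq
        have : (s (Fin.succ i) : Set ↥(closure ({ξ} : Set X))) =
            (s (Fin.castSucc i) : Set ↥(closure ({ξ} : Set X))) := by
          rw [← hg, ← hg, heq']
        exact hlt.ne (SetLike.coe_injective this.symm)
      have := (hdim _ _ hspecX hne).1
      omega
    have hmono : ∀ i : Fin (s.length + 1), δ (g 0 : X) + (i : ℕ) ≤ δ (g i : X) := by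
      intro i
      induction i using Fin.induction with
      | zero => simp
      | succ i ih =>
        have h1 := hstep i
        have h2 : ((Fin.succ i : Fin (s.length + 1)) : ℕ) = (i : ℕ) + 1 := by simp
        have h3 : ((Fin.castSucc i : Fin (s.length + 1)) : ℕ) = (i : ℕ) := by simp
        rw [h2]
        rw [h3] at ih
        push_cast
        omega
    have h1 := hmono (Fin.last s.length)
    have h2 : 0 ≤ δ (g 0 : X) := delta_nonneg X δ hdim h0 _
    have h3 : δ (g (Fin.last s.length) : X) ≤ δ ξ :=
      delta_le_of_specializes X δ hdim (specializes_iff_mem_closure.mpr (g (Fin.last s.length)).2)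
    have h4 : ((Fin.last s.length : Fin (s.length + 1)) : ℕ) = s.length := by simp
    rw [h4] at h1
    omega
  have : (⨆ l : LTSeries (TopologicalSpace.IrreducibleCloseds ↥(closure ({ξ} : Set X))),
      (l.length : ℕ∞)) ≤ ((δ ξ).toNat : ℕ∞) :=
    iSup_le fun s => by exact_mod_cast key s
  exact_mod_cast this

theorem le_topologicalKrullDim_closure [IsLocallyNoetherian X] (hdim : Cyc.IsDimFun X δ)
    (h0 : ∀ x : X, IsClosed ({x} : Set X) → δ x = 0) (ξ : X) :
    (((δ ξ).toNat : ℕ) : WithBot ℕ∞) ≤ topologicalKrullDim ↥(closure ({ξ} : Set X)) := by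
  classical
  obtain ⟨c, hc, hξc⟩ := exists_closed_specializes X ξ
  set 𝔭 : PrimeSpectrum ↑(X.presheaf.stalk c) :=
    ⟨RingHom.ker (Cyc.specMap c ξ hξc), RingHom.ker_isPrime _⟩ with h𝔭
  have hj𝔭 : X.fromSpecStalk c 𝔭 = ξ := fromSpecStalk_ker_specMap X hξc
  have hco := coheight_eq_of_isDimFun X δ hdim c 𝔭
  rw [hj𝔭, h0 c hc, sub_zero] at hco
  have hemb : Topology.IsEmbedding (X.fromSpecStalk c) := (X.fromSpecStalk c).isEmbedding
  have hinj : Function.Injective (X.fromSpecStalk c) := hemb.injective
  have hle : ∀ p q : PrimeSpectrum ↑(X.presheaf.stalk c),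
      p ≤ q ↔ X.fromSpecStalk c p ⤳ X.fromSpecStalk c q := by
    intro p q
    rw [PrimeSpectrum.le_iff_specializes]
    exact (hemb.isInducing.specializes_iff).symm
  have hmem : ∀ q : Set.Ici 𝔭, X.fromSpecStalk c q.1 ∈ closure ({ξ} : Set X) := by
    intro q
    rw [← specializes_iff_mem_closure, ← hj𝔭]
    exact (hle _ _).mp q.2
  let P : Set.Ici 𝔭 → ↥(closure ({ξ} : Set X)) := fun q => ⟨X.fromSpecStalk c q.1, hmem q⟩
  have hP : ∀ q q' : Set.Ici 𝔭, P q ⤳ P q' ↔ q ≤ q' := by
    intro q q'
    rw [subtype_specializes_iff]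
    exact (hle q.1 q'.1).symm
  let f : Set.Ici 𝔭 → (TopologicalSpace.IrreducibleCloseds ↥(closure ({ξ} : Set X)))ᵒᵈ :=
    fun q => OrderDual.toDual
      ⟨closure {P q}, isIrreducible_singleton.closure, isClosed_closure⟩
  have hf : StrictMono f := by
    intro q q' hqq'
    have hspec' : P q ⤳ P q' := (hP q q').mpr hqq'.le
    have hsub : closure {P q'} ⊆ closure {P q} := specializes_iff_closure_subset.mp hspec'
    show OrderDual.ofDual (f q') < OrderDual.ofDual (f q)
    refine lt_of_le_of_ne (SetLike.coe_subset_coe.mp hsub) ?_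
    intro heq
    have heq' : closure {P q'} = closure {P q} :=
      congrArg (fun T : TopologicalSpace.IrreducibleCloseds ↥(closure ({ξ} : Set X)) =>
        (T : Set ↥(closure ({ξ} : Set X)))) heq
    have hspec2 : P q' ⤳ P q := by
      rw [specializes_iff_closure_subset, heq']
    exact absurd ((hP q' q).mp hspec2) (not_le_of_gt hqq')
  have h1 := Order.krullDim_le_of_strictMono f hf
  rw [Order.krullDim_orderDual, ← Order.coheight_eq_krullDim_Ici, hco] at h1
  exact h1

/-- **Dimension of the closure of a point via a dimension function** (Jacobson case). -/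
theorem topologicalKrullDim_closure_eq [IsLocallyNoetherian X] (hdim : Cyc.IsDimFun X δ)
    (h0 : ∀ x : X, IsClosed ({x} : Set X) → δ x = 0) (ξ : X) :
    topologicalKrullDim ↥(closure ({ξ} : Set X)) = (((δ ξ).toNat : ℕ) : WithBot ℕ∞) :=
  le_antisymm (topologicalKrullDim_closure_le X δ hdim h0 ξ)
    (le_topologicalKrullDim_closure X δ hdim h0 ξ)

end Jacobson

end Groth.Agent.Lib.Helper89.DimFunJacobson
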