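import Mathlib.RingTheory.Discriminant
import Mathlib.RingTheory.PowerSeries.Basic
import Mathlib.RingTheory.Length
import Mathlib.RingTheory.OrderOfVanishing.Basic
import Mathlib.LinearAlgebra.FreeModule.Finite.Quotient
import Mathlib.LinearAlgebra.Matrix.ToLinearEquiv
import Mathlib.RingTheory.PowerSeries.Inverse
import Mathlib.Tactic

/-!
# Discriminants of subalgebras of full rank over a PID (helper89)
-/

set_option autoImplicit false
universe u v
open Matrix

namespace Groth.Agent.Lib.Helper89

section General

variable {R : Type*} [CommRing R] {B : Type*} [CommRing B] [Algebra R B]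
  {ι : Type*} [Fintype ι] [DecidableEq ι]

/-- change of basis for the discriminant -/
theorem discr_basis_change (b b' : Module.Basis ι R B) :
    Algebra.discr R b' = (b.det b') ^ 2 * Algebra.discr R b := by
  have h : (b' : ι → B) = Matrix.vecMul (b : ι → B) ((b.toMatrix b').map (algebraMap R B)) := by
    funext j
    rw [← b.sum_toMatrix_smul_self b' j]
    simp only [Matrix.vecMul, dotProduct, Matrix.map_apply, Algebra.smul_def, mul_comm]
  rw [h, Algebra.discr_of_matrix_vecMul, Module.Basis.det_apply]
  rw [← h]

variable [IsDomain R]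

theorem toMatrix_det_ne_zero_of_injective {M N : Type*} [AddCommGroup M] [Module R M]
    [AddCommGroup N] [Module R N] (bM : Module.Basis ι R M) (bN : Module.Basis ι R N)
    (f : M →ₗ[R] N) (hf : Function.Injective f) : (LinearMap.toMatrix bM bN f).det ≠ 0 := by
  intro h0
  obtain ⟨v, hv, hPv⟩ := Matrix.exists_mulVec_eq_zero_iff.mpr h0
  apply hv
  have h1 : (bM.repr (bM.equivFun.symm v) : ι → R) = v := bM.equivFun.apply_symm_apply v
  rw [← h1, LinearMap.toMatrix_mulVec_repr] at hPv
  have h2 : f (bM.equivFun.symm v) = 0 := by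
    apply bN.repr.injective
    rw [map_zero]
    ext i
    exact congrFun hPv i
  have h3 : bM.equivFun.symm v = 0 := hf (by rw [h2, map_zero])
  rw [← h1, h3, map_zero]
  rfl

theorem trace_eq_of_toMatrix_comm (P F G : Matrix ι ι R) (hP : P.det ≠ 0) (h : P * F = G * P) :
    F.trace = G.trace := by
  have h1 : P.det * F.trace = P.det * G.trace := by
    have e1 : (P.adjugate * (P * F)).trace = P.det * F.trace := by
      rw [← Matrix.mul_assoc, Matrix.adjugate_mul, Matrix.smul_mul, Matrix.one_mul,
        Matrix.trace_smul, smul_eq_mul]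
    have e2 : (P.adjugate * (G * P)).trace = P.det * G.trace := by
      rw [Matrix.trace_mul_comm, Matrix.mul_assoc, Matrix.mul_adjugate, Matrix.mul_smul,
        Matrix.mul_one, Matrix.trace_smul, smul_eq_mul]
    rw [← e1, ← e2, h]
  exact mul_left_cancel₀ hP h1

variable (S : Subalgebra R B)

theorem trace_subalgebra_eq (bS : Module.Basis ι R S) (bt : Module.Basis ι R B) (x : S) :
    Algebra.trace R S x = Algebra.trace R B (x : B) := by
  rw [Algebra.trace_eq_matrix_trace bS, Algebra.trace_eq_matrix_trace bt,
    Algebra.leftMulMatrix_apply, Algebra.leftMulMatrix_apply]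
  apply trace_eq_of_toMatrix_comm (LinearMap.toMatrix bS bt S.val.toLinearMap)
  · exact toMatrix_det_ne_zero_of_injective bS bt S.val.toLinearMap Subtype.val_injective
  · rw [← LinearMap.toMatrix_comp, ← LinearMap.toMatrix_comp]
    congr 1

theorem discr_subalgebra (bS : Module.Basis ι R S) (bt : Module.Basis ι R B) :
    Algebra.discr R bS =
      (LinearMap.toMatrix bS bt S.val.toLinearMap).det ^ 2 * Algebra.discr R bt := by
  have h1 : Algebra.discr R bS = Algebra.discr R (fun i => ((bS i : S) : B)) := by
    rw [Algebra.discr_def, Algebra.discr_def]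
    congr 1
    ext i j
    rw [Algebra.traceMatrix_apply, Algebra.traceMatrix_apply, Algebra.traceForm_apply,
      Algebra.traceForm_apply, trace_subalgebra_eq S bS bt]
    rfl
  have h2 : (fun i => ((bS i : S) : B)) = Matrix.vecMul (bt : ι → B)
      ((LinearMap.toMatrix bS bt S.val.toLinearMap).map (algebraMap R B)) := by
    funext j
    have : ((bS j : S) : B) = ∑ i, (bt.repr ((bS j : S) : B)) i • bt i := (bt.sum_repr _).symm
    rw [this]
    simp only [Matrix.vecMul, dotProduct, Matrix.map_apply, Algebra.smul_def, mul_comm,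
      LinearMap.toMatrix_apply]
    rfl
  rw [h1, h2, Algebra.discr_of_matrix_vecMul]

end General

section PID

variable {R : Type*} [CommRing R] [IsDomain R] [IsPrincipalIdealRing R]
  {B : Type*} [CommRing B] [Algebra R B]
  {ι : Type*} [Fintype ι] [DecidableEq ι] (S : Subalgebra R B)

theorem finrank_toSubmodule_eq (bS : Module.Basis ι R S) (bt : Module.Basis ι R B) :
    Module.finrank R ↥(Subalgebra.toSubmodule S) = Module.finrank R B := by
  rw [Module.finrank_eq_card_basis bt,
    Module.finrank_eq_card_basis (bS.map (Subalgebra.toSubmoduleEquiv S).symm)]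

/-- The key discriminant relation through the Smith normal form. -/
theorem discr_smith_relation (bS : Module.Basis ι R S) (bt : Module.Basis ι R B)
    (h : Module.finrank R ↥(Subalgebra.toSubmodule S) = Module.finrank R B) :
    ∃ u w : R, IsUnit u ∧ IsUnit w ∧
      u ^ 2 * Algebra.discr R bS =
        (∏ i, Submodule.smithNormalFormCoeffs bt h i) ^ 2 * (w ^ 2 * Algebra.discr R bt) := by
  set bM := Submodule.smithNormalFormTopBasis bt h with hbM
  set bN := Submodule.smithNormalFormBotBasis bt h with hbN
  set a := Submodule.smithNormalFormCoeffs bt h with ha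
  let bN' : Module.Basis ι R S := bN.map (Subalgebra.toSubmoduleEquiv S)
  have hdiag : LinearMap.toMatrix bN' bM S.val.toLinearMap = Matrix.diagonal a := by
    ext i j
    rw [LinearMap.toMatrix_apply]
    have h1 : S.val.toLinearMap (bN' j) = a j • bM j := by
      have := Submodule.smithNormalFormBotBasis_def bt h j
      rw [← hbM, ← hbN, ← ha] at this
      rw [← this]
      rfl
    rw [h1, map_smul, Module.Basis.repr_self, Finsupp.smul_apply, Matrix.diagonal_apply]
    by_cases hij : j = i
    · subst hij; simp
    · rw [Finsupp.single_eq_of_ne (Ne.symm hij), smul_zero, if_neg (Ne.symm hij)]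
  have e1 := discr_subalgebra S bN' bM
  rw [hdiag, Matrix.det_diagonal] at e1
  have e2 := discr_basis_change bS bN'
  have e3 := discr_basis_change bt bM
  refine ⟨bS.det bN', bt.det bM, Module.Basis.isUnit_det bS bN', Module.Basis.isUnit_det bt bM, ?_⟩
  rw [← e2, e1, e3]

end PID

section Ord

variable {R : Type*} [CommRing R] [IsDomain R]

theorem ord_prod {ι : Type*} (s : Finset ι) (a : ι → R) (ha : ∀ i ∈ s, a i ≠ 0) :
    Ring.ord R (∏ i ∈ s, a i) = ∑ i ∈ s, Ring.ord R (a i) := by
  classical
  induction s using Finset.induction_on with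
  | empty => simp
  | insert i s his ih =>
    rw [Finset.prod_insert his, Finset.sum_insert his, Ring.ord_mul', ih]
    · intro j hj; exact ha j (Finset.mem_insert_of_mem hj)
    · exact mem_nonZeroDivisors_of_ne_zero (ha i (Finset.mem_insert_self i s))

variable [IsPrincipalIdealRing R]
  {B : Type*} [CommRing B] [Algebra R B]
  {ι : Type*} [Fintype ι] [DecidableEq ι] (S : Subalgebra R B)

theorem length_quotient_eq_ord_prod (bt : Module.Basis ι R B)
    (h : Module.finrank R ↥(Subalgebra.toSubmodule S) = Module.finrank R B) :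
    Module.length R (B ⧸ Subalgebra.toSubmodule S) =
      Ring.ord R (∏ i, Submodule.smithNormalFormCoeffs bt h i) := by
  rw [ord_prod _ _ (fun i _ => Submodule.smithNormalFormCoeffs_ne_zero bt h i),
    (Submodule.quotientEquivPiSpan (Subalgebra.toSubmodule S) bt h).length_eq,
    Module.length_pi_of_fintype]
  rfl

theorem prod_smul_quotient_eq_zero (bt : Module.Basis ι R B)
    (h : Module.finrank R ↥(Subalgebra.toSubmodule S) = Module.finrank R B)
    (q : B ⧸ Subalgebra.toSubmodule S) :
    (∏ i, Submodule.smithNormalFormCoeffs bt h i) • q = 0 := by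
  apply (Submodule.quotientEquivPiSpan (Subalgebra.toSubmodule S) bt h).injective
  rw [map_smul, map_zero]
  ext i
  rw [Pi.smul_apply, Pi.zero_apply]
  obtain ⟨r, hr⟩ := Ideal.Quotient.mk_surjective
    ((Submodule.quotientEquivPiSpan (Subalgebra.toSubmodule S) bt h) q i)
  rw [← hr]
  change Ideal.Quotient.mk _ (_ * r) = 0
  rw [Ideal.Quotient.eq_zero_iff_mem, Ideal.mem_span_singleton]
  exact Dvd.dvd.mul_right (Finset.dvd_prod_of_mem _ (Finset.mem_univ i)) r

end Ord

section PowerSeriesMain

open PowerSeries in
theorem crimp_main {k : Type u} [Field k]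
    {St : Type v} [CommRing St] [Algebra (PowerSeries k) St] (d a b : ℕ)
    (bt : Module.Basis (Fin d) (PowerSeries k) St)
    (ha : Ideal.span {Algebra.discr (PowerSeries k) ⇑bt} = Ideal.span {(PowerSeries.X : PowerSeries k) ^ a})
    (S : Subalgebra (PowerSeries k) St) (bS : Module.Basis (Fin d) (PowerSeries k) S)
    (hb : Ideal.span {Algebra.discr (PowerSeries k) ⇑bS} = Ideal.span {(PowerSeries.X : PowerSeries k) ^ b}) :
    (∀ q : St ⧸ Subalgebra.toSubmodule S, ((PowerSeries.X : PowerSeries k) ^ b) • q = 0) ∧
    2 * Module.length (PowerSeries k) (St ⧸ Subalgebra.toSubmodule S) + (a : ℕ∞) = (b : ℕ∞) := by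
  classical
  have h := finrank_toSubmodule_eq S bS bt
  obtain ⟨u, w, hu, hw, hrel⟩ := discr_smith_relation S bS bt h
  set P := ∏ i, Submodule.smithNormalFormCoeffs bt h i with hP
  have hP0 : P ≠ 0 := Finset.prod_ne_zero_iff.mpr
    (fun i _ => Submodule.smithNormalFormCoeffs_ne_zero bt h i)
  have hXnz : (PowerSeries.X : PowerSeries k) ∈ nonZeroDivisors (PowerSeries k) :=
    mem_nonZeroDivisors_of_ne_zero PowerSeries.X_ne_zero
  have hordX : ∀ n : ℕ, Ring.ord (PowerSeries k) ((PowerSeries.X : PowerSeries k) ^ n) = n := by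
    intro n
    rw [Ring.ord_pow hXnz, Ring.ord_of_irreducible PowerSeries.X_prime.irreducible]
    simp
  have hordS : Ring.ord (PowerSeries k) (Algebra.discr (PowerSeries k) ⇑bS) = b := by
    rw [← hordX b]
    exact Ring.ord_eq_of_associated (Ideal.span_singleton_eq_span_singleton.mp hb)
  have hordT : Ring.ord (PowerSeries k) (Algebra.discr (PowerSeries k) ⇑bt) = a := by
    rw [← hordX a]
    exact Ring.ord_eq_of_associated (Ideal.span_singleton_eq_span_singleton.mp ha)
  constructor
  · intro q
    have h1 : Algebra.discr (PowerSeries k) ⇑bS ∣ (PowerSeries.X : PowerSeries k) ^ b := by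
      rw [← Ideal.mem_span_singleton, hb]
      exact Ideal.mem_span_singleton_self _
    have h2 : P ∣ u ^ 2 * Algebra.discr (PowerSeries k) ⇑bS := by
      rw [hrel, pow_two, mul_assoc]
      exact dvd_mul_right _ _
    have h3 : P ∣ Algebra.discr (PowerSeries k) ⇑bS := ((hu.pow 2).dvd_mul_left).mp h2
    obtain ⟨c, hc⟩ := h3.trans h1
    rw [hc, mul_comm, mul_smul, prod_smul_quotient_eq_zero S bt h q, smul_zero]
  · rw [length_quotient_eq_ord_prod S bt h]
    have e := congrArg (Ring.ord (PowerSeries k)) hrel
    rw [Ring.ord_mul_of_isUnit_left (hu.pow 2), hordS,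
      Ring.ord_mul' (PowerSeries k) (mem_nonZeroDivisors_of_ne_zero (pow_ne_zero 2 hP0)),
      Ring.ord_mul_of_isUnit_left (hw.pow 2), hordT,
      Ring.ord_pow (mem_nonZeroDivisors_of_ne_zero hP0)] at e
    rw [e, two_nsmul, two_mul]

end PowerSeriesMain

end Groth.Agent.Lib.Helper89
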