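import Groth.Agent.Lib.Helper89.ImperfTower
import Groth.Agent.S2451
import Groth.Agent.Lib.Helper81.FieldSmooth

/-!
# Admissible subfields: the separable cases and the case `k ⊆ k₀(K^p)` (helper89)
-/

set_option autoImplicit false
universe v w

namespace Groth.Agent.Lib.Helper89

namespace Admissible

open TensorProduct KaehlerDifferential ImperfTower

section Sep

variable {k₀ K L : Type w} [Field k₀] [Field K] [Field L] [Algebra k₀ K] [Algebra k₀ L]
  [Algebra K L] [IsScalarTower k₀ K L]

/-- If `L/K` is formally smooth then the imperfection module `Υ_{L/K/k₀}` vanishes. -/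
theorem eq_zero_of_formallySmooth [Algebra.FormallySmooth K L] (z : L ⊗[K] Ω[K⁄k₀])
    (hz : z ∈ EGA41.imperfection k₀ K L) : z = 0 := by
  have hinj : Function.Injective (KaehlerDifferential.mapBaseChange k₀ K L) :=
    Groth.Agent.Lib.Helper81.FieldSmooth.mapBaseChange_injective_of_subsingleton
  apply hinj
  rw [map_zero]
  exact hz

end Sep

section PPow

variable {k : Type v} {k₀ K : Type w} [Field k₀] [Field k] [Field K] [Algebra k₀ k] [Algebra k₀ K]
  [Algebra k K] [IsScalarTower k₀ k K]

omit [Field k] [Algebra k₀ k] [Algebra k K] [IsScalarTower k₀ k K] in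
theorem D_eq_zero_of_mem_pPowerSubalgebra (p : ℕ) [CharP K p] (y : K)
    (hy : y ∈ EGA41.pPowerSubalgebra p k₀ K) : D k₀ K y = 0 := by
  unfold EGA41.pPowerSubalgebra at hy
  induction hy using Algebra.adjoin_induction with
  | mem x hx =>
    obtain ⟨b, rfl⟩ := hx
    rw [Derivation.leibniz_pow, ← Nat.cast_smul_eq_nsmul K, CharP.cast_eq_zero K p, zero_smul]
  | algebraMap c => exact Derivation.map_algebraMap _ c
  | add x y _ _ hx hy => rw [map_add, hx, hy, add_zero]
  | mul x y _ _ hx hy => rw [Derivation.leibniz, hx, hy, smul_zero, smul_zero, add_zero]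

theorem map_eq_zero_of_pPow (p : ℕ) [CharP K p]
    (h : ∀ x : k, algebraMap k K x ∈ EGA41.pPowerSubalgebra p k₀ K) (ω : Ω[k⁄k₀]) :
    KaehlerDifferential.map k₀ k₀ k K ω = 0 := by
  have hω : ω ∈ Submodule.span k (Set.range (KaehlerDifferential.D k₀ k)) := by
    rw [KaehlerDifferential.span_range_derivation]; trivial
  induction hω using Submodule.span_induction with
  | mem x hx =>
    obtain ⟨a, rfl⟩ := hx
    rw [map_D]
    exact D_eq_zero_of_mem_pPowerSubalgebra p _ (h a)
  | zero => simp
  | add x y _ _ hx hy => rw [map_add, hx, hy, add_zero]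
  | smul a x _ hx => rw [map_smul, hx, smul_zero]

theorem map_injective_of_pPow (p : ℕ) [CharP K p]
    (h : ∀ x : k, algebraMap k K x ∈ EGA41.pPowerSubalgebra p k₀ K) :
    Function.Injective (KaehlerDifferential.map k₀ k K K) := by
  rw [injective_iff_map_eq_zero]
  intro ω hω
  obtain ⟨w, rfl⟩ := (KaehlerDifferential.exact_mapBaseChange_map k₀ k K ω).mp hω
  induction w using TensorProduct.induction_on with
  | zero => simp
  | add x y hx hy =>
    rw [map_add] at hω ⊢
    -- both summands vanish individually
    have hx0 : KaehlerDifferential.mapBaseChange k₀ k K x = 0 := by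
      clear hx hy hω
      induction x using TensorProduct.induction_on with
      | zero => simp
      | add a b ha hb => rw [map_add, ha, hb, add_zero]
      | tmul c ω' => rw [mapBaseChange_tmul, map_eq_zero_of_pPow p h, smul_zero]
    have hy0 : KaehlerDifferential.mapBaseChange k₀ k K y = 0 := by
      clear hx hy hω
      induction y using TensorProduct.induction_on with
      | zero => simp
      | add a b ha hb => rw [map_add, ha, hb, add_zero]
      | tmul c ω' => rw [mapBaseChange_tmul, map_eq_zero_of_pPow p h, smul_zero]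
    rw [hx0, hy0, add_zero]
  | tmul c ω' => rw [mapBaseChange_tmul, map_eq_zero_of_pPow p h, smul_zero]

end PPow

section Transfer

/-- The image of `k` in `K`, as an intermediate field of `K/k₀` (it lives in the universe of `K`). -/
noncomputable abbrev img (k₀ : Type w) (k : Type v) (K : Type w) [Field k₀] [Field k] [Field K]
    [Algebra k₀ k] [Algebra k₀ K] [Algebra k K] [IsScalarTower k₀ k K] : IntermediateField k₀ K :=
  (IsScalarTower.toAlgHom k₀ k K).fieldRange

variable {k : Type v} {k₀ K L : Type w} [Field k₀] [Field k] [Field K] [Field L]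
  [Algebra k₀ k] [Algebra k₀ K] [Algebra k₀ L] [Algebra k K] [Algebra k L] [Algebra K L]
  [IsScalarTower k₀ k K] [IsScalarTower k₀ K L] [IsScalarTower k K L]

theorem algebraMap_mem_img (x : k) : algebraMap k K x ∈ img k₀ k K :=
  (AlgHom.mem_fieldRange).mpr ⟨x, rfl⟩

omit [Algebra k₀ L] [IsScalarTower k₀ K L] in
/-- Geometric reducedness passes from `k` to its image in `K`. -/
theorem isGeometricallyReduced_img (h : Algebra.IsGeometricallyReduced k L) :
    Algebra.IsGeometricallyReduced ↥(img k₀ k K) L := by
  let ρ : k →+* ↥(img k₀ k K) :=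
    RingHom.codRestrict (algebraMap k K) (img k₀ k K) (algebraMap_mem_img)
  have hρ : Function.Surjective ρ := by
    rintro ⟨y, hy⟩
    obtain ⟨x, hx⟩ := (AlgHom.mem_fieldRange).mp hy
    exact ⟨x, Subtype.ext hx⟩
  let _ : Algebra k ↥(img k₀ k K) := ρ.toAlgebra
  have t1 : IsScalarTower k ↥(img k₀ k K) L := IsScalarTower.of_algebraMap_eq fun x => by
    rw [IsScalarTower.algebraMap_apply k K L]
    rfl
  have t2 : IsScalarTower k ↥(img k₀ k K) (AlgebraicClosure ↥(img k₀ k K)) := inferInstance
  have a1 : Algebra.IsAlgebraic k ↥(img k₀ k K) := ⟨fun y => by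
    obtain ⟨x, rfl⟩ := hρ y
    exact isAlgebraic_algebraMap x⟩
  have a2 : Algebra.IsAlgebraic k (AlgebraicClosure ↥(img k₀ k K)) :=
    Algebra.IsAlgebraic.trans k ↥(img k₀ k K) _
  have hred : IsReduced (AlgebraicClosure ↥(img k₀ k K) ⊗[k] L) := inferInstance
  have c1 : TensorProduct.CompatibleSMul k ↥(img k₀ k K) (AlgebraicClosure ↥(img k₀ k K)) L :=
    ⟨fun s m n => by
      obtain ⟨x, rfl⟩ := hρ s
      have e1 : ρ x • m = x • m := IsScalarTower.algebraMap_smul ↥(img k₀ k K) x m
      have e2 : ρ x • n = x • n := IsScalarTower.algebraMap_smul ↥(img k₀ k K) x n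
      rw [e1, e2, TensorProduct.smul_tmul]⟩
  let e := Algebra.TensorProduct.equivOfCompatibleSMul k ↥(img k₀ k K) ↥(img k₀ k K)
    (AlgebraicClosure ↥(img k₀ k K)) L
  have hred' : IsReduced (AlgebraicClosure ↥(img k₀ k K) ⊗[↥(img k₀ k K)] L) :=
    isReduced_of_injective e.toAlgHom.toRingHom e.injective
  exact (Algebra.isGeometricallyReduced_field_iff ↥(img k₀ k K) L).mpr hred'

omit [Field L] [Algebra k₀ L] [Algebra k L] [Algebra K L] [IsScalarTower k₀ K L]
  [IsScalarTower k K L] in
theorem map_img_map_eq_zero (ω : Ω[k⁄k₀]) :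
    KaehlerDifferential.map k₀ ↥(img k₀ k K) K K (KaehlerDifferential.map k₀ k₀ k K ω) = 0 := by
  have hω : ω ∈ Submodule.span k (Set.range (KaehlerDifferential.D k₀ k)) := by
    rw [KaehlerDifferential.span_range_derivation]; trivial
  induction hω using Submodule.span_induction with
  | mem x hx =>
    obtain ⟨a, rfl⟩ := hx
    rw [map_D, map_D]
    exact Derivation.map_algebraMap (KaehlerDifferential.D ↥(img k₀ k K) K)
      (⟨algebraMap k K a, algebraMap_mem_img a⟩ : ↥(img k₀ k K))
  | zero => simp
  | add x y _ _ hx hy => rw [map_add, map_add, hx, hy, add_zero]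
  | smul a x _ hx =>
    rw [map_smul (KaehlerDifferential.map k₀ k₀ k K),
      ← IsScalarTower.algebraMap_smul K a (KaehlerDifferential.map k₀ k₀ k K x),
      map_smul, hx, smul_zero]

omit [IsScalarTower k₀ K L] in
theorem baseChange_map_img_tm (β : L ⊗[k] Ω[k⁄k₀]) :
    (KaehlerDifferential.map k₀ ↥(img k₀ k K) K K).baseChange L (tm k₀ k K L β) = 0 := by
  induction β using TensorProduct.induction_on with
  | zero => simp
  | add x y hx hy => rw [map_add, map_add, hx, hy, add_zero]
  | tmul c ω =>
    rw [tm_tmul, LinearMap.baseChange_tmul, map_img_map_eq_zero, TensorProduct.tmul_zero]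

/-- The three cases of admissibility. -/
theorem admissible_main [IsScalarTower k₀ k L] (p : ℕ) [ExpChar K p]
    (h : Algebra.IsGeometricallyReduced k L ∨ Algebra.IsGeometricallyReduced K L ∨
      ∀ x : k, algebraMap k K x ∈ EGA41.pPowerSubalgebra p k₀ K) :
    ∀ z : L ⊗[K] Ω[K⁄k₀], z ∈ EGA41.imperfection k₀ K L →
      (KaehlerDifferential.map k₀ k K K).baseChange L z = 0 → z = 0 := by
  intro z hz hz2
  rcases h with h | h | h
  · have hgr := isGeometricallyReduced_img (k₀ := k₀) (K := K) h
    have hfs : Algebra.FormallySmooth ↥(img k₀ k K) L := Groth.Agent.S2451.result.2 hgr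
    obtain ⟨β', hβ'⟩ := exists_tm_eq (Λ := k₀) (A := k) (B := K) (C := L) z hz2
    have h4 : (KaehlerDifferential.map k₀ ↥(img k₀ k K) K K).baseChange L z = 0 := by
      rw [← hβ']
      exact baseChange_map_img_tm β'
    obtain ⟨β, hβ⟩ := exists_tm_eq (Λ := k₀) (A := ↥(img k₀ k K)) (B := K) (C := L) z h4
    have h5 : KaehlerDifferential.mapBaseChange k₀ ↥(img k₀ k K) L β = 0 := by
      rw [← mapBaseChange_tm (Λ := k₀) (A := ↥(img k₀ k K)) (B := K) (C := L), hβ]
      exact hz
    have hinj : Function.Injective (KaehlerDifferential.mapBaseChange k₀ ↥(img k₀ k K) L) :=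
      Groth.Agent.Lib.Helper81.FieldSmooth.mapBaseChange_injective_of_subsingleton
    have hβ0 : β = 0 := hinj (by rw [h5, map_zero])
    rw [← hβ, hβ0, map_zero]
  · have hfs : Algebra.FormallySmooth K L := Groth.Agent.S2451.result.2 h
    exact eq_zero_of_formallySmooth z hz
  · rcases ‹ExpChar K p› with _ | ⟨hprime⟩
    · have hfs : Algebra.FormallySmooth K L :=
        Groth.Agent.Lib.Helper81.FieldSmooth.formallySmooth_of_charZero
      exact eq_zero_of_formallySmooth z hz
    · have hinj : Function.Injective ((KaehlerDifferential.map k₀ k K K).baseChange L) := by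
        change Function.Injective ⇑((KaehlerDifferential.map k₀ k K K).lTensor L)
        exact Module.Flat.lTensor_preserves_injective_linearMap _ (map_injective_of_pPow p h)
      exact hinj (by rw [hz2, map_zero])

end Transfer

end Admissible

end Groth.Agent.Lib.Helper89
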