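import Groth.Agent.Lib.Helper89.HorrocksMonic

/-!
# Approximation of isomorphisms of projective modules along a "completion-like" ring map

`ApproxPair j t O`: `j : Λ →+* Λ'`, `t : Λ` a unit, `O ⊆ Λ'` a subring ("integral elements")
with `Λ' = O[1/j t]`, `Λ` dense in `Λ'` for the `j t`-adic topology of `O`, and elements of `Λ`
congruent to `1` mod `j t • O` are units.  Then base change along `j` is injective on
isomorphism classes of finitely generated projective modules, and (if moreover `1 + j t • O`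
consists of units) stably free modules descend.
-/

set_option linter.unusedSectionVars false
set_option linter.unusedVariables false

namespace Groth.Agent.Lib.Helper89.Approx

open Matrix Groth.Agent.Lib.Helper89.Horrocks Groth.Agent.Lib.Helper89.QPatch

section MemO

variable {Λ' : Type*} [CommRing Λ'] (O : Subring Λ')

/-- All entries lie in the subring `O`. -/
def MemO {m n : Type*} (W : Matrix m n Λ') : Prop := ∀ i j, W i j ∈ O

variable {O}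

lemma MemO.add {m n : Type*} {W W' : Matrix m n Λ'} (h : MemO O W) (h' : MemO O W') :
    MemO O (W + W') := fun i j => O.add_mem (h i j) (h' i j)

lemma MemO.sub {m n : Type*} {W W' : Matrix m n Λ'} (h : MemO O W) (h' : MemO O W') :
    MemO O (W - W') := fun i j => O.sub_mem (h i j) (h' i j)

lemma MemO.neg {m n : Type*} {W : Matrix m n Λ'} (h : MemO O W) :
    MemO O (-W) := fun i j => O.neg_mem (h i j)

lemma MemO.mul {l m n : Type*} [Fintype m] {W : Matrix l m Λ'} {W' : Matrix m n Λ'}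
    (h : MemO O W) (h' : MemO O W') : MemO O (W * W') := fun i j => by
  rw [Matrix.mul_apply]
  exact O.sum_mem fun a _ => O.mul_mem (h i a) (h' a j)

lemma MemO.smul {m n : Type*} {W : Matrix m n Λ'} {c : Λ'} (hc : c ∈ O) (h : MemO O W) :
    MemO O (c • W) := fun i j => O.mul_mem hc (h i j)

lemma MemO.one {n : Type*} [DecidableEq n] : MemO O (1 : Matrix n n Λ') := fun i j => by
  by_cases h : i = j
  · subst h; simp [O.one_mem]
  · simp [h, O.zero_mem]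

/-- `det (1 - c • F) ∈ 1 + c O` for `F` over `O` and `c ∈ O`. -/
lemma exists_det_one_sub_smul {n : Type*} [Fintype n] [DecidableEq n] {F : Matrix n n Λ'}
    (hF : MemO O F) {c : Λ'} (hc : c ∈ O) :
    ∃ z ∈ O, (1 - c • F).det = 1 + c * z := by
  set F₀ : Matrix n n O := Matrix.of fun i j => ⟨F i j, hF i j⟩ with hF₀
  set c₀ : O := ⟨c, hc⟩ with hc₀
  have hmap : (1 - c₀ • F₀).map O.subtype = 1 - c • F := by
    refine Matrix.ext fun i j => ?_
    by_cases h : i = j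
    · subst h; simp [hF₀, hc₀]
    · simp [hF₀, hc₀, h]
  have hdet : O.subtype (1 - c₀ • F₀).det = (1 - c • F).det := by
    rw [RingHom.map_det, RingHom.mapMatrix_apply, hmap]
  have hq : Ideal.Quotient.mk (Ideal.span {c₀}) ((1 - c₀ • F₀).det) = 1 := by
    rw [RingHom.map_det, RingHom.mapMatrix_apply]
    have : (1 - c₀ • F₀).map (Ideal.Quotient.mk (Ideal.span {c₀})) = 1 := by
      refine Matrix.ext fun i j => ?_
      have hc0 : Ideal.Quotient.mk (Ideal.span {c₀}) c₀ = 0 :=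
        Ideal.Quotient.eq_zero_iff_mem.mpr (Ideal.subset_span rfl)
      by_cases h : i = j
      · subst h; simp [hc0]
      · simp [h, hc0]
    rw [this, Matrix.det_one]
  have hmem : (1 - c₀ • F₀).det - 1 ∈ Ideal.span {c₀} := by
    rw [← Ideal.Quotient.eq_zero_iff_mem, map_sub, hq, map_one, sub_self]
  obtain ⟨z₀, hz₀⟩ := Ideal.mem_span_singleton'.mp hmem
  refine ⟨z₀, z₀.2, ?_⟩
  rw [← hdet]
  have : (1 - c₀ • F₀).det = 1 + c₀ * z₀ := by rw [mul_comm, hz₀]; ring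
  rw [this]
  simp [hc₀]

end MemO

/-- The approximation setting. -/
structure ApproxPair {Λ Λ' : Type*} [CommRing Λ] [CommRing Λ'] (j : Λ →+* Λ') (t : Λ)
    (O : Subring Λ') : Prop where
  unit_t : IsUnit t
  t_mem : j t ∈ O
  pole : ∀ x : Λ', ∃ k : ℕ, j t ^ k * x ∈ O
  dense : ∀ x ∈ O, ∃ y : Λ, ∃ z ∈ O, x = j y + j t * z
  unit_lift : ∀ y : Λ, (∃ z ∈ O, j y = 1 + j t * z) → IsUnit y

section Pair

variable {Λ Λ' : Type*} [CommRing Λ] [CommRing Λ'] {j : Λ →+* Λ'} {t : Λ} {O : Subring Λ'}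

lemma ApproxPair.pow_mem (h : ApproxPair j t O) (k : ℕ) : j t ^ k ∈ O := O.pow_mem h.t_mem k

lemma ApproxPair.pole_ge (h : ApproxPair j t O) (x : Λ') :
    ∃ k₀ : ℕ, ∀ k ≥ k₀, j t ^ k * x ∈ O := by
  obtain ⟨k₀, hk₀⟩ := h.pole x
  refine ⟨k₀, fun k hk => ?_⟩
  obtain ⟨d, rfl⟩ := Nat.exists_eq_add_of_le hk
  rw [add_comm, pow_add, mul_assoc]
  exact O.mul_mem (h.pow_mem d) hk₀

lemma ApproxPair.dense_pow (h : ApproxPair j t O) (N : ℕ) :
    ∀ x ∈ O, ∃ y : Λ, ∃ z ∈ O, x = j y + j t ^ N * z := by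
  induction N with
  | zero => exact fun x hx => ⟨0, x, hx, by simp⟩
  | succ N ih =>
    intro x hx
    obtain ⟨y, z, hz, hxy⟩ := ih x hx
    obtain ⟨y', z', hz', hzy⟩ := h.dense z hz
    refine ⟨y + t ^ N * y', z', hz', ?_⟩
    rw [hxy, hzy, map_add, map_mul, map_pow, pow_succ]
    ring

lemma ApproxPair.dense' (h : ApproxPair j t O) (N : ℕ) (x : Λ') :
    ∃ y : Λ, ∃ z ∈ O, x = j y + j t ^ N * z := by
  obtain ⟨k, hk⟩ := h.pole x
  obtain ⟨y, z, hz, hyz⟩ := h.dense_pow (N + k) _ hk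
  obtain ⟨u, hu⟩ := h.unit_t
  refine ⟨(↑(u⁻¹ ^ k) : Λ) * y, z, hz, ?_⟩
  have h1 : j ((↑(u⁻¹ ^ k) : Λ)) * j t ^ k = 1 := by
    rw [← map_pow, ← map_mul, ← hu, ← Units.val_pow_eq_pow_val, ← Units.val_mul, ← mul_pow,
      inv_mul_cancel, one_pow, Units.val_one, map_one]
  calc x = j ((↑(u⁻¹ ^ k) : Λ)) * j t ^ k * x := by rw [h1, one_mul]
    _ = j ((↑(u⁻¹ ^ k) : Λ)) * (j y + j t ^ (N + k) * z) := by rw [mul_assoc, hyz]
    _ = j ((↑(u⁻¹ ^ k) : Λ) * y) + j t ^ N * z * (j ((↑(u⁻¹ ^ k) : Λ)) * j t ^ k) := by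
        rw [map_mul, pow_add]; ring
    _ = j ((↑(u⁻¹ ^ k) : Λ) * y) + j t ^ N * z := by rw [h1, mul_one]

lemma ApproxPair.matrix_dense (h : ApproxPair j t O) (N : ℕ) {m n : Type*}
    (W : Matrix m n Λ') :
    ∃ (W₀ : Matrix m n Λ) (E : Matrix m n Λ'), MemO O E ∧ W = W₀.map j + j t ^ N • E := by
  choose y z hz hyz using fun i i' => h.dense' N (W i i')
  exact ⟨Matrix.of y, Matrix.of z, fun i i' => hz i i', Matrix.ext fun i i' => by
    simp [hyz i i']⟩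

lemma ApproxPair.matrix_pole (h : ApproxPair j t O) {m n : Type*} [Finite m] [Finite n]
    (W : Matrix m n Λ') : ∃ k₀ : ℕ, ∀ k ≥ k₀, MemO O (j t ^ k • W) := by
  classical
  cases nonempty_fintype m
  cases nonempty_fintype n
  choose k₀ hk₀ using fun p : m × n => h.pole_ge (W p.1 p.2)
  refine ⟨Finset.univ.sup k₀, fun k hk i i' => ?_⟩
  exact hk₀ (i, i') k (le_trans (Finset.le_sup (Finset.mem_univ (i, i'))) hk)

lemma isUnit_of_isUnit_det {n : Type*} [Fintype n] [DecidableEq n] {R : Type*} [CommRing R]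
    (D : Matrix n n R) (hD : IsUnit D.det) : D * D⁻¹ = 1 ∧ D⁻¹ * D = 1 :=
  ⟨Matrix.mul_nonsing_inv D hD, Matrix.nonsing_inv_mul D hD⟩

variable {ι ι' : Type*} [Fintype ι] [DecidableEq ι] [Fintype ι'] [DecidableEq ι']

/-- Idempotents over `Λ` which become equivalent over `Λ'` are equivalent. -/
theorem ApproxPair.conj (h : ApproxPair j t O) (p : Matrix ι ι Λ) (q : Matrix ι' ι' Λ)
    (hp : p * p = p) (hq : q * q = q)
    (U : Matrix ι' ι Λ') (V : Matrix ι ι' Λ')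
    (h1 : q.map j * U = U) (h2 : U * p.map j = U) (h3 : p.map j * V = V)
    (h4 : V * q.map j = V) (h5 : U * V = q.map j) (h6 : V * U = p.map j) :
    ∃ (U₀ : Matrix ι' ι Λ) (V₀ : Matrix ι ι' Λ), U₀ * V₀ = q ∧ V₀ * U₀ = p := by
  obtain ⟨τ, hτ⟩ : ∃ τ, τ = j t := ⟨_, rfl⟩
  obtain ⟨p', hp'⟩ : ∃ p', p' = p.map j := ⟨_, rfl⟩
  obtain ⟨q', hq'⟩ : ∃ q', q' = q.map j := ⟨_, rfl⟩
  rw [← hp'] at h2 h3 h6
  rw [← hq'] at h1 h4 h5
  have hpp' : p' * p' = p' := by rw [hp', ← Matrix.map_mul, hp]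
  have hqq' : q' * q' = q' := by rw [hq', ← Matrix.map_mul, hq]
  -- poles
  obtain ⟨k₁, hk₁⟩ := h.matrix_pole U
  obtain ⟨k₂, hk₂⟩ := h.matrix_pole V
  obtain ⟨k₃, hk₃⟩ := h.matrix_pole p'
  obtain ⟨k₄, hk₄⟩ := h.matrix_pole q'
  obtain ⟨k, hk⟩ : ∃ k, k = max (max k₁ k₂) (max k₃ k₄) := ⟨_, rfl⟩
  rw [← hτ] at hk₁ hk₂ hk₃ hk₄
  have hkU : MemO O (τ ^ k • U) :=
    hk₁ k (by rw [hk]; exact (le_max_left _ _).trans (le_max_left _ _))
  have hkV : MemO O (τ ^ k • V) :=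
    hk₂ k (by rw [hk]; exact (le_max_right _ _).trans (le_max_left _ _))
  have hkp : MemO O (τ ^ k • p') :=
    hk₃ k (by rw [hk]; exact (le_max_left _ _).trans (le_max_right _ _))
  have hkq : MemO O (τ ^ k • q') :=
    hk₄ k (by rw [hk]; exact (le_max_right _ _).trans (le_max_right _ _))
  have hτO : τ ∈ O := by rw [hτ]; exact h.t_mem
  have hτpow : ∀ a : ℕ, τ ^ a ∈ O := fun a => O.pow_mem hτO a
  -- approximations
  obtain ⟨U₀, EU, hEU, hU₀⟩ := h.matrix_dense (k + k + (k + 1)) U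
  obtain ⟨V₀, EV, hEV, hV₀⟩ := h.matrix_dense (k + k + (k + 1)) V
  rw [← hτ] at hU₀ hV₀
  obtain ⟨Ut, hUt⟩ : ∃ Ut, Ut = q * U₀ * p := ⟨_, rfl⟩
  obtain ⟨Vt, hVt⟩ : ∃ Vt, Vt = p * V₀ * q := ⟨_, rfl⟩
  have a1 : q * Ut = Ut := by rw [hUt, ← Matrix.mul_assoc, ← Matrix.mul_assoc, hq]
  have a2 : Ut * p = Ut := by rw [hUt, Matrix.mul_assoc, hp]
  have a3 : p * Vt = Vt := by rw [hVt, ← Matrix.mul_assoc, ← Matrix.mul_assoc, hp]
  have a4 : Vt * q = Vt := by rw [hVt, Matrix.mul_assoc, hq]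
  obtain ⟨GU, hGU⟩ : ∃ GU, GU = (τ ^ k • q') * EU * (τ ^ k • p') := ⟨_, rfl⟩
  obtain ⟨GV, hGV⟩ : ∃ GV, GV = (τ ^ k • p') * EV * (τ ^ k • q') := ⟨_, rfl⟩
  have hGUO : MemO O GU := by rw [hGU]; exact (hkq.mul hEU).mul hkp
  have hGVO : MemO O GV := by rw [hGV]; exact (hkp.mul hEV).mul hkq
  have hU₀' : U₀.map j = U - τ ^ (k + k + (k + 1)) • EU := by rw [hU₀]; abel
  have hV₀' : V₀.map j = V - τ ^ (k + k + (k + 1)) • EV := by rw [hV₀]; abel
  have hUtj : Ut.map j = U - τ ^ (k + 1) • GU := by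
    rw [hUt, Matrix.map_mul, Matrix.map_mul, ← hp', ← hq', hU₀', Matrix.mul_sub, Matrix.sub_mul,
      h1, h2, hGU]
    congr 1
    simp only [Matrix.mul_smul, Matrix.smul_mul, smul_smul]
    congr 1
    ring
  have hVtj : Vt.map j = V - τ ^ (k + 1) • GV := by
    rw [hVt, Matrix.map_mul, Matrix.map_mul, ← hp', ← hq', hV₀', Matrix.mul_sub, Matrix.sub_mul,
      h3, h4, hGV]
    congr 1
    simp only [Matrix.mul_smul, Matrix.smul_mul, smul_smul]
    congr 1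
    ring
  -- the products
  obtain ⟨F₁, hF₁⟩ : ∃ F₁, F₁ = GU * (τ ^ k • V) + (τ ^ k • U) * GV - τ ^ (k + k + 1) • (GU * GV) :=
    ⟨_, rfl⟩
  have hF₁O : MemO O F₁ := by
    rw [hF₁]
    exact ((hGUO.mul hkV).add (hkU.mul hGVO)).sub (MemO.smul (hτpow _) (hGUO.mul hGVO))
  have hZ₁ : (q - Ut * Vt).map j = τ • F₁ := by
    rw [Matrix.map_sub _ (map_sub j), Matrix.map_mul, hUtj, hVtj, ← hq', Matrix.sub_mul,
      Matrix.mul_sub, Matrix.mul_sub, h5, hF₁]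
    simp only [Matrix.mul_smul, Matrix.smul_mul, smul_smul, smul_sub, smul_add]
    have e1 : τ * τ ^ k = τ ^ (k + 1) := by ring
    have e2 : τ * τ ^ (k + k + 1) = τ ^ (k + 1) * τ ^ (k + 1) := by ring
    rw [e1, e2]
    abel
  obtain ⟨F₂, hF₂⟩ : ∃ F₂, F₂ = GV * (τ ^ k • U) + (τ ^ k • V) * GU - τ ^ (k + k + 1) • (GV * GU) :=
    ⟨_, rfl⟩
  have hF₂O : MemO O F₂ := by
    rw [hF₂]
    exact ((hGVO.mul hkU).add (hkV.mul hGUO)).sub (MemO.smul (hτpow _) (hGVO.mul hGUO))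
  have hZ₂ : (p - Vt * Ut).map j = τ • F₂ := by
    rw [Matrix.map_sub _ (map_sub j), Matrix.map_mul, hUtj, hVtj, ← hp', Matrix.sub_mul,
      Matrix.mul_sub, Matrix.mul_sub, h6, hF₂]
    simp only [Matrix.mul_smul, Matrix.smul_mul, smul_smul, smul_sub, smul_add]
    have e1 : τ * τ ^ k = τ ^ (k + 1) := by ring
    have e2 : τ * τ ^ (k + k + 1) = τ ^ (k + 1) * τ ^ (k + 1) := by ring
    rw [e1, e2]
    abel
  -- invertibility
  obtain ⟨Z₁, hZ₁d⟩ : ∃ Z₁, Z₁ = q - Ut * Vt := ⟨_, rfl⟩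
  obtain ⟨Z₂, hZ₂d⟩ : ∃ Z₂, Z₂ = p - Vt * Ut := ⟨_, rfl⟩
  rw [← hZ₁d] at hZ₁
  rw [← hZ₂d] at hZ₂
  have hdet₁ : IsUnit (1 - Z₁).det := by
    apply h.unit_lift
    obtain ⟨z, hz, hzd⟩ := exists_det_one_sub_smul hF₁O hτO
    refine ⟨z, hz, ?_⟩
    rw [RingHom.map_det, RingHom.mapMatrix_apply, Matrix.map_sub _ (map_sub j), map_one_ringHom,
      hZ₁, hzd, hτ]
  have hdet₂ : IsUnit (1 - Z₂).det := by
    apply h.unit_lift
    obtain ⟨z, hz, hzd⟩ := exists_det_one_sub_smul hF₂O hτO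
    refine ⟨z, hz, ?_⟩
    rw [RingHom.map_det, RingHom.mapMatrix_apply, Matrix.map_sub _ (map_sub j), map_one_ringHom,
      hZ₂, hzd, hτ]
  obtain ⟨hD₁a, hD₁b⟩ := isUnit_of_isUnit_det _ hdet₁
  obtain ⟨hD₂a, hD₂b⟩ := isUnit_of_isUnit_det _ hdet₂
  have hqZ₁ : q * Z₁ = Z₁ := by
    rw [hZ₁d, Matrix.mul_sub, hq, ← Matrix.mul_assoc, a1]
  have hZ₂p : Z₂ * p = Z₂ := by
    rw [hZ₂d, Matrix.sub_mul, hp, Matrix.mul_assoc, a2]
  have hUV : Ut * Vt = q * (1 - Z₁) := by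
    rw [Matrix.mul_sub, Matrix.mul_one, hqZ₁, hZ₁d]; abel
  have hVU : Vt * Ut = (1 - Z₂) * p := by
    rw [Matrix.sub_mul, Matrix.one_mul, hZ₂p, hZ₂d]; abel
  obtain ⟨R₁, hR₁⟩ : ∃ R₁, R₁ = Vt * (1 - Z₁)⁻¹ := ⟨_, rfl⟩
  obtain ⟨L₁, hL₁⟩ : ∃ L₁, L₁ = (1 - Z₂)⁻¹ * Vt := ⟨_, rfl⟩
  have d1 : Ut * R₁ = q := by
    rw [hR₁, ← Matrix.mul_assoc, hUV, Matrix.mul_assoc, hD₁a, Matrix.mul_one]
  have d2 : L₁ * Ut = p := by
    rw [hL₁, Matrix.mul_assoc, hVU, ← Matrix.mul_assoc, hD₂b, Matrix.one_mul]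
  refine ⟨Ut, L₁ * Ut * R₁, ?_, ?_⟩
  · rw [d2, ← Matrix.mul_assoc, a2, d1]
  · rw [Matrix.mul_assoc L₁, d1, Matrix.mul_assoc, a1, d2]

/-- Split injections over `Λ'` can be approximated by split injections over `Λ` with isomorphic
cokernel. -/
theorem ApproxPair.split_descend (h : ApproxPair j t O) (hu : ∀ z ∈ O, IsUnit (1 + j t * z))
    {m n : Type*} [Fintype m] [DecidableEq m] [Fintype n] [DecidableEq n]
    (S : Matrix m n Λ') (P : Matrix n m Λ') (hPS : P * S = 1) :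
    ∃ (S₀ : Matrix m n Λ) (P₁ : Matrix n m Λ), P₁ * S₀ = 1 ∧
      ∃ (U V : Matrix m m Λ'),
        U * (1 - S₀.map j * P₁.map j) = U ∧ V * (1 - S * P) = V ∧ U * V = 1 - S * P ∧
          V * U = 1 - S₀.map j * P₁.map j := by
  obtain ⟨τ, hτ⟩ : ∃ τ, τ = j t := ⟨_, rfl⟩
  have hτO : τ ∈ O := by rw [hτ]; exact h.t_mem
  have hτpow : ∀ a : ℕ, τ ^ a ∈ O := fun a => O.pow_mem hτO a
  obtain ⟨k₁, hk₁⟩ := h.matrix_pole S
  obtain ⟨k₂, hk₂⟩ := h.matrix_pole P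
  obtain ⟨k, hk⟩ : ∃ k, k = max k₁ k₂ := ⟨_, rfl⟩
  rw [← hτ] at hk₁ hk₂
  have hkS : MemO O (τ ^ k • S) := hk₁ k (by rw [hk]; exact le_max_left _ _)
  have hkP : MemO O (τ ^ k • P) := hk₂ k (by rw [hk]; exact le_max_right _ _)
  obtain ⟨S₀, ES, hES, hS₀⟩ := h.matrix_dense (k + 1) S
  obtain ⟨P₀, EP, hEP, hP₀⟩ := h.matrix_dense (k + 1) P
  rw [← hτ] at hS₀ hP₀
  have hS₀' : S₀.map j = S - τ ^ (k + 1) • ES := by rw [hS₀]; abel
  have hP₀' : P₀.map j = P - τ ^ (k + 1) • EP := by rw [hP₀]; abel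
  -- Δ := P₀ * S₀ is invertible
  obtain ⟨F, hF⟩ : ∃ F, F = EP * (τ ^ k • S) + (τ ^ k • P) * ES - τ ^ (k + 1 + k) • (EP * ES) :=
    ⟨_, rfl⟩
  have hFO : MemO O F := by
    rw [hF]
    exact ((hEP.mul hkS).add (hkP.mul hES)).sub (MemO.smul (hτpow _) (hEP.mul hES))
  have hΔj : (P₀ * S₀).map j = 1 - τ • F := by
    rw [Matrix.map_mul, hS₀', hP₀', Matrix.sub_mul, Matrix.mul_sub, Matrix.mul_sub, hPS, hF]
    simp only [Matrix.mul_smul, Matrix.smul_mul, smul_smul, smul_sub, smul_add]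
    have e1 : τ * τ ^ k = τ ^ (k + 1) := by ring
    have e2 : τ * τ ^ (k + 1 + k) = τ ^ (k + 1) * τ ^ (k + 1) := by ring
    rw [e1, e2]
    abel
  have hdetΔ : IsUnit (P₀ * S₀).det := by
    apply h.unit_lift
    obtain ⟨z, hz, hzd⟩ := exists_det_one_sub_smul hFO hτO
    refine ⟨z, hz, ?_⟩
    rw [RingHom.map_det, RingHom.mapMatrix_apply, hΔj, hzd, hτ]
  obtain ⟨hΔa, hΔb⟩ := isUnit_of_isUnit_det _ hdetΔ
  obtain ⟨P₁, hP₁⟩ : ∃ P₁, P₁ = (P₀ * S₀)⁻¹ * P₀ := ⟨_, rfl⟩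
  have hP₁S₀ : P₁ * S₀ = 1 := by rw [hP₁, Matrix.mul_assoc, hΔb]
  -- α
  obtain ⟨α, hα⟩ : ∃ α : Matrix m m Λ', α = 1 - τ • (ES * (τ ^ k • P)) := ⟨_, rfl⟩
  have hdetα : IsUnit α.det := by
    obtain ⟨z, hz, hzd⟩ := exists_det_one_sub_smul (hES.mul hkP) hτO
    rw [hα, hzd, hτ]
    exact hu z hz
  obtain ⟨hαa, hαb⟩ := isUnit_of_isUnit_det _ hdetα
  have hαS : α * S = S₀.map j := by
    rw [hα, Matrix.sub_mul, Matrix.one_mul, hS₀', Matrix.smul_mul, Matrix.mul_smul,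
      Matrix.smul_mul, Matrix.mul_assoc, hPS, Matrix.mul_one, smul_smul, ← pow_succ']
  have hαinvS : α⁻¹ * S₀.map j = S := by
    rw [← hαS, ← Matrix.mul_assoc, hαb, Matrix.one_mul]
  have hP₁S₀' : P₁.map j * S₀.map j = 1 := by
    rw [← Matrix.map_mul, hP₁S₀, map_one_ringHom]
  obtain ⟨e, he⟩ : ∃ e, e = 1 - S * P := ⟨_, rfl⟩
  obtain ⟨f, hf⟩ : ∃ f, f = 1 - S₀.map j * P₁.map j := ⟨_, rfl⟩
  have heS : e * S = 0 := by
    rw [he, Matrix.sub_mul, Matrix.one_mul, Matrix.mul_assoc, hPS, Matrix.mul_one, sub_self]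
  have hee : e * e = e := by
    rw [he, Matrix.mul_sub, Matrix.mul_one, ← Matrix.mul_assoc, ← he, heS, Matrix.zero_mul,
      sub_zero]
  have hfS : f * S₀.map j = 0 := by
    rw [hf, Matrix.sub_mul, Matrix.one_mul, Matrix.mul_assoc, hP₁S₀', Matrix.mul_one, sub_self]
  have hUf : e * α⁻¹ * f = e * α⁻¹ := by
    rw [hf, Matrix.mul_sub, Matrix.mul_one, ← Matrix.mul_assoc, Matrix.mul_assoc e, hαinvS, heS,
      Matrix.zero_mul, sub_zero]
  refine ⟨S₀, P₁, hP₁S₀, e * α⁻¹, f * α * e, ?_, ?_, ?_, ?_⟩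
  · rw [← hf, hUf]
  · rw [← he, Matrix.mul_assoc, hee]
  · rw [← he]
    calc e * α⁻¹ * (f * α * e) = (e * α⁻¹ * f) * α * e := by simp only [Matrix.mul_assoc]
      _ = e := by rw [hUf, Matrix.mul_assoc e, hαb, Matrix.mul_one, hee]
  · rw [← hf]
    have : α * e * α⁻¹ = 1 - S₀.map j * (P * α⁻¹) := by
      rw [he, Matrix.mul_sub, Matrix.mul_one, Matrix.sub_mul, hαa, ← Matrix.mul_assoc, hαS,
        Matrix.mul_assoc]
    calc f * α * e * (e * α⁻¹) = f * (α * e * α⁻¹) := by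
          rw [Matrix.mul_assoc (f * α), ← Matrix.mul_assoc e, hee]; simp only [Matrix.mul_assoc]
      _ = f := by
          rw [this, Matrix.mul_sub, Matrix.mul_one, ← Matrix.mul_assoc, hfS, Matrix.zero_mul,
            sub_zero]

end Pair

section Modules

open TensorProduct

universe u

variable {Λ : Type u} {Λ' : Type*} [CommRing Λ] [CommRing Λ'] [Algebra Λ Λ'] {t : Λ}
  {O : Subring Λ'}

/-- Finitely generated projective modules which become isomorphic over `Λ'` are isomorphic. -/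
theorem ApproxPair.nonempty_equiv (h : ApproxPair (algebraMap Λ Λ') t O)
    (M N : Type*) [AddCommGroup M] [Module Λ M] [Module.Finite Λ M] [Module.Projective Λ M]
    [AddCommGroup N] [Module Λ N] [Module.Finite Λ N] [Module.Projective Λ N]
    (e : Λ' ⊗[Λ] M ≃ₗ[Λ'] Λ' ⊗[Λ] N) : Nonempty (M ≃ₗ[Λ] N) := by
  obtain ⟨n, p, ⟨hM⟩⟩ := exists_pres Λ M
  obtain ⟨n', q, ⟨hN⟩⟩ := exists_pres Λ N
  obtain ⟨U, V, h1, h2, h3, h4, h5, h6⟩ :=
    (hM.baseChange Λ').exists_matrices (hN.baseChange Λ') e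
  obtain ⟨U₀, V₀, hUV, hVU⟩ := h.conj p q hM.idem hN.idem U V h1 h2 h3 h4 h5 h6
  obtain ⟨U', V', a, b, c, d⟩ := normalize_conj hUV hVU hM.idem hN.idem
  exact ⟨hM.equiv hN U' V' a b c d⟩

/-- Stably free modules over `Λ'` descend to stably free modules over `Λ`. -/
theorem ApproxPair.exists_stablyFree (h : ApproxPair (algebraMap Λ Λ') t O)
    (hu : ∀ z ∈ O, IsUnit (1 + algebraMap Λ Λ' t * z))
    (M' : Type*) [AddCommGroup M'] [Module Λ' M'] (n m : ℕ)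
    (φ : (M' × (Fin n → Λ')) ≃ₗ[Λ'] (Fin m → Λ')) :
    ∃ (M : Type u) (_ : AddCommGroup M) (_ : Module Λ M), Module.Finite Λ M ∧
      (∃ n m : ℕ, Nonempty ((M × (Fin n → Λ)) ≃ₗ[Λ] (Fin m → Λ))) ∧
      Nonempty (Λ' ⊗[Λ] M ≃ₗ[Λ'] M') := by
  -- the split injection
  let σ : (Fin n → Λ') →ₗ[Λ'] (Fin m → Λ') := φ.toLinearMap ∘ₗ LinearMap.inr Λ' M' (Fin n → Λ')
  let ϖ : (Fin m → Λ') →ₗ[Λ'] (Fin n → Λ') :=
    LinearMap.snd Λ' M' (Fin n → Λ') ∘ₗ φ.symm.toLinearMap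
  have hϖσ : ϖ ∘ₗ σ = LinearMap.id := by
    refine LinearMap.ext fun v => ?_
    simp [σ, ϖ]
  set S := LinearMap.toMatrix' σ with hS
  set P := LinearMap.toMatrix' ϖ with hP
  have hPS : P * S = 1 := by
    rw [hS, hP, ← LinearMap.toMatrix'_comp, hϖσ, LinearMap.toMatrix'_id]
  obtain ⟨S₀, P₁, hP₁S₀, U, V, hU, hV, hUV, hVU⟩ := h.split_descend hu S P hPS
  -- the presentation of `M'`
  have hM' : Pres Λ' M' (1 - S * P) :=
    { i := φ.toLinearMap ∘ₗ LinearMap.inl Λ' M' (Fin n → Λ')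
      π := LinearMap.fst Λ' M' (Fin n → Λ') ∘ₗ φ.symm.toLinearMap
      πi := fun x => by simp
      iπ := fun w => by
        have h1 : (S * P).mulVec w = σ (ϖ w) := by
          rw [← Matrix.toLin'_apply, Matrix.toLin'_mul, hS, hP, Matrix.toLin'_toMatrix',
            Matrix.toLin'_toMatrix', LinearMap.comp_apply]
        rw [Matrix.sub_mulVec, Matrix.one_mulVec, h1]
        simp only [σ, ϖ, LinearMap.comp_apply, LinearEquiv.coe_coe, LinearMap.fst_apply,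
          LinearMap.snd_apply, LinearMap.inl_apply, LinearMap.inr_apply]
        rw [eq_sub_iff_add_eq, ← map_add, Prod.mk_add_mk, add_zero, zero_add, Prod.mk.eta,
          LinearEquiv.apply_symm_apply] }
  -- the module over `Λ`
  set ε : Matrix (Fin m) (Fin m) Λ := 1 - S₀ * P₁ with hε
  have hεε : ε * ε = ε := by
    rw [hε, Matrix.mul_sub, Matrix.mul_one, Matrix.sub_mul, Matrix.one_mul, Matrix.mul_assoc S₀,
      ← Matrix.mul_assoc P₁, hP₁S₀, Matrix.one_mul, sub_self, sub_zero]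
  have hεS₀ : ε * S₀ = 0 := by
    rw [hε, Matrix.sub_mul, Matrix.one_mul, Matrix.mul_assoc, hP₁S₀, Matrix.mul_one, sub_self]
  have hP₁ε : P₁ * ε = 0 := by
    rw [hε, Matrix.mul_sub, Matrix.mul_one, ← Matrix.mul_assoc, hP₁S₀, Matrix.one_mul, sub_self]
  have hεmap : ε.map (algebraMap Λ Λ') =
      1 - S₀.map (algebraMap Λ Λ') * P₁.map (algebraMap Λ Λ') := by
    rw [hε, Matrix.map_sub _ (map_sub _), map_one_ringHom, Matrix.map_mul]
  have hM₀ : Pres Λ (LinearMap.range ε.mulVecLin) ε := Pres.ofRange hεε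
  refine ⟨LinearMap.range ε.mulVecLin, inferInstance, inferInstance,
    Module.Finite.range ε.mulVecLin, ⟨n, m, ⟨?_⟩⟩, ⟨?_⟩⟩
  · refine LinearEquiv.ofLinearMap
      ((LinearMap.range ε.mulVecLin).subtype.coprod S₀.mulVecLin)
      (ε.mulVecLin.rangeRestrict.prod P₁.mulVecLin) ?_ ?_
    · refine LinearMap.ext fun w => ?_
      simp only [LinearMap.comp_apply, LinearMap.prod_apply, LinearMap.coprod_apply,
        Submodule.subtype_apply, LinearMap.id_apply, Matrix.mulVecLin_apply]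
      show ε.mulVec w + S₀.mulVec (P₁.mulVec w) = w
      rw [Matrix.mulVec_mulVec, ← Matrix.add_mulVec, hε, sub_add_cancel, Matrix.one_mulVec]
    · refine LinearMap.ext fun x => ?_
      obtain ⟨⟨x, hx⟩, v⟩ := x
      have hxε : ε.mulVec x = x := mulVecLin_idem hεε x hx
      simp only [LinearMap.comp_apply, LinearMap.prod_apply, LinearMap.coprod_apply,
        Submodule.subtype_apply, LinearMap.id_apply, Matrix.mulVecLin_apply]
      refine Prod.ext (Subtype.ext ?_) ?_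
      · show ε.mulVec (x + S₀.mulVec v) = x
        rw [Matrix.mulVec_add, Matrix.mulVec_mulVec, hεS₀, Matrix.zero_mulVec, add_zero, hxε]
      · show P₁.mulVec (x + S₀.mulVec v) = v
        rw [Matrix.mulVec_add, Matrix.mulVec_mulVec, hP₁S₀, Matrix.one_mulVec, ← hxε,
          Matrix.mulVec_mulVec, hP₁ε, Matrix.zero_mulVec, zero_add]
  · have hB := hM₀.baseChange Λ'
    rw [hεmap] at hB
    exact hB.equiv hM' U V hU hV hUV hVU

end Modules

end Groth.Agent.Lib.Helper89.Approx
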