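import Groth.Agent.Lib.Helper89.Approx

/-!
# The approximation pair `A[1/t] → Â[1/t]` for `t` in the Jacobson radical
-/

set_option linter.unusedSectionVars false
set_option linter.unusedVariables false

namespace Groth.Agent.Lib.Helper89.Approx

universe u

section Adic

variable {A : Type u} [CommRing A] (t : A)

lemma mem_span_singleton_pow_smul_top {M : Type*} [AddCommGroup M] [Module A M] (n : ℕ) (x : M) :
    x ∈ ((Ideal.span {t}) ^ n • ⊤ : Submodule A M) ↔ ∃ y : M, x = t ^ n • y := by
  rw [Ideal.span_singleton_pow, Submodule.ideal_span_singleton_smul,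
    Submodule.mem_smul_pointwise_iff_exists]
  constructor
  · rintro ⟨y, -, rfl⟩
    exact ⟨y, rfl⟩
  · rintro ⟨y, rfl⟩
    exact ⟨y, Submodule.mem_top, rfl⟩

/-- Notation: the `t`-adic completion. -/
abbrev Ahat : Type u := AdicCompletion (Ideal.span {t}) A

lemma eval_eq_zero_iff (n : ℕ) (x : Ahat t) :
    AdicCompletion.eval (Ideal.span {t}) A n x = 0 ↔
      ∃ y : Ahat t, x = algebraMap A (Ahat t) t ^ n * y := by
  rw [← LinearMap.mem_ker, ← AdicCompletion.pow_smul_top_eq_ker_eval ⟨{t}, by simp⟩,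
    mem_span_singleton_pow_smul_top]
  constructor
  · rintro ⟨y, rfl⟩
    exact ⟨y, by rw [Algebra.smul_def, map_pow]⟩
  · rintro ⟨y, rfl⟩
    exact ⟨y, by rw [Algebra.smul_def, map_pow]⟩

lemma eval_algebraMap (n : ℕ) (a : A) :
    AdicCompletion.eval (Ideal.span {t}) A n (algebraMap A (Ahat t) a) =
      Submodule.mkQ ((Ideal.span {t}) ^ n • ⊤ : Submodule A A) a := by
  rw [AdicCompletion.algebraMap_apply, Algebra.algebraMap_self_apply, AdicCompletion.eval_of]

/-- General form: `Â` an `A`-algebra behaving like the `t`-adic completion. -/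
theorem approxPair_of_completionLike (ht : t ∈ (⊥ : Ideal A).jacobson)
    (Ac : Type*) [CommRing Ac] [Algebra A Ac]
    (Λ : Type*) [CommRing Λ] [Algebra A Λ] [IsLocalization.Away t Λ]
    (Λ' : Type*) [CommRing Λ'] [Algebra Ac Λ'] [IsLocalization.Away (algebraMap A Ac t) Λ']
    [Algebra Λ Λ']
    (hjalg : ∀ a : A, algebraMap Λ Λ' (algebraMap A Λ a) = algebraMap Ac Λ' (algebraMap A Ac a))
    (H1 : ∀ x : Ac, ∃ (a₀ : A) (y : Ac), x = algebraMap A Ac a₀ + algebraMap A Ac t * y)
    (H2 : ∀ (a : A) (N : ℕ) (z : Ac), algebraMap A Ac a = algebraMap A Ac t ^ N * z →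
      ∃ c : A, a = t ^ N * c)
    (H3 : algebraMap A Ac t ∈ (⊥ : Ideal Ac).jacobson) :
    ApproxPair (algebraMap Λ Λ') (algebraMap A Λ t) (algebraMap Ac Λ').range ∧
      ∀ z ∈ (algebraMap Ac Λ').range,
        IsUnit (1 + algebraMap Λ Λ' (algebraMap A Λ t) * z) := by
  obtain ⟨th, hth⟩ : ∃ th, th = algebraMap A Ac t := ⟨_, rfl⟩
  rw [← hth] at H1 H2 H3
  have hjt : algebraMap Λ Λ' (algebraMap A Λ t) = algebraMap Ac Λ' th := by rw [hjalg t, hth]
  haveI : IsLocalization.Away th Λ' := by rw [hth]; infer_instance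
  refine ⟨⟨?_, ?_, ?_, ?_, ?_⟩, ?_⟩
  · exact IsLocalization.Away.algebraMap_isUnit t
  · exact ⟨th, hjt.symm⟩
  · intro x
    obtain ⟨n, a, hx⟩ := IsLocalization.Away.surj th x
    exact ⟨n, a, by rw [hjt, ← hx, mul_comm]⟩
  · rintro x ⟨xh, rfl⟩
    obtain ⟨a₀, y, hy⟩ := H1 xh
    refine ⟨algebraMap A Λ a₀, algebraMap Ac Λ' y, ⟨y, rfl⟩, ?_⟩
    rw [hjalg, hjt, ← map_mul, ← map_add, hy]
  · rintro y ⟨z, ⟨zh, rfl⟩, hyz⟩
    obtain ⟨n, a, hya⟩ := IsLocalization.Away.surj t y
    have h1 : algebraMap Ac Λ' (algebraMap A Ac a) =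
        algebraMap Ac Λ' (th ^ n * (1 + th * zh)) := by
      rw [← hjalg, ← hya, map_mul (algebraMap Λ Λ'), map_pow (algebraMap Λ Λ'), hyz, hjt]
      simp only [map_mul, map_pow, map_add, map_one]
      ring
    obtain ⟨m, hm⟩ := IsLocalization.Away.exists_of_eq th h1
    have h2 : algebraMap A Ac (t ^ m * a - t ^ (m + n)) = th ^ (m + n + 1) * zh := by
      rw [map_sub, map_mul, map_pow, map_pow, ← hth, hm]
      ring
    obtain ⟨c, hc⟩ := H2 _ _ _ h2
    have hu : IsUnit (1 + t * c) := by
      have := (Ideal.mem_jacobson_bot.mp ht) c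
      rwa [add_comm] at this
    have hut : IsUnit (algebraMap A Λ t) := IsLocalization.Away.algebraMap_isUnit t
    have h4 : algebraMap A Λ t ^ (m + n) * y =
        algebraMap A Λ t ^ (m + n) * algebraMap A Λ (1 + t * c) := by
      have e1 : t ^ m * a = t ^ (m + n) * (1 + t * c) := by
        have : t ^ m * a = t ^ (m + n) + t ^ (m + n + 1) * c := by rw [← hc]; ring
        rw [this]; ring
      have := congrArg (algebraMap A Λ) e1
      rw [map_mul, map_pow, ← hya, map_mul, map_pow] at this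
      rw [← this, pow_add]
      ring
    have h5 : y = algebraMap A Λ (1 + t * c) := (hut.pow (m + n)).mul_left_cancel h4
    rw [h5]
    exact hu.map _
  · rintro z ⟨zh, rfl⟩
    have hu : IsUnit (1 + th * zh) := by
      have := (Ideal.mem_jacobson_bot.mp H3) zh
      rwa [add_comm] at this
    have := hu.map (algebraMap Ac Λ')
    rw [map_add, map_one, map_mul, ← hjt] at this
    exact this

theorem approxPair_adic (ht : t ∈ (⊥ : Ideal A).jacobson)
    [Algebra (Localization.Away t) (Localization.Away (algebraMap A (Ahat t) t))]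
    (halg : algebraMap (Localization.Away t) (Localization.Away (algebraMap A (Ahat t) t)) =
      Localization.awayMap (algebraMap A (Ahat t)) t) :
    ApproxPair (algebraMap (Localization.Away t) (Localization.Away (algebraMap A (Ahat t) t)))
        (algebraMap A (Localization.Away t) t)
        (algebraMap (Ahat t) (Localization.Away (algebraMap A (Ahat t) t))).range ∧
      ∀ z ∈ (algebraMap (Ahat t) (Localization.Away (algebraMap A (Ahat t) t))).range,
        IsUnit (1 + algebraMap (Localization.Away t) (Localization.Away (algebraMap A (Ahat t) t))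
          (algebraMap A (Localization.Away t) t) * z) := by
  refine approxPair_of_completionLike t ht (Ahat t) (Localization.Away t)
    (Localization.Away (algebraMap A (Ahat t) t)) ?_ ?_ ?_ ?_
  · intro a
    rw [halg]
    exact IsLocalization.map_eq _ a
  · intro xh
    obtain ⟨a₀, ha₀⟩ := Submodule.mkQ_surjective _ (AdicCompletion.eval (Ideal.span {t}) A 1 xh)
    have h0 : AdicCompletion.eval (Ideal.span {t}) A 1 (xh - algebraMap A (Ahat t) a₀) = 0 := by
      rw [map_sub, eval_algebraMap, ha₀, sub_self]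
    obtain ⟨y, hy⟩ := (eval_eq_zero_iff t 1 _).mp h0
    refine ⟨a₀, y, ?_⟩
    rw [pow_one] at hy
    rw [← hy]
    ring
  · intro a N z h
    have h3 : Submodule.mkQ ((Ideal.span {t}) ^ N • ⊤ : Submodule A A) a = 0 := by
      rw [← eval_algebraMap, eval_eq_zero_iff]
      exact ⟨z, h⟩
    rw [Submodule.mkQ_apply, Submodule.Quotient.mk_eq_zero, mem_span_singleton_pow_smul_top] at h3
    obtain ⟨c, hc⟩ := h3
    exact ⟨c, by rw [hc, smul_eq_mul]⟩
  · have hc := AdicCompletion.isAdicComplete_self (Ideal.span {t}) ⟨{t}, by simp⟩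
    have := @IsAdicComplete.le_jacobson_bot (Ahat t) _ _ hc
    exact this (Ideal.mem_map_of_mem _ (Ideal.subset_span rfl))

end Adic

end Groth.Agent.Lib.Helper89.Approx
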