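import Groth.Agent.Lib.Helper89.ApproxAdic

/-!
# Idempotents of `Â[1/t]` come from unique idempotents of `A[1/t]` for a Henselian pair `(A, tA)`
-/

set_option linter.unusedSectionVars false
set_option linter.unusedVariables false

namespace Groth.Agent.Lib.Helper89.Approx

open Polynomial

universe u

section Idem

variable {A : Type u} [CommRing A] (t : A)
  (Ac : Type*) [CommRing Ac] [Algebra A Ac]
  (Λ : Type*) [CommRing Λ] [Algebra A Λ] [IsLocalization.Away t Λ]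
  (Λ' : Type*) [CommRing Λ'] [Algebra Ac Λ'] [IsLocalization.Away (algebraMap A Ac t) Λ']
  [Algebra Λ Λ']

variable {Ac Λ Λ'}

/-- Elements of `Λ` whose image is `t^M`-small are `t^M`-multiples of elements of `A`. -/
lemma small_lift
    (hjalg : ∀ a : A, algebraMap Λ Λ' (algebraMap A Λ a) = algebraMap Ac Λ' (algebraMap A Ac a))
    (H2 : ∀ (a : A) (N : ℕ) (z : Ac), algebraMap A Ac a = algebraMap A Ac t ^ N * z →
      ∃ c : A, a = t ^ N * c)
    (x : Λ) (M : ℕ) (w : Ac)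
    (hx : algebraMap Λ Λ' x = algebraMap Ac Λ' (algebraMap A Ac t ^ M * w)) :
    ∃ c : A, x = algebraMap A Λ (t ^ M * c) := by
  obtain ⟨n, a, hxa⟩ := IsLocalization.Away.surj t x
  have h1 : algebraMap Ac Λ' (algebraMap A Ac a) =
      algebraMap Ac Λ' (algebraMap A Ac t ^ (M + n) * w) := by
    rw [← hjalg, ← hxa, map_mul (algebraMap Λ Λ'), map_pow (algebraMap Λ Λ'), hx, hjalg]
    simp only [map_mul, map_pow]
    ring
  obtain ⟨m, hm⟩ := IsLocalization.Away.exists_of_eq (algebraMap A Ac t) h1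
  have h2 : algebraMap A Ac (t ^ m * a) = algebraMap A Ac t ^ (m + (M + n)) * w := by
    rw [map_mul, map_pow, hm]
    ring
  obtain ⟨c, hc⟩ := H2 _ _ _ h2
  refine ⟨c, ?_⟩
  have hut : IsUnit (algebraMap A Λ t) := IsLocalization.Away.algebraMap_isUnit t
  have h4 : algebraMap A Λ t ^ (m + n) * x = algebraMap A Λ t ^ (m + n) * algebraMap A Λ (t ^ M * c) := by
    have := congrArg (algebraMap A Λ) hc
    rw [map_mul, map_pow, ← hxa, map_mul, map_pow] at this
    rw [map_mul, map_pow, pow_add]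
    calc algebraMap A Λ t ^ m * algebraMap A Λ t ^ n * x
        = algebraMap A Λ t ^ m * (x * algebraMap A Λ t ^ n) := by ring
      _ = algebraMap A Λ t ^ (m + (M + n)) * algebraMap A Λ c := this
      _ = algebraMap A Λ t ^ m * algebraMap A Λ t ^ n * (algebraMap A Λ t ^ M * algebraMap A Λ c) := by
          rw [pow_add, pow_add]; ring
  exact (hut.pow (m + n)).mul_left_cancel h4

lemma idem_sub_cube {S : Type*} [CommRing S] {e₁ e₂ : S} (h1 : e₁ * e₁ = e₁) (h2 : e₂ * e₂ = e₂) :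
    (e₁ - e₂) * (1 - (e₁ - e₂) * (e₁ - e₂)) = 0 := by
  linear_combination (-(e₁ + 1 - 3 * e₂)) * h1 + (-(3 * e₁ - e₂ - 1)) * h2

theorem existsUnique_idempotent [HenselianRing A (Ideal.span {t})]
    (hjalg : ∀ a : A, algebraMap Λ Λ' (algebraMap A Λ a) = algebraMap Ac Λ' (algebraMap A Ac a))
    (H1 : ∀ x : Ac, ∃ (a₀ : A) (y : Ac), x = algebraMap A Ac a₀ + algebraMap A Ac t * y)
    (H2 : ∀ (a : A) (N : ℕ) (z : Ac), algebraMap A Ac a = algebraMap A Ac t ^ N * z →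
      ∃ c : A, a = t ^ N * c)
    (H3 : algebraMap A Ac t ∈ (⊥ : Ideal Ac).jacobson)
    (e : Λ') (he : e * e = e) :
    ∃! e₀ : Λ, e₀ * e₀ = e₀ ∧ algebraMap Λ Λ' e₀ = e := by
  have htI : t ∈ Ideal.span {t} := Ideal.mem_span_singleton_self t
  have hjac : Ideal.span {t} ≤ (⊥ : Ideal A).jacobson := HenselianRing.jac
  have ht : t ∈ (⊥ : Ideal A).jacobson := hjac htI
  obtain ⟨hpair, hu⟩ := approxPair_of_completionLike t ht Ac Λ Λ' hjalg H1 H2 H3
  obtain ⟨j, hj⟩ : ∃ j : Λ →+* Λ', j = algebraMap Λ Λ' := ⟨_, rfl⟩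
  obtain ⟨ι', hι'⟩ : ∃ ι' : Ac →+* Λ', ι' = algebraMap Ac Λ' := ⟨_, rfl⟩
  obtain ⟨ιA, hιA⟩ : ∃ ιA : A →+* Λ, ιA = algebraMap A Λ := ⟨_, rfl⟩
  obtain ⟨th, hth⟩ : ∃ th, th = algebraMap A Ac t := ⟨_, rfl⟩
  obtain ⟨τ, hτ⟩ : ∃ τ, τ = j (ιA t) := ⟨_, rfl⟩
  rw [← hj, ← hι', ← hιA] at hpair hu
  rw [← hτ] at hu
  rw [← hj, ← hι', ← hιA] at hjalg
  have hpole : ∀ x : Λ', ∃ k : ℕ, τ ^ k * x ∈ ι'.range := by rw [hτ]; exact hpair.pole
  have hdense : ∀ (N : ℕ) (x : Λ'), ∃ y : Λ, ∃ z ∈ ι'.range, x = j y + τ ^ N * z := by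
    rw [hτ]; exact hpair.dense' 
  have hτ' : τ = ι' th := by rw [hτ, hjalg, hth]
  have hsmall := small_lift (Λ := Λ) (Λ' := Λ') t
    (by rw [← hj, ← hι', ← hιA]; exact hjalg) H2
  rw [← hj, ← hι', ← hιA, ← hth] at hsmall
  have hunitA : ∀ c : A, IsUnit (1 + t * c) := fun c => by
    have := (Ideal.mem_jacobson_bot.mp ht) c
    rwa [add_comm] at this
  -- uniqueness
  have huniq : ∀ e₁ e₂ : Λ, e₁ * e₁ = e₁ → e₂ * e₂ = e₂ → j e₁ = j e₂ → e₁ = e₂ := by
    intro e₁ e₂ h1 h2 h12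
    have hd : j (e₁ - e₂) = ι' (th ^ 1 * 0) := by rw [map_sub, h12, sub_self, mul_zero, map_zero]
    obtain ⟨c, hc⟩ := hsmall _ _ _ hd
    have h3 := idem_sub_cube h1 h2
    have hunit : IsUnit (1 - (e₁ - e₂) * (e₁ - e₂)) := by
      rw [hc]
      have : (1 : Λ) - ιA (t ^ 1 * c) * ιA (t ^ 1 * c) = ιA (1 + t * (-(t * c * c))) := by
        simp only [map_mul, map_add, map_one, map_neg, pow_one]; ring
      rw [this]
      exact (hunitA _).map ιA
    exact sub_eq_zero.mp ((hunit.mul_left_eq_zero).mp h3)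
  -- existence
  obtain ⟨k, hk⟩ := hpole e
  obtain ⟨ek, hek⟩ := hk
  obtain ⟨y, z, ⟨zh, hzh⟩, hyz⟩ := hdense (k + k + 1) e
  have hjy : j y = e - τ ^ (k + k + 1) * z := by rw [hyz]; ring
  obtain ⟨ε, hε⟩ : ∃ ε, ε = y * y - y := ⟨_, rfl⟩
  have hjε : j ε = ι' (th ^ (k + 1) * (zh * (th ^ k - 2 * ek) + th ^ (k + k + k + 1) * (zh * zh))) := by
    rw [hε, map_sub, map_mul, hjy]
    simp only [map_mul, map_add, map_sub, map_pow, ← hτ', hek, hzh, map_ofNat]
    linear_combination he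
  obtain ⟨c, hc⟩ := hsmall _ _ _ hjε
  obtain ⟨u₀, hu₀⟩ := hunitA (4 * (t ^ k * c))
  obtain ⟨c', hc'⟩ : ∃ c', c' = t ^ (k + 1) * c * ↑u₀⁻¹ := ⟨_, rfl⟩
  have hu₀c' : (1 + t * (4 * (t ^ k * c))) * c' = t ^ (k + 1) * c := by
    rw [hc', ← hu₀]
    calc (u₀ : A) * (t ^ (k + 1) * c * ↑u₀⁻¹) = t ^ (k + 1) * c * (↑u₀ * ↑u₀⁻¹) := by ring
      _ = t ^ (k + 1) * c := by rw [Units.mul_inv, mul_one]
  have hc'I : c' ∈ Ideal.span {t} := by
    rw [hc', pow_succ']
    exact Ideal.mul_mem_right _ _ (Ideal.mul_mem_right _ _ (Ideal.mul_mem_right _ _ htI))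
  -- Hensel
  obtain ⟨s, hs, hsI⟩ := HenselianRing.is_henselian (R := A) (I := Ideal.span {t})
    (X ^ 2 + X + C c') (by
      have : (X ^ 2 + X + C c' : A[X]) = X ^ 2 + (X + C c') := by ring
      rw [this]
      exact monic_X_pow_add (by
        calc (X + C c' : A[X]).degree ≤ 1 := by
              refine (degree_add_le _ _).trans (max_le degree_X_le ?_)
              exact degree_C_le.trans (by norm_num)
          _ < 2 := by norm_num))
    0 (by simpa using hc'I) (by simp)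
  rw [sub_zero] at hsI
  have hs' : s ^ 2 + s + c' = 0 := by simpa [IsRoot] using hs
  obtain ⟨s₁, hs₁⟩ := Ideal.mem_span_singleton'.mp hsI
  obtain ⟨u₁, hu₁⟩ := hunitA s₁
  have hs2 : s = t ^ (k + 1) * (-(c * ↑u₀⁻¹ * ↑u₁⁻¹)) := by
    have h1 : s * (1 + t * s₁) = -c' := by
      have : s * (1 + t * s₁) = s ^ 2 + s := by rw [← hs₁]; ring
      rw [this]; linear_combination hs'
    calc s = s * (1 + t * s₁) * ↑u₁⁻¹ := by
          rw [← hu₁, mul_assoc, Units.mul_inv, mul_one]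
      _ = t ^ (k + 1) * (-(c * ↑u₀⁻¹ * ↑u₁⁻¹)) := by rw [h1, hc']; ring
  obtain ⟨s', hs'd⟩ : ∃ s', s' = -(c * ↑u₀⁻¹ * ↑u₁⁻¹) := ⟨_, rfl⟩
  rw [← hs'd] at hs2
  obtain ⟨e₀, he₀⟩ : ∃ e₀, e₀ = y + (2 * y - 1) * ιA s := ⟨_, rfl⟩
  have he₀idem : e₀ * e₀ = e₀ := by
    have h1 : ιA (1 + t * (4 * (t ^ k * c))) = 1 + 4 * ε := by
      rw [hc]
      simp only [map_mul, map_add, map_one, map_pow, map_ofNat]
      ring
    have h2 : ιA s * ιA s + ιA s + ιA c' = 0 := by
      rw [← map_mul, ← map_add, ← map_add, ← map_zero ιA]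
      congr 1
      linear_combination hs'
    have h3 : (1 + 4 * ε) * ιA c' = ε := by
      rw [← h1, ← map_mul, hu₀c', ← hc]
    rw [he₀]
    linear_combination (1 + 4 * ε) * h2 - h3 - (1 + 4 * (ιA s * ιA s + ιA s)) * hε
  have hje₀ : j e₀ = e := by
    obtain ⟨w, hw⟩ : ∃ w : Ac, w = -(th ^ (k + k) * zh) +
        (2 * ek - 2 * (th ^ (k + k + k + 1) * zh) - th ^ k) * algebraMap A Ac s' := ⟨_, rfl⟩
    have hjs : j (ιA s) = τ ^ (k + 1) * ι' (algebraMap A Ac s') := by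
      rw [hjalg, hs2, map_mul, map_pow, map_mul, map_pow, ← hth, ← hτ']
    have hd : j e₀ - e = τ * ι' w := by
      rw [he₀, hw, map_add, map_mul, map_sub, map_mul, map_one, map_ofNat, hjs, hjy]
      simp only [map_mul, map_add, map_sub, map_neg, map_pow, ← hτ', hek, hzh, map_ofNat]
      ring
    have hje₀idem : j e₀ * j e₀ = j e₀ := by rw [← map_mul, he₀idem]
    have h3 := idem_sub_cube hje₀idem he
    have hunit : IsUnit (1 - (j e₀ - e) * (j e₀ - e)) := by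
      have : (1 : Λ') - (j e₀ - e) * (j e₀ - e) = 1 + τ * ι' (-(th * w * w)) := by
        rw [hd]
        simp only [map_mul, map_neg, ← hτ']
        ring
      rw [this]
      exact hu _ ⟨_, rfl⟩
    exact sub_eq_zero.mp ((hunit.mul_left_eq_zero).mp h3)
  refine ⟨e₀, ⟨he₀idem, by rw [← hj]; exact hje₀⟩, fun e₁ ⟨h1, h2⟩ => huniq e₁ e₀ h1 he₀idem ?_⟩
  rw [hje₀, hj, h2]

end Idem


section AdicIdem

variable {A : Type u} [CommRing A] (t : A)

lemma adic_H1 (xh : Ahat t) :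
    ∃ (a₀ : A) (y : Ahat t), xh = algebraMap A (Ahat t) a₀ + algebraMap A (Ahat t) t * y := by
  obtain ⟨a₀, ha₀⟩ := Submodule.mkQ_surjective _ (AdicCompletion.eval (Ideal.span {t}) A 1 xh)
  have h0 : AdicCompletion.eval (Ideal.span {t}) A 1 (xh - algebraMap A (Ahat t) a₀) = 0 := by
    rw [map_sub, eval_algebraMap, ha₀, sub_self]
  obtain ⟨y, hy⟩ := (eval_eq_zero_iff t 1 _).mp h0
  refine ⟨a₀, y, ?_⟩
  rw [pow_one] at hy
  rw [← hy]
  ring

lemma adic_H2 (a : A) (N : ℕ) (z : Ahat t)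
    (h : algebraMap A (Ahat t) a = algebraMap A (Ahat t) t ^ N * z) : ∃ c : A, a = t ^ N * c := by
  have h3 : Submodule.mkQ ((Ideal.span {t}) ^ N • ⊤ : Submodule A A) a = 0 := by
    rw [← eval_algebraMap, eval_eq_zero_iff]
    exact ⟨z, h⟩
  rw [Submodule.mkQ_apply, Submodule.Quotient.mk_eq_zero, mem_span_singleton_pow_smul_top] at h3
  obtain ⟨c, hc⟩ := h3
  exact ⟨c, by rw [hc, smul_eq_mul]⟩

lemma adic_H3 : algebraMap A (Ahat t) t ∈ (⊥ : Ideal (Ahat t)).jacobson := by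
  have hc := AdicCompletion.isAdicComplete_self (Ideal.span {t}) ⟨{t}, by simp⟩
  have := @IsAdicComplete.le_jacobson_bot (Ahat t) _ _ hc
  exact this (Ideal.mem_map_of_mem _ (Ideal.subset_span rfl))

/-- Idempotents of `Â[1/t]` come from unique idempotents of `A[1/t]` when `(A, tA)` is a
Henselian pair. -/
theorem existsUnique_idempotent_adic [HenselianRing A (Ideal.span {t})]
    (e : Localization.Away (algebraMap A (Ahat t) t)) (he : e * e = e) :
    ∃! e₀ : Localization.Away t, e₀ * e₀ = e₀ ∧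
      Localization.awayMap (algebraMap A (Ahat t)) t e₀ = e := by
  let _ : Algebra (Localization.Away t) (Localization.Away (algebraMap A (Ahat t) t)) :=
    (Localization.awayMap (algebraMap A (Ahat t)) t).toAlgebra
  have hjalg : ∀ a : A, algebraMap (Localization.Away t)
      (Localization.Away (algebraMap A (Ahat t) t)) (algebraMap A (Localization.Away t) a) =
      algebraMap (Ahat t) (Localization.Away (algebraMap A (Ahat t) t))
        (algebraMap A (Ahat t) a) := by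
    intro a
    change Localization.awayMap (algebraMap A (Ahat t)) t _ = _
    exact IsLocalization.map_eq _ a
  exact existsUnique_idempotent (Λ := Localization.Away t)
    (Λ' := Localization.Away (algebraMap A (Ahat t) t)) t
    hjalg (adic_H1 t) (adic_H2 t) (adic_H3 t) e he

end AdicIdem

end Groth.Agent.Lib.Helper89.Approx
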