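import Groth.Agent.Lib.Helper89.Approx

/-!
# The approximation pair `R(t) → R((t))`
-/

set_option linter.unusedSectionVars false
set_option linter.unusedVariables false

namespace Groth.Agent.Lib.Helper89.Approx

open Polynomial

universe u

section Laurent

variable {R : Type u} [CommRing R]

/-- The multiplicative set generated by `X` and the polynomials with constant term `1`. -/
noncomputable abbrev MX (R : Type*) [CommRing R] : Submonoid R[X] :=
  Submonoid.closure ({f : R[X] | f.coeff 0 = 1} ∪ {X})

lemma exists_eq_X_pow_mul_of_mem_MX {s : R[X]} (hs : s ∈ MX R) :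
    ∃ (k : ℕ) (g : R[X]), g.coeff 0 = 1 ∧ s = X ^ k * g := by
  induction hs using Submonoid.closure_induction with
  | mem x hx =>
    rcases hx with hx | hx
    · exact ⟨0, x, hx, by simp⟩
    · rw [Set.mem_singleton_iff] at hx
      exact ⟨1, 1, by simp, by simp [hx]⟩
  | one => exact ⟨0, 1, by simp, by simp⟩
  | mul x y _ _ hx hy =>
    obtain ⟨k, g, hg, rfl⟩ := hx
    obtain ⟨k', g', hg', rfl⟩ := hy
    exact ⟨k + k', g * g', by rw [Polynomial.mul_coeff_zero, hg, hg', mul_one], by
      rw [pow_add]; ring⟩

lemma X_pow_mul_mem_MX (k : ℕ) {g : R[X]} (hg : g.coeff 0 = 1) : X ^ k * g ∈ MX R :=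
  (MX R).mul_mem ((MX R).pow_mem (Submonoid.subset_closure (Or.inr rfl)) k)
    (Submonoid.subset_closure (Or.inl hg))

variable (L : Type*) [CommRing L] [Algebra R[X] L] [IsLocalization (MX R) L]
  (L' : Type*) [CommRing L'] [Algebra L L'] (e : L' ≃+* LaurentSeries R)

/-- The subring of `L'` corresponding to power series. -/
noncomputable def OPS : Subring L' :=
  (HahnSeries.ofPowerSeries ℤ R).range.comap (e : L' →+* LaurentSeries R)

variable {L L'} {e}

lemma mem_OPS {x : L'} : x ∈ OPS L' e ↔ ∃ f : PowerSeries R, HahnSeries.ofPowerSeries ℤ R f = e x :=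
  Iff.rfl

theorem approxPair_laurent
    (he : ∀ p : R[X], e (algebraMap L L' (algebraMap R[X] L p)) =
      HahnSeries.ofPowerSeries ℤ R (Polynomial.coeToPowerSeries.ringHom p)) :
    ApproxPair (algebraMap L L') (algebraMap R[X] L X) (OPS L' e) ∧
      ∀ z ∈ OPS L' e, IsUnit (1 + algebraMap L L' (algebraMap R[X] L X) * z) := by
  set oP := HahnSeries.ofPowerSeries ℤ R with hoP
  have hinj : Function.Injective oP := HahnSeries.ofPowerSeries_injective
  have het : e (algebraMap L L' (algebraMap R[X] L X)) = oP PowerSeries.X := by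
    rw [he]; simp
  refine ⟨⟨?_, ?_, ?_, ?_, ?_⟩, ?_⟩
  · exact IsLocalization.map_units L
      (⟨X, Submonoid.subset_closure (Or.inr rfl)⟩ : MX R)
  · exact mem_OPS.mpr ⟨PowerSeries.X, het.symm⟩
  · intro x
    have hloc : QPatch.LocLike (PowerSeries.X : PowerSeries R)
        (algebraMap (PowerSeries R) (LaurentSeries R)) :=
      QPatch.LocLike.of_away (S' := LaurentSeries R) (PowerSeries.X : PowerSeries R)
    obtain ⟨k, y, hy⟩ := hloc.surj (e x)
    refine ⟨k, mem_OPS.mpr ⟨y, ?_⟩⟩
    rw [map_mul, map_pow, het]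
    exact hy
  · intro x hx
    obtain ⟨f, hf⟩ := mem_OPS.mp hx
    refine ⟨algebraMap R[X] L (C (PowerSeries.constantCoeff f)),
      e.symm (oP (PowerSeries.mk fun p => PowerSeries.coeff (p + 1) f)),
      mem_OPS.mpr ⟨_, (e.apply_symm_apply _).symm⟩, ?_⟩
    apply e.injective
    rw [map_add, map_mul, he, het, e.apply_symm_apply, ← hf, ← map_mul, ← map_add]
    congr 1
    conv_lhs => rw [PowerSeries.eq_X_mul_shift_add_const f]
    simp [add_comm]
  · rintro y ⟨z, hz, hyz⟩
    obtain ⟨z', hz'⟩ := mem_OPS.mp hz
    obtain ⟨a, s, rfl⟩ := IsLocalization.exists_mk'_eq (MX R) y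
    obtain ⟨k, g, hg, hs⟩ := exists_eq_X_pow_mul_of_mem_MX s.2
    -- the relation in power series
    have h1 : algebraMap R[X] L a = IsLocalization.mk' L a s * algebraMap R[X] L s :=
      (IsLocalization.mk'_spec L a s).symm
    have h2 : oP (a : PowerSeries R) =
        oP ((1 + PowerSeries.X * z') * ((s : R[X]) : PowerSeries R)) := by
      have := congrArg (fun w => e (algebraMap L L' w)) h1
      simp only [map_mul, he] at this
      rw [hyz] at this
      rw [map_mul, map_add, map_one, map_mul, hz', ← het]
      simp only [map_add, map_one, map_mul] at this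
      exact this
    have h3 : (a : PowerSeries R) = (1 + PowerSeries.X * z') * ((s : R[X]) : PowerSeries R) :=
      hinj h2
    rw [hs] at h3
    have h4 : (a : PowerSeries R) =
        PowerSeries.X ^ k * ((1 + PowerSeries.X * z') * (g : PowerSeries R)) := by
      rw [h3]; simp only [Polynomial.coe_mul, Polynomial.coe_pow, Polynomial.coe_X]; ring
    have hdvd : (X : R[X]) ^ k ∣ a := by
      rw [Polynomial.X_pow_dvd_iff]
      intro d hd
      have := congrArg (PowerSeries.coeff d) h4
      rw [Polynomial.coeff_coe, PowerSeries.coeff_X_pow_mul', if_neg (by omega)] at this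
      exact this
    obtain ⟨a', ha'⟩ := hdvd
    have ha'0 : a'.coeff 0 = 1 := by
      have h5 := congrArg (PowerSeries.coeff k) h4
      rw [Polynomial.coeff_coe, PowerSeries.coeff_X_pow_mul', if_pos le_rfl, Nat.sub_self,
        ha', Polynomial.coeff_X_pow_mul', if_pos le_rfl, Nat.sub_self] at h5
      rw [h5]
      simp [PowerSeries.coeff_zero_eq_constantCoeff, hg]
    have haM : a ∈ MX R := by rw [ha']; exact X_pow_mul_mem_MX k ha'0
    have hua : IsUnit (algebraMap R[X] L a) := IsLocalization.map_units L (⟨a, haM⟩ : MX R)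
    have hus : IsUnit (algebraMap R[X] L s) := IsLocalization.map_units L s
    rw [h1] at hua
    exact isUnit_of_mul_isUnit_left hua
  · intro z hz
    obtain ⟨z', hz'⟩ := mem_OPS.mp hz
    have hunit : IsUnit (1 + PowerSeries.X * z' : PowerSeries R) := by
      rw [PowerSeries.isUnit_iff_constantCoeff]
      simp
    have := hunit.map oP
    rw [map_add, map_one, map_mul, hz', ← het, ← map_mul, ← map_one e, ← map_add] at this
    exact (isUnit_map_iff e _).mp this

end Laurent

end Groth.Agent.Lib.Helper89.Approx
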