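import Groth.Agent.Lib.Helper89.ApproxIdem
import Groth.Agent.Lib.Helper3.IdemBij

/-!
# Finitely generated projective modules over `Â[1/t]` descend to `A[1/t]` for a Henselian pair

Idempotent matrices over `Λ' = Ac[1/t]` are conjugate to images of idempotent matrices over
`Λ = A[1/t]`, when `(A, tA)` is a Henselian pair and `A → Ac` is completion-like.
-/

set_option linter.unusedSectionVars false
set_option linter.unusedVariables false

namespace Groth.Agent.Lib.Helper89.Approx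

open Polynomial Matrix Groth.Agent.Lib.Helper89.Horrocks Groth.Agent.Lib.Helper89.QPatch

universe u

section Noncomm

/-- The idempotent correction formula for commuting elements of a (noncommutative) ring. -/
lemma idem_formula {S : Type*} [Ring S] (y σ : S) (h : y * σ = σ * y) :
    (y + (y + y - 1) * σ) * (y + (y + y - 1) * σ) - (y + (y + y - 1) * σ) =
      (y * y - y) + (1 + 4 * (y * y - y)) * (σ * σ + σ) := by
  have h1 : σ * y = y * σ := h.symm
  have h2 : ∀ a : S, σ * (y * a) = y * (σ * a) := fun a => by rw [← mul_assoc, h1, mul_assoc]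
  simp only [mul_add, add_mul, mul_sub, sub_mul, one_mul, mul_assoc, h1, h2]
  noncomm_ring

/-- Two idempotents are intertwined by `u = 1 - p - q + 2pq`. -/
lemma conj_formula {S : Type*} [Ring S] (p q : S) (hp : p * p = p) (hq : q * q = q) :
    (1 - p - q + (p * q + p * q)) * q = p * (1 - p - q + (p * q + p * q)) ∧
      (1 - p - q + (p * q + p * q)) = 1 + (p - q) * (q + q - 1) := by
  refine ⟨?_, ?_⟩
  · have e1 : (1 - p - q + (p * q + p * q)) * q = p * q := by
      simp only [sub_mul, add_mul, one_mul, mul_assoc, hq]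
      abel
    have e2 : p * (1 - p - q + (p * q + p * q)) = p * q := by
      simp only [mul_sub, mul_add, mul_one, ← mul_assoc, hp]
      abel
    rw [e1, e2]
  · simp only [sub_mul, mul_sub, mul_add, mul_one, hq]
    abel

end Noncomm

section Hensel

/-- Solving the quadratic equation for the idempotent correction in a Henselian pair. -/
lemma hensel_solve {C : Type*} [CommRing C] (T : C) [HenselianRing C (Ideal.span {T})] (x : C)
    (m : ℕ) (hm : 1 ≤ m) :
    ∃ s' : C, (1 + 4 * (T ^ m * x)) * ((T ^ m * s') * (T ^ m * s') + T ^ m * s') + T ^ m * x = 0 := by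
  have htI : T ∈ Ideal.span {T} := Ideal.mem_span_singleton_self T
  have hjac : Ideal.span {T} ≤ (⊥ : Ideal C).jacobson := HenselianRing.jac
  have ht : T ∈ (⊥ : Ideal C).jacobson := hjac htI
  have hunit : ∀ c : C, IsUnit (1 + T * c) := fun c => by
    have := (Ideal.mem_jacobson_bot.mp ht) c
    rwa [add_comm] at this
  obtain ⟨k, rfl⟩ : ∃ k, m = k + 1 := ⟨m - 1, by omega⟩
  obtain ⟨u₀, hu₀⟩ := hunit (4 * (T ^ k * x))
  obtain ⟨c', hc'⟩ : ∃ c', c' = T ^ (k + 1) * x * ↑u₀⁻¹ := ⟨_, rfl⟩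
  have hu₀c' : (1 + T * (4 * (T ^ k * x))) * c' = T ^ (k + 1) * x := by
    rw [hc', ← hu₀]
    calc (u₀ : C) * (T ^ (k + 1) * x * ↑u₀⁻¹) = T ^ (k + 1) * x * (↑u₀ * ↑u₀⁻¹) := by ring
      _ = T ^ (k + 1) * x := by rw [Units.mul_inv, mul_one]
  have hc'I : c' ∈ Ideal.span {T} := by
    rw [hc', pow_succ']
    exact Ideal.mul_mem_right _ _ (Ideal.mul_mem_right _ _ (Ideal.mul_mem_right _ _ htI))
  obtain ⟨s, hs, hsI⟩ := HenselianRing.is_henselian (R := C) (I := Ideal.span {T})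
    (X ^ 2 + X + Polynomial.C c') (by
      have : (X ^ 2 + X + Polynomial.C c' : C[X]) = X ^ 2 + (X + Polynomial.C c') := by ring
      rw [this]
      exact monic_X_pow_add (by
        calc (X + Polynomial.C c' : C[X]).degree ≤ 1 := by
              refine (degree_add_le _ _).trans (max_le degree_X_le ?_)
              exact degree_C_le.trans (by norm_num)
          _ < 2 := by norm_num))
    0 (by simpa using hc'I) (by simp)
  rw [sub_zero] at hsI
  have hs' : s ^ 2 + s + c' = 0 := by simpa [IsRoot] using hs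
  obtain ⟨s₁, hs₁⟩ := Ideal.mem_span_singleton'.mp hsI
  obtain ⟨u₁, hu₁⟩ := hunit s₁
  have hs2 : s = T ^ (k + 1) * (-(x * ↑u₀⁻¹ * ↑u₁⁻¹)) := by
    have h1 : s * (1 + T * s₁) = -c' := by
      have : s * (1 + T * s₁) = s ^ 2 + s := by rw [← hs₁]; ring
      rw [this]; linear_combination hs'
    calc s = s * (1 + T * s₁) * ↑u₁⁻¹ := by
          rw [← hu₁, mul_assoc, Units.mul_inv, mul_one]
      _ = T ^ (k + 1) * (-(x * ↑u₀⁻¹ * ↑u₁⁻¹)) := by rw [h1, hc']; ring
  refine ⟨-(x * ↑u₀⁻¹ * ↑u₁⁻¹), ?_⟩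
  rw [← hs2]
  linear_combination (1 + 4 * (T ^ (k + 1) * x)) * hs' - hu₀c'

end Hensel

section MatrixHensel

variable {A : Type u} [CommRing A] {n : Type*} [Fintype n] [DecidableEq n]

/-- Solve the quadratic equation inside the commutative integral `A`-algebra generated by a
matrix. -/
lemma hensel_matrix (t : A) [HenselianRing A (Ideal.span {t})] (cM : Matrix n n A) (m : ℕ)
    (hm : 1 ≤ m) :
    ∃ P : A[X],
      (1 + 4 * (algebraMap A (Matrix n n A) t ^ m * cM)) *
        ((algebraMap A (Matrix n n A) t ^ m * aeval cM P) *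
            (algebraMap A (Matrix n n A) t ^ m * aeval cM P) +
          algebraMap A (Matrix n n A) t ^ m * aeval cM P) +
        algebraMap A (Matrix n n A) t ^ m * cM = 0 := by
  obtain ⟨χ, hχ⟩ : ∃ χ, χ = cM.charpoly := ⟨_, rfl⟩
  have hmonic : χ.Monic := hχ ▸ Matrix.charpoly_monic cM
  have : Module.Finite A (AdjoinRoot χ) := hmonic.finite_adjoinRoot
  have : Algebra.IsIntegral A (AdjoinRoot χ) := Algebra.IsIntegral.of_finite A _
  have hH : HenselianRing (AdjoinRoot χ) (Ideal.span {algebraMap A (AdjoinRoot χ) t}) := by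
    have := Groth.Agent.Lib.Helper3.henselianRing_map_of_isIntegral (Ideal.span {t}) (AdjoinRoot χ)
    rwa [Ideal.map_span, Set.image_singleton] at this
  obtain ⟨s', hs'⟩ := hensel_solve (algebraMap A (AdjoinRoot χ) t) (AdjoinRoot.root χ) m hm
  obtain ⟨P, rfl⟩ := AdjoinRoot.mk_surjective s'
  let Φ₀ : AdjoinRoot χ →+* Matrix n n A :=
    Ideal.Quotient.lift (Ideal.span {χ}) (aeval cM : A[X] →ₐ[A] Matrix n n A).toRingHom (by
      intro a ha
      obtain ⟨b, rfl⟩ := Ideal.mem_span_singleton.mp ha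
      rw [hχ]
      simp [Matrix.aeval_self_charpoly])
  have hΦmk : ∀ Q : A[X], Φ₀ (AdjoinRoot.mk χ Q) = aeval cM Q := fun Q => rfl
  have hT : Φ₀ (algebraMap A (AdjoinRoot χ) t) = algebraMap A (Matrix n n A) t := by
    rw [AdjoinRoot.algebraMap_eq]
    show aeval cM (C t) = _
    rw [aeval_C]
  have hx : Φ₀ (AdjoinRoot.root χ) = cM := by
    show aeval cM X = _
    rw [aeval_X]
  refine ⟨P, ?_⟩
  have := congrArg Φ₀ hs'
  simpa only [map_add, map_mul, map_pow, map_one, map_zero, map_ofNat, hT, hx, hΦmk] using this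

/-- A matrix commuting with the image of `cM` commutes with the image of any polynomial in
`cM`. -/
lemma commute_map_aeval {Λ : Type*} [CommRing Λ] (f : A →+* Λ) (cM : Matrix n n A)
    (y : Matrix n n Λ) (h : y * cM.map f = cM.map f * y) (P : A[X]) :
    y * (aeval cM P).map f = (aeval cM P).map f * y := by
  have hc : Commute y (f.mapMatrix cM) := h
  have hscal : ∀ a : A, Commute y (f.mapMatrix (algebraMap A (Matrix n n A) a)) := by
    intro a
    have : f.mapMatrix (algebraMap A (Matrix n n A) a) = algebraMap Λ (Matrix n n Λ) (f a) := by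
      ext i i'
      by_cases hii : i = i'
      · subst hii; simp [Matrix.algebraMap_matrix_apply]
      · simp [Matrix.algebraMap_matrix_apply, hii]
    rw [this]
    exact (Algebra.commutes (f a) y).symm
  suffices Commute y (f.mapMatrix (aeval cM P)) from this
  induction P using Polynomial.induction_on' with
  | add P Q hP hQ => rw [map_add, map_add]; exact hP.add_right hQ
  | monomial k a =>
    rw [aeval_monomial, map_mul, map_pow]
    exact (hscal a).mul_right (hc.pow_right k)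

end MatrixHensel

section Proj

variable {A : Type u} [CommRing A] (t : A)
  {Ac : Type*} [CommRing Ac] [Algebra A Ac]
  {Λ : Type*} [CommRing Λ] [Algebra A Λ] [IsLocalization.Away t Λ]
  {Λ' : Type*} [CommRing Λ'] [Algebra Ac Λ'] [IsLocalization.Away (algebraMap A Ac t) Λ']
  [Algebra Λ Λ']

/-- Every idempotent matrix over `Λ'` is conjugate to the image of an idempotent matrix over
`Λ`. -/
theorem exists_idempotent_conj [HenselianRing A (Ideal.span {t})]
    (hjalg : ∀ a : A, algebraMap Λ Λ' (algebraMap A Λ a) = algebraMap Ac Λ' (algebraMap A Ac a))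
    (H1 : ∀ x : Ac, ∃ (a₀ : A) (y : Ac), x = algebraMap A Ac a₀ + algebraMap A Ac t * y)
    (H2 : ∀ (a : A) (N : ℕ) (z : Ac), algebraMap A Ac a = algebraMap A Ac t ^ N * z →
      ∃ c : A, a = t ^ N * c)
    (H3 : algebraMap A Ac t ∈ (⊥ : Ideal Ac).jacobson)
    {n : Type*} [Fintype n] [DecidableEq n] (p' : Matrix n n Λ') (hp' : p' * p' = p') :
    ∃ (p : Matrix n n Λ) (u v : Matrix n n Λ'), p * p = p ∧ u * v = 1 ∧ v * u = 1 ∧
      u * p.map (algebraMap Λ Λ') = p' * u := by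
  have htI : t ∈ Ideal.span {t} := Ideal.mem_span_singleton_self t
  have hjac : Ideal.span {t} ≤ (⊥ : Ideal A).jacobson := HenselianRing.jac
  have ht : t ∈ (⊥ : Ideal A).jacobson := hjac htI
  obtain ⟨hpair, hu⟩ := approxPair_of_completionLike t ht Ac Λ Λ' hjalg H1 H2 H3
  obtain ⟨j, hj⟩ : ∃ j : Λ →+* Λ', j = algebraMap Λ Λ' := ⟨_, rfl⟩
  obtain ⟨ι', hι'⟩ : ∃ ι' : Ac →+* Λ', ι' = algebraMap Ac Λ' := ⟨_, rfl⟩
  obtain ⟨ιA, hιA⟩ : ∃ ιA : A →+* Λ, ιA = algebraMap A Λ := ⟨_, rfl⟩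
  obtain ⟨th, hth⟩ : ∃ th, th = algebraMap A Ac t := ⟨_, rfl⟩
  obtain ⟨τ, hτ⟩ : ∃ τ, τ = j (ιA t) := ⟨_, rfl⟩
  rw [← hj, ← hι', ← hιA] at hpair hu
  rw [← hτ] at hu
  rw [← hj, ← hι', ← hιA] at hjalg
  have hτ' : τ = ι' th := by rw [hτ, hjalg, hth]
  have hsmall := small_lift (Λ := Λ) (Λ' := Λ') t
    (by rw [← hj, ← hι', ← hιA]; exact hjalg) H2
  rw [← hj, ← hι', ← hιA, ← hth] at hsmall
  have hτO : τ ∈ ι'.range := hτ' ▸ ⟨th, rfl⟩
  have hτpow : ∀ a : ℕ, τ ^ a ∈ ι'.range := fun a => Subring.pow_mem _ hτO a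
  have hut : IsUnit (ιA t) := by rw [hιA]; exact IsLocalization.Away.algebraMap_isUnit t
  -- Step a: the pole order
  obtain ⟨k, hk⟩ := hpair.matrix_pole p'
  rw [← hτ] at hk
  have hkp : MemO ι'.range (τ ^ k • p') := hk k le_rfl
  -- Step b: approximate
  obtain ⟨y, z, hz, hyz⟩ := hpair.matrix_dense (k + k + k + 1) p'
  rw [← hτ] at hyz
  obtain ⟨y', hy'⟩ : ∃ y', y' = y.map j := ⟨_, rfl⟩
  rw [← hy'] at hyz
  have hpy : p' - y' = τ ^ (k + k + k + 1) • z := by rw [hyz]; abel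
  have hy'eq : y' = p' - τ ^ (k + k + k + 1) • z := by rw [hyz]; abel
  obtain ⟨ε, hε⟩ : ∃ ε, ε = y * y - y := ⟨_, rfl⟩
  obtain ⟨G, hG⟩ : ∃ G, G = -((τ ^ k • p') * z + z * (τ ^ k • p')) +
      τ ^ (k + k + k + k + 1) • (z * z) + τ ^ k • z := ⟨_, rfl⟩
  have hGO : MemO ι'.range G := by
    rw [hG]
    exact (((hkp.mul hz).add (hz.mul hkp)).neg.add (MemO.smul (hτpow _) (hz.mul hz))).add
      (MemO.smul (hτpow _) hz)
  have hεj : ε.map j = τ ^ (k + k + 1) • G := by
    rw [hε, Matrix.map_sub _ (map_sub j), Matrix.map_mul, ← hy', hy'eq, hG]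
    simp only [Matrix.mul_sub, Matrix.sub_mul, Matrix.mul_smul, Matrix.smul_mul, hp', smul_sub,
      smul_add, smul_neg, smul_smul]
    module
  -- Step c: entries of ε are small
  have hentry : ∀ a b, ∃ c : A, ε a b = ιA (t ^ (k + k + 1) * c) := by
    intro a b
    obtain ⟨g, hg⟩ := hGO a b
    apply hsmall _ _ g
    have := congrFun (congrFun hεj a) b
    rw [Matrix.map_apply, Matrix.smul_apply, smul_eq_mul] at this
    rw [this, ← hg, map_mul, map_pow, ← hτ']
  choose c hc using hentry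
  obtain ⟨cM, hcM⟩ : ∃ cM : Matrix n n A, cM = Matrix.of c := ⟨_, rfl⟩
  -- Step d: solve
  obtain ⟨P, hP⟩ := hensel_matrix t cM (k + k + 1) (by omega)
  obtain ⟨S₀, hS₀⟩ : ∃ S₀, S₀ = aeval cM P := ⟨_, rfl⟩
  rw [← hS₀] at hP
  obtain ⟨ch, hch⟩ : ∃ ch, ch = cM.map ιA := ⟨_, rfl⟩
  obtain ⟨Sh, hSh⟩ : ∃ Sh, Sh = S₀.map ιA := ⟨_, rfl⟩
  have hθ : ιA.mapMatrix (algebraMap A (Matrix n n A) t) = ιA t • (1 : Matrix n n Λ) := by
    ext i i'
    by_cases hii : i = i'
    · subst hii; simp [Matrix.algebraMap_matrix_apply]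
    · simp [Matrix.algebraMap_matrix_apply, hii]
  have hεch : ε = ιA t ^ (k + k + 1) • ch := by
    ext a b
    rw [hc a b, hch, hcM, Matrix.smul_apply, Matrix.map_apply, Matrix.of_apply, smul_eq_mul,
      map_mul, map_pow]
  obtain ⟨σ, hσ⟩ : ∃ σ, σ = ιA t ^ (k + k + 1) • Sh := ⟨_, rfl⟩
  have hpow : ∀ (m : ℕ) (N : Matrix n n Λ), (ιA t • (1 : Matrix n n Λ)) ^ m * N = ιA t ^ m • N := by
    intro m N
    rw [_root_.smul_pow, one_pow, Matrix.smul_mul, Matrix.one_mul]
  have heq : (1 + 4 * ε) * (σ * σ + σ) + ε = 0 := by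
    have := congrArg ιA.mapMatrix hP
    simp only [map_add, map_mul, map_pow, map_one, map_zero, map_ofNat, hθ, hpow] at this
    rw [hεch, hσ, hch, hSh]
    exact this
  have hyε : y * ε = ε * y := by rw [hε]; noncomm_ring
  have hych : y * ch = ch * y := by
    rw [hεch, Matrix.mul_smul, Matrix.smul_mul] at hyε
    exact ((hut.pow (k + k + 1)).smul_left_cancel).mp hyε
  have hySh : y * Sh = Sh * y := by
    rw [hSh, hS₀]
    exact commute_map_aeval ιA cM y (hch ▸ hych) P
  have hyσ : y * σ = σ * y := by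
    rw [hσ, Matrix.mul_smul, Matrix.smul_mul, hySh]
  obtain ⟨e₀, he₀⟩ : ∃ e₀, e₀ = y + (y + y - 1) * σ := ⟨_, rfl⟩
  have he₀idem : e₀ * e₀ = e₀ := by
    have := idem_formula y σ hyσ
    rw [← he₀, ← hε, add_comm, heq] at this
    exact sub_eq_zero.mp this
  -- Step g: the image of e₀ is close to p'
  obtain ⟨q, hq⟩ : ∃ q, q = e₀.map j := ⟨_, rfl⟩
  have hqidem : q * q = q := by rw [hq, ← Matrix.map_mul, he₀idem]
  obtain ⟨Sj, hSj⟩ : ∃ Sj, Sj = Sh.map j := ⟨_, rfl⟩
  have hSjO : MemO ι'.range Sj := by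
    intro a b
    rw [hSj, hSh, Matrix.map_apply, Matrix.map_apply, hjalg]
    exact ⟨_, rfl⟩
  have hσj : σ.map j = τ ^ (k + k + 1) • Sj := by
    rw [hσ, Matrix.map_smul' j _ _ (map_mul j), map_pow, ← hτ, hSj]
  have hqeq : q = y' + (y' + y' - 1) * (τ ^ (k + k + 1) • Sj) := by
    rw [hq, he₀, Matrix.map_add _ (map_add j), Matrix.map_mul, Matrix.map_sub _ (map_sub j),
      Matrix.map_add _ (map_add j), map_one_ringHom, hσj, ← hy']
  have hky' : MemO ι'.range (τ ^ k • y') := by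
    rw [hy'eq, smul_sub]
    exact hkp.sub (MemO.smul (hτpow _) (MemO.smul (hτpow _) hz))
  have hk1 : MemO ι'.range (τ ^ k • (1 : Matrix n n Λ')) := MemO.smul (hτpow k) MemO.one
  obtain ⟨D, hD⟩ : ∃ D, D = τ ^ (k + k) • z - (τ ^ k • (y' + y' - 1)) * Sj := ⟨_, rfl⟩
  have hDO : MemO ι'.range D := by
    rw [hD]
    refine (MemO.smul (hτpow _) hz).sub (MemO.mul ?_ hSjO)
    rw [smul_sub, smul_add]
    exact (hky'.add hky').sub hk1
  have hδ : p' - q = τ ^ (k + 1) • D := by
    have h1 : p' - q = (p' - y') - (y' + y' - 1) * (τ ^ (k + k + 1) • Sj) := by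
      rw [hqeq]; abel
    rw [h1, hpy, hD]
    simp only [Matrix.mul_smul, Matrix.smul_mul, smul_sub, smul_add, smul_smul, Matrix.sub_mul,
      Matrix.add_mul, Matrix.one_mul]
    module
  have hkq : MemO ι'.range (τ ^ k • q) := by
    have : q = p' - τ ^ (k + 1) • D := by rw [← hδ]; abel
    rw [this, smul_sub]
    exact hkp.sub (MemO.smul (hτpow _) (MemO.smul (hτpow _) hDO))
  obtain ⟨W, hW⟩ : ∃ W, W = D * (τ ^ k • (q + q - 1)) := ⟨_, rfl⟩
  have hWO : MemO ι'.range W := by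
    rw [hW]
    refine hDO.mul ?_
    rw [smul_sub, smul_add]
    exact (hkq.add hkq).sub hk1
  obtain ⟨hconj, hueq⟩ := conj_formula p' q hp' hqidem
  obtain ⟨u, hud⟩ : ∃ u, u = 1 - p' - q + (p' * q + p' * q) := ⟨_, rfl⟩
  rw [← hud] at hconj hueq
  have hu1 : u = 1 - τ • (-W) := by
    rw [hueq, hδ, hW]
    simp only [Matrix.mul_smul, Matrix.smul_mul, smul_neg, smul_smul, sub_neg_eq_add]
    rw [pow_succ']
  have hdet : IsUnit u.det := by
    obtain ⟨z', hz', hzd⟩ := exists_det_one_sub_smul hWO.neg hτO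
    rw [hu1, hzd]
    exact hu z' hz'
  obtain ⟨h1, h2⟩ := isUnit_of_isUnit_det u hdet
  refine ⟨e₀, u, u⁻¹, he₀idem, h1, h2, ?_⟩
  rw [← hj, ← hq]
  exact hconj

end Proj

section ProjModule

open TensorProduct

universe v

variable {A : Type u} [CommRing A] (t : A)
  {Ac : Type*} [CommRing Ac] [Algebra A Ac]
  {Λ : Type v} [CommRing Λ] [Algebra A Λ] [IsLocalization.Away t Λ]
  {Λ' : Type*} [CommRing Λ'] [Algebra Ac Λ'] [IsLocalization.Away (algebraMap A Ac t) Λ']
  [Algebra Λ Λ']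

/-- Every finitely generated projective `Λ'`-module is extended from a finitely generated
projective `Λ`-module. -/
theorem exists_projective_baseChange [HenselianRing A (Ideal.span {t})]
    (hjalg : ∀ a : A, algebraMap Λ Λ' (algebraMap A Λ a) = algebraMap Ac Λ' (algebraMap A Ac a))
    (H1 : ∀ x : Ac, ∃ (a₀ : A) (y : Ac), x = algebraMap A Ac a₀ + algebraMap A Ac t * y)
    (H2 : ∀ (a : A) (N : ℕ) (z : Ac), algebraMap A Ac a = algebraMap A Ac t ^ N * z →
      ∃ c : A, a = t ^ N * c)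
    (H3 : algebraMap A Ac t ∈ (⊥ : Ideal Ac).jacobson)
    (M' : Type*) [AddCommGroup M'] [Module Λ' M'] [Module.Finite Λ' M'] [Module.Projective Λ' M'] :
    ∃ (M : Type v) (_ : AddCommGroup M) (_ : Module Λ M), Module.Finite Λ M ∧
      Module.Projective Λ M ∧ Nonempty (Λ' ⊗[Λ] M ≃ₗ[Λ'] M') := by
  obtain ⟨n, p', ⟨hM'⟩⟩ := exists_pres Λ' M'
  obtain ⟨p, u, v, hp, huv, hvu, hconj⟩ := exists_idempotent_conj t hjalg H1 H2 H3 p' hM'.idem
  have hM₀ : Pres Λ (LinearMap.range p.mulVecLin) p := Pres.ofRange hp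
  refine ⟨LinearMap.range p.mulVecLin, inferInstance, inferInstance, Module.Finite.range _,
    ?_, ?_⟩
  · refine Module.Projective.of_split hM₀.i hM₀.π ?_
    exact LinearMap.ext fun x => hM₀.πi x
  · have hB := hM₀.baseChange Λ'
    obtain ⟨q, hq⟩ : ∃ q, q = p.map (algebraMap Λ Λ') := ⟨_, rfl⟩
    rw [← hq] at hB hconj
    have hqq : q * q = q := hB.idem
    have hpp : p' * p' = p' := hM'.idem
    have hqv : q * v = v * p' := by
      calc q * v = (v * u) * (q * v) := by rw [hvu, Matrix.one_mul]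
        _ = v * (u * q) * v := by simp only [Matrix.mul_assoc]
        _ = v * (p' * u) * v := by rw [hconj]
        _ = v * p' * (u * v) := by simp only [Matrix.mul_assoc]
        _ = v * p' := by rw [huv, Matrix.mul_one]
    refine ⟨hB.equiv hM' (p' * u) (q * v) ?_ ?_ ?_ ?_⟩
    · rw [Matrix.mul_assoc, hconj, ← Matrix.mul_assoc, hpp]
    · rw [hqv, Matrix.mul_assoc, hpp]
    · rw [hqv, Matrix.mul_assoc, ← Matrix.mul_assoc u, huv, Matrix.one_mul, hpp]
    · rw [← hconj, Matrix.mul_assoc, ← Matrix.mul_assoc v, hvu, Matrix.one_mul, hqq]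

end ProjModule

end Groth.Agent.Lib.Helper89.Approx
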