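import Mathlib
import Groth.Agent.Lib.Helper89.BCFive

/-!
# Base change along a finite projective algebra via a dual basis (helper89)

If `B` is an `A`-algebra with a finite "dual basis" `b j`, `φ j` and `ψ : N → N'` is an `A`-linear
map to a `B`-module admitting additive maps `Ψ j : N' → N` which behave like `id ⊗ φ j`, then `ψ` is
a base change.
-/

set_option autoImplicit false
open TensorProduct

namespace Groth.Agent.Lib.Helper89.DualBasisBC

open Groth.Agent.Lib.Helper89.BCFive

variable {A B : Type*} [CommRing A] [CommRing B] [Algebra A B]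

/-- a finite projective module has a finite dual basis. -/
theorem exists_dualBasis [Module.Finite A B] [Module.Projective A B] :
    ∃ (n : ℕ) (b : Fin n → B) (φ : Fin n → (B →ₗ[A] A)), ∀ x : B, ∑ j, φ j x • b j = x := by
  obtain ⟨n, f, g, -, -, hfg⟩ := Module.Finite.exists_comp_eq_id_of_projective A B
  refine ⟨n, fun j => f (Pi.single j 1), fun j => (LinearMap.proj j).comp g, fun x => ?_⟩
  have hx : f (g x) = x := congrArg (fun k : B →ₗ[A] B => k x) hfg
  conv_rhs => rw [← hx]
  have h2 : g x = ∑ j, (g x j) • (Pi.single j (1 : A) : Fin n → A) := by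
    funext k
    simp [Finset.sum_apply, Pi.single_apply]
  conv_rhs => rw [h2]
  rw [map_sum]
  refine Finset.sum_congr rfl fun j _ => ?_
  rw [map_smul]
  rfl

variable {N N' : Type*} [AddCommGroup N] [AddCommGroup N'] [Module A N] [Module A N']
  [Module B N'] [IsScalarTower A B N']

theorem isBaseChange_of_dualBasis (ψ : N →ₗ[A] N') {J : Type*} [Fintype J] (b : J → B)
    (φ : J → (B →ₗ[A] A)) (hdual : ∀ x : B, ∑ j, φ j x • b j = x) (Ψ : J → (N' →+ N))
    (h1 : ∀ e : N', ∑ j, b j • ψ (Ψ j e) = e)
    (h2 : ∀ j (x : B) (n : N), Ψ j (x • ψ n) = φ j x • n) : IsBaseChange B ψ := by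
  rw [isBaseChange_iff_bijective]
  let inv : N' → B ⊗[A] N := fun e => ∑ j, b j ⊗ₜ[A] Ψ j e
  have hinv1 : ∀ e, (ψ.liftBaseChange B) (inv e) = e := by
    intro e
    simp only [inv, map_sum, LinearMap.liftBaseChange_tmul]
    exact h1 e
  have hadd : ∀ e e', inv (e + e') = inv e + inv e' := by
    intro e e'
    simp only [inv, map_add, tmul_add, Finset.sum_add_distrib]
  have hinv2 : ∀ t, inv ((ψ.liftBaseChange B) t) = t := by
    intro t
    induction t using TensorProduct.induction_on with
    | zero => simp [inv]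
    | tmul x n =>
      simp only [inv, LinearMap.liftBaseChange_tmul, h2]
      have h3 : (∑ j, b j ⊗ₜ[A] (φ j x • n)) = (∑ j, φ j x • b j) ⊗ₜ[A] n := by
        rw [TensorProduct.sum_tmul]
        refine Finset.sum_congr rfl fun j _ => ?_
        rw [TensorProduct.tmul_smul, TensorProduct.smul_tmul']
      rw [h3, hdual]
    | add s t hs ht => rw [map_add, hadd, hs, ht]
  exact ⟨fun s t hst => by rw [← hinv2 s, ← hinv2 t, hst], fun e => ⟨inv e, hinv1 e⟩⟩

end Groth.Agent.Lib.Helper89.DualBasisBC
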