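import Groth.Agent.Lib.Helper89.TopBC
import Groth.Agent.Lib.Helper89.DualBasisBC

/-!
# Maps `E ⟶ F` of abelian sheaves built from a basis on which `E = F ⊗_A B` (helper89)

Setting: abelian sheaves `F`, `E` on a space with actions of `A` on `F`, of an `A`-algebra `B` on
`E`, an equivariant `u : F ⟶ E` which is a base change on sections over a basis `ℬ` of opens.
Then every `A`-linear form `φ : B → A` induces `Phi φ : E ⟶ F` (the map `id ⊗ φ`).
-/

set_option autoImplicit false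
universe u
open CategoryTheory Limits Opposite TopologicalSpace TensorProduct

namespace Groth.Agent.Lib.Helper89.BasisMap

open Groth.Agent.Lib.Helper89.TopBC

variable {X : TopCat.{u}} {A B : Type*} [CommRing A] [CommRing B] [Algebra A B]
  {F E : CohTop.Ab X} (ρ : A →+* End F) (ρ'' : B →+* End E) (u : F ⟶ E)
  (hu : ∀ a : A, ρ a ≫ u = u ≫ ρ'' (algebraMap A B a))

section res

/-- restriction of sections, linearly. -/
noncomputable def resM {V W : Opens X} (h : W ≤ V) : SecM ρ V →ₗ[A] SecM ρ W where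
  toFun s := (F.obj.map (homOfLE h).op).hom s
  map_add' := map_add _
  map_smul' a s := by
    change (F.obj.map (homOfLE h).op).hom (((ρ a).hom.app (op V)).hom s) =
      ((ρ a).hom.app (op W)).hom ((F.obj.map (homOfLE h).op).hom s)
    have h1 := (ρ a).hom.naturality (homOfLE h).op
    exact (congrArg (fun k => k.hom s) h1).symm

/-- restriction of sections, linearly (the `B`-side). -/
noncomputable def resMB {V W : Opens X} (h : W ≤ V) : SecMB A ρ'' V →ₗ[B] SecMB A ρ'' W where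
  toFun s := (E.obj.map (homOfLE h).op).hom s
  map_add' := map_add _
  map_smul' a s := by
    change (E.obj.map (homOfLE h).op).hom (((ρ'' a).hom.app (op V)).hom s) =
      ((ρ'' a).hom.app (op W)).hom ((E.obj.map (homOfLE h).op).hom s)
    have h1 := (ρ'' a).hom.naturality (homOfLE h).op
    exact (congrArg (fun k => k.hom s) h1).symm

include hu in
/-- `u` on sections, linearly. -/
noncomputable def secU (V : Opens X) : SecM ρ V →ₗ[A] SecMB A ρ'' V where
  toFun s := (u.hom.app (op V)).hom s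
  map_add' := map_add _
  map_smul' a s := by
    change (u.hom.app (op V)).hom (((ρ a).hom.app (op V)).hom s) =
      ((ρ'' (algebraMap A B a)).hom.app (op V)).hom ((u.hom.app (op V)).hom s)
    exact congrArg (fun k : F ⟶ E => (k.hom.app (op V)).hom s) (hu a)

theorem secU_res {V W : Opens X} (h : W ≤ V) (s : SecM ρ V) :
    secU ρ ρ'' u hu W (resM ρ h s) = resMB ρ'' h (secU ρ ρ'' u hu V s) := by
  change (u.hom.app (op W)).hom ((F.obj.map (homOfLE h).op).hom s) =
    (E.obj.map (homOfLE h).op).hom ((u.hom.app (op V)).hom s)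
  have h1 := u.hom.naturality (homOfLE h).op
  exact congrArg (fun k => k.hom s) h1

end res

section phiSec

variable {V : Opens X} (hV : IsBaseChange B (secU ρ ρ'' u hu V)) (φ : B →ₗ[A] A)

/-- the map `id ⊗ φ : E(V) = B ⊗ F(V) → F(V)`. -/
noncomputable def phiSec : SecMB A ρ'' V →ₗ[A] SecM ρ V :=
  ((TensorProduct.lid A (SecM ρ V)).toLinearMap ∘ₗ (φ.rTensor (SecM ρ V))) ∘ₗ
    (hV.equiv.symm.toLinearMap.restrictScalars A)

theorem phiSec_equiv (t : B ⊗[A] SecM ρ V) :
    phiSec ρ ρ'' u hu hV φ (hV.equiv t) =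
      (TensorProduct.lid A (SecM ρ V)) (φ.rTensor (SecM ρ V) t) := by
  change (TensorProduct.lid A (SecM ρ V)) (φ.rTensor (SecM ρ V) (hV.equiv.symm (hV.equiv t))) = _
  rw [LinearEquiv.symm_apply_apply]

theorem phiSec_smul (b : B) (s : SecM ρ V) :
    phiSec ρ ρ'' u hu hV φ (b • secU ρ ρ'' u hu V s) = φ b • s := by
  rw [← hV.equiv_tmul, phiSec_equiv, LinearMap.rTensor_tmul, TensorProduct.lid_tmul]

theorem sum_phiSec {J : Type*} [Fintype J] (b : J → B) (φ : J → (B →ₗ[A] A))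
    (hdual : ∀ x : B, ∑ j, φ j x • b j = x) (e : SecMB A ρ'' V) :
    ∑ j, b j • secU ρ ρ'' u hu V (phiSec ρ ρ'' u hu hV (φ j) e) = e := by
  obtain ⟨t, rfl⟩ := hV.equiv.surjective e
  induction t using TensorProduct.induction_on with
  | zero => simp
  | tmul x s =>
    rw [hV.equiv_tmul]
    have h1 : ∀ j, b j • secU ρ ρ'' u hu V (phiSec ρ ρ'' u hu hV (φ j) (x • secU ρ ρ'' u hu V s)) =
        (φ j x • b j) • secU ρ ρ'' u hu V s := by
      intro j
      rw [phiSec_smul, map_smul, smul_comm, smul_assoc]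
    rw [Finset.sum_congr rfl fun j _ => h1 j, ← Finset.sum_smul, hdual]
  | add t t' ht ht' =>
    simp only [map_add, smul_add, Finset.sum_add_distrib]
    rw [ht, ht']

end phiSec

section natural

variable {V W : Opens X} (h : W ≤ V) (hV : IsBaseChange B (secU ρ ρ'' u hu V))
  (hW : IsBaseChange B (secU ρ ρ'' u hu W)) (φ : B →ₗ[A] A)

theorem phiSec_res (e : SecMB A ρ'' V) :
    resM ρ h (phiSec ρ ρ'' u hu hV φ e) = phiSec ρ ρ'' u hu hW φ (resMB ρ'' h e) := by
  obtain ⟨t, rfl⟩ := hV.equiv.surjective e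
  induction t using TensorProduct.induction_on with
  | zero => simp
  | tmul x s =>
    rw [hV.equiv_tmul, phiSec_smul, map_smul, map_smul, ← secU_res, phiSec_smul]
  | add t t' ht ht' =>
    simp only [map_add]
    rw [ht, ht']

end natural

section sheaf

variable {ι : Type*} (ℬ : ι → Opens X) (hℬ : Opens.IsBasis (Set.range ℬ))
  (hB : ∀ i, IsBaseChange B (secU ρ ρ'' u hu (ℬ i))) (φ : B →ₗ[A] A)

/-- the family `phiSec` as a morphism of presheaves on the basis. -/
noncomputable def phiBasis :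
    (inducedFunctor ℬ).op ⋙ E.obj ⟶ (inducedFunctor ℬ).op ⋙ F.obj where
  app i := AddCommGrpCat.ofHom (phiSec ρ ρ'' u hu (hB i.unop) φ).toAddMonoidHom
  naturality i j f := by
    ext e
    exact (phiSec_res ρ ρ'' u hu (leOfHom f.unop.hom) (hB i.unop) (hB j.unop) φ e).symm

/-- the morphism of sheaves `id ⊗ φ : E ⟶ F`. -/
noncomputable def Phi : E ⟶ F :=
  ⟨TopCat.Sheaf.restrictHomEquivHom E.obj F hℬ (phiBasis ρ ρ'' u hu ℬ hB φ)⟩

theorem Phi_app (i : ι) (e : E.obj.obj (op (ℬ i))) :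
    ((Phi ρ ρ'' u hu ℬ hℬ hB φ).hom.app (op (ℬ i))).hom e =
      phiSec ρ ρ'' u hu (hB i) φ e := by
  have h := TopCat.Sheaf.extend_hom_app E.obj F hℬ (phiBasis ρ ρ'' u hu ℬ hB φ) i
  exact congrArg (fun k => k.hom e) h

end sheaf

section identities

variable {ι : Type*} (ℬ : ι → Opens X) (hℬ : Opens.IsBasis (Set.range ℬ))
  (hB : ∀ i, IsBaseChange B (secU ρ ρ'' u hu (ℬ i)))

theorem u_rho_Phi (φ : B →ₗ[A] A) (x : B) :
    u ≫ ρ'' x ≫ Phi ρ ρ'' u hu ℬ hℬ hB φ = ρ (φ x) := by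
  apply Sheaf.hom_ext
  apply TopCat.Sheaf.hom_ext F.obj F hℬ
  intro i
  ext s
  change ((Phi ρ ρ'' u hu ℬ hℬ hB φ).hom.app (op (ℬ i))).hom
    (((ρ'' x).hom.app (op (ℬ i))).hom ((u.hom.app (op (ℬ i))).hom s)) =
      ((ρ (φ x)).hom.app (op (ℬ i))).hom s
  rw [Phi_app]
  exact phiSec_smul ρ ρ'' u hu (hB i) φ x s

/-- evaluation on sections, additively in the morphism. -/
noncomputable def evalHom (P Q : CohTop.Ab X) (V : Opens X) :
    (P ⟶ Q) →+ (P.obj.obj (op V) →+ Q.obj.obj (op V)) :=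
  AddMonoidHom.mk' (fun f => (f.hom.app (op V)).hom) (fun _ _ => rfl)

theorem sum_Phi {J : Type*} [Fintype J] (b : J → B) (φ : J → (B →ₗ[A] A))
    (hdual : ∀ x : B, ∑ j, φ j x • b j = x) :
    ∑ j, (Phi ρ ρ'' u hu ℬ hℬ hB (φ j) ≫ u ≫ ρ'' (b j)) = 𝟙 E := by
  apply Sheaf.hom_ext
  apply TopCat.Sheaf.hom_ext E.obj E hℬ
  intro i
  ext e
  change evalHom E E (ℬ i) (∑ j, (Phi ρ ρ'' u hu ℬ hℬ hB (φ j) ≫ u ≫ ρ'' (b j))) e = e
  rw [map_sum, AddMonoidHom.finsetSum_apply]
  refine Eq.trans (Finset.sum_congr rfl fun j _ => ?_)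
    (sum_phiSec ρ ρ'' u hu (hB i) b φ hdual e)
  change ((ρ'' (b j)).hom.app (op (ℬ i))).hom ((u.hom.app (op (ℬ i))).hom
    (((Phi ρ ρ'' u hu ℬ hℬ hB (φ j)).hom.app (op (ℬ i))).hom e)) = _
  rw [Phi_app]
  rfl

end identities

end Groth.Agent.Lib.Helper89.BasisMap
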