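import Mathlib

/-!
# Kernel of the conormal map for a quotient that is formally smooth mod p (helper89)
-/

set_option autoImplicit false
universe u
open TensorProduct KaehlerDifferential

namespace Groth.Agent.Lib.Helper89

/-- If `E → C` is a surjective `Λ`-algebra map with square-zero kernel admitting a `Λ`-algebra
section, then `kerToTensor Λ E C` is injective. -/
theorem kerToTensor_injective_of_section {Λ E C : Type u} [CommRing Λ] [CommRing E] [CommRing C]
    [Algebra Λ E] [Algebra E C] [Algebra Λ C] [IsScalarTower Λ E C]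
    (g : C →ₐ[Λ] E) (hf' : (RingHom.ker (algebraMap E C)) ^ 2 = ⊥)
    (hg : (IsScalarTower.toAlgHom Λ E C).comp g = AlgHom.id Λ C) :
    Function.Injective (kerToTensor Λ E C) := by
  have h := retractionOfSectionOfKerSqZero_comp_kerToTensor g hf' hg
  intro x y hxy
  have := congrArg (retractionOfSectionOfKerSqZero g hf' hg) hxy
  rwa [← LinearMap.comp_apply, ← LinearMap.comp_apply, h] at this

/-- The comparison map `C ⊗[A] Ω[A/Λ] → C ⊗[E] Ω[E/Λ]` kills... -/
theorem tmul_D_eq_zero_of_tmul_D_eq_zero {Λ A E C : Type u} [CommRing Λ] [CommRing A] [CommRing E]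
    [CommRing C] [Algebra Λ A] [Algebra Λ E] [Algebra A E] [IsScalarTower Λ A E]
    [Algebra A C] [Algebra E C] [IsScalarTower A E C] (x : A)
    (h : (1 : C) ⊗ₜ[A] D Λ A x = 0) : (1 : C) ⊗ₜ[E] D Λ E (algebraMap A E x) = 0 := by
  let φ : C ⊗[A] Ω[A⁄Λ] →ₗ[A] C ⊗[E] Ω[E⁄Λ] :=
    (TensorProduct.mapOfCompatibleSMul E A A C Ω[E⁄Λ]) ∘ₗ
      (LinearMap.lTensor C (KaehlerDifferential.map Λ Λ A E))
  have := congrArg φ h
  simpa [φ] using this

theorem mem_sq_sup_span_of_tmul_D_eq_zero {Λ A C : Type u} [CommRing Λ] [CommRing A] [CommRing C]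
    [Algebra Λ A] [Algebra A C] [Algebra Λ C] [IsScalarTower Λ A C]
    (hsurj : Function.Surjective (algebraMap A C)) (p : ℕ)
    [Algebra (Λ ⧸ Ideal.span {(p : Λ)}) C] [IsScalarTower Λ (Λ ⧸ Ideal.span {(p : Λ)}) C]
    [Algebra.FormallySmooth (Λ ⧸ Ideal.span {(p : Λ)}) C]
    (hp : (p : A) ∈ RingHom.ker (algebraMap A C)) (x : A) (hxJ : x ∈ RingHom.ker (algebraMap A C))
    (hx : (1 : C) ⊗ₜ[A] D Λ A x = 0) :
    x ∈ (RingHom.ker (algebraMap A C)) ^ 2 ⊔ Ideal.span {(p : A)} := by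
  obtain ⟨K, hK⟩ : ∃ K : Ideal A, K = (RingHom.ker (algebraMap A C)) ^ 2 ⊔ Ideal.span {(p : A)} :=
    ⟨_, rfl⟩
  have hKJ : K ≤ RingHom.ker (algebraMap A C) := by
    rw [hK]
    refine sup_le (Ideal.pow_le_self two_ne_zero) ?_
    rw [Ideal.span_le]
    simpa using hp
  have hpK : (p : A) ∈ K := by
    rw [hK]; exact Ideal.mem_sup_right (Ideal.subset_span rfl)
  have hsqK : (RingHom.ker (algebraMap A C)) ^ 2 ≤ K := by
    rw [hK]; exact le_sup_left
  rw [← hK]
  -- the Λ-algebra map E → C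
  let f : (A ⧸ K) →ₐ[Λ] C :=
    Ideal.Quotient.liftₐ K (IsScalarTower.toAlgHom Λ A C) (fun a ha => hKJ ha)
  let _ : Algebra (A ⧸ K) C := f.toRingHom.toAlgebra
  have hfmk : ∀ a : A, algebraMap (A ⧸ K) C (Ideal.Quotient.mk K a) = algebraMap A C a :=
    fun a => rfl
  have : IsScalarTower Λ (A ⧸ K) C := IsScalarTower.of_algebraMap_eq fun r => (f.commutes r).symm
  have : IsScalarTower A (A ⧸ K) C := IsScalarTower.of_algebraMap_eq fun a => (hfmk a).symm
  have hfsurj : Function.Surjective (algebraMap (A ⧸ K) C) := by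
    intro c
    obtain ⟨a, rfl⟩ := hsurj c
    exact ⟨Ideal.Quotient.mk K a, hfmk a⟩
  have hsq : (RingHom.ker (algebraMap (A ⧸ K) C)) ^ 2 = ⊥ := by
    rw [eq_bot_iff, pow_two, Ideal.mul_le]
    intro u hu v hv
    obtain ⟨a, rfl⟩ := Ideal.Quotient.mk_surjective u
    obtain ⟨b, rfl⟩ := Ideal.Quotient.mk_surjective v
    rw [RingHom.mem_ker, hfmk] at hu hv
    rw [Ideal.mem_bot, ← map_mul, Ideal.Quotient.eq_zero_iff_mem]
    apply hsqK
    rw [pow_two]
    exact Ideal.mul_mem_mul hu hv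
  -- Λ' structure on E
  have hpE : ∀ a ∈ Ideal.span {(p : Λ)}, algebraMap Λ (A ⧸ K) a = 0 := by
    intro a ha
    rw [Ideal.mem_span_singleton] at ha
    obtain ⟨b, rfl⟩ := ha
    rw [map_mul, map_natCast]
    have : ((p : A ⧸ K)) = 0 := by
      rw [← map_natCast (Ideal.Quotient.mk K), Ideal.Quotient.eq_zero_iff_mem]
      exact hpK
    rw [this, zero_mul]
  let _ : Algebra (Λ ⧸ Ideal.span {(p : Λ)}) (A ⧸ K) :=
    (Ideal.Quotient.lift (Ideal.span {(p : Λ)}) (algebraMap Λ (A ⧸ K)) hpE).toAlgebra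
  have : IsScalarTower Λ (Λ ⧸ Ideal.span {(p : Λ)}) (A ⧸ K) :=
    IsScalarTower.of_algebraMap_eq fun r => rfl
  let f' : (A ⧸ K) →ₐ[Λ ⧸ Ideal.span {(p : Λ)}] C :=
    { f.toRingHom with
      commutes' := by
        intro r
        obtain ⟨r, rfl⟩ := Ideal.Quotient.mk_surjective r
        change f (algebraMap Λ (A ⧸ K) r) = _
        rw [f.commutes, ← Ideal.Quotient.algebraMap_eq, ← IsScalarTower.algebraMap_apply] }
  have hf'surj : Function.Surjective f' := hfsurj
  have hnil : IsNilpotent (RingHom.ker (f' : (A ⧸ K) →+* C)) := ⟨2, hsq⟩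
  let σ := Algebra.FormallySmooth.liftOfSurjective (AlgHom.id (Λ ⧸ Ideal.span {(p : Λ)}) C) f'
    hf'surj hnil
  have hσ : ∀ c, f' (σ c) = c := fun c =>
    Algebra.FormallySmooth.liftOfSurjective_apply _ f' hf'surj hnil c
  have hg : (IsScalarTower.toAlgHom Λ (A ⧸ K) C).comp (σ.restrictScalars Λ) = AlgHom.id Λ C := by
    ext c
    exact hσ c
  have hinj := kerToTensor_injective_of_section (σ.restrictScalars Λ) hsq hg
  have h1 := tmul_D_eq_zero_of_tmul_D_eq_zero (E := A ⧸ K) (C := C) x hx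
  have hmem : algebraMap A (A ⧸ K) x ∈ RingHom.ker (algebraMap (A ⧸ K) C) := by
    rw [RingHom.mem_ker, Ideal.Quotient.algebraMap_eq, hfmk]
    exact hxJ
  have h2 : kerToTensor Λ (A ⧸ K) C ⟨_, hmem⟩ = kerToTensor Λ (A ⧸ K) C 0 := by
    rw [map_zero]
    exact h1
  have h3 := hinj h2
  have h4 : algebraMap A (A ⧸ K) x = 0 := congrArg Subtype.val h3
  rwa [Ideal.Quotient.algebraMap_eq, Ideal.Quotient.eq_zero_iff_mem] at h4


theorem ker_kerCotangentToTensor_eq_span {Λ A C : Type u} [CommRing Λ] [CommRing A] [CommRing C]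
    [Algebra Λ A] [Algebra A C] [Algebra Λ C] [IsScalarTower Λ A C]
    (hsurj : Function.Surjective (algebraMap A C)) (p : ℕ)
    [Algebra (Λ ⧸ Ideal.span {(p : Λ)}) C] [IsScalarTower Λ (Λ ⧸ Ideal.span {(p : Λ)}) C]
    [Algebra.FormallySmooth (Λ ⧸ Ideal.span {(p : Λ)}) C]
    (hp : (p : A) ∈ RingHom.ker (algebraMap A C)) :
    LinearMap.ker (kerCotangentToTensor Λ A C) =
      Submodule.span A {(RingHom.ker (algebraMap A C)).toCotangent ⟨(p : A), hp⟩} := by
  apply le_antisymm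
  · intro y hy
    obtain ⟨x, rfl⟩ := Ideal.toCotangent_surjective _ y
    rw [LinearMap.mem_ker, kerCotangentToTensor_toCotangent] at hy
    have hmem := mem_sq_sup_span_of_tmul_D_eq_zero hsurj p hp x.1 x.2 hy
    obtain ⟨y, hy2, z, hz, hyz⟩ := Submodule.mem_sup.mp hmem
    obtain ⟨a, rfl⟩ := Ideal.mem_span_singleton'.mp hz
    rw [Submodule.mem_span_singleton]
    refine ⟨a, ?_⟩
    rw [← sub_eq_zero, ← map_smul, ← map_sub, Ideal.toCotangent_eq_zero]
    have : ((a • (⟨(p : A), hp⟩ : RingHom.ker (algebraMap A C)) - x :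
        RingHom.ker (algebraMap A C)) : A) = -y := by
      push_cast
      rw [← hyz]
      simp
    rw [this]
    exact neg_mem hy2
  · rw [Submodule.span_le, Set.singleton_subset_iff, SetLike.mem_coe, LinearMap.mem_ker,
      kerCotangentToTensor_toCotangent]
    simp

end Groth.Agent.Lib.Helper89
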