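import Groth.Prelude.Def_Exal3
import Groth.Agent.Lib.Helper89.ConormalP

/-!
# The characteristic homomorphism of an extension: existence and uniqueness (helper89)
-/

set_option autoImplicit false
universe u v

namespace Groth.Agent.Lib.Helper89

namespace CharHom

open Exal TensorProduct KaehlerDifferential

set_option linter.unusedSectionVars false

variable (A : Type u) {B C L : Type v} [CommRing A] [CommRing B] [CommRing C] [Algebra A B]
  [Algebra B C] [Algebra A C] [IsScalarTower A B C] [AddCommGroup L] [Module C L]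
  (X : Exal.Ext B C L)

theorem algebraMap_carrier_apply (e : X.CharCarrier A) :
    algebraMap (X.CharCarrier A) C e = X.proj e := rfl

theorem algebraMap_surjective : Function.Surjective (algebraMap (X.CharCarrier A) C) :=
  X.isExtension.proj_surjective

theorem proj_inclC (z : L) : algebraMap (X.CharCarrier A) C (X.inclC A z) = 0 :=
  (X.isExtension.exact _).2 ⟨z, rfl⟩

theorem inclC_mem_ker (z : L) : X.inclC A z ∈ RingHom.ker (algebraMap (X.CharCarrier A) C) :=
  proj_inclC A X z

theorem exists_inclC_of_mem_ker (e : X.CharCarrier A)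
    (he : e ∈ RingHom.ker (algebraMap (X.CharCarrier A) C)) : ∃ z : L, X.inclC A z = e :=
  (X.isExtension.exact e).1 he

theorem inclC_injective : Function.Injective (X.inclC A) := X.isExtension.incl_injective

theorem mul_inclC (e : X.CharCarrier A) (z : L) :
    e * X.inclC A z = X.inclC A (algebraMap (X.CharCarrier A) C e • z) :=
  X.isExtension.mul_incl e z

theorem ker_sq : RingHom.ker (algebraMap (X.CharCarrier A) C) ^ 2 = ⊥ := by
  rw [eq_bot_iff, pow_two, Ideal.mul_le]
  intro x hx y hy
  obtain ⟨z, rfl⟩ := exists_inclC_of_mem_ker A X x hx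
  obtain ⟨z', rfl⟩ := exists_inclC_of_mem_ker A X y hy
  rw [mul_inclC, proj_inclC, zero_smul, map_zero]
  exact Ideal.zero_mem _

theorem deltaL_apply (z : L) :
    X.deltaL A z = kerToTensor A (X.CharCarrier A) C ⟨X.inclC A z, inclC_mem_ker A X z⟩ := rfl

theorem section_aux1 (s : C →ₐ[A] (X.restrictBase A).E) :
    ∃ g : C →ₐ[A] X.CharCarrier A, ∀ c, g c = s c := by
  let g₀ : C →+* X.CharCarrier A := (s : C →+* (X.restrictBase A).E)
  exact ⟨{ g₀ with commutes' := fun a => s.commutes a }, fun c => rfl⟩

theorem section_aux2 (g : C →ₐ[A] X.CharCarrier A) (h : ∀ c, X.proj (g c) = c) :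
    (IsScalarTower.toAlgHom A (X.CharCarrier A) C).comp g = AlgHom.id A C := by
  refine AlgHom.ext fun c => ?_
  exact h c

theorem section_aux3 (hX : X.IsTrivialOver A) :
    ∃ s : C →ₐ[A] (X.restrictBase A).E, ∀ b : C, X.proj (s b) = b := by
  obtain ⟨s, hs⟩ := hX
  exact ⟨s, hs⟩

/-- A section of the projection as an `A`-algebra map into the carrier. -/
theorem exists_section (hX : X.IsTrivialOver A) :
    ∃ g : C →ₐ[A] X.CharCarrier A,
      (IsScalarTower.toAlgHom A (X.CharCarrier A) C).comp g = AlgHom.id A C := by
  obtain ⟨s, hs⟩ := section_aux3 A X hX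
  obtain ⟨g, hg⟩ := section_aux1 A X s
  exact ⟨g, section_aux2 A X g (fun c => by rw [hg]; exact hs c)⟩

theorem kerToTensor_injective_of_section' {Λ : Type u} {E C : Type v} [CommRing Λ] [CommRing E]
    [CommRing C] [Algebra Λ E] [Algebra E C] [Algebra Λ C] [IsScalarTower Λ E C]
    (g : C →ₐ[Λ] E) (hf' : (RingHom.ker (algebraMap E C)) ^ 2 = ⊥)
    (hg : (IsScalarTower.toAlgHom Λ E C).comp g = AlgHom.id Λ C) :
    Function.Injective (kerToTensor Λ E C) := by
  have h := retractionOfSectionOfKerSqZero_comp_kerToTensor g hf' hg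
  intro x y hxy
  have := congrArg (retractionOfSectionOfKerSqZero g hf' hg) hxy
  rwa [← LinearMap.comp_apply, ← LinearMap.comp_apply, h] at this

theorem kerToTensor_injective (hX : X.IsTrivialOver A) :
    Function.Injective (kerToTensor A (X.CharCarrier A) C) := by
  obtain ⟨g, hg⟩ := exists_section A X hX
  exact kerToTensor_injective_of_section' g (ker_sq A X) hg

theorem deltaL_injective (hX : X.IsTrivialOver A) : Function.Injective (X.deltaL A) := by
  intro z z' h
  rw [deltaL_apply, deltaL_apply] at h
  have := kerToTensor_injective A X hX h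
  exact inclC_injective A X (congrArg Subtype.val this)

theorem exists_deltaL_eq (w : C ⊗[X.CharCarrier A] Ω[X.CharCarrier A⁄A])
    (hw : KaehlerDifferential.mapBaseChange A (X.CharCarrier A) C w = 0) :
    ∃ z : L, X.deltaL A z = w := by
  have h1 : w ∈ (LinearMap.ker (KaehlerDifferential.mapBaseChange A (X.CharCarrier A) C)).restrictScalars
      (X.CharCarrier A) := hw
  rw [← KaehlerDifferential.range_kerCotangentToTensor A (X.CharCarrier A) C
    (algebraMap_surjective A X)] at h1
  obtain ⟨y, rfl⟩ := h1
  obtain ⟨x, rfl⟩ := Ideal.toCotangent_surjective _ y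
  obtain ⟨z, hz⟩ := exists_inclC_of_mem_ker A X x.1 x.2
  refine ⟨z, ?_⟩
  rw [deltaL_apply, kerCotangentToTensor_toCotangent]
  simp only [kerToTensor_apply, hz]

theorem mapBaseChange_baseChangeToMiddle (z : C ⊗[B] Ω[B⁄A]) :
    KaehlerDifferential.mapBaseChange A (X.CharCarrier A) C (X.baseChangeToMiddle A z) =
      KaehlerDifferential.mapBaseChange A B C z := by
  induction z using TensorProduct.induction_on with
  | zero => simp
  | add x y hx hy => rw [map_add, map_add, map_add, hx, hy]
  | tmul c ω =>
    change KaehlerDifferential.mapBaseChange A (X.CharCarrier A) C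
      (c ⊗ₜ[X.CharCarrier A] KaehlerDifferential.map A A B (X.CharCarrier A) ω) = _
    rw [mapBaseChange_tmul, mapBaseChange_tmul]
    congr 1
    have hspan := KaehlerDifferential.span_range_derivation A B
    have hω : ω ∈ Submodule.span B (Set.range (KaehlerDifferential.D A B)) := by
      rw [hspan]; trivial
    induction hω using Submodule.span_induction with
    | mem x hx =>
      obtain ⟨b, rfl⟩ := hx
      rw [map_D, map_D, map_D, ← IsScalarTower.algebraMap_apply]
    | zero => simp
    | add x y _ _ hx hy => rw [map_add, map_add, map_add, hx, hy]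
    | smul b x _ hx =>
      rw [map_smul (KaehlerDifferential.map A A B (X.CharCarrier A)),
        ← IsScalarTower.algebraMap_smul (X.CharCarrier A) b
          (KaehlerDifferential.map A A B (X.CharCarrier A) x),
        map_smul, hx, IsScalarTower.algebraMap_smul, map_smul]

theorem exists_deltaL_eq_baseChangeToMiddle (z : EGA41.imperfection A B C) :
    ∃ l : L, X.deltaL A l = X.baseChangeToMiddle A (z : C ⊗[B] Ω[B⁄A]) := by
  apply exists_deltaL_eq
  rw [mapBaseChange_baseChangeToMiddle]
  exact z.2


theorem baseChangeToMiddle_tmul (c : C) (ω : Ω[B⁄A]) :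
    X.baseChangeToMiddle A (c ⊗ₜ[B] ω) =
      c ⊗ₜ[X.CharCarrier A] KaehlerDifferential.map A A B (X.CharCarrier A) ω := rfl

theorem baseChangeToMiddle_smul (c : C) (z : C ⊗[B] Ω[B⁄A]) :
    X.baseChangeToMiddle A (c • z) = c • X.baseChangeToMiddle A z := by
  induction z using TensorProduct.induction_on with
  | zero => simp
  | add x y hx hy => rw [smul_add, map_add, map_add, smul_add, hx, hy]
  | tmul c' ω =>
    rw [TensorProduct.smul_tmul', baseChangeToMiddle_tmul, baseChangeToMiddle_tmul,
      TensorProduct.smul_tmul']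

theorem deltaL_smul (c : C) (l : L) : X.deltaL A (c • l) = c • X.deltaL A l := by
  obtain ⟨e, rfl⟩ := algebraMap_surjective A X c
  have h1 : X.inclC A (algebraMap (X.CharCarrier A) C e • l) = e * X.inclC A l :=
    (mul_inclC A X e l).symm
  change (1 : C) ⊗ₜ[X.CharCarrier A] KaehlerDifferential.D A (X.CharCarrier A)
      (X.inclC A (algebraMap (X.CharCarrier A) C e • l)) =
    algebraMap (X.CharCarrier A) C e • ((1 : C) ⊗ₜ[X.CharCarrier A]
      KaehlerDifferential.D A (X.CharCarrier A) (X.inclC A l))
  rw [h1, Derivation.leibniz, TensorProduct.tmul_add, TensorProduct.tmul_smul,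
    TensorProduct.tmul_smul, IsScalarTower.algebraMap_smul]
  have h2 : X.inclC A l • ((1 : C) ⊗ₜ[X.CharCarrier A]
      KaehlerDifferential.D A (X.CharCarrier A) e) = 0 := by
    rw [TensorProduct.smul_tmul', Algebra.smul_def, mul_one, proj_inclC, TensorProduct.zero_tmul]
  rw [h2, add_zero]

/-- Existence and uniqueness of the characteristic homomorphism. -/
theorem existsUnique_isCharHom (hX : X.IsTrivialOver A) :
    ∃! χ : ↥(EGA41.imperfection A B C) →ₗ[C] L, X.IsCharHom A χ := by
  have hinj := deltaL_injective A X hX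
  choose l hl using exists_deltaL_eq_baseChangeToMiddle A X
  refine ⟨{ toFun := l
            map_add' := fun z z' => ?_
            map_smul' := fun c z => ?_ }, fun z => hl z, fun χ' hχ' => ?_⟩
  · apply hinj
    rw [map_add, hl, hl, hl, Submodule.coe_add, map_add]
  · apply hinj
    rw [RingHom.id_apply, deltaL_smul, hl, hl, Submodule.coe_smul, baseChangeToMiddle_smul]
  · refine LinearMap.ext fun z => hinj ?_
    rw [hχ' z]
    exact (hl z).symm

end CharHom

end Groth.Agent.Lib.Helper89
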