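import Groth.Agent.Lib.Helper89.CharHomDer

/-!
# Characteristic homomorphisms: the formally smooth / projective case (helper89)
-/

set_option autoImplicit false
universe u v

namespace Groth.Agent.Lib.Helper89

namespace CharHom

open Exal TensorProduct KaehlerDifferential

section FS

variable {A : Type u} {B C L : Type v} [CommRing A] [CommRing B] [CommRing C]
  [Algebra A B] [Algebra B C] [Algebra A C] [IsScalarTower A B C]
  [AddCommGroup L] [Module C L]

/-- The kernel of the projection of an extension has square zero. -/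
theorem ker_proj_sq {R : Type u} [CommRing R] [Algebra R C] (Y : Exal.Ext R C L) :
    RingHom.ker (Y.proj : Y.E →+* C) ^ 2 = ⊥ := by
  rw [eq_bot_iff, pow_two, Ideal.mul_le]
  intro x hx y hy
  have hx' : Y.proj x = 0 := hx
  have hy' : Y.proj y = 0 := hy
  obtain ⟨z', rfl⟩ := (Y.isExtension.exact y).1 hy'
  rw [Y.isExtension.mul_incl, hx', zero_smul, map_zero]
  exact Ideal.zero_mem _

/-- Over a formally smooth base every extension is trivial. -/
theorem isTrivial_of_formallySmooth {R : Type u} [CommRing R] [Algebra R C]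
    [Algebra.FormallySmooth R C] (Y : Exal.Ext R C L) : Y.IsTrivial :=
  ⟨Algebra.FormallySmooth.liftOfSurjective (AlgHom.id R C) Y.proj Y.isExtension.proj_surjective
      ⟨2, ker_proj_sq Y⟩,
    fun c => Algebra.FormallySmooth.liftOfSurjective_apply (AlgHom.id R C) Y.proj
      Y.isExtension.proj_surjective ⟨2, ker_proj_sq Y⟩ c⟩

theorem isTrivialOver_of_formallySmooth [Algebra.FormallySmooth A C] (X : Exal.Ext B C L) :
    X.IsTrivialOver A :=
  isTrivial_of_formallySmooth (X.restrictBase A)

omit [AddCommGroup L] [Module C L] in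
/-- A section of `Ω[C/A] → Ω[C/B]` when the target is projective. -/
theorem exists_section_map [Module.Projective C Ω[C⁄B]] :
    ∃ s : Ω[C⁄B] →ₗ[C] Ω[C⁄A], ∀ ω : Ω[C⁄B], KaehlerDifferential.map A B C C (s ω) = ω := by
  obtain ⟨s, hs⟩ := Module.projective_lifting_property (KaehlerDifferential.map A B C C)
    (LinearMap.id : Ω[C⁄B] →ₗ[C] Ω[C⁄B]) (KaehlerDifferential.map_surjective A B C)
  exact ⟨s, fun ω => LinearMap.congr_fun hs ω⟩

omit [AddCommGroup L] [Module C L] in
/-- The range of `mapBaseChange` is projective when `Ω[C/A]` and `Ω[C/B]` are. -/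
theorem projective_range_mapBaseChange [Module.Projective C Ω[C⁄A]] [Module.Projective C Ω[C⁄B]] :
    Module.Projective C ↥(LinearMap.range (KaehlerDifferential.mapBaseChange A B C)) := by
  obtain ⟨s, hs⟩ := exists_section_map (A := A) (B := B) (C := C)
  have hmem : ∀ ω : Ω[C⁄A], ω - s (KaehlerDifferential.map A B C C ω) ∈
      LinearMap.range (KaehlerDifferential.mapBaseChange A B C) := by
    intro ω
    rw [KaehlerDifferential.range_mapBaseChange, LinearMap.mem_ker, map_sub, hs, sub_self]
  let π : Ω[C⁄A] →ₗ[C] ↥(LinearMap.range (KaehlerDifferential.mapBaseChange A B C)) :=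
    LinearMap.codRestrict _ (LinearMap.id - s ∘ₗ KaehlerDifferential.map A B C C) hmem
  refine Module.Projective.of_split (Submodule.subtype _) π ?_
  ext x
  change (x : Ω[C⁄A]) - s (KaehlerDifferential.map A B C C (x : Ω[C⁄A])) = x
  have h2 : ∀ y : Ω[C⁄A], y ∈ LinearMap.range (KaehlerDifferential.mapBaseChange A B C) →
      KaehlerDifferential.map A B C C y = 0 := by
    intro y hy
    rwa [KaehlerDifferential.range_mapBaseChange, LinearMap.mem_ker] at hy
  rw [h2 _ x.2, map_zero, sub_zero]

omit [AddCommGroup L] [Module C L] in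
/-- A linear map with projective range has a retraction onto its kernel. -/
theorem exists_retraction_ker {M N : Type v} [AddCommGroup M] [Module C M] [AddCommGroup N]
    [Module C N] (f : M →ₗ[C] N) [Module.Projective C ↥(LinearMap.range f)] :
    ∃ r : M →ₗ[C] ↥(LinearMap.ker f), ∀ z : ↥(LinearMap.ker f), r z = z := by
  obtain ⟨t, ht⟩ := Module.projective_lifting_property f.rangeRestrict
    (LinearMap.id : ↥(LinearMap.range f) →ₗ[C] _) (LinearMap.surjective_rangeRestrict _)
  have ht' : ∀ x, f.rangeRestrict (t x) = x := fun x => LinearMap.congr_fun ht x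
  have hmem : ∀ w : M, w - t (f.rangeRestrict w) ∈ LinearMap.ker f := by
    intro w
    rw [LinearMap.mem_ker, map_sub, sub_eq_zero]
    exact (congrArg Subtype.val (ht' (f.rangeRestrict w))).symm
  refine ⟨LinearMap.codRestrict _ (LinearMap.id - t ∘ₗ f.rangeRestrict) hmem, fun z => ?_⟩
  apply Subtype.ext
  change (z : M) - t (f.rangeRestrict (z : M)) = z
  have hz : f.rangeRestrict (z : M) = 0 := Subtype.ext z.2
  rw [hz, map_zero, sub_zero]

omit [AddCommGroup L] [Module C L] in
/-- The imperfection module is a direct summand of `C ⊗[B] Ω[B/A]` when `Ω[C/A]` and `Ω[C/B]`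
are projective. -/
theorem exists_retraction_imperfection [Module.Projective C Ω[C⁄A]] [Module.Projective C Ω[C⁄B]] :
    ∃ r : C ⊗[B] Ω[B⁄A] →ₗ[C] ↥(EGA41.imperfection A B C),
      ∀ z : ↥(EGA41.imperfection A B C), r z = z := by
  haveI := projective_range_mapBaseChange (A := A) (B := B) (C := C)
  exact exists_retraction_ker (KaehlerDifferential.mapBaseChange A B C)

end FS

end CharHom

end Groth.Agent.Lib.Helper89
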