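import Groth.Agent.Lib.Helper89.CharHomTower
import Groth.Agent.S5818

/-!
# Characteristic homomorphisms and derivations: injectivity and surjectivity on classes (helper89)
-/

set_option autoImplicit false
universe u v

namespace Groth.Agent.Lib.Helper89

namespace CharHom

open Exal TensorProduct KaehlerDifferential

attribute [local instance] Exal.opModule Exal.isCentralScalar_opModule

section Shift

variable {A : Type u} {B C L : Type v} [CommRing A] [CommRing B] [CommRing C]
  [Algebra A B] [Algebra B C] [Algebra A C] [IsScalarTower A B C]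
  [AddCommGroup L] [Module C L] [Module B L] [IsScalarTower B C L] [Module A L]
  [IsScalarTower A B L] [IsScalarTower A C L]

/-- The ring automorphism `(c, l) ↦ (c, l + D c)` of `C ⊕ L`. -/
noncomputable def shiftHom (D : Derivation A C L) : TrivSqZeroExt C L →+* TrivSqZeroExt C L where
  toFun t := t + TrivSqZeroExt.inr (D t.fst)
  map_one' := by simp
  map_zero' := by simp
  map_add' t t' := by
    simp only [TrivSqZeroExt.fst_add, map_add, TrivSqZeroExt.inr_add]
    abel
  map_mul' t t' := by
    apply TrivSqZeroExt.ext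
    · simp
    · simp only [TrivSqZeroExt.snd_add, TrivSqZeroExt.snd_mul, TrivSqZeroExt.snd_inr,
        TrivSqZeroExt.fst_mul, TrivSqZeroExt.fst_add, TrivSqZeroExt.fst_inr, add_zero,
        Derivation.leibniz, op_smul_eq_smul, smul_add]
      abel

theorem shiftHom_apply (D : Derivation A C L) (t : TrivSqZeroExt C L) :
    shiftHom D t = t + TrivSqZeroExt.inr (D t.fst) := rfl

theorem shiftHom_neg_shiftHom (D : Derivation A C L) (t : TrivSqZeroExt C L) :
    shiftHom (-D) (shiftHom D t) = t := by
  rw [shiftHom_apply, shiftHom_apply]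
  simp

theorem shiftHom_shiftHom_neg (D : Derivation A C L) (t : TrivSqZeroExt C L) :
    shiftHom D (shiftHom (-D) t) = t := by
  rw [shiftHom_apply, shiftHom_apply]
  simp

/-- `ofDerivation d ≃ ofDerivation d'` when `d' = d + D ∘ (B → C)`. -/
noncomputable def equivOfDerivationAdd (d d' : Derivation A B L) (D : Derivation A C L)
    (h : ∀ b, d' b = d b + D (algebraMap B C b)) :
    (Exal.Ext.ofDerivation (C := C) d).Equiv (Exal.Ext.ofDerivation (C := C) d') where
  toAlgEquiv :=
    { toFun := fun t => shiftHom D t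
      invFun := fun t => shiftHom (-D) t
      left_inv := fun t => shiftHom_neg_shiftHom D t
      right_inv := fun t => shiftHom_shiftHom_neg D t
      map_mul' := fun t t' => map_mul (shiftHom D) t t'
      map_add' := fun t t' => map_add (shiftHom D) t t'
      commutes' := fun b => by
        change shiftHom D (TrivSqZeroExt.inl (algebraMap B C b) + TrivSqZeroExt.inr (d b)) =
          TrivSqZeroExt.inl (algebraMap B C b) + TrivSqZeroExt.inr (d' b)
        rw [shiftHom_apply, h]
        simp only [TrivSqZeroExt.fst_add, TrivSqZeroExt.fst_inl, TrivSqZeroExt.fst_inr, add_zero,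
          TrivSqZeroExt.inr_add]
        abel }
  proj_apply := fun t => by
    have h1 : ∀ t' : TrivSqZeroExt C L, TrivSqZeroExt.fst (shiftHom D t') =
        TrivSqZeroExt.fst t' := fun t' => by rw [shiftHom_apply]; simp
    exact h1 t
  apply_incl := fun z => by
    change shiftHom D (TrivSqZeroExt.inr z) = TrivSqZeroExt.inr z
    rw [shiftHom_apply]
    simp

end Shift

section Der

set_option linter.unusedSectionVars false

variable {A : Type u} {B C L : Type v} [CommRing A] [CommRing B] [CommRing C]
  [Algebra A B] [Algebra B C] [Algebra A C] [IsScalarTower A B C]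
  [AddCommGroup L] [Module C L] [Module B L] [IsScalarTower B C L] [Module A L]
  [IsScalarTower A B L] [IsScalarTower A C L]

/-- The `C`-linear map `C ⊗[B] Ω[B/A] → L` induced by a derivation. -/
noncomputable def dLift (d : Derivation A B L) : C ⊗[B] Ω[B⁄A] →ₗ[C] L :=
  LinearMap.liftBaseChange C d.liftKaehlerDifferential

theorem dLift_tmul (d : Derivation A B L) (c : C) (ω : Ω[B⁄A]) :
    dLift (C := C) d (c ⊗ₜ ω) = c • d.liftKaehlerDifferential ω :=
  LinearMap.liftBaseChange_tmul _ _ _ _

theorem dLift_tmul_D (d : Derivation A B L) (c : C) (b : B) :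
    dLift (C := C) d (c ⊗ₜ D A B b) = c • d b := by
  rw [dLift_tmul, Derivation.liftKaehlerDifferential_comp_D]

variable (d : Derivation A B L)

theorem algebraMap_A_carrier (a : A) :
    algebraMap A ((Exal.Ext.ofDerivation (C := C) d).CharCarrier A) a =
      (show (Exal.Ext.ofDerivation (C := C) d).CharCarrier A from
        TrivSqZeroExt.inl (algebraMap A C a)) := by
  change (TrivSqZeroExt.inl (algebraMap B C (algebraMap A B a)) +
    TrivSqZeroExt.inr (d (algebraMap A B a)) : TrivSqZeroExt C L) = _
  rw [d.map_algebraMap, TrivSqZeroExt.inr_zero, add_zero, ← IsScalarTower.algebraMap_apply]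

theorem algebraMap_B_carrier (b : B) :
    algebraMap B ((Exal.Ext.ofDerivation (C := C) d).CharCarrier A) b =
      (show (Exal.Ext.ofDerivation (C := C) d).CharCarrier A from
        TrivSqZeroExt.inl (algebraMap B C b) + TrivSqZeroExt.inr (d b)) := rfl

/-- The section `c ↦ (c, 0)`. -/
noncomputable def inlSection : C →ₐ[A] (Exal.Ext.ofDerivation (C := C) d).CharCarrier A :=
  { toRingHom := (show C →+* (Exal.Ext.ofDerivation (C := C) d).CharCarrier A from
      TrivSqZeroExt.inlHom C L)
    commutes' := fun a => (algebraMap_A_carrier d a).symm }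

theorem inlSection_apply (c : C) :
    inlSection d c = (show (Exal.Ext.ofDerivation (C := C) d).CharCarrier A from
      TrivSqZeroExt.inl c) := rfl

theorem inlSection_comp :
    (IsScalarTower.toAlgHom A ((Exal.Ext.ofDerivation (C := C) d).CharCarrier A) C).comp
      (inlSection d) = AlgHom.id A C :=
  AlgHom.ext fun _ => rfl

theorem isTrivialOver_ofDerivation : (Exal.Ext.ofDerivation (C := C) d).IsTrivialOver A := by
  refine ⟨{ toRingHom := (show C →+* ((Exal.Ext.ofDerivation (C := C) d).restrictBase A).E from
      TrivSqZeroExt.inlHom C L)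
            commutes' := fun a => (algebraMap_A_carrier d a).symm }, fun c => rfl⟩


omit [Module B L] [IsScalarTower B C L] [Module A L] [IsScalarTower A B L]
  [IsScalarTower A C L] [Algebra B C] [Algebra A C] [IsScalarTower A B C] [Algebra A B] in
theorem tsze_aux (c x : C) (l : L) :
    (TrivSqZeroExt.inl c * (TrivSqZeroExt.inl x + TrivSqZeroExt.inr l) -
      TrivSqZeroExt.inl c * TrivSqZeroExt.inl x : TrivSqZeroExt C L) =
      TrivSqZeroExt.inr (c • l) := by
  rw [mul_add, add_sub_cancel_left, TrivSqZeroExt.inl_mul_inr]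

/-- The retraction attached to the section `inl`. -/
noncomputable def inlRetraction :
    C ⊗[(Exal.Ext.ofDerivation (C := C) d).CharCarrier A]
      Ω[(Exal.Ext.ofDerivation (C := C) d).CharCarrier A⁄A] →ₗ[(Exal.Ext.ofDerivation (C := C) d).CharCarrier A]
      RingHom.ker (algebraMap ((Exal.Ext.ofDerivation (C := C) d).CharCarrier A) C) :=
  retractionOfSectionOfKerSqZero (inlSection d) (ker_sq A _) (inlSection_comp d)

theorem inlRetraction_tmul_D (c : C) (t : (Exal.Ext.ofDerivation (C := C) d).CharCarrier A) :
    ((inlRetraction d (c ⊗ₜ D A _ t) :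
      RingHom.ker (algebraMap ((Exal.Ext.ofDerivation (C := C) d).CharCarrier A) C)) :
      (Exal.Ext.ofDerivation (C := C) d).CharCarrier A) =
      inlSection d c * t - inlSection d c * inlSection d (algebraMap _ C t) :=
  retractionOfSectionOfKerSqZero_tmul_D (inlSection d) (ker_sq A _) (inlSection_comp d) c t

theorem inlRetraction_deltaL (l : L) :
    ((inlRetraction d ((Exal.Ext.ofDerivation (C := C) d).deltaL A l) :
      RingHom.ker (algebraMap ((Exal.Ext.ofDerivation (C := C) d).CharCarrier A) C)) :
      (Exal.Ext.ofDerivation (C := C) d).CharCarrier A) =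
      (show (Exal.Ext.ofDerivation (C := C) d).CharCarrier A from TrivSqZeroExt.inr l) := by
  change ((inlRetraction d ((1 : C) ⊗ₜ D A _ ((Exal.Ext.ofDerivation (C := C) d).inclC A l)) :
      RingHom.ker (algebraMap ((Exal.Ext.ofDerivation (C := C) d).CharCarrier A) C)) :
      (Exal.Ext.ofDerivation (C := C) d).CharCarrier A) = _
  rw [inlRetraction_tmul_D, proj_inclC, map_zero, mul_zero, sub_zero, map_one, one_mul]
  rfl

theorem inlRetraction_baseChangeToMiddle (z : C ⊗[B] Ω[B⁄A]) :
    ((inlRetraction d ((Exal.Ext.ofDerivation (C := C) d).baseChangeToMiddle A z) :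
      RingHom.ker (algebraMap ((Exal.Ext.ofDerivation (C := C) d).CharCarrier A) C)) :
      (Exal.Ext.ofDerivation (C := C) d).CharCarrier A) =
      (show (Exal.Ext.ofDerivation (C := C) d).CharCarrier A from
        TrivSqZeroExt.inr (dLift (C := C) d z)) := by
  induction z using TensorProduct.induction_on with
  | zero =>
    rw [map_zero, map_zero, map_zero]
    exact (TrivSqZeroExt.inr_zero C).symm
  | add x y hx hy =>
    rw [map_add, map_add, map_add, Submodule.coe_add, hx, hy]
    exact (TrivSqZeroExt.inr_add C _ _).symm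
  | tmul c ω =>
    have hω : ω ∈ Submodule.span B (Set.range (KaehlerDifferential.D A B)) := by
      rw [KaehlerDifferential.span_range_derivation]; trivial
    induction hω using Submodule.span_induction generalizing c with
    | mem x hx =>
      obtain ⟨b, rfl⟩ := hx
      rw [baseChangeToMiddle_tmul, map_D, inlRetraction_tmul_D, dLift_tmul_D,
        ← IsScalarTower.algebraMap_apply B _ C, algebraMap_B_carrier, inlSection_apply,
        inlSection_apply]
      exact tsze_aux c (algebraMap B C b) (d b)
    | zero =>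
      rw [TensorProduct.tmul_zero, map_zero, map_zero, map_zero]
      exact (TrivSqZeroExt.inr_zero C).symm
    | add x y _ _ hx hy =>
      rw [TensorProduct.tmul_add, map_add, map_add, map_add, Submodule.coe_add, hx, hy]
      exact (TrivSqZeroExt.inr_add C _ _).symm
    | smul b x _ hx => rw [← TensorProduct.smul_tmul, hx]

theorem inr_injective' : Function.Injective
    (fun l : L => (show (Exal.Ext.ofDerivation (C := C) d).CharCarrier A from
      TrivSqZeroExt.inr l)) := TrivSqZeroExt.inr_injective

/-- The characteristic homomorphism of the extension attached to a derivation `d` is the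
restriction of `dLift d` to the imperfection module. -/
theorem isCharHom_ofDerivation_iff (χ : ↥(EGA41.imperfection A B C) →ₗ[C] L) :
    (Exal.Ext.ofDerivation (C := C) d).IsCharHom A χ ↔
      ∀ z : ↥(EGA41.imperfection A B C), χ z = dLift (C := C) d (z : C ⊗[B] Ω[B⁄A]) := by
  have key : ∀ χ' : ↥(EGA41.imperfection A B C) →ₗ[C] L,
      (Exal.Ext.ofDerivation (C := C) d).IsCharHom A χ' →
      ∀ z : ↥(EGA41.imperfection A B C), χ' z = dLift (C := C) d (z : C ⊗[B] Ω[B⁄A]) := by
    intro χ' hχ' z
    have h1 := congrArg (fun w => ((inlRetraction d w :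
      RingHom.ker (algebraMap ((Exal.Ext.ofDerivation (C := C) d).CharCarrier A) C)) :
      (Exal.Ext.ofDerivation (C := C) d).CharCarrier A)) (hχ' z)
    simp only [inlRetraction_deltaL, inlRetraction_baseChangeToMiddle] at h1
    exact inr_injective' d h1
  refine ⟨key χ, fun h => ?_⟩
  obtain ⟨χ', hχ', -⟩ := existsUnique_isCharHom A (Exal.Ext.ofDerivation (C := C) d)
    (isTrivialOver_ofDerivation (C := C) d)
  have : χ = χ' := LinearMap.ext fun z => by rw [h z, key χ' hχ' z]
  rw [this]
  exact hχ'

end Der

section EquivInv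

set_option linter.unusedSectionVars false

variable (A : Type u) {B C L : Type v} [CommRing A] [CommRing B] [CommRing C] [Algebra A B]
  [Algebra B C] [Algebra A C] [IsScalarTower A B C] [AddCommGroup L] [Module C L]

theorem baseChangeToMiddle_eq_toMiddle' (X : Exal.Ext B C L) (z : C ⊗[B] Ω[B⁄A]) :
    X.baseChangeToMiddle A z = toMiddle (Λ := A) (B := B) (E := X.CharCarrier A) z := by
  induction z using TensorProduct.induction_on with
  | zero => simp
  | add x y hx hy => rw [map_add, map_add, hx, hy]
  | tmul c ω => rfl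

variable {X Y : Exal.Ext B C L} (e : X.Equiv Y)

/-- The algebra structure on the carriers induced by an equivalence. -/
@[reducible] noncomputable def algOfEquiv : Algebra (X.CharCarrier A) (Y.CharCarrier A) :=
  (show X.CharCarrier A →+* Y.CharCarrier A from (e.toAlgEquiv : X.E →+* Y.E)).toAlgebra

include e in
theorem isCharHom_of_equiv (χ : ↥(EGA41.imperfection A B C) →ₗ[C] L) (h : X.IsCharHom A χ) :
    Y.IsCharHom A χ := by
  letI := algOfEquiv A e
  have hmap : ∀ x : X.CharCarrier A, algebraMap (X.CharCarrier A) (Y.CharCarrier A) x =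
      (show Y.CharCarrier A from e.toAlgEquiv x) := fun x => rfl
  have t1 : IsScalarTower B (X.CharCarrier A) (Y.CharCarrier A) :=
    IsScalarTower.of_algebraMap_eq fun b => (e.toAlgEquiv.commutes b).symm
  have t2 : IsScalarTower A (X.CharCarrier A) (Y.CharCarrier A) :=
    IsScalarTower.of_algebraMap_eq fun a => by
      rw [IsScalarTower.algebraMap_apply A B (Y.CharCarrier A),
        IsScalarTower.algebraMap_apply A B (X.CharCarrier A),
        ← IsScalarTower.algebraMap_apply B (X.CharCarrier A) (Y.CharCarrier A)]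
  have t3 : IsScalarTower (X.CharCarrier A) (Y.CharCarrier A) C :=
    IsScalarTower.of_algebraMap_eq fun x => (e.proj_apply x).symm
  intro z
  have h1 := congrArg (toMiddle (Λ := A) (B := X.CharCarrier A) (E := Y.CharCarrier A) (C := C))
    (h z)
  rw [baseChangeToMiddle_eq_toMiddle', toMiddle_toMiddle] at h1
  rw [baseChangeToMiddle_eq_toMiddle', ← h1]
  change (1 : C) ⊗ₜ[Y.CharCarrier A] D A (Y.CharCarrier A) (Y.inclC A (χ z)) =
    toMiddle (Λ := A) (B := X.CharCarrier A) (E := Y.CharCarrier A)
      ((1 : C) ⊗ₜ[X.CharCarrier A] D A (X.CharCarrier A) (X.inclC A (χ z)))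
  rw [toMiddle_tmul, map_D, hmap]
  congr 2
  exact (e.apply_incl (χ z)).symm

end EquivInv

section Main

set_option linter.unusedSectionVars false

variable {A : Type u} {B C L : Type v} [CommRing A] [CommRing B] [CommRing C]
  [Algebra A B] [Algebra B C] [Algebra A C] [IsScalarTower A B C]
  [AddCommGroup L] [Module C L] [Module B L] [IsScalarTower B C L] [Module A L]
  [IsScalarTower A B L] [IsScalarTower A C L]

/-- A linear map on `C ⊗[B] Ω[B/A]` vanishing on the imperfection module descends to the range
of `mapBaseChange`. -/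
theorem exists_range_lift (δ : C ⊗[B] Ω[B⁄A] →ₗ[C] L)
    (hδ : ∀ z : ↥(EGA41.imperfection A B C), δ z = 0) :
    ∃ δ' : ↥(LinearMap.range (KaehlerDifferential.mapBaseChange A B C)) →ₗ[C] L,
      ∀ w, δ' ⟨KaehlerDifferential.mapBaseChange A B C w, LinearMap.mem_range_self _ w⟩ = δ w := by
  have hle : LinearMap.ker (KaehlerDifferential.mapBaseChange A B C) ≤ LinearMap.ker δ :=
    fun z hz => hδ ⟨z, hz⟩
  refine ⟨((LinearMap.ker (KaehlerDifferential.mapBaseChange A B C)).liftQ δ hle) ∘ₗ
    (KaehlerDifferential.mapBaseChange A B C).quotKerEquivRange.symm.toLinearMap, fun w => ?_⟩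
  rw [LinearMap.comp_apply, LinearEquiv.coe_coe,
    LinearMap.quotKerEquivRange_symm_apply_image]
  rfl

/-- The extension hypothesis used for injectivity on classes. -/
def ExtendsFromRange (A : Type u) (B C L : Type v) [CommRing A] [CommRing B] [CommRing C]
    [Algebra A B] [Algebra B C] [Algebra A C] [IsScalarTower A B C]
    [AddCommGroup L] [Module C L] : Prop :=
  ∀ δ' : ↥(LinearMap.range (KaehlerDifferential.mapBaseChange A B C)) →ₗ[C] L,
    ∃ D' : Ω[C⁄A] →ₗ[C] L,
      ∀ x : ↥(LinearMap.range (KaehlerDifferential.mapBaseChange A B C)), D' (x : Ω[C⁄A]) = δ' x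

omit [Module B L] [IsScalarTower B C L] [Module A L] [IsScalarTower A B L]
  [IsScalarTower A C L] in
theorem extendsFromRange_of_injective [Module.Injective C L] : ExtendsFromRange A B C L := by
  intro δ'
  exact Module.Injective.out (Submodule.subtype _) (Submodule.injective_subtype _) δ'

omit [Module B L] [IsScalarTower B C L] [Module A L] [IsScalarTower A B L]
  [IsScalarTower A C L] in
theorem extendsFromRange_of_section (s : Ω[C⁄B] →ₗ[C] Ω[C⁄A])
    (hs : ∀ ω : Ω[C⁄B], KaehlerDifferential.map A B C C (s ω) = ω) :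
    ExtendsFromRange A B C L := by
  intro δ'
  have hmem : ∀ ω : Ω[C⁄A], ω - s (KaehlerDifferential.map A B C C ω) ∈
      LinearMap.range (KaehlerDifferential.mapBaseChange A B C) := by
    intro ω
    rw [KaehlerDifferential.range_mapBaseChange, LinearMap.mem_ker, map_sub, hs, sub_self]
  let π : Ω[C⁄A] →ₗ[C] ↥(LinearMap.range (KaehlerDifferential.mapBaseChange A B C)) :=
    LinearMap.codRestrict _ (LinearMap.id - s ∘ₗ KaehlerDifferential.map A B C C) hmem
  refine ⟨δ' ∘ₗ π, fun x => ?_⟩
  rw [LinearMap.comp_apply]
  congr 1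
  apply Subtype.ext
  change (x : Ω[C⁄A]) - s (KaehlerDifferential.map A B C C (x : Ω[C⁄A])) = x
  have hx : KaehlerDifferential.map A B C C (x : Ω[C⁄A]) = 0 := by
    have h2 : ∀ y : Ω[C⁄A], y ∈ LinearMap.range (KaehlerDifferential.mapBaseChange A B C) →
        KaehlerDifferential.map A B C C y = 0 := by
      intro y hy
      rwa [KaehlerDifferential.range_mapBaseChange, LinearMap.mem_ker] at hy
    exact h2 _ x.2
  rw [hx, map_zero, sub_zero]

/-- Injectivity on classes. -/
theorem nonempty_equiv_of_isCharHom (hext : ExtendsFromRange A B C L)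
    (X Y : Exal.Ext B C L) (hX : X.IsTrivialOver A) (hY : Y.IsTrivialOver A)
    (χ : ↥(EGA41.imperfection A B C) →ₗ[C] L) (hXχ : X.IsCharHom A χ) (hYχ : Y.IsCharHom A χ) :
    Nonempty (X.Equiv Y) := by
  obtain ⟨dX, ⟨eX⟩⟩ := (Groth.Agent.S5818.result (A := A) X).mp hX
  obtain ⟨dY, ⟨eY⟩⟩ := (Groth.Agent.S5818.result (A := A) Y).mp hY
  have h1 := (isCharHom_ofDerivation_iff dX χ).mp (isCharHom_of_equiv A eX χ hXχ)
  have h2 := (isCharHom_ofDerivation_iff dY χ).mp (isCharHom_of_equiv A eY χ hYχ)
  obtain ⟨δ', hδ'⟩ := exists_range_lift (dLift (C := C) dY - dLift (C := C) dX) (fun z => by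
    rw [LinearMap.sub_apply, ← h1, ← h2, sub_self])
  obtain ⟨D', hD'⟩ := hext δ'
  have hD : ∀ b : B, dY b = dX b + (D'.compDer (KaehlerDifferential.D A C)) (algebraMap B C b) := by
    intro b
    have h3 := hδ' ((1 : C) ⊗ₜ[B] KaehlerDifferential.D A B b)
    rw [← hD'] at h3
    simp only [mapBaseChange_tmul, map_D, one_smul, LinearMap.sub_apply, dLift_tmul_D] at h3
    change dY b = dX b + D' (KaehlerDifferential.D A C (algebraMap B C b))
    rw [h3]
    abel
  exact ⟨eX.trans ((equivOfDerivationAdd dX dY _ hD).trans eY.symm)⟩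

/-- Surjectivity: a linear map on `C ⊗[B] Ω[B/A]` restricting to `χ` gives an extension. -/
theorem exists_isCharHom_of_extension (χ : ↥(EGA41.imperfection A B C) →ₗ[C] L)
    (ψ : C ⊗[B] Ω[B⁄A] →ₗ[C] L) (hψ : ∀ z : ↥(EGA41.imperfection A B C), ψ z = χ z) :
    ∃ X : Exal.Ext B C L, X.IsTrivialOver A ∧ X.IsCharHom A χ := by
  let d : Derivation A B L :=
    ((ψ.restrictScalars B).comp (TensorProduct.mk B C Ω[B⁄A] 1)).compDer
      (KaehlerDifferential.D A B)
  have hd : ∀ b, d b = ψ ((1 : C) ⊗ₜ[B] KaehlerDifferential.D A B b) := fun b => rfl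
  have hlift : ∀ w : C ⊗[B] Ω[B⁄A], dLift (C := C) d w = ψ w := by
    intro w
    induction w using TensorProduct.induction_on with
    | zero => simp
    | add x y hx hy => rw [map_add, map_add, hx, hy]
    | tmul c ω =>
      have hω : ω ∈ Submodule.span B (Set.range (KaehlerDifferential.D A B)) := by
        rw [KaehlerDifferential.span_range_derivation]; trivial
      induction hω using Submodule.span_induction generalizing c with
      | mem x hx =>
        obtain ⟨b, rfl⟩ := hx
        rw [dLift_tmul_D, hd, ← map_smul, TensorProduct.smul_tmul', smul_eq_mul, mul_one]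
      | zero => simp
      | add x y _ _ hx hy => rw [TensorProduct.tmul_add, map_add, map_add, hx, hy]
      | smul b x _ hx => rw [← TensorProduct.smul_tmul, hx]
  refine ⟨Exal.Ext.ofDerivation (C := C) d, isTrivialOver_ofDerivation d, ?_⟩
  rw [isCharHom_ofDerivation_iff]
  intro z
  rw [hlift, hψ]

end Main

end CharHom

end Groth.Agent.Lib.Helper89
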