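import Groth.Agent.Lib.Helper89.CharHom
import Groth.Prelude.Def_Exal2

/-!
# Characteristic homomorphism of the infinitesimal extension `B/K²` (helper89)
-/

set_option autoImplicit false
universe u v

namespace Groth.Agent.Lib.Helper89

namespace CharHom

open Exal TensorProduct KaehlerDifferential

section Infinitesimal

variable (A : Type u) {B : Type v} [CommRing A] [CommRing B] [Algebra A B] (K : Ideal B)

theorem tmul_D_mem_imperfection (x : B) (hx : x ∈ K) :
    ((1 : B ⧸ K) ⊗ₜ[B] KaehlerDifferential.D A B x) ∈ EGA41.imperfection A B (B ⧸ K) := by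
  change KaehlerDifferential.mapBaseChange A B (B ⧸ K) _ = 0
  rw [mapBaseChange_tmul, map_D, one_smul, Ideal.Quotient.algebraMap_eq,
    Ideal.Quotient.eq_zero_iff_mem.mpr hx, map_zero]

theorem exists_eq_tmul_D (z : EGA41.imperfection A B (B ⧸ K)) :
    ∃ x ∈ K, (z : (B ⧸ K) ⊗[B] Ω[B⁄A]) = (1 : B ⧸ K) ⊗ₜ[B] KaehlerDifferential.D A B x := by
  have h1 : (z : (B ⧸ K) ⊗[B] Ω[B⁄A]) ∈
      (LinearMap.ker (KaehlerDifferential.mapBaseChange A B (B ⧸ K))).restrictScalars B := z.2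
  rw [← KaehlerDifferential.range_kerCotangentToTensor A B (B ⧸ K)
    Ideal.Quotient.mk_surjective] at h1
  obtain ⟨y, hy⟩ := h1
  obtain ⟨x, rfl⟩ := Ideal.toCotangent_surjective _ y
  refine ⟨x.1, ?_, ?_⟩
  · have h2 : ∀ y : B, y ∈ RingHom.ker (algebraMap B (B ⧸ K)) → y ∈ K := by
      intro y hy
      rwa [Ideal.Quotient.algebraMap_eq, Ideal.mk_ker] at hy
    exact h2 _ x.2
  · rw [← hy, kerCotangentToTensor_toCotangent]

theorem tmul_D_eq_zero_of_mem_sq (x : B) (hx : x ∈ K ^ 2) :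
    (1 : B ⧸ K) ⊗ₜ[B] KaehlerDifferential.D A B x = 0 := by
  have hx' : x ∈ RingHom.ker (algebraMap B (B ⧸ K)) := by
    rw [Ideal.Quotient.algebraMap_eq, Ideal.mk_ker]
    exact Ideal.pow_le_self two_ne_zero hx
  have h0 : (RingHom.ker (algebraMap B (B ⧸ K))).toCotangent ⟨x, hx'⟩ = 0 := by
    rw [Ideal.toCotangent_eq_zero]
    change x ∈ RingHom.ker (algebraMap B (B ⧸ K)) ^ 2
    rwa [Ideal.Quotient.algebraMap_eq, Ideal.mk_ker]
  have := kerCotangentToTensor_toCotangent A B (B ⧸ K) ⟨x, hx'⟩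
  rw [h0, map_zero] at this
  exact this.symm

theorem deltaL_toCotangent (x : B) (hx : x ∈ K) :
    (Exal.Ext.infinitesimal K).deltaL A (K.toCotangent ⟨x, hx⟩) =
      (Exal.Ext.infinitesimal K).baseChangeToMiddle A
        ((1 : B ⧸ K) ⊗ₜ[B] KaehlerDifferential.D A B x) := by
  rw [baseChangeToMiddle_tmul, map_D]
  rfl

theorem charHom_tmul_D (hK : (Exal.Ext.infinitesimal K).IsTrivialOver A)
    (χ : ↥(EGA41.imperfection A B (B ⧸ K)) →ₗ[B ⧸ K] K.Cotangent)
    (hχ : (Exal.Ext.infinitesimal K).IsCharHom A χ) (x : B) (hx : x ∈ K) :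
    χ ⟨_, tmul_D_mem_imperfection A K x hx⟩ = K.toCotangent ⟨x, hx⟩ := by
  apply deltaL_injective A _ hK
  rw [hχ, deltaL_toCotangent]

theorem charHom_infinitesimal_bijective (hK : (Exal.Ext.infinitesimal K).IsTrivialOver A)
    (χ : ↥(EGA41.imperfection A B (B ⧸ K)) →ₗ[B ⧸ K] K.Cotangent)
    (hχ : (Exal.Ext.infinitesimal K).IsCharHom A χ) : Function.Bijective χ := by
  constructor
  · rw [injective_iff_map_eq_zero]
    intro z hz
    obtain ⟨x, hx, hzx⟩ := exists_eq_tmul_D A K z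
    have hz' : z = ⟨_, tmul_D_mem_imperfection A K x hx⟩ := Subtype.ext hzx
    rw [hz', charHom_tmul_D A K hK χ hχ x hx, Ideal.toCotangent_eq_zero] at hz
    rw [hz']
    exact Subtype.ext (tmul_D_eq_zero_of_mem_sq A K x hz)
  · intro y
    obtain ⟨x, rfl⟩ := Ideal.toCotangent_surjective _ y
    exact ⟨⟨_, tmul_D_mem_imperfection A K x.1 x.2⟩, charHom_tmul_D A K hK χ hχ x.1 x.2⟩

end Infinitesimal

end CharHom

end Groth.Agent.Lib.Helper89
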