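import Groth.Agent.Lib.Helper89.CharHomTower

/-!
# Injectivity of the characteristic homomorphism over a formally smooth base (helper89)
-/

set_option autoImplicit false
universe u v

namespace Groth.Agent.Lib.Helper89

namespace CharHom

open Exal TensorProduct KaehlerDifferential

theorem exists_retraction_mapBaseChange (Λ : Type u) (A B : Type v) [CommRing Λ] [CommRing A]
    [CommRing B] [Algebra Λ A] [Algebra Λ B] [Algebra A B] [IsScalarTower Λ A B]
    [Algebra.FormallySmooth A B] :
    ∃ l : Ω[B⁄Λ] →ₗ[B] B ⊗[A] Ω[A⁄Λ],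
      l ∘ₗ KaehlerDifferential.mapBaseChange Λ A B = LinearMap.id := by
  have hex := KaehlerDifferential.exact_mapBaseChange_map Λ A B
  have hinj : Function.Injective (KaehlerDifferential.mapBaseChange Λ A B) := by
    rw [injective_iff_map_eq_zero]
    intro x hx
    obtain ⟨y, rfl⟩ := (Algebra.H1Cotangent.exact_δ_mapBaseChange Λ A B x).mp hx
    rw [Subsingleton.elim y 0, map_zero]
  obtain ⟨s, hs⟩ := Module.projective_lifting_property (KaehlerDifferential.map Λ A B B)
    LinearMap.id (KaehlerDifferential.map_surjective Λ A B)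
  exact ((hex.split_tfae'.out 0 1 rfl rfl).mp ⟨hinj, s, hs⟩).2

theorem toMiddle_injective_of_formallySmooth {Λ : Type u} {A B C : Type v} [CommRing Λ]
    [CommRing A] [CommRing B] [CommRing C] [Algebra Λ A] [Algebra Λ B] [Algebra A B]
    [IsScalarTower Λ A B] [Algebra A C] [Algebra B C] [IsScalarTower A B C] [Algebra Λ C]
    [IsScalarTower Λ A C] [IsScalarTower Λ B C] [Algebra.FormallySmooth A B]
    (z : C ⊗[A] Ω[A⁄Λ]) (hz : toMiddle (Λ := Λ) (B := A) (E := B) z = 0) : z = 0 := by
  obtain ⟨l, hl⟩ := exists_retraction_mapBaseChange Λ A B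
  rw [← baseChange_cancelBaseChange_symm] at hz
  have h1 := congrArg (l.baseChange C) hz
  rw [← LinearMap.comp_apply, ← LinearMap.baseChange_comp, hl, LinearMap.baseChange_id,
    LinearMap.id_apply, map_zero] at h1
  exact (LinearEquiv.map_eq_zero_iff _).mp h1

end CharHom

end Groth.Agent.Lib.Helper89
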