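import Groth.Agent.Lib.Helper89.CharHomInf

/-!
# Characteristic homomorphism of `B/K²` as an `A`-extension relative to `Λ → A` (helper89)
-/

set_option autoImplicit false
universe u v

namespace Groth.Agent.Lib.Helper89

namespace CharHom

open Exal TensorProduct KaehlerDifferential

section Retraction

set_option linter.unusedSectionVars false

variable (Λ : Type u) (B E C : Type v) [CommRing Λ] [CommRing B] [CommRing E] [CommRing C]
  [Algebra Λ B] [Algebra Λ E] [Algebra B E] [IsScalarTower Λ B E] [Algebra B C] [Algebra E C]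
  [IsScalarTower B E C] [Algebra Λ C] [IsScalarTower Λ B C] [IsScalarTower Λ E C]

/-- The derivation `E → C ⊗[B] Ω[B/Λ]`, `[b] ↦ 1 ⊗ D b`, for a quotient `E` of `B` whose kernel
is killed by `b ↦ 1 ⊗ D b`. -/
noncomputable def derivQuot (hsurj : Function.Surjective (algebraMap B E))
    (hker : ∀ b : B, algebraMap B E b = 0 → (1 : C) ⊗ₜ[B] D Λ B b = 0) :
    Derivation Λ E (C ⊗[B] Ω[B⁄Λ]) where
  toFun e := (1 : C) ⊗ₜ[B] D Λ B (Function.surjInv hsurj e)
  map_add' e e' := by
    rw [← TensorProduct.tmul_add, ← map_add, ← sub_eq_zero, ← TensorProduct.tmul_sub, ← map_sub]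
    apply hker
    simp [Function.surjInv_eq hsurj]
  map_smul' r e := by
    rw [RingHom.id_apply, ← TensorProduct.tmul_smul, ← Derivation.map_smul, ← sub_eq_zero,
      ← TensorProduct.tmul_sub, ← map_sub]
    apply hker
    rw [map_sub, Function.surjInv_eq hsurj, Algebra.smul_def r (Function.surjInv hsurj e),
      map_mul, ← IsScalarTower.algebraMap_apply, Function.surjInv_eq hsurj, ← Algebra.smul_def,
      sub_self]
  map_one_eq_zero' := by
    change (1 : C) ⊗ₜ[B] D Λ B (Function.surjInv hsurj 1) = 0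
    have : (1 : C) ⊗ₜ[B] D Λ B (Function.surjInv hsurj (1 : E) - 1) = 0 := by
      apply hker
      simp [Function.surjInv_eq hsurj]
    rwa [map_sub, TensorProduct.tmul_sub, Derivation.map_one_eq_zero, TensorProduct.tmul_zero,
      sub_zero] at this
  leibniz' e e' := by
    change (1 : C) ⊗ₜ[B] D Λ B (Function.surjInv hsurj (e * e')) =
      e • ((1 : C) ⊗ₜ[B] D Λ B (Function.surjInv hsurj e')) +
      e' • ((1 : C) ⊗ₜ[B] D Λ B (Function.surjInv hsurj e))
    have h1 : (1 : C) ⊗ₜ[B] D Λ B (Function.surjInv hsurj (e * e') -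
        Function.surjInv hsurj e * Function.surjInv hsurj e') = 0 := by
      apply hker
      simp [Function.surjInv_eq hsurj]
    rw [map_sub, TensorProduct.tmul_sub, sub_eq_zero] at h1
    rw [h1, Derivation.leibniz, TensorProduct.tmul_add, TensorProduct.tmul_smul,
      TensorProduct.tmul_smul]
    congr 1
    · conv_rhs => rw [← Function.surjInv_eq hsurj e]
      rw [IsScalarTower.algebraMap_smul]
    · conv_rhs => rw [← Function.surjInv_eq hsurj e']
      rw [IsScalarTower.algebraMap_smul]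


variable {Λ B E C}

theorem derivQuot_algebraMap (hsurj : Function.Surjective (algebraMap B E))
    (hker : ∀ b : B, algebraMap B E b = 0 → (1 : C) ⊗ₜ[B] D Λ B b = 0) (b : B) :
    derivQuot Λ B E C hsurj hker (algebraMap B E b) = (1 : C) ⊗ₜ[B] D Λ B b := by
  change (1 : C) ⊗ₜ[B] D Λ B (Function.surjInv hsurj (algebraMap B E b)) = _
  rw [← sub_eq_zero, ← TensorProduct.tmul_sub, ← map_sub]
  apply hker
  rw [map_sub, Function.surjInv_eq hsurj, sub_self]

/-- The retraction `C ⊗[E] Ω[E/Λ] → C ⊗[B] Ω[B/Λ]`. -/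
noncomputable def retr (hsurj : Function.Surjective (algebraMap B E))
    (hker : ∀ b : B, algebraMap B E b = 0 → (1 : C) ⊗ₜ[B] D Λ B b = 0) :
    C ⊗[E] Ω[E⁄Λ] →ₗ[C] C ⊗[B] Ω[B⁄Λ] :=
  LinearMap.liftBaseChange C (derivQuot Λ B E C hsurj hker).liftKaehlerDifferential

theorem retr_tmul_D (hsurj : Function.Surjective (algebraMap B E))
    (hker : ∀ b : B, algebraMap B E b = 0 → (1 : C) ⊗ₜ[B] D Λ B b = 0) (c : C) (b : B) :
    retr hsurj hker (c ⊗ₜ[E] D Λ E (algebraMap B E b)) = c ⊗ₜ[B] D Λ B b := by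
  rw [retr, LinearMap.liftBaseChange_tmul, Derivation.liftKaehlerDifferential_comp_D,
    derivQuot_algebraMap, TensorProduct.smul_tmul', smul_eq_mul, mul_one]

/-- The natural map `C ⊗[B] Ω[B/Λ] → C ⊗[E] Ω[E/Λ]`. -/
noncomputable def toMiddle : C ⊗[B] Ω[B⁄Λ] →ₗ[B] C ⊗[E] Ω[E⁄Λ] :=
  (TensorProduct.mapOfCompatibleSMul E B B C Ω[E⁄Λ]) ∘ₗ
    (LinearMap.lTensor C (KaehlerDifferential.map Λ Λ B E))

theorem toMiddle_tmul (c : C) (ω : Ω[B⁄Λ]) :
    toMiddle (Λ := Λ) (E := E) (c ⊗ₜ[B] ω) = c ⊗ₜ[E] KaehlerDifferential.map Λ Λ B E ω := rfl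

theorem retr_toMiddle (hsurj : Function.Surjective (algebraMap B E))
    (hker : ∀ b : B, algebraMap B E b = 0 → (1 : C) ⊗ₜ[B] D Λ B b = 0) (w : C ⊗[B] Ω[B⁄Λ]) :
    retr hsurj hker (toMiddle (Λ := Λ) (E := E) w) = w := by
  induction w using TensorProduct.induction_on with
  | zero => simp
  | add x y hx hy => rw [map_add, map_add, hx, hy]
  | tmul c ω =>
    have hω : ω ∈ Submodule.span B (Set.range (KaehlerDifferential.D Λ B)) := by
      rw [KaehlerDifferential.span_range_derivation]; trivial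
    induction hω using Submodule.span_induction generalizing c with
    | mem x hx =>
      obtain ⟨b, rfl⟩ := hx
      rw [toMiddle_tmul, map_D, retr_tmul_D]
    | zero => simp
    | add x y _ _ hx hy => rw [TensorProduct.tmul_add, map_add, map_add, hx, hy]
    | smul b x _ hx => rw [← TensorProduct.smul_tmul, hx]

end Retraction

section Tower

set_option linter.unusedSectionVars false

variable {Λ : Type u} {A B E C : Type v} [CommRing Λ] [CommRing A] [CommRing B] [CommRing E]
  [CommRing C] [Algebra Λ A] [Algebra Λ B] [Algebra Λ E] [Algebra A B] [Algebra A E] [Algebra B E]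
  [IsScalarTower Λ A B] [IsScalarTower Λ A E] [IsScalarTower Λ B E] [IsScalarTower A B E]

theorem kaehler_map_map (ω : Ω[A⁄Λ]) :
    KaehlerDifferential.map Λ Λ B E (KaehlerDifferential.map Λ Λ A B ω) =
      KaehlerDifferential.map Λ Λ A E ω := by
  have hω : ω ∈ Submodule.span A (Set.range (KaehlerDifferential.D Λ A)) := by
    rw [KaehlerDifferential.span_range_derivation]; trivial
  induction hω using Submodule.span_induction with
  | mem x hx =>
    obtain ⟨a, rfl⟩ := hx
    rw [map_D, map_D, map_D, ← IsScalarTower.algebraMap_apply]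
  | zero => simp
  | add x y _ _ hx hy => rw [map_add, map_add, map_add, hx, hy]
  | smul a x _ hx =>
    rw [map_smul (KaehlerDifferential.map Λ Λ A B),
      ← IsScalarTower.algebraMap_smul B a (KaehlerDifferential.map Λ Λ A B x),
      map_smul, hx, IsScalarTower.algebraMap_smul, map_smul]

variable [Algebra A C] [Algebra B C] [Algebra E C] [IsScalarTower A B C] [IsScalarTower A E C]
  [IsScalarTower B E C] [Algebra Λ C] [IsScalarTower Λ A C] [IsScalarTower Λ B C]
  [IsScalarTower Λ E C]

theorem toMiddle_toMiddle (z : C ⊗[A] Ω[A⁄Λ]) :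
    toMiddle (Λ := Λ) (B := B) (E := E) (toMiddle (Λ := Λ) (B := A) (E := B) z) =
      toMiddle (Λ := Λ) (B := A) (E := E) z := by
  induction z using TensorProduct.induction_on with
  | zero => simp
  | add x y hx hy => rw [map_add, map_add, map_add, hx, hy]
  | tmul c ω => rw [toMiddle_tmul, toMiddle_tmul, toMiddle_tmul, kaehler_map_map]

theorem mapBaseChange_toMiddle (z : C ⊗[A] Ω[A⁄Λ]) :
    KaehlerDifferential.mapBaseChange Λ B C (toMiddle (Λ := Λ) (B := A) (E := B) z) =
      KaehlerDifferential.mapBaseChange Λ A C z := by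
  induction z using TensorProduct.induction_on with
  | zero => simp
  | add x y hx hy => rw [map_add, map_add, map_add, hx, hy]
  | tmul c ω =>
    rw [toMiddle_tmul, mapBaseChange_tmul, mapBaseChange_tmul, kaehler_map_map]

theorem baseChange_cancelBaseChange_symm (z : C ⊗[A] Ω[A⁄Λ]) :
    ((KaehlerDifferential.mapBaseChange Λ A B).baseChange C)
      ((TensorProduct.AlgebraTensorModule.cancelBaseChange A B C C Ω[A⁄Λ]).symm z) =
      toMiddle (Λ := Λ) (B := A) (E := B) z := by
  induction z using TensorProduct.induction_on with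
  | zero => simp
  | add x y hx hy => rw [map_add, map_add, map_add, hx, hy]
  | tmul c ω =>
    rw [TensorProduct.AlgebraTensorModule.cancelBaseChange_symm_tmul, LinearMap.baseChange_tmul,
      mapBaseChange_tmul, one_smul, toMiddle_tmul]

/-- Exactness in the middle of `C ⊗[A] Ω[A/Λ] → C ⊗[B] Ω[B/Λ] → C ⊗[B] Ω[B/A]`. -/
theorem exists_toMiddle_eq (w : C ⊗[B] Ω[B⁄Λ])
    (hw : (LinearMap.lTensor C (KaehlerDifferential.map Λ A B B)) w = 0) :
    ∃ z : C ⊗[A] Ω[A⁄Λ], toMiddle (Λ := Λ) (B := A) (E := B) z = w := by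
  have hex := lTensor_exact C (KaehlerDifferential.exact_mapBaseChange_map Λ A B)
    (KaehlerDifferential.map_surjective Λ A B)
  obtain ⟨v, hv⟩ := (hex w).mp hw
  refine ⟨TensorProduct.AlgebraTensorModule.cancelBaseChange A B C C Ω[A⁄Λ] v, ?_⟩
  rw [← baseChange_cancelBaseChange_symm, LinearEquiv.symm_apply_apply, ← hv]
  rfl

theorem lTensor_map_toMiddle (z : C ⊗[A] Ω[A⁄Λ]) :
    (LinearMap.lTensor C (KaehlerDifferential.map Λ A B B))
      (toMiddle (Λ := Λ) (B := A) (E := B) z) = 0 := by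
  have hex := lTensor_exact C (KaehlerDifferential.exact_mapBaseChange_map Λ A B)
    (KaehlerDifferential.map_surjective Λ A B)
  rw [← baseChange_cancelBaseChange_symm]
  exact (hex _).mpr ⟨_, rfl⟩

end Tower



section Apply

variable (Λ : Type u) {A B : Type v} [CommRing Λ] [CommRing A] [CommRing B] [Algebra Λ A]
  [Algebra Λ B] [Algebra A B] [IsScalarTower Λ A B] (K : Ideal B)

/-- The `B`-algebra structure on the carrier `B ⧸ K²` of the restricted infinitesimal extension. -/
@[reducible] noncomputable def algBE :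
    Algebra B (((Exal.Ext.infinitesimal K).restrictBase A).CharCarrier Λ) :=
  (show B →+* ((Exal.Ext.infinitesimal K).restrictBase A).CharCarrier Λ from
    Ideal.Quotient.mk (K ^ 2)).toAlgebra

attribute [local instance] algBE

theorem algebraMap_BE (b : B) :
    algebraMap B (((Exal.Ext.infinitesimal K).restrictBase A).CharCarrier Λ) b =
      (show ((Exal.Ext.infinitesimal K).restrictBase A).CharCarrier Λ from
        Ideal.Quotient.mk (K ^ 2) b) := rfl

set_option maxHeartbeats 100000 in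
instance towerABE :
    IsScalarTower A B (((Exal.Ext.infinitesimal K).restrictBase A).CharCarrier Λ) :=
  IsScalarTower.of_algebraMap_eq (fun a => rfl)

set_option maxHeartbeats 100000 in
instance towerBEC :
    IsScalarTower B (((Exal.Ext.infinitesimal K).restrictBase A).CharCarrier Λ) (B ⧸ K) :=
  IsScalarTower.of_algebraMap_eq (fun b => rfl)

set_option maxHeartbeats 100000 in
instance towerΛBE :
    IsScalarTower Λ B (((Exal.Ext.infinitesimal K).restrictBase A).CharCarrier Λ) :=
  IsScalarTower.of_algebraMap_eq (fun r => by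
    change algebraMap A (((Exal.Ext.infinitesimal K).restrictBase A).CharCarrier Λ)
      (algebraMap Λ A r) = _
    rw [IsScalarTower.algebraMap_apply A B, ← IsScalarTower.algebraMap_apply Λ A B])


theorem surjective_algebraMap_BE : Function.Surjective
    (algebraMap B (((Exal.Ext.infinitesimal K).restrictBase A).CharCarrier Λ)) :=
  Ideal.Quotient.mk_surjective

theorem hker_BE (b : B)
    (hb : algebraMap B (((Exal.Ext.infinitesimal K).restrictBase A).CharCarrier Λ) b = 0) :
    (1 : B ⧸ K) ⊗ₜ[B] D Λ B b = 0 :=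
  tmul_D_eq_zero_of_mem_sq Λ K b (Ideal.Quotient.eq_zero_iff_mem.mp hb)

theorem baseChangeToMiddle_eq_toMiddle (z : (B ⧸ K) ⊗[A] Ω[A⁄Λ]) :
    ((Exal.Ext.infinitesimal K).restrictBase A).baseChangeToMiddle Λ z =
      toMiddle (Λ := Λ) (B := A)
        (E := ((Exal.Ext.infinitesimal K).restrictBase A).CharCarrier Λ) z := by
  induction z using TensorProduct.induction_on with
  | zero => simp
  | add x y hx hy => rw [map_add, map_add, hx, hy]
  | tmul c ω => rfl

theorem deltaL_restrict_toCotangent (x : B) (hx : x ∈ K) :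
    ((Exal.Ext.infinitesimal K).restrictBase A).deltaL Λ (K.toCotangent ⟨x, hx⟩) =
      toMiddle (Λ := Λ) (B := B)
        (E := ((Exal.Ext.infinitesimal K).restrictBase A).CharCarrier Λ)
        ((1 : B ⧸ K) ⊗ₜ[B] D Λ B x) := by
  rw [toMiddle_tmul, map_D]
  rfl

variable {Λ K}

theorem charHom_restrict_eq_zero_iff
    (htriv : ((Exal.Ext.infinitesimal K).restrictBase A).IsTrivialOver Λ)
    (χ : ↥(EGA41.imperfection Λ A (B ⧸ K)) →ₗ[B ⧸ K] K.Cotangent)
    (hχ : ((Exal.Ext.infinitesimal K).restrictBase A).IsCharHom Λ χ)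
    (z : ↥(EGA41.imperfection Λ A (B ⧸ K))) :
    χ z = 0 ↔ toMiddle (Λ := Λ) (B := A) (E := B) (z : (B ⧸ K) ⊗[A] Ω[A⁄Λ]) = 0 := by
  have hinj := deltaL_injective Λ _ htriv
  have h1 := hχ z
  have h3 := toMiddle_toMiddle (Λ := Λ) (A := A) (B := B)
    (E := ((Exal.Ext.infinitesimal K).restrictBase A).CharCarrier Λ) (C := B ⧸ K)
    (z : (B ⧸ K) ⊗[A] Ω[A⁄Λ])
  rw [baseChangeToMiddle_eq_toMiddle, ← h3] at h1
  constructor
  · intro h0
    rw [h0, map_zero] at h1
    have := congrArg (retr (surjective_algebraMap_BE Λ K) (hker_BE Λ K)) h1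
    rw [retr_toMiddle, map_zero] at this
    exact this.symm
  · intro h0
    rw [h0, map_zero] at h1
    apply hinj
    rw [h1, map_zero]

theorem toCotangent_mem_range_charHom_restrict_iff
    (htriv : ((Exal.Ext.infinitesimal K).restrictBase A).IsTrivialOver Λ)
    (χ : ↥(EGA41.imperfection Λ A (B ⧸ K)) →ₗ[B ⧸ K] K.Cotangent)
    (hχ : ((Exal.Ext.infinitesimal K).restrictBase A).IsCharHom Λ χ) (x : B) (hx : x ∈ K) :
    K.toCotangent ⟨x, hx⟩ ∈ LinearMap.range χ ↔
      (1 : B ⧸ K) ⊗ₜ[B] KaehlerDifferential.D A B x = (0 : (B ⧸ K) ⊗[B] Ω[B⁄A]) := by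
  have hinj := deltaL_injective Λ _ htriv
  have hg : (LinearMap.lTensor (B ⧸ K) (KaehlerDifferential.map Λ A B B))
      ((1 : B ⧸ K) ⊗ₜ[B] D Λ B x) = (1 : B ⧸ K) ⊗ₜ[B] KaehlerDifferential.D A B x := by
    rw [LinearMap.lTensor_tmul, map_D, Algebra.algebraMap_self, RingHom.id_apply]
  constructor
  · rintro ⟨z, hz⟩
    have h1 := hχ z
    have h3 := toMiddle_toMiddle (Λ := Λ) (A := A) (B := B)
      (E := ((Exal.Ext.infinitesimal K).restrictBase A).CharCarrier Λ) (C := B ⧸ K)
      (z : (B ⧸ K) ⊗[A] Ω[A⁄Λ])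
    rw [hz, deltaL_restrict_toCotangent, baseChangeToMiddle_eq_toMiddle, ← h3] at h1
    have h2 := congrArg (retr (surjective_algebraMap_BE Λ K) (hker_BE Λ K)) h1
    rw [retr_toMiddle, retr_toMiddle] at h2
    rw [← hg, h2, lTensor_map_toMiddle]
  · intro h0
    rw [← hg] at h0
    obtain ⟨z, hz⟩ := exists_toMiddle_eq (A := A) _ h0
    have hzmem : z ∈ EGA41.imperfection Λ A (B ⧸ K) := by
      change KaehlerDifferential.mapBaseChange Λ A (B ⧸ K) z = 0
      rw [← mapBaseChange_toMiddle (B := B), hz, mapBaseChange_tmul, map_D, one_smul,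
        Ideal.Quotient.algebraMap_eq, Ideal.Quotient.eq_zero_iff_mem.mpr hx, map_zero]
    refine ⟨⟨z, hzmem⟩, ?_⟩
    apply hinj
    have h3 := toMiddle_toMiddle (Λ := Λ) (A := A) (B := B)
      (E := ((Exal.Ext.infinitesimal K).restrictBase A).CharCarrier Λ) (C := B ⧸ K) z
    rw [hχ, deltaL_restrict_toCotangent, baseChangeToMiddle_eq_toMiddle]
    change toMiddle z = _
    rw [← h3, hz]

end Apply

end CharHom

end Groth.Agent.Lib.Helper89
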