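import Groth.Agent.Lib.Helper18.ComplMap

/-!
# Bijectivity of the map of adic completions induced by a ring map (helper89)

`complMap_bijective`: if `g : S →+* T` maps `I` into `K` and induces bijections
`S ⧸ I ^ n → T ⧸ K ^ n` for all `n` (stated elementwise), then the induced map
`FSch.complMap I K g h : AdicCompletion I S →+* AdicCompletion K T` is bijective.
-/

set_option autoImplicit false
universe u

open AdicCompletion

namespace Groth.Agent.Lib.Helper89.ComplBij

variable {S T : Type u} [CommRing S] [CommRing T]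

theorem factor_evalₐ_succ (K : Ideal T) (n : ℕ) (z : AdicCompletion K T) :
    Ideal.Quotient.factor (Ideal.pow_le_pow_right (Nat.le_succ n))
      (AdicCompletion.evalₐ K (n + 1) z) = AdicCompletion.evalₐ K n z := by
  obtain ⟨z, rfl⟩ := AdicCompletion.mk_surjective _ _ z
  rw [AdicCompletion.evalₐ_mk, AdicCompletion.evalₐ_mk, Ideal.Quotient.factor_mk,
    Ideal.Quotient.eq]
  have := z.property (Nat.le_succ n)
  rw [SModEq.sub_mem, smul_eq_mul, Ideal.mul_top] at this
  have h5 := neg_mem this
  rwa [neg_sub] at h5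

theorem complMap_bijective (I : Ideal S) (K : Ideal T) (g : S →+* T) (h : I.map g ≤ K)
    (hsurj : ∀ (n : ℕ) (t : T), ∃ s : S, t - g s ∈ K ^ n)
    (hinj : ∀ (n : ℕ) (s : S), g s ∈ K ^ n → s ∈ I ^ n) :
    Function.Bijective (FSch.complMap I K g h) := by
  constructor
  · rw [injective_iff_map_eq_zero]
    intro x hx
    refine AdicCompletion.ext_evalₐ fun n => ?_
    obtain ⟨a, ha⟩ := Ideal.Quotient.mk_surjective (AdicCompletion.evalₐ I n x)
    have h1 := Groth.Agent.Lib.Helper18.evalₐ_complMap I K g h n x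
    rw [hx, _root_.map_zero, ← ha, Ideal.quotientMap_mk] at h1
    have h2 : g a ∈ K ^ n := Ideal.Quotient.eq_zero_iff_mem.mp h1.symm
    rw [← ha, _root_.map_zero]
    exact Ideal.Quotient.eq_zero_iff_mem.mpr (hinj n a h2)
  · intro y
    have h1 : ∀ n, ∃ a : S, AdicCompletion.evalₐ K n y = Ideal.Quotient.mk _ (g a) := fun n => by
      obtain ⟨b, hb⟩ := Ideal.Quotient.mk_surjective (AdicCompletion.evalₐ K n y)
      obtain ⟨a, ha⟩ := hsurj n b
      refine ⟨a, ?_⟩
      rw [← hb, Ideal.Quotient.eq]
      exact ha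
    choose a ha using h1
    have hcauchy : ∀ n, a n ≡ a (n + 1) [SMOD (I ^ n • ⊤ : Submodule S S)] := by
      intro n
      rw [SModEq.sub_mem, smul_eq_mul, Ideal.mul_top]
      apply hinj n
      rw [map_sub, ← Ideal.Quotient.eq, ← ha n]
      have h2 := ha (n + 1)
      have h3 := congrArg (Ideal.Quotient.factor (Ideal.pow_le_pow_right (Nat.le_succ n))) h2
      rw [Ideal.Quotient.factor_mk] at h3
      rw [← h3]
      exact (factor_evalₐ_succ K n y).symm
    let x : AdicCompletion I S :=
      AdicCompletion.mk _ S (AdicCompletion.AdicCauchySequence.mk _ S a hcauchy)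
    refine ⟨x, AdicCompletion.ext_evalₐ fun n => ?_⟩
    have h6 : AdicCompletion.evalₐ I n x = Ideal.Quotient.mk _ (a n) := by
      rw [AdicCompletion.evalₐ_mk]; rfl
    rw [Groth.Agent.Lib.Helper18.evalₐ_complMap, h6, Ideal.quotientMap_mk, ha n]

end Groth.Agent.Lib.Helper89.ComplBij
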