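import Mathlib.RingTheory.PowerSeries.Basic
import Mathlib.RingTheory.PowerSeries.Inverse
import Mathlib.LinearAlgebra.Matrix.NonsingularInverse
import Mathlib.LinearAlgebra.Matrix.Determinant.Basic
import Mathlib.RingTheory.LocalRing.Basic
import Mathlib.RingTheory.Ideal.Operations
import Mathlib.Algebra.Module.Submodule.Pointwise
import Mathlib.LinearAlgebra.Quotient.Basic
import Mathlib.Tactic

/-!
# Structure of a submodule of `R³` containing `1` with quotient `R/t^m × R/t^n` (helper89)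
-/

set_option autoImplicit false
universe u
open Matrix Pointwise

namespace Groth.Agent.Lib.Helper89

section Uniform

variable {R : Type u} [CommRing R]

theorem crimpTriple_of_matrix (t : R) (ht : ¬ IsUnit t) (m n : ℕ) (hmn : m ≤ n)
    (P : Matrix (Fin 3) (Fin 3) R) (hP : IsUnit P.det)
    (hP1 : P *ᵥ (1 : Fin 3 → R) = Pi.single 0 1)
    (S : Submodule R (Fin 3 → R))
    (hS : ∀ x, x ∈ S ↔ (P *ᵥ x) 1 ∈ Ideal.span {t ^ m} ∧ (P *ᵥ x) 2 ∈ Ideal.span {t ^ n}) :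
    ∃ f : (Fin 3 → R),
      f ∉ Submodule.span R {(1 : (Fin 3 → R))} ⊔ Ideal.span {t} • (⊤ : Submodule R (Fin 3 → R)) ∧
      S = Submodule.span R {(1 : (Fin 3 → R)), (t ^ m) • f} ⊔
        Ideal.span {t ^ n} • (⊤ : Submodule R (Fin 3 → R)) := by
  have hinv : P⁻¹ * P = 1 := Matrix.nonsing_inv_mul P hP
  have hinv' : P * P⁻¹ = 1 := Matrix.mul_nonsing_inv P hP
  set f : Fin 3 → R := P⁻¹ *ᵥ (Pi.single 1 1) with hf
  set g : Fin 3 → R := P⁻¹ *ᵥ (Pi.single 2 1) with hg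
  have hPf : P *ᵥ f = Pi.single 1 1 := by
    rw [hf, Matrix.mulVec_mulVec, hinv', Matrix.one_mulVec]
  have hPg : P *ᵥ g = Pi.single 2 1 := by
    rw [hg, Matrix.mulVec_mulVec, hinv', Matrix.one_mulVec]
  have hone : P⁻¹ *ᵥ (Pi.single 0 1) = (1 : Fin 3 → R) := by
    rw [← hP1, Matrix.mulVec_mulVec, hinv, Matrix.one_mulVec]
  have hdecomp : ∀ x : Fin 3 → R,
      x = (P *ᵥ x) 0 • (1 : Fin 3 → R) + (P *ᵥ x) 1 • f + (P *ᵥ x) 2 • g := by
    intro x
    have h1 : P *ᵥ x = (P *ᵥ x) 0 • (Pi.single 0 1 : Fin 3 → R) +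
        (P *ᵥ x) 1 • (Pi.single 1 1 : Fin 3 → R) + (P *ᵥ x) 2 • (Pi.single 2 1 : Fin 3 → R) := by
      ext i
      fin_cases i <;> simp
    have h2 : x = P⁻¹ *ᵥ (P *ᵥ x) := by
      rw [Matrix.mulVec_mulVec, hinv, Matrix.one_mulVec]
    conv_lhs => rw [h2, h1]
    rw [Matrix.mulVec_add, Matrix.mulVec_add, Matrix.mulVec_smul, Matrix.mulVec_smul,
      Matrix.mulVec_smul, hone]
  have hsmul : ∀ (r : R), Ideal.span {r} • (⊤ : Submodule R (Fin 3 → R)) =
      r • (⊤ : Submodule R (Fin 3 → R)) := fun r => Submodule.ideal_span_singleton_smul r ⊤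
  refine ⟨f, ?_, ?_⟩
  · intro hmem
    rw [Submodule.mem_sup] at hmem
    obtain ⟨y, hy, z, hz, hyz⟩ := hmem
    rw [Submodule.mem_span_singleton] at hy
    obtain ⟨a, rfl⟩ := hy
    rw [hsmul, Submodule.mem_smul_pointwise_iff_exists] at hz
    obtain ⟨w, _, rfl⟩ := hz
    have h1 := congrArg (fun v => (P *ᵥ v) 1) hyz
    simp only [Matrix.mulVec_add, Matrix.mulVec_smul, hP1, hPf, Pi.add_apply, Pi.smul_apply] at h1
    simp at h1
    exact ht (IsUnit.of_mul_eq_one _ h1)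
  · ext x
    constructor
    · intro hx
      obtain ⟨h1, h2⟩ := (hS x).mp hx
      obtain ⟨c, hc⟩ := Ideal.mem_span_singleton'.mp h1
      obtain ⟨c', hc'⟩ := Ideal.mem_span_singleton'.mp h2
      rw [hdecomp x, ← hc, ← hc']
      apply Submodule.add_mem
      · apply Submodule.mem_sup_left
        rw [Submodule.mem_span_pair]
        exact ⟨(P *ᵥ x) 0, c, by rw [mul_smul]⟩
      · apply Submodule.mem_sup_right
        rw [hsmul, Submodule.mem_smul_pointwise_iff_exists]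
        exact ⟨c' • g, Submodule.mem_top, by rw [smul_smul, mul_comm]⟩
    · intro hx
      have hle : Submodule.span R {(1 : (Fin 3 → R)), (t ^ m) • f} ⊔
          Ideal.span {t ^ n} • (⊤ : Submodule R (Fin 3 → R)) ≤ S := by
        apply sup_le
        · rw [Submodule.span_le]
          rintro v (rfl | rfl)
          · rw [SetLike.mem_coe, hS, hP1]
            simp
          · rw [SetLike.mem_coe, hS, Matrix.mulVec_smul, hPf]
            simp
        · rw [hsmul]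
          intro v hv
          rw [Submodule.mem_smul_pointwise_iff_exists] at hv
          obtain ⟨w, _, rfl⟩ := hv
          rw [hS, Matrix.mulVec_smul]
          simp only [Pi.smul_apply, smul_eq_mul]
          constructor
          · apply Ideal.mul_mem_right
            rw [Ideal.mem_span_singleton]
            exact pow_dvd_pow t hmn
          · apply Ideal.mul_mem_right
            exact Ideal.mem_span_singleton_self _
      exact hle hx

end Uniform

section Rows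

variable {R : Type u} [CommRing R]

/-- package two rows summing to zero into a matrix with first row `(1,0,0)` -/
theorem exists_matrix_of_rows (a b : Fin 3 → R) (ha1 : a ⬝ᵥ 1 = 0) (hb1 : b ⬝ᵥ 1 = 0)
    (hdet : IsUnit (a 1 * b 2 - a 2 * b 1)) :
    ∃ P : Matrix (Fin 3) (Fin 3) R, IsUnit P.det ∧ P *ᵥ (1 : Fin 3 → R) = Pi.single 0 1 ∧
      ∀ x, (P *ᵥ x) 1 = a ⬝ᵥ x ∧ (P *ᵥ x) 2 = b ⬝ᵥ x := by
  refine ⟨Matrix.of ![![1, 0, 0], a, b], ?_, ?_, ?_⟩
  · have : (Matrix.of ![![1, 0, 0], a, b]).det = a 1 * b 2 - a 2 * b 1 := by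
      rw [Matrix.det_fin_three]
      simp
    rw [this]
    exact hdet
  · ext i
    fin_cases i
    · simp [Matrix.mulVec, dotProduct, Fin.sum_univ_three]
    · simpa [Matrix.mulVec] using ha1
    · simpa [Matrix.mulVec] using hb1
  · intro x
    constructor <;> simp [Matrix.mulVec]

end Rows

section FromEquiv

variable {R : Type u} [CommRing R]

theorem exists_rows_of_equiv (t : R) (m n : ℕ) (S : Submodule R (Fin 3 → R))
    (h1 : (1 : Fin 3 → R) ∈ S)
    (e : ((Fin 3 → R) ⧸ S) ≃ₗ[R] ((R ⧸ Ideal.span {t ^ m}) × (R ⧸ Ideal.span {t ^ n}))) :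
    ∃ a b : Fin 3 → R, a ⬝ᵥ 1 = 0 ∧ b ⬝ᵥ 1 = 0 ∧
      ∀ x : Fin 3 → R, e (Submodule.Quotient.mk x) =
        (Ideal.Quotient.mk (Ideal.span {t ^ m}) (a ⬝ᵥ x),
          Ideal.Quotient.mk (Ideal.span {t ^ n}) (b ⬝ᵥ x)) := by
  choose a0 ha0 using fun j : Fin 3 => Ideal.Quotient.mk_surjective
    (e (Submodule.Quotient.mk (Pi.single j 1 : Fin 3 → R))).1
  choose b0 hb0 using fun j : Fin 3 => Ideal.Quotient.mk_surjective
    (e (Submodule.Quotient.mk (Pi.single j 1 : Fin 3 → R))).2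
  have key0 : ∀ x : Fin 3 → R, e (Submodule.Quotient.mk x) =
        (Ideal.Quotient.mk (Ideal.span {t ^ m}) (a0 ⬝ᵥ x),
          Ideal.Quotient.mk (Ideal.span {t ^ n}) (b0 ⬝ᵥ x)) := by
    intro x
    have hx : x = ∑ j, x j • (Pi.single j 1 : Fin 3 → R) := by
      ext i
      simp [Finset.sum_apply, Pi.single_apply]
    have hmk : (Submodule.Quotient.mk x : (Fin 3 → R) ⧸ S) =
        ∑ j, x j • Submodule.Quotient.mk (Pi.single j 1 : Fin 3 → R) := by
      conv_lhs => rw [hx]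
      rw [← Submodule.mkQ_apply, map_sum]
      rfl
    rw [hmk, map_sum]
    simp only [map_smul]
    apply Prod.ext
    · rw [Prod.fst_sum]
      simp only [Prod.smul_fst, ← ha0]
      rw [dotProduct, map_sum]
      apply Finset.sum_congr rfl
      intro j _
      rw [mul_comm, map_mul]
      rfl
    · rw [Prod.snd_sum]
      simp only [Prod.smul_snd, ← hb0]
      rw [dotProduct, map_sum]
      apply Finset.sum_congr rfl
      intro j _
      rw [mul_comm, map_mul]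
      rfl
  have hmk1 : (Submodule.Quotient.mk (1 : Fin 3 → R) : (Fin 3 → R) ⧸ S) = 0 :=
    (Submodule.Quotient.mk_eq_zero S).mpr h1
  have h0 := key0 1
  rw [hmk1, map_zero] at h0
  have hsa : Ideal.Quotient.mk (Ideal.span {t ^ m}) (a0 ⬝ᵥ 1) = 0 := (congrArg Prod.fst h0).symm
  have hsb : Ideal.Quotient.mk (Ideal.span {t ^ n}) (b0 ⬝ᵥ 1) = 0 := (congrArg Prod.snd h0).symm
  refine ⟨a0 - (a0 ⬝ᵥ 1) • Pi.single 0 1, b0 - (b0 ⬝ᵥ 1) • Pi.single 0 1, ?_, ?_, ?_⟩
  · rw [sub_dotProduct, smul_dotProduct]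
    simp
  · rw [sub_dotProduct, smul_dotProduct]
    simp
  · intro x
    rw [key0 x, sub_dotProduct, sub_dotProduct, smul_dotProduct, smul_dotProduct, map_sub,
      map_sub, smul_eq_mul, smul_eq_mul, map_mul, map_mul, hsa, hsb, zero_mul, zero_mul,
      sub_zero, sub_zero]

end FromEquiv

section LocalRing

variable {R : Type u} [CommRing R] [IsLocalRing R]

theorem isUnit_of_sub_one_mem_maximalIdeal {x : R} (h : x - 1 ∈ IsLocalRing.maximalIdeal R) :
    IsUnit x := by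
  by_contra hx
  have hx' : x ∈ IsLocalRing.maximalIdeal R := (IsLocalRing.mem_maximalIdeal x).mpr hx
  have h1 : (1 : R) ∈ IsLocalRing.maximalIdeal R := by
    have := (IsLocalRing.maximalIdeal R).sub_mem hx' h
    rwa [sub_sub_cancel] at this
  exact (Ideal.ne_top_iff_one _).mp (IsLocalRing.maximalIdeal.isMaximal R).ne_top h1

theorem span_pow_le_maximalIdeal (t : R) (ht : ¬ IsUnit t) (k : ℕ) (hk : 0 < k) :
    Ideal.span {t ^ k} ≤ IsLocalRing.maximalIdeal R := by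
  rw [Ideal.span_le, Set.singleton_subset_iff, SetLike.mem_coe]
  have htm : t ∈ IsLocalRing.maximalIdeal R := (IsLocalRing.mem_maximalIdeal t).mpr ht
  exact Ideal.pow_mem_of_mem _ htm k hk

theorem dot_eq_of_sum_zero (a x : Fin 3 → R) (ha : a ⬝ᵥ 1 = 0) :
    a ⬝ᵥ x = a 1 * (x 1 - x 0) + a 2 * (x 2 - x 0) := by
  have ha' : a 0 + a 1 + a 2 = 0 := by
    simpa [dotProduct, Fin.sum_univ_three] using ha
  simp only [dotProduct, Fin.sum_univ_three]
  linear_combination (x 0) * ha'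

theorem crimpTriple_local (t : R) (ht : ¬ IsUnit t) (m n : ℕ) (hmn : m ≤ n)
    (S : Submodule R (Fin 3 → R)) (h1 : (1 : Fin 3 → R) ∈ S)
    (e : ((Fin 3 → R) ⧸ S) ≃ₗ[R] ((R ⧸ Ideal.span {t ^ m}) × (R ⧸ Ideal.span {t ^ n}))) :
    ∃ f : (Fin 3 → R),
      f ∉ Submodule.span R {(1 : (Fin 3 → R))} ⊔ Ideal.span {t} • (⊤ : Submodule R (Fin 3 → R)) ∧
      S = Submodule.span R {(1 : (Fin 3 → R)), (t ^ m) • f} ⊔
        Ideal.span {t ^ n} • (⊤ : Submodule R (Fin 3 → R)) := by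
  obtain ⟨a, b, ha1, hb1, hkey⟩ := exists_rows_of_equiv t m n S h1 e
  have hS : ∀ x, x ∈ S ↔ a ⬝ᵥ x ∈ Ideal.span {t ^ m} ∧ b ⬝ᵥ x ∈ Ideal.span {t ^ n} := by
    intro x
    rw [← Submodule.Quotient.mk_eq_zero S, ← e.map_eq_zero_iff, hkey, Prod.mk_eq_zero,
      Ideal.Quotient.eq_zero_iff_mem, Ideal.Quotient.eq_zero_iff_mem]
  have hsurj : ∀ p : (R ⧸ Ideal.span {t ^ m}) × (R ⧸ Ideal.span {t ^ n}), ∃ x : Fin 3 → R,
      (Ideal.Quotient.mk (Ideal.span {t ^ m}) (a ⬝ᵥ x),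
          Ideal.Quotient.mk (Ideal.span {t ^ n}) (b ⬝ᵥ x)) = p := by
    intro p
    obtain ⟨q, hq⟩ := e.surjective p
    obtain ⟨x, rfl⟩ := Submodule.Quotient.mk_surjective S q
    exact ⟨x, by rw [← hkey, hq]⟩
  -- it suffices to produce good rows
  suffices hrows : ∃ a' b' : Fin 3 → R, a' ⬝ᵥ 1 = 0 ∧ b' ⬝ᵥ 1 = 0 ∧
      IsUnit (a' 1 * b' 2 - a' 2 * b' 1) ∧
      ∀ x, x ∈ S ↔ a' ⬝ᵥ x ∈ Ideal.span {t ^ m} ∧ b' ⬝ᵥ x ∈ Ideal.span {t ^ n} by
    obtain ⟨a', b', ha', hb', hdet, hS'⟩ := hrows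
    obtain ⟨P, hPdet, hP1, hProws⟩ := exists_matrix_of_rows a' b' ha' hb' hdet
    apply crimpTriple_of_matrix t ht m n hmn P hPdet hP1 S
    intro x
    rw [(hProws x).1, (hProws x).2]
    exact hS' x
  rcases Nat.eq_zero_or_pos n with hn | hn
  · -- n = 0 = m
    have hm : m = 0 := by omega
    subst hn hm
    refine ⟨![-1, 1, 0], ![-1, 0, 1], ?_, ?_, ?_, ?_⟩
    · simp [dotProduct, Fin.sum_univ_three]
    · simp [dotProduct, Fin.sum_univ_three]
    · simp
    · intro x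
      rw [hS x]
      simp [pow_zero, Ideal.span_singleton_one]
  · rcases Nat.eq_zero_or_pos m with hm | hm
    · -- m = 0 < n
      subst hm
      obtain ⟨y, hy⟩ := hsurj (0, 1)
      have hy2 : Ideal.Quotient.mk (Ideal.span {t ^ n}) (b ⬝ᵥ y) = 1 := congrArg Prod.snd hy
      have hy3 : b ⬝ᵥ y - 1 ∈ Ideal.span {t ^ n} := by
        rw [← Ideal.Quotient.eq_zero_iff_mem, map_sub, hy2, map_one, sub_self]
      have hunit : IsUnit (b ⬝ᵥ y) :=
        isUnit_of_sub_one_mem_maximalIdeal (span_pow_le_maximalIdeal t ht n hn hy3)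
      rw [dot_eq_of_sum_zero b y hb1] at hunit
      rcases IsLocalRing.isUnit_or_isUnit_of_isUnit_add hunit with hu | hu
      · have hb1u : IsUnit (b 1) := isUnit_of_mul_isUnit_left hu
        refine ⟨![-1, 0, 1], b, ?_, hb1, ?_, ?_⟩
        · simp [dotProduct, Fin.sum_univ_three]
        · simpa using hb1u.neg
        · intro x
          rw [hS x]
          simp [pow_zero, Ideal.span_singleton_one]
      · have hb2u : IsUnit (b 2) := isUnit_of_mul_isUnit_left hu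
        refine ⟨![-1, 1, 0], b, ?_, hb1, ?_, ?_⟩
        · simp [dotProduct, Fin.sum_univ_three]
        · simpa using hb2u
        · intro x
          rw [hS x]
          simp [pow_zero, Ideal.span_singleton_one]
    · -- 1 ≤ m ≤ n
      refine ⟨a, b, ha1, hb1, ?_, hS⟩
      obtain ⟨x, hx⟩ := hsurj (1, 0)
      obtain ⟨y, hy⟩ := hsurj (0, 1)
      have hx1 : Ideal.Quotient.mk (Ideal.span {t ^ m}) (a ⬝ᵥ x) = 1 := congrArg Prod.fst hx
      have hx2 : Ideal.Quotient.mk (Ideal.span {t ^ n}) (b ⬝ᵥ x) = 0 := congrArg Prod.snd hx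
      have hy1 : Ideal.Quotient.mk (Ideal.span {t ^ m}) (a ⬝ᵥ y) = 0 := congrArg Prod.fst hy
      have hy2 : Ideal.Quotient.mk (Ideal.span {t ^ n}) (b ⬝ᵥ y) = 1 := congrArg Prod.snd hy
      have kx1 : a ⬝ᵥ x - 1 ∈ IsLocalRing.maximalIdeal R := by
        apply span_pow_le_maximalIdeal t ht m hm
        rw [← Ideal.Quotient.eq_zero_iff_mem, map_sub, hx1, map_one, sub_self]
      have kx2 : b ⬝ᵥ x ∈ IsLocalRing.maximalIdeal R := by
        apply span_pow_le_maximalIdeal t ht n hn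
        rwa [← Ideal.Quotient.eq_zero_iff_mem]
      have ky1 : a ⬝ᵥ y ∈ IsLocalRing.maximalIdeal R := by
        apply span_pow_le_maximalIdeal t ht m hm
        rwa [← Ideal.Quotient.eq_zero_iff_mem]
      have ky2 : b ⬝ᵥ y - 1 ∈ IsLocalRing.maximalIdeal R := by
        apply span_pow_le_maximalIdeal t ht n hn
        rw [← Ideal.Quotient.eq_zero_iff_mem, map_sub, hy2, map_one, sub_self]
      have hD : IsUnit ((a ⬝ᵥ x) * (b ⬝ᵥ y) - (a ⬝ᵥ y) * (b ⬝ᵥ x)) := by
        apply isUnit_of_sub_one_mem_maximalIdeal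
        have : (a ⬝ᵥ x) * (b ⬝ᵥ y) - (a ⬝ᵥ y) * (b ⬝ᵥ x) - 1 =
            (a ⬝ᵥ x - 1) * (b ⬝ᵥ y) + (b ⬝ᵥ y - 1) - (a ⬝ᵥ y) * (b ⬝ᵥ x) := by ring
        rw [this]
        exact Ideal.sub_mem _ (Ideal.add_mem _ (Ideal.mul_mem_right _ _ kx1) ky2)
          (Ideal.mul_mem_right _ _ ky1)
      rw [dot_eq_of_sum_zero a x ha1, dot_eq_of_sum_zero b y hb1, dot_eq_of_sum_zero a y ha1,
        dot_eq_of_sum_zero b x hb1] at hD
      have hfac : (a 1 * (x 1 - x 0) + a 2 * (x 2 - x 0)) * (b 1 * (y 1 - y 0) + b 2 * (y 2 - y 0)) -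
          (a 1 * (y 1 - y 0) + a 2 * (y 2 - y 0)) * (b 1 * (x 1 - x 0) + b 2 * (x 2 - x 0)) =
          (a 1 * b 2 - a 2 * b 1) *
            ((x 1 - x 0) * (y 2 - y 0) - (x 2 - x 0) * (y 1 - y 0)) := by ring
      rw [hfac] at hD
      exact isUnit_of_mul_isUnit_left hD

end LocalRing

end Groth.Agent.Lib.Helper89
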