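import Groth.Prelude.Def_EssEt
import Mathlib

/-!
# Essentially étale local algebras: transitivity (helper89)
-/

set_option autoImplicit false
universe u

namespace Groth.Agent.Lib.Helper89

open EGA4loc TensorProduct

theorem isEssentiallyEtale_of_algEquiv {A B B₂ : Type u} [CommRing A] [IsLocalRing A]
    [CommRing B] [Algebra A B] [CommRing B₂] [Algebra A B₂] (e : B ≃ₐ[A] B₂)
    (h : IsEssentiallyEtale A B₂) : IsEssentiallyEtale A B := by
  obtain ⟨C, _, _, q, _, h1, h2, ⟨e'⟩⟩ := h
  exact ⟨C, _, _, q, _, h1, h2, ⟨e.trans e'⟩⟩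

theorem isEssentiallyEtale_of_isLocalization_atPrime {A : Type u} [CommRing A] [IsLocalRing A]
    (D : Type u) [CommRing D] [Algebra A D] [Algebra.FinitePresentation A D]
    (T : Type u) [CommRing T] [Algebra A T] [Algebra D T] [IsScalarTower A D T]
    (P : Ideal D) [P.IsPrime] [IsLocalization.AtPrime T P] [Algebra.FormallyEtale A T]
    (hP : P.comap (algebraMap A D) = IsLocalRing.maximalIdeal A) :
    IsEssentiallyEtale A T := by
  have hEt : Algebra.IsEtaleAt A P :=
    Algebra.FormallyEtale.of_equiv
      ((IsLocalization.algEquiv P.primeCompl T (Localization.AtPrime P)).restrictScalars A)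
  obtain ⟨f, hf, hE⟩ := Algebra.exists_etale_of_isEtaleAt (R := A) P
  have hdisj : Disjoint (Submonoid.powers f : Set D) (P : Set D) := by
    rw [Set.disjoint_left]
    rintro _ ⟨n, rfl⟩ hn
    exact hf (Ideal.IsPrime.mem_of_pow_mem ‹_› n hn)
  have hP'prime : (P.map (algebraMap D (Localization.Away f))).IsPrime :=
    IsLocalization.isPrime_of_isPrime_disjoint (Submonoid.powers f) _ P ‹_› hdisj
  have hcomap : (P.map (algebraMap D (Localization.Away f))).comap
      (algebraMap D (Localization.Away f)) = P :=
    IsLocalization.under_map_of_isPrime_disjoint (Submonoid.powers f) _ ‹_› hdisj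
  have hloc : IsLocalization.AtPrime
      (Localization.AtPrime (P.map (algebraMap D (Localization.Away f))))
      ((P.map (algebraMap D (Localization.Away f))).comap
        (algebraMap D (Localization.Away f))) :=
    IsLocalization.isLocalization_isLocalization_atPrime_isLocalization (Submonoid.powers f) _
      (P.map (algebraMap D (Localization.Away f)))
  have hmon : ((P.map (algebraMap D (Localization.Away f))).comap
        (algebraMap D (Localization.Away f))).primeCompl = P.primeCompl := by
    ext x
    simp only [Ideal.mem_primeCompl_iff]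
    rw [hcomap]
  have hloc' : IsLocalization P.primeCompl
      (Localization.AtPrime (P.map (algebraMap D (Localization.Away f)))) := by
    rw [← hmon]; exact hloc
  refine ⟨Localization.Away f, inferInstance, inferInstance,
    P.map (algebraMap D (Localization.Away f)), hP'prime, hE, ?_, ⟨?_⟩⟩
  · rw [IsScalarTower.algebraMap_eq A D (Localization.Away f), ← Ideal.comap_comap, hcomap, hP]
  · exact (IsLocalization.algEquiv P.primeCompl T
      (Localization.AtPrime (P.map (algebraMap D (Localization.Away f))))).restrictScalars A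

theorem model_isLocalization {R : Type u} [CommRing R] (M : Submonoid R)
    (S : Type u) [CommRing S] [Algebra R S] [IsLocalization M S]
    (C : Type u) [CommRing C] [Algebra S C] [Algebra R C] [IsScalarTower R S C]
    {ι σ : Type} (P : Algebra.Presentation S C ι σ) [P.HasCoeffs R] :
    ∃ (_ : Algebra (P.ModelOfHasCoeffs R) C), IsScalarTower R (P.ModelOfHasCoeffs R) C ∧
      IsLocalization (Algebra.algebraMapSubmonoid (P.ModelOfHasCoeffs R) M) C := by
  let e : S ⊗[R] (P.ModelOfHasCoeffs R) ≃ₐ[S] C := P.tensorModelOfHasCoeffsEquiv R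
  let iD : Algebra (P.ModelOfHasCoeffs R) C :=
    (e.toAlgHom.toRingHom.comp
      (Algebra.TensorProduct.includeRight :
        (P.ModelOfHasCoeffs R) →ₐ[R] S ⊗[R] (P.ModelOfHasCoeffs R)).toRingHom).toAlgebra
  have hst : IsScalarTower R (P.ModelOfHasCoeffs R) C := by
    refine @IsScalarTower.of_algebraMap_eq' R (P.ModelOfHasCoeffs R) C _ _ _ _ iD _ ?_
    ext x
    change algebraMap R C x = e ((Algebra.TensorProduct.includeRight :
      (P.ModelOfHasCoeffs R) →ₐ[R] S ⊗[R] (P.ModelOfHasCoeffs R))
      (algebraMap R (P.ModelOfHasCoeffs R) x))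
    rw [AlgHom.commutes, IsScalarTower.algebraMap_apply R S (S ⊗[R] (P.ModelOfHasCoeffs R)),
      AlgEquiv.commutes, ← IsScalarTower.algebraMap_apply]
  refine ⟨iD, hst, ?_⟩
  let _ : Algebra (P.ModelOfHasCoeffs R) (S ⊗[R] (P.ModelOfHasCoeffs R)) :=
    Algebra.TensorProduct.rightAlgebra
  have hloc : IsLocalization (Algebra.algebraMapSubmonoid (P.ModelOfHasCoeffs R) M)
      (S ⊗[R] (P.ModelOfHasCoeffs R)) :=
    IsLocalization.tensorRight S M
  exact IsLocalization.isLocalization_of_algEquiv (R := P.ModelOfHasCoeffs R)
    (S := S ⊗[R] (P.ModelOfHasCoeffs R)) (P := C) _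
    (AlgEquiv.ofRingEquiv (f := e.toRingEquiv) (fun d => rfl))

theorem exists_fp_model_of_isLocalization {R : Type u} [CommRing R] (M : Submonoid R)
    (S : Type u) [CommRing S] [Algebra R S] [IsLocalization M S]
    (C : Type u) [CommRing C] [Algebra S C] [Algebra R C] [IsScalarTower R S C]
    [Algebra.FinitePresentation S C] :
    ∃ (D : Type u) (_ : CommRing D) (_ : Algebra R D) (_ : Algebra D C),
      Algebra.FinitePresentation R D ∧ IsScalarTower R D C ∧
      IsLocalization (Algebra.algebraMapSubmonoid D M) C := by
  classical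
  let P := Algebra.Presentation.ofFinitePresentation S C
  obtain ⟨b, hb⟩ := IsLocalization.exist_integer_multiples_of_finset M P.finite_coeffs.toFinset
  have hu : IsUnit (algebraMap R S b) := IsLocalization.map_units S b
  let P' : Algebra.Presentation S C _ _ :=
    { P.toGenerators with
      relation := fun i => (algebraMap R S b) • P.relation i
      span_range_relation_eq_ker := by
        rw [← P.span_range_relation_eq_ker]
        apply le_antisymm
        · rw [Ideal.span_le]
          rintro _ ⟨i, rfl⟩
          simp only [SetLike.mem_coe]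
          rw [MvPolynomial.smul_eq_C_mul]
          exact Ideal.mul_mem_left _ _ (Ideal.subset_span ⟨i, rfl⟩)
        · rw [Ideal.span_le]
          rintro _ ⟨i, rfl⟩
          simp only [SetLike.mem_coe]
          have : P.relation i = MvPolynomial.C (↑hu.unit⁻¹ : S) *
              ((algebraMap R S b) • P.relation i) := by
            rw [MvPolynomial.smul_eq_C_mul, ← mul_assoc, ← MvPolynomial.C_mul]
            simp
          rw [this]
          exact Ideal.mul_mem_left _ _ (Ideal.subset_span ⟨i, rfl⟩) }
  have hco : P'.HasCoeffs R := by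
    refine ⟨?_⟩
    intro c hc
    simp only [Algebra.Presentation.coeffs, Set.mem_iUnion] at hc
    obtain ⟨i, hc⟩ := hc
    simp only [Finset.mem_coe, MvPolynomial.mem_coeffs_iff] at hc
    obtain ⟨n, hn, rfl⟩ := hc
    have h1 : MvPolynomial.coeff n (P'.relation i) =
        algebraMap R S b * MvPolynomial.coeff n (P.relation i) := by
      change MvPolynomial.coeff n ((algebraMap R S b) • P.relation i) = _
      rw [MvPolynomial.coeff_smul, smul_eq_mul]
    have h2 : MvPolynomial.coeff n (P.relation i) ∈ P.coeffs := by
      simp only [Algebra.Presentation.coeffs, Set.mem_iUnion]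
      refine ⟨i, ?_⟩
      simp only [Finset.mem_coe, MvPolynomial.mem_coeffs_iff]
      refine ⟨n, ?_, rfl⟩
      rw [MvPolynomial.mem_support_iff] at hn ⊢
      intro h0
      apply hn
      rw [h1, h0, mul_zero]
    have h3 := hb _ (P.finite_coeffs.mem_toFinset.mpr h2)
    obtain ⟨y, hy⟩ := h3
    refine ⟨y, ?_⟩
    rw [hy, h1, Algebra.smul_def]
  obtain ⟨iD, hst, hloc⟩ := model_isLocalization M S C P'
  exact ⟨P'.ModelOfHasCoeffs R, inferInstance, inferInstance, iD, inferInstance, hst, hloc⟩

theorem isEssentiallyEtale_trans_aux (A : Type u) [CommRing A] [IsLocalRing A]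
    (B' : Type u) [CommRing B'] [Algebra A B'] [Algebra.Etale A B'] (q : Ideal B') [q.IsPrime]
    (hq : q.comap (algebraMap A B') = IsLocalRing.maximalIdeal A)
    (B : Type u) [CommRing B] [IsLocalRing B] [Algebra A B] [Algebra B' B] [IsScalarTower A B' B]
    [IsLocalization.AtPrime B q]
    (C' : Type u) [CommRing C'] [Algebra B C'] [Algebra.Etale B C'] (r : Ideal C') [r.IsPrime]
    (hr : r.comap (algebraMap B C') = IsLocalRing.maximalIdeal B)
    [Algebra A C'] [IsScalarTower A B C'] :
    IsEssentiallyEtale A (Localization.AtPrime r) := by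
  let _ : Algebra B' C' := ((algebraMap B C').comp (algebraMap B' B)).toAlgebra
  have : IsScalarTower B' B C' := IsScalarTower.of_algebraMap_eq' rfl
  have : IsScalarTower A B' C' := by
    refine IsScalarTower.of_algebraMap_eq' ?_
    rw [IsScalarTower.algebraMap_eq A B C', IsScalarTower.algebraMap_eq A B' B,
      ← RingHom.comp_assoc]
    rfl
  obtain ⟨D, _, _, _, hfp, hst, hloc⟩ := exists_fp_model_of_isLocalization q.primeCompl B C'
  let _ : Algebra A D := ((algebraMap B' D).comp (algebraMap A B')).toAlgebra
  have : IsScalarTower A B' D := IsScalarTower.of_algebraMap_eq' rfl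
  have : IsScalarTower A D C' := by
    refine IsScalarTower.of_algebraMap_eq' ?_
    rw [IsScalarTower.algebraMap_eq A B' C', IsScalarTower.algebraMap_eq B' D C',
      RingHom.comp_assoc]
    rfl
  have : Algebra.FinitePresentation A D := Algebra.FinitePresentation.trans A B' D
  have hlocT : IsLocalization.AtPrime (Localization.AtPrime r) (r.comap (algebraMap D C')) :=
    IsLocalization.isLocalization_isLocalization_atPrime_isLocalization
      (Algebra.algebraMapSubmonoid D q.primeCompl) _ r
  have h1 : Algebra.FormallyEtale B' B := Algebra.FormallyEtale.of_isLocalization q.primeCompl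
  have h2 : Algebra.FormallyEtale A B := Algebra.FormallyEtale.comp A B' B
  have h3 : Algebra.FormallyEtale A C' := Algebra.FormallyEtale.comp A B C'
  have h4 : Algebra.FormallyEtale C' (Localization.AtPrime r) :=
    Algebra.FormallyEtale.of_isLocalization r.primeCompl
  have h5 : Algebra.FormallyEtale A (Localization.AtPrime r) :=
    Algebra.FormallyEtale.comp A C' _
  have : IsScalarTower A D (Localization.AtPrime r) := by
    refine IsScalarTower.of_algebraMap_eq' ?_
    rw [IsScalarTower.algebraMap_eq A C' (Localization.AtPrime r),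
      IsScalarTower.algebraMap_eq D C' (Localization.AtPrime r),
      IsScalarTower.algebraMap_eq A D C', RingHom.comp_assoc]
  refine isEssentiallyEtale_of_isLocalization_atPrime D (Localization.AtPrime r)
    (r.comap (algebraMap D C')) ?_
  rw [Ideal.comap_comap, ← IsScalarTower.algebraMap_eq A D C',
    IsScalarTower.algebraMap_eq A B C', ← Ideal.comap_comap, hr,
    IsScalarTower.algebraMap_eq A B' B, ← Ideal.comap_comap]
  have := IsLocalization.AtPrime.under_maximalIdeal B q
  rw [Ideal.under] at this
  rw [this, hq]

theorem isEssentiallyEtale_trans (A : Type u) [CommRing A] [IsLocalRing A]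
    (B : Type u) [CommRing B] [IsLocalRing B] [Algebra A B]
    (C : Type u) [CommRing C] [Algebra B C] [Algebra A C] [IsScalarTower A B C]
    (hB : EGA4loc.IsEssentiallyEtale A B) (hC : EGA4loc.IsEssentiallyEtale B C) :
    EGA4loc.IsEssentiallyEtale A C := by
  obtain ⟨B', _, _, q, _, hEt, hq, ⟨eB⟩⟩ := hB
  obtain ⟨C', _, _, r, _, hEt', hr, ⟨eC⟩⟩ := hC
  let _ : Algebra B' B :=
    (eB.symm.toAlgHom.toRingHom.comp (algebraMap B' (Localization.AtPrime q))).toAlgebra
  have : IsScalarTower A B' B := by
    refine IsScalarTower.of_algebraMap_eq fun a => ?_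
    change algebraMap A B a = eB.symm (algebraMap B' (Localization.AtPrime q) (algebraMap A B' a))
    rw [← IsScalarTower.algebraMap_apply A B' (Localization.AtPrime q), AlgEquiv.commutes]
  have : IsLocalization.AtPrime B q :=
    IsLocalization.isLocalization_of_algEquiv (R := B') (S := Localization.AtPrime q) (P := B) _
      (AlgEquiv.ofRingEquiv (f := eB.symm.toRingEquiv) (fun d => rfl))
  let _ : Algebra A C' := ((algebraMap B C').comp (algebraMap A B)).toAlgebra
  have : IsScalarTower A B C' := IsScalarTower.of_algebraMap_eq' rfl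
  have key := isEssentiallyEtale_trans_aux A B' q hq B C' r hr
  exact isEssentiallyEtale_of_algEquiv (eC.restrictScalars A) key

end Groth.Agent.Lib.Helper89
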