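import Groth.Agent.Lib.Helper89.ExtBC
import Groth.Agent.Lib.Helper89.DualBasisBC

/-!
# Base change of `Ext` groups along a finite projective algebra (helper89)

Abstract setting: objects `F`, `E` of an abelian category with actions of `A` on `F` and of an
`A`-algebra `B` on `E`, an equivariant map `u : F ⟶ E`, and a "dual basis" `b j`, `φ j` of `B`
over `A` together with maps `Φ j : E ⟶ F` behaving like `id ⊗ φ j` (so `E` behaves like
`F ⊗_A B`).  Then `Ext Z F n → Ext Z E n` is a base change for all `Z`, `n`.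
-/

set_option autoImplicit false
universe w

open CategoryTheory Abelian Limits

namespace Groth.Agent.Lib.Helper89.ExtDual

open Groth.Agent.Lib.Helper89.ExtBC Groth.Agent.Lib.Helper89.DualBasisBC

variable {𝒞 : Type*} [Category 𝒞] [Abelian 𝒞] [HasExt.{w} 𝒞]
  {A B : Type*} [CommRing A] [CommRing B] [Algebra A B]
  {F E : 𝒞} (ρ : A →+* End F) (ρ'' : B →+* End E) (u : F ⟶ E)
  (hu : ∀ a : A, ρ a ≫ u = u ≫ ρ'' (algebraMap A B a))

include hu in
/-- postcomposition with `u`, as a linear map. -/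
noncomputable def post (Z : 𝒞) (n : ℕ) : EM ρ Z n →ₗ[A] EMB A ρ'' Z n where
  toFun x := EMB.of A ρ'' Z (x.toExt.comp (Ext.mk₀ u) (add_zero n))
  map_add' x y := Ext.add_comp _ _ _ _
  map_smul' a x := by
    change (x.toExt.comp (Ext.mk₀ (ρ a)) (add_zero n)).comp (Ext.mk₀ u) (add_zero n) =
      (x.toExt.comp (Ext.mk₀ u) (add_zero n)).comp (Ext.mk₀ (ρ'' (algebraMap A B a)))
        (add_zero n)
    rw [Ext.comp_assoc_of_third_deg_zero, Ext.comp_assoc_of_third_deg_zero, Ext.mk₀_comp_mk₀,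
      Ext.mk₀_comp_mk₀, hu]

theorem post_apply (Z : 𝒞) (n : ℕ) (x : EM ρ Z n) :
    post ρ ρ'' u hu Z n x = EMB.of A ρ'' Z (x.toExt.comp (Ext.mk₀ u) (add_zero n)) := rfl

/-- `f ↦ e ∘ f`, additively. -/
noncomputable def compHom {Z X Y : 𝒞} {n : ℕ} (e : Ext.{w} Z X n) : (X ⟶ Y) →+ Ext.{w} Z Y n :=
  AddMonoidHom.mk' (fun f => e.comp (Ext.mk₀ f) (add_zero n)) (fun f g => by
    rw [Ext.mk₀_add, Ext.comp_add])

theorem isBaseChange_post {J : Type*} [Fintype J] (b : J → B) (φ : J → (B →ₗ[A] A))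
    (hdual : ∀ x : B, ∑ j, φ j x • b j = x) (Φ : J → (E ⟶ F))
    (h1 : ∑ j, (Φ j ≫ u ≫ ρ'' (b j)) = 𝟙 E)
    (h2 : ∀ j (x : B), u ≫ ρ'' x ≫ Φ j = ρ (φ j x)) (Z : 𝒞) (n : ℕ) :
    IsBaseChange B (post ρ ρ'' u hu Z n) := by
  refine isBaseChange_of_dualBasis _ b φ hdual
    (fun j => ((Ext.mk₀ (Φ j)).postcomp Z (add_zero n) : Ext.{w} Z E n →+ Ext.{w} Z F n)) ?_ ?_
  · intro e
    have key : ∀ j, b j • post ρ ρ'' u hu Z n
        (((Ext.mk₀ (Φ j)).postcomp Z (add_zero n) : Ext.{w} Z E n →+ Ext.{w} Z F n) e) =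
        EMB.of A ρ'' Z (compHom e.toExt (Φ j ≫ u ≫ ρ'' (b j))) := by
      intro j
      change ((e.toExt.comp (Ext.mk₀ (Φ j)) (add_zero n)).comp (Ext.mk₀ u) (add_zero n)).comp
        (Ext.mk₀ (ρ'' (b j))) (add_zero n) =
        e.toExt.comp (Ext.mk₀ (Φ j ≫ u ≫ ρ'' (b j))) (add_zero n)
      rw [Ext.comp_assoc_of_third_deg_zero, Ext.comp_assoc_of_third_deg_zero, Ext.mk₀_comp_mk₀,
        Ext.mk₀_comp_mk₀]
    refine (Finset.sum_congr rfl fun j _ => key j).trans ?_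
    change ∑ j, compHom e.toExt (Φ j ≫ u ≫ ρ'' (b j)) = e.toExt
    rw [← map_sum, h1]
    exact Ext.comp_mk₀_id _
  · intro j x y
    change ((y.toExt.comp (Ext.mk₀ u) (add_zero n)).comp (Ext.mk₀ (ρ'' x)) (add_zero n)).comp
      (Ext.mk₀ (Φ j)) (add_zero n) = y.toExt.comp (Ext.mk₀ (ρ (φ j x))) (add_zero n)
    rw [Ext.comp_assoc_of_third_deg_zero, Ext.comp_assoc_of_third_deg_zero, Ext.mk₀_comp_mk₀,
      Ext.mk₀_comp_mk₀, h2]

end Groth.Agent.Lib.Helper89.ExtDual
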