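import Mathlib.Algebra.Category.ModuleCat.Ext.DimensionShifting
import Mathlib.Algebra.Homology.DerivedCategory.Ext.Linear
import Mathlib.Algebra.Homology.DerivedCategory.Ext.ExactSequences
import Mathlib.Algebra.Homology.ShortComplex.ModuleCat

/-!
# Small toolbox on `Ext` groups of modules (helper89)
-/

set_option autoImplicit false
universe u

namespace Groth.Agent.Lib.Helper89

open CategoryTheory Abelian

variable {A : Type u} [CommRing A]

/-- dimension shifting: vanishing of `Ext^i(X₁, Y)` gives vanishing of `Ext^(i+1)(X₃, Y)` when the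
middle term is projective. -/
theorem ext_subsingleton_succ_of_shortExact {S : ShortComplex (ModuleCat.{u} A)}
    (hS : S.ShortExact) [Projective S.X₂] (Y : ModuleCat.{u} A) (i : ℕ)
    (h : Subsingleton (Ext.{u} S.X₁ Y i)) : Subsingleton (Ext.{u} S.X₃ Y (i + 1)) :=
  (precomp_extClass_surjective_of_projective_X₂ Y hS i).subsingleton

/-- `Ext^1(X₃, Y)` vanishes iff every map `X₁ ⟶ Y` extends to `X₂`, when `X₂` is projective. -/
theorem ext_one_subsingleton_iff {S : ShortComplex (ModuleCat.{u} A)}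
    (hS : S.ShortExact) [Projective S.X₂] (Y : ModuleCat.{u} A) :
    Subsingleton (Ext.{u} S.X₃ Y 1) ↔ ∀ φ : S.X₁ ⟶ Y, ∃ ψ : S.X₂ ⟶ Y, S.f ≫ ψ = φ := by
  constructor
  · intro h φ
    have h0 : hS.extClass.comp (Ext.mk₀ φ) (add_zero 1) = 0 := Subsingleton.elim _ _
    obtain ⟨x₂, hx₂⟩ := Ext.contravariant_sequence_exact₁ hS Y (Ext.mk₀ φ) (add_zero 1) h0
    obtain ⟨ψ, rfl⟩ := (Ext.mk₀_bijective _ _).2 x₂
    rw [Ext.mk₀_comp_mk₀] at hx₂
    exact ⟨ψ, (Ext.mk₀_bijective _ _).1 hx₂⟩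
  · intro h
    refine subsingleton_of_forall_eq 0 fun x => ?_
    obtain ⟨x₁, rfl⟩ := precomp_extClass_surjective_of_projective_X₂ Y hS 0 x
    obtain ⟨φ, rfl⟩ := (Ext.mk₀_bijective _ _).2 x₁
    obtain ⟨ψ, rfl⟩ := h φ
    change hS.extClass.comp (Ext.mk₀ (S.f ≫ ψ)) (add_comm 1 0) = 0
    rw [← Ext.mk₀_comp_mk₀, ← Ext.comp_assoc_of_third_deg_zero, hS.extClass_comp, Ext.zero_comp]

/-- the action of a scalar on `Ext` is precomposition with the homothety of the source. -/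
theorem ext_smul_eq_mk₀_comp {X Y : ModuleCat.{u} A} {i : ℕ} (a : A) (x : Ext.{u} X Y i) :
    a • x = (Ext.mk₀ (a • 𝟙 X)).comp x (zero_add i) := by
  rw [Ext.mk₀_smul, Ext.smul_comp, Ext.mk₀_id_comp]

/-- if the homothety `a • 𝟙 X` factors through a projective object then `a` kills `Ext^(i+1)`. -/
theorem ext_smul_eq_zero_of_factors {X Y P : ModuleCat.{u} A} [Projective P] (a : A)
    (α : X ⟶ P) (β : P ⟶ X) (h : α ≫ β = a • 𝟙 X) {i : ℕ} (x : Ext.{u} X Y (i + 1)) :
    a • x = 0 := by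
  rw [ext_smul_eq_mk₀_comp, ← h, ← Ext.mk₀_comp_mk₀, Ext.comp_assoc_of_second_deg_zero,
    Ext.eq_zero_of_projective ((Ext.mk₀ β).comp x _), Ext.comp_zero]

end Groth.Agent.Lib.Helper89
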