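import Groth.Agent.Lib.Helper89.FlatBCQcqs
import Groth.Agent.Lib.Helper89.BasisMap
import Groth.Agent.Lib.Helper89.ExtDual
import Groth.Agent.Lib.Lead.PushEdge
import Groth.Agent.S0028

/-!
# Base change of quasi-coherent cohomology along a finite projective algebra (helper89)

`X` an arbitrary scheme over `Spec A`, `B` a finite projective `A`-algebra, `X' = X ×_A B`:
`H^i(X, F) ⊗_A B ≅ H^i(X', g'^* F)`.  Proof: `g'` is affine, so `H^i(X', g'^*F) = H^i(X, g'_* g'^* F)`
(lead's `ExtAdj.Φ_bijective` with `S0028`), and `g'_* g'^* F` "is" `F ⊗_A B`: on affine opens by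
helper38's base change of sections, and the maps `id ⊗ φ` for `φ` in a dual basis glue to maps of
sheaves (`BasisMap.Phi`), which gives the base change on `Ext` groups (`ExtDual.isBaseChange_post`).
-/

set_option autoImplicit false
universe u
open CategoryTheory Limits Opposite TopologicalSpace AlgebraicGeometry

namespace Groth.Agent.Lib.Helper89.FinProjBC

open Groth.Agent.Lib.Helper89.ExtBC Groth.Agent.Lib.Helper89.TopBC
  Groth.Agent.Lib.Helper89.BasisMap Groth.Agent.Lib.Helper89.ExtDual
  Groth.Agent.Lib.Helper89.DualBasisBC Groth.Agent.Lib.Helper89.FlatBCQcqs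
  Groth.Agent.Lib.Helper1
  Groth.Agent.Lib.Helper49 Groth.Agent.Lib.Helper38.PullSBC Groth.Agent.Lib.Helper38.SecMod
  Groth.Agent.Lib.Helper38.SecRestrict Groth.Agent.Lib.Helper11.PullbackBasis

section top

variable {X : TopCat.{u}} {A B : Type*} [CommRing A] [CommRing B] [Algebra A B]
  [Module.Finite A B] [Module.Projective A B]
  {F E : CohTop.Ab X} (ρ : A →+* End F) (ρ'' : B →+* End E) (u : F ⟶ E)
  (hu : ∀ a : A, ρ a ≫ u = u ≫ ρ'' (algebraMap A B a))
  {ι : Type*} (ℬ : ι → Opens X) (hℬ : Opens.IsBasis (Set.range ℬ))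
  (hB : ∀ i, IsBaseChange B (secU ρ ρ'' u hu (ℬ i)))

include hℬ hB in
/-- if `u : F ⟶ E` is a base change on sections over a basis, it is a base change on all `Ext`
groups (for `B` finite projective over `A`). -/
theorem isBaseChange_post_of_basis (Z : CohTop.Ab X) (n : ℕ) :
    IsBaseChange B (post.{u} ρ ρ'' u hu Z n) := by
  obtain ⟨m, b, φ, hdual⟩ := exists_dualBasis (A := A) (B := B)
  exact isBaseChange_post ρ ρ'' u hu b φ hdual (fun j => Phi ρ ρ'' u hu ℬ hℬ hB (φ j))
    (sum_Phi ρ ρ'' u hu ℬ hℬ hB b φ hdual)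
    (fun j x => u_rho_Phi ρ ρ'' u hu ℬ hℬ hB (φ j) x) Z n

end top

section scheme

variable {A B : Type u} [CommRing A] [CommRing B] [Algebra A B]
  {X X' : Scheme.{u}} (g' : X' ⟶ X) (f : X ⟶ Spec (CommRingCat.of A))
  (f' : X' ⟶ Spec (CommRingCat.of B))
  (sq : IsPullback g' f' f (Spec.map (CommRingCat.ofHom (algebraMap A B))))
  (M : X.Modules)

/-- the action of `B` on `g'_* g'^* M`. -/
noncomputable def rhoPush :
    B →+* End ((CohTop.push g'.base).obj (Coh.toAb ((Scheme.Modules.pullback g').obj M))) where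
  toFun b := (CohTop.push g'.base).map (rho f' ((Scheme.Modules.pullback g').obj M) b)
  map_one' := by
    rw [map_one]
    exact (CohTop.push g'.base).map_id _
  map_mul' x y := by
    rw [map_mul, End.mul_def, Functor.map_comp]
    rfl
  map_zero' := by rw [map_zero, Functor.map_zero]
  map_add' x y := by rw [map_add, Functor.map_add]

include sq in
theorem hu (a : A) :
    rho f M a ≫ uAb g' M = uAb g' M ≫ rhoPush g' f' M (algebraMap A B a) :=
  rho_comp_uAb g' f f' sq.w M a

/-- helper38's `Sec` upstairs is sections of the pushforward with the `rhoPush`-module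
structure. -/
noncomputable def nuEquiv' (V : X.Opens) :
    Sec f' ((Scheme.Modules.pullback g').obj M) (g' ⁻¹ᵁ V) ≃ₗ[B]
      SecMB A (rhoPush g' f' M) V :=
  { (AddEquiv.refl Γ((Scheme.Modules.pullback g').obj M, g' ⁻¹ᵁ V) :
      Sec f' ((Scheme.Modules.pullback g').obj M) (g' ⁻¹ᵁ V) ≃+
        SecMB A (rhoPush g' f' M) V) with
    map_smul' := fun _ _ => rfl }

/-- on affine opens `M → g'_* g'^* M` is a base change on sections. -/
theorem isBaseChange_secU [M.IsQuasicoherent] {V : X.Opens} (hV : IsAffineOpen V) :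
    IsBaseChange B (secU (rho f M) (rhoPush g' f' M) (uAb g' M) (hu g' f f' sq M) V) := by
  have hk := isBaseChange_kapK_of_isAffineOpen g' f f' sq M hV
  refine isBaseChange_of_equiv_comm _ hk (muEquiv f M V) (nuEquiv' g' f' M V) _ (fun t => ?_)
  have key : ∀ t' : Γ(M, V), kap g' le_rfl M t' = ((uAb g' M).hom.app (op V)).hom t' := by
    intro t'
    rw [uAb_app, kap_apply, mres_self]
  exact key t

end scheme

section final

open Groth.Agent.Lib.Lead CohPull

variable {A B : Type u} [CommRing A] [CommRing B] [Algebra A B]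
  {X X' : Scheme.{u}} (g' : X' ⟶ X) (f : X ⟶ Spec (CommRingCat.of A))
  (f' : X' ⟶ Spec (CommRingCat.of B))
  (sq : IsPullback g' f' f (Spec.map (CommRingCat.ofHom (algebraMap A B))))
  (M : X.Modules)

theorem isBasis_affine (X : Scheme.{u}) :
    Opens.IsBasis (Set.range (fun i : X.affineOpens => (i : X.Opens))) := by
  rw [Subtype.range_coe]
  exact X.isBasis_affineOpens

/-- `M → g'_* g'^* M` induces base change maps on cohomology. -/
theorem isBaseChange_post_uAb [Module.Finite A B] [Module.Projective A B] [M.IsQuasicoherent]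
    (n : ℕ) :
    IsBaseChange B (post.{u} (rho f M) (rhoPush g' f' M) (uAb g' M) (hu g' f f' sq M)
      (constZ X.toTopCat) n) :=
  isBaseChange_post_of_basis (X := X.toTopCat) (rho f M) (rhoPush g' f' M) (uAb g' M)
    (hu g' f f' sq M) (fun i : X.affineOpens => (i : X.Opens)) (isBasis_affine X)
    (fun i => isBaseChange_secU g' f f' sq M i.2) (constZ X.toTopCat) n

/-- `H^n(X, g'_* G) ≃ H^n(X', G)` for the affine morphism `g'`, additively. -/
noncomputable def pushAddEquiv [IsAffineHom g'] (G : X'.Modules) [G.IsQuasicoherent] (n : ℕ) :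
    Abelian.Ext.{u} (CohTop.const X.toTopCat (ULift.{u} ℤ))
        ((CohTop.push g'.base).obj (Coh.toAb G)) n ≃+
      Abelian.Ext.{u} (CohTop.const X'.toTopCat (ULift.{u} ℤ)) (Coh.toAb G) n :=
  AddEquiv.ofBijective (ExtAdj.Φ (invPushAdj g'.base) (oneTo g'.base) (Coh.toAb G) n)
    (ExtAdj.Φ_bijective (invPushAdj g'.base) (oneTo g'.base) n (Coh.toAb G)
      (fun q => Groth.Agent.S0028.result g' G (q + 1) (Nat.succ_pos q)))

theorem pushAddEquiv_apply [IsAffineHom g'] (G : X'.Modules) [G.IsQuasicoherent] (n : ℕ)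
    (x : Abelian.Ext.{u} (CohTop.const X.toTopCat (ULift.{u} ℤ))
        ((CohTop.push g'.base).obj (Coh.toAb G)) n) :
    pushAddEquiv g' G n x = ExtAdj.Φ (invPushAdj g'.base) (oneTo g'.base) (Coh.toAb G) n x :=
  rfl

/-- `H^n(X, g'_* G) ≃ H^n(X', G)` for the affine morphism `g'`, `B`-linearly. -/
noncomputable def pushEquiv [IsAffineHom g'] (G : X'.Modules) [G.IsQuasicoherent] (n : ℕ)
    (ρG : B →+* End (Coh.toAb G))
    (ρP : B →+* End ((CohTop.push g'.base).obj (Coh.toAb G)))
    (hρ : ∀ b, ρP b = (CohTop.push g'.base).map (ρG b)) :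
    EMB.{u} A ρP (constZ X.toTopCat) n ≃ₗ[B] EMB.{u} A ρG (constZ X'.toTopCat) n :=
  { (pushAddEquiv g' G n : EMB.{u} A ρP (constZ X.toTopCat) n ≃+
      EMB.{u} A ρG (constZ X'.toTopCat) n) with
    map_smul' := fun b x => by
      have h := ExtAdj.Φ_naturality (invPushAdj g'.base) (oneTo g'.base) (ρG b) n x.toExt
      rw [← hρ] at h
      exact h }

end final

section main

/-- **Base change along a finite projective algebra**, for quasi-coherent modules on an arbitrary
scheme over an affine base. -/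
theorem finproj_base_change (A B : Type u) [CommRing A] [CommRing B] [Algebra A B]
    [Module.Finite A B] [Module.Projective A B] (X X' : Scheme.{u})
    [X.Over (Spec (CommRingCat.of A))] [X'.Over (Spec (CommRingCat.of B))] (g' : X' ⟶ X)
    (h : IsPullback g' (X' ↘ Spec (CommRingCat.of B)) (X ↘ Spec (CommRingCat.of A))
      (Spec.map (CommRingCat.ofHom (algebraMap A B))))
    (M : X.Modules) [Coh.IsQCoh M] (i : ℕ) :
    Nonempty (TensorProduct A B (Coh.HH X M i) ≃ₗ[B]
      Coh.HH X' ((Scheme.Modules.pullback g').obj M) i) := by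
  have : ((Scheme.Modules.pullback g').obj M).IsQuasicoherent :=
    Groth.Agent.Lib.Helper16.FlatPull.isQuasicoherent_pullback g' M
  have : IsAffineHom g' := isAffineHom_fst g' _ _ h
  have hbc := isBaseChange_post_uAb g' (X ↘ Spec (CommRingCat.of A))
    (X' ↘ Spec (CommRingCat.of B)) h M i
  exact ⟨(TensorProduct.AlgebraTensorModule.congr (LinearEquiv.refl B B) (hhEquiv A X M i)) ≪≫ₗ
    hbc.equiv ≪≫ₗ
    pushEquiv g' ((Scheme.Modules.pullback g').obj M) i
      (rho (X' ↘ Spec (CommRingCat.of B)) ((Scheme.Modules.pullback g').obj M))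
      (rhoPush g' (X' ↘ Spec (CommRingCat.of B)) M) (fun _ => rfl) ≪≫ₗ
    hhEquivB A B X' ((Scheme.Modules.pullback g').obj M) i⟩

end main

end Groth.Agent.Lib.Helper89.FinProjBC
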