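import Mathlib
import Groth.Agent.Lib.Helper89.GrFlat

/-!
# A flat quotient of a projective module by a finitely generated submodule is projective (helper89)
-/

set_option autoImplicit false
universe u

namespace Groth.Agent.Lib.Helper89

section RetractPair

variable {R : Type u} [CommRing R] {F G : Type u} [AddCommGroup F] [Module R F]
  [AddCommGroup G] [Module R G]
  (i : F →ₗ[R] G) (p : G →ₗ[R] F) (hpi : p ∘ₗ i = LinearMap.id) (K : Submodule R F)

/-- `F/K → G/i(K)` induced by `i`. -/
noncomputable def rpA : F ⧸ K →ₗ[R] G ⧸ K.map i :=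
  K.mapQ (K.map i) i (Submodule.le_comap_map i K)

include hpi in
theorem rp_map_le_comap : K.map i ≤ K.comap p := by
  rintro _ ⟨k, hk, rfl⟩
  have : p (i k) = k := LinearMap.congr_fun hpi k
  rw [Submodule.mem_comap, this]
  exact hk

/-- `G/i(K) → F/K` induced by `p`. -/
noncomputable def rpB : G ⧸ K.map i →ₗ[R] F ⧸ K :=
  (K.map i).mapQ K p (rp_map_le_comap i p hpi K)

theorem rpB_comp_rpA : rpB i p hpi K ∘ₗ rpA i K = LinearMap.id := by
  apply Submodule.linearMap_qext
  ext x
  have : p (i x) = x := LinearMap.congr_fun hpi x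
  simp [rpA, rpB, this]

/-- `G/i(K) → (F/K) × G`, `[g] ↦ ([p g], g - i (p g))`. -/
noncomputable def rpAlpha : G ⧸ K.map i →ₗ[R] (F ⧸ K) × G :=
  (K.map i).liftQ (LinearMap.prod (K.mkQ ∘ₗ p) (LinearMap.id - i ∘ₗ p)) (by
    rintro _ ⟨k, hk, rfl⟩
    have : p (i k) = k := LinearMap.congr_fun hpi k
    have hk' : K.mkQ k = 0 := (Submodule.Quotient.mk_eq_zero K).mpr hk
    simp [this, hk'])

/-- `(F/K) × G → G/i(K)`, `([f], z) ↦ [i f + z - i (p z)]`. -/
noncomputable def rpBeta : (F ⧸ K) × G →ₗ[R] G ⧸ K.map i :=
  LinearMap.coprod (rpA i K) ((K.map i).mkQ ∘ₗ (LinearMap.id - i ∘ₗ p))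

theorem rpBeta_comp_rpAlpha : rpBeta i p K ∘ₗ rpAlpha i p hpi K = LinearMap.id := by
  apply Submodule.linearMap_qext
  ext g
  have h : p (i (p g)) = p g := LinearMap.congr_fun hpi (p g)
  change rpBeta i p K (rpAlpha i p hpi K (Submodule.Quotient.mk g)) = Submodule.Quotient.mk g
  have h1 : rpAlpha i p hpi K (Submodule.Quotient.mk g) = (K.mkQ (p g), g - i (p g)) := rfl
  rw [h1]
  change rpA i K (K.mkQ (p g)) + (K.map i).mkQ ((g - i (p g)) - i (p (g - i (p g)))) = _
  have h2 : rpA i K (K.mkQ (p g)) = (K.map i).mkQ (i (p g)) := rfl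
  rw [h2, ← map_add, map_sub, h, sub_self, map_zero, sub_zero]
  change (K.map i).mkQ _ = (K.map i).mkQ g
  congr 1
  abel

include hpi in
theorem rp_flat_up [Module.Flat R G] [Module.Flat R (F ⧸ K)] : Module.Flat R (G ⧸ K.map i) := by
  have := flat_prod R (F ⧸ K) G
  exact Module.Flat.of_retract (rpAlpha i p hpi K) (rpBeta i p K) (rpBeta_comp_rpAlpha i p hpi K)

include hpi in
theorem rp_flat_down [Module.Flat R (G ⧸ K.map i)] : Module.Flat R (F ⧸ K) :=
  Module.Flat.of_retract (rpA i K) (rpB i p hpi K) (rpB_comp_rpA i p hpi K)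

include hpi in
theorem rp_proj_up [Module.Projective R G] [Module.Projective R (F ⧸ K)] :
    Module.Projective R (G ⧸ K.map i) :=
  Module.Projective.of_split (rpAlpha i p hpi K) (rpBeta i p K) (rpBeta_comp_rpAlpha i p hpi K)

include hpi in
theorem rp_proj_down [Module.Projective R (G ⧸ K.map i)] : Module.Projective R (F ⧸ K) :=
  Module.Projective.of_split (rpA i K) (rpB i p hpi K) (rpB_comp_rpA i p hpi K)

end RetractPair


theorem projective_quotient_of_flat {R : Type u} [CommRing R] {F : Type u} [AddCommGroup F]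
    [Module R F] [Module.Projective R F] (K : Submodule R F) (hK : K.FG)
    [Module.Flat R (F ⧸ K)] : Module.Projective R (F ⧸ K) := by
  classical
  obtain ⟨i, hi⟩ := Module.projective_def'.mp (inferInstance : Module.Projective R F)
  have hflatG : Module.Flat R ((F →₀ R) ⧸ K.map i) :=
    rp_flat_up i (Finsupp.linearCombination R id) hi K
  have hK' : (K.map i).FG := hK.map i
  obtain ⟨t, ht⟩ := hK'
  let s : Finset F := t.biUnion Finsupp.support
  have hle : K.map i ≤ Finsupp.supported R R (s : Set F) := by
    rw [← ht, Submodule.span_le]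
    intro x hx
    rw [SetLike.mem_coe, Finsupp.mem_supported]
    exact_mod_cast Finset.subset_biUnion_of_mem Finsupp.support hx
  obtain ⟨j, r, hrj, hrange⟩ : ∃ (j : (↥(s : Set F) →₀ R) →ₗ[R] (F →₀ R))
      (r : (F →₀ R) →ₗ[R] (↥(s : Set F) →₀ R)), r ∘ₗ j = LinearMap.id ∧
      LinearMap.range j = Finsupp.supported R R (s : Set F) := by
    refine ⟨(Finsupp.supported R R (s : Set F)).subtype ∘ₗ
      (Finsupp.supportedEquivFinsupp (M := R) (R := R) (s : Set F)).symm.toLinearMap,
      (Finsupp.supportedEquivFinsupp (M := R) (R := R) (s : Set F)).toLinearMap ∘ₗ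
        Finsupp.restrictDom R R (s : Set F), ?_, ?_⟩
    · refine LinearMap.ext fun x => ?_
      have := LinearMap.congr_fun (Finsupp.restrictDom_comp_subtype (M := R) (R := R) (s : Set F))
        ((Finsupp.supportedEquivFinsupp (M := R) (R := R) (s : Set F)).symm x)
      simp only [LinearMap.coe_comp, Function.comp_apply, LinearMap.id_coe, id_eq,
        LinearEquiv.coe_coe] at this ⊢
      rw [this, LinearEquiv.apply_symm_apply]
    · rw [LinearMap.range_comp, LinearEquiv.range, Submodule.map_top, Submodule.range_subtype]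
  have hle' : K.map i ≤ LinearMap.range j := hrange ▸ hle
  have hK₀ : ((K.map i).comap j).map j = K.map i := by
    rw [Submodule.map_comap_eq]
    exact inf_eq_right.mpr hle'
  have hjinj : Function.Injective j := by
    intro x y hxy
    have := congrArg r hxy
    rwa [← LinearMap.comp_apply, ← LinearMap.comp_apply, hrj] at this
  have h1 : Module.Flat R ((F →₀ R) ⧸ ((K.map i).comap j).map j) := by
    rw [hK₀]; exact hflatG
  have hflat₀ : Module.Flat R ((↥(s : Set F) →₀ R) ⧸ (K.map i).comap j) :=
    rp_flat_down j r hrj _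
  have hK₀fg : ((K.map i).comap j).FG := by
    apply Submodule.fg_of_fg_map_injective j hjinj
    rw [hK₀]
    exact ⟨t, ht⟩
  have hfp : Module.FinitePresentation R ((↥(s : Set F) →₀ R) ⧸ (K.map i).comap j) :=
    Module.finitePresentation_of_surjective (Submodule.mkQ _) (Submodule.mkQ_surjective _)
      (by rw [Submodule.ker_mkQ]; exact hK₀fg)
  have hproj₀ : Module.Projective R ((↥(s : Set F) →₀ R) ⧸ (K.map i).comap j) :=
    Module.Flat.projective_of_finitePresentation
  have h2 : Module.Projective R ((F →₀ R) ⧸ ((K.map i).comap j).map j) :=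
    rp_proj_up j r hrj _
  have h3 : Module.Projective R ((F →₀ R) ⧸ K.map i) := by
    rw [← hK₀]; exact h2
  exact rp_proj_down i (Finsupp.linearCombination R id) hi K

/-- Cokernel version. -/
theorem projective_of_exact_of_flat {R : Type u} [CommRing R] {N F Q : Type u}
    [AddCommGroup N] [Module R N] [AddCommGroup F] [Module R F] [AddCommGroup Q] [Module R Q]
    [Module.Finite R N] [Module.Projective R F] [Module.Flat R Q]
    (φ : N →ₗ[R] F) (π : F →ₗ[R] Q) (hπ : Function.Surjective π)
    (hex : Function.Exact φ π) : Module.Projective R Q := by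
  have hK : (LinearMap.range φ).FG := by
    rw [LinearMap.range_eq_map]
    exact (Module.Finite.fg_top).map φ
  have hker : LinearMap.ker π = LinearMap.range φ := hex.linearMap_ker_eq
  let e : (F ⧸ LinearMap.range φ) ≃ₗ[R] Q :=
    (Submodule.quotEquivOfEq _ _ hker.symm).trans (π.quotKerEquivOfSurjective hπ)
  have : Module.Flat R (F ⧸ LinearMap.range φ) := Module.Flat.of_linearEquiv e
  have := projective_quotient_of_flat (LinearMap.range φ) hK
  exact Module.Projective.of_equiv e

open KaehlerDifferential

theorem formallySmooth_of_forall_maximal {A B C : Type u} [CommRing A] [CommRing B] [CommRing C]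
    [Algebra A B] [Algebra B C] [Algebra A C] [IsScalarTower A B C] [Algebra.FormallySmooth A B]
    (hsurj : Function.Surjective (algebraMap B C))
    [Module.Finite B (RingHom.ker (algebraMap B C)).Cotangent]
    (H : ∀ (m : Ideal C) [m.IsMaximal], Algebra.FormallySmooth A (Localization.AtPrime m)) :
    Algebra.FormallySmooth A C := by
  have h1 : Subsingleton (Algebra.H1Cotangent A C) := by
    apply Module.subsingleton_of_localization_maximal (R := C)
      (fun (m : Ideal C) [m.IsMaximal] => Algebra.H1Cotangent A (Localization.AtPrime m))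
      (fun (m : Ideal C) [m.IsMaximal] =>
        Algebra.H1Cotangent.map A A C (Localization.AtPrime m))
    intro m hm
    have := H m
    infer_instance
  have hflat : Module.Flat C Ω[C⁄A] := by
    apply Module.flat_of_isLocalized_maximal (R := C) C Ω[C⁄A]
      (fun (m : Ideal C) [m.IsMaximal] => Ω[Localization.AtPrime m⁄A])
      (fun (m : Ideal C) [m.IsMaximal] =>
        KaehlerDifferential.map A A C (Localization.AtPrime m))
    intro m hm
    have := H m
    have : Module.Flat (Localization.AtPrime m) Ω[Localization.AtPrime m⁄A] := inferInstance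
    exact Module.Flat.trans C (Localization.AtPrime m) _
  rw [Algebra.formallySmooth_iff]
  refine ⟨?_, h1⟩
  let P : Algebra.Extension A C := ⟨B, _, Function.surjInv_eq hsurj⟩
  have : Algebra.FormallySmooth A P.Ring := ‹_›
  have hfin : Module.Finite C P.Cotangent := by
    have : Module.Finite B P.Cotangent :=
      Module.Finite.equiv (P.cotangentEquivCotangentKer).symm
    exact Module.Finite.of_restrictScalars_finite B C P.Cotangent
  have hproj : Module.Projective C P.CotangentSpace := inferInstance
  exact projective_of_exact_of_flat P.cotangentComplex P.toKaehler P.toKaehler_surjective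
    P.exact_cotangentComplex_toKaehler

end Groth.Agent.Lib.Helper89
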