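import Mathlib.Algebra.Module.LocalizedModule.Basic
import Mathlib.Algebra.Module.Submodule.Basic
import Mathlib.Tactic

/-!
# Gluing modules along localizations: the glued module localizes to the pieces (helper89)
-/

set_option autoImplicit false
universe u

namespace Groth.Agent.Lib.Helper89

section PowersAPI

variable {R : Type*} [CommRing R] {M M' : Type*} [AddCommGroup M] [Module R M]
  [AddCommGroup M'] [Module R M'] (p : R) (g : M →ₗ[R] M')
  [IsLocalizedModule (Submonoid.powers p) g]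

theorem loc_exists_of_eq_pow {x₁ x₂ : M} (h : g x₁ = g x₂) : ∃ n : ℕ, p ^ n • x₁ = p ^ n • x₂ := by
  obtain ⟨⟨c, hc⟩, hcx⟩ := IsLocalizedModule.exists_of_eq (S := Submonoid.powers p) h
  obtain ⟨n, rfl⟩ := (Submonoid.mem_powers_iff _ _).mp hc
  exact ⟨n, hcx⟩

theorem loc_surj_pow (y : M') : ∃ (x : M) (n : ℕ), p ^ n • y = g x := by
  obtain ⟨⟨x, ⟨c, hc⟩⟩, hx⟩ := IsLocalizedModule.surj (Submonoid.powers p) g y
  obtain ⟨n, rfl⟩ := (Submonoid.mem_powers_iff _ _).mp hc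
  exact ⟨x, n, hx⟩

include g in
theorem loc_smul_pow_injective (n : ℕ) {a b : M'} (h : p ^ n • a = p ^ n • b) : a = b :=
  IsLocalizedModule.smul_injective g (⟨p ^ n, n, rfl⟩ : Submonoid.powers p) h

/-- if `p` already acts invertibly on `M`, the localization map is bijective -/
theorem loc_bijective_of_isUnit (hp : IsUnit (algebraMap R (Module.End R M) p)) :
    Function.Bijective g := by
  have hinjp : ∀ n : ℕ, Function.Injective (fun x : M => p ^ n • x) := by
    intro n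
    have : IsUnit (algebraMap R (Module.End R M) (p ^ n)) := by
      rw [map_pow]; exact hp.pow n
    exact ((Module.End.isUnit_iff _).mp this).injective
  have hsurjp : ∀ n : ℕ, Function.Surjective (fun x : M => p ^ n • x) := by
    intro n
    have : IsUnit (algebraMap R (Module.End R M) (p ^ n)) := by
      rw [map_pow]; exact hp.pow n
    exact ((Module.End.isUnit_iff _).mp this).surjective
  constructor
  · intro x₁ x₂ h
    obtain ⟨n, hn⟩ := loc_exists_of_eq_pow p g h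
    exact hinjp n hn
  · intro y
    obtain ⟨x, n, hx⟩ := loc_surj_pow p g y
    obtain ⟨x', hx'⟩ := hsurjp n x
    refine ⟨x', ?_⟩
    apply loc_smul_pow_injective p g n
    rw [hx, ← hx']
    exact (map_smul g (p ^ n) x').symm

end PowersAPI

section Kernel

variable {R : Type*} [CommRing R] {X Xk Tt : Type*} [AddCommGroup X] [Module R X]
  [AddCommGroup Xk] [Module R Xk] [AddCommGroup Tt] [Module R Tt]

/-- kernel of the comparison map between the localization at `p` and at `q * p` is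
`q`-power torsion -/
theorem loc_compare_eq (p q : R) (gk : X →ₗ[R] Xk) [IsLocalizedModule (Submonoid.powers p) gk]
    (tt : X →ₗ[R] Tt) [IsLocalizedModule (Submonoid.powers (q * p)) tt]
    (vv : Xk →ₗ[R] Tt) (hvv : vv ∘ₗ gk = tt) {A B : Xk} (h : vv A = vv B) :
    ∃ n : ℕ, q ^ n • A = q ^ n • B := by
  obtain ⟨a, na, ha⟩ := loc_surj_pow p gk A
  obtain ⟨b, nb, hb⟩ := loc_surj_pow p gk B
  -- p^(na+nb) A = gk (p^nb a), p^(na+nb) B = gk (p^na b)
  have hA : p ^ (na + nb) • A = gk (p ^ nb • a) := by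
    rw [map_smul, ← ha, smul_smul, pow_add, mul_comm]
  have hB : p ^ (na + nb) • B = gk (p ^ na • b) := by
    rw [map_smul, ← hb, smul_smul, pow_add]
  have h1 : tt (p ^ nb • a) = tt (p ^ na • b) := by
    rw [← hvv, LinearMap.comp_apply, LinearMap.comp_apply, ← hA, ← hB, map_smul, map_smul, h]
  obtain ⟨n, hn⟩ := loc_exists_of_eq_pow (q * p) tt h1
  refine ⟨n, ?_⟩
  apply loc_smul_pow_injective p gk (n + (na + nb))
  have h2 : (q * p) ^ n • p ^ (na + nb) • A = (q * p) ^ n • p ^ (na + nb) • B := by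
    rw [hA, hB, ← map_smul, ← map_smul, hn]
  calc p ^ (n + (na + nb)) • q ^ n • A = (q * p) ^ n • p ^ (na + nb) • A := by
        rw [smul_smul, smul_smul]; congr 1; ring
    _ = (q * p) ^ n • p ^ (na + nb) • B := h2
    _ = p ^ (n + (na + nb)) • q ^ n • B := by
        rw [smul_smul, smul_smul]; congr 1; ring

end Kernel

section Uniform

variable {R : Type*} [CommRing R]

theorem uniform_pow {κ : Type*} [Finite κ] (q : R) (X : κ → Type*) [∀ j, AddCommGroup (X j)]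
    [∀ j, Module R (X j)] (a b : ∀ j, X j) (h : ∀ j, ∃ n : ℕ, q ^ n • a j = q ^ n • b j) :
    ∃ N : ℕ, ∀ j, q ^ N • a j = q ^ N • b j := by
  classical
  obtain ⟨_⟩ := nonempty_fintype κ
  choose n hn using h
  refine ⟨Finset.univ.sup n, fun j => ?_⟩
  have hle : n j ≤ Finset.univ.sup n := Finset.le_sup (Finset.mem_univ j)
  obtain ⟨d, hd⟩ := Nat.exists_eq_add_of_le hle
  rw [hd, add_comm, pow_add, mul_smul, mul_smul, hn j]

end Uniform

section Main

theorem glue_isLocalizedModule {R : Type u} [CommRing R] {ι : Type u} [Finite ι] (f : ι → R)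
    (Mi : ι → Type u) [∀ i, AddCommGroup (Mi i)] [∀ i, Module R (Mi i)]
    (hMi : ∀ i, IsUnit (algebraMap R (Module.End R (Mi i)) (f i)))
    (Mij : ι → ι → Type u) [∀ i j, AddCommGroup (Mij i j)] [∀ i j, Module R (Mij i j)]
    (g : ∀ i j, Mi i →ₗ[R] Mij i j) [∀ i j, IsLocalizedModule (Submonoid.powers (f j)) (g i j)]
    (ψ : ∀ i j, Mij i j ≃ₗ[R] Mij j i)
    (T : ι → ι → ι → Type u) [∀ i j k, AddCommGroup (T i j k)] [∀ i j k, Module R (T i j k)]
    (t : ∀ i j k, Mi i →ₗ[R] T i j k) [∀ i j k, IsLocalizedModule (Submonoid.powers (f j * f k)) (t i j k)]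
    (u : ∀ i j k, Mij i j →ₗ[R] T i j k) (hu : ∀ i j k, u i j k ∘ₗ g i j = t i j k)
    (v : ∀ i j k, Mij i k →ₗ[R] T i j k) (hv : ∀ i j k, v i j k ∘ₗ g i k = t i j k)
    (Ψ₁ : ∀ i j k, T i j k →ₗ[R] T j i k) (hΨ₁ : ∀ i j k, Ψ₁ i j k ∘ₗ u i j k = u j i k ∘ₗ (ψ i j).toLinearMap)
    (Ψ₂ : ∀ i j k, T j i k →ₗ[R] T k i j) (hΨ₂ : ∀ i j k, Ψ₂ i j k ∘ₗ v j i k = v k i j ∘ₗ (ψ j k).toLinearMap)
    (Ψ₃ : ∀ i j k, T i j k →ₗ[R] T k i j) (hΨ₃ : ∀ i j k, Ψ₃ i j k ∘ₗ v i j k = u k i j ∘ₗ (ψ i k).toLinearMap)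
    (hcoc : ∀ i j k, Ψ₂ i j k ∘ₗ Ψ₁ i j k = Ψ₃ i j k)
    (M : Submodule R (∀ i, Mi i)) (hM : ∀ m : ∀ i, Mi i, m ∈ M ↔ ∀ i j, g i j (m i) = ψ j i (g j i (m j))) (a : ι) :
    IsLocalizedModule (Submonoid.powers (f a)) ((LinearMap.proj a).comp M.subtype : ↥M →ₗ[R] Mi a) := by
  classical
  -- pointwise versions of the hypotheses
  have hu' : ∀ i j k x, u i j k (g i j x) = t i j k x := fun i j k x =>
    LinearMap.congr_fun (hu i j k) x
  have hv' : ∀ i j k x, v i j k (g i k x) = t i j k x := fun i j k x =>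
    LinearMap.congr_fun (hv i j k) x
  have hΨ₁' : ∀ i j k x, Ψ₁ i j k (u i j k x) = u j i k (ψ i j x) := fun i j k x =>
    LinearMap.congr_fun (hΨ₁ i j k) x
  have hΨ₂' : ∀ i j k x, Ψ₂ i j k (v j i k x) = v k i j (ψ j k x) := fun i j k x =>
    LinearMap.congr_fun (hΨ₂ i j k) x
  have hΨ₃' : ∀ i j k x, Ψ₃ i j k (v i j k x) = u k i j (ψ i k x) := fun i j k x =>
    LinearMap.congr_fun (hΨ₃ i j k) x
  have hcoc' : ∀ i j k x, Ψ₂ i j k (Ψ₁ i j k x) = Ψ₃ i j k x := fun i j k x =>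
    LinearMap.congr_fun (hcoc i j k) x
  -- Step B1: ψ a a is the identity
  have hgaa : Function.Bijective (g a a) := loc_bijective_of_isUnit (f a) (g a a) (hMi a)
  have htaaa : Function.Bijective (t a a a) := by
    apply loc_bijective_of_isUnit (f a * f a) (t a a a)
    rw [map_mul]
    exact (hMi a).mul (hMi a)
  have huv : ∀ z, u a a a z = v a a a z := by
    intro z
    obtain ⟨y, rfl⟩ := hgaa.2 z
    rw [hu', hv']
  have huinj : Function.Injective (u a a a) := by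
    intro z₁ z₂ h
    obtain ⟨y₁, rfl⟩ := hgaa.2 z₁
    obtain ⟨y₂, rfl⟩ := hgaa.2 z₂
    rw [hu', hu'] at h
    rw [htaaa.1 h]
  have hψaa : ∀ z, ψ a a z = z := by
    intro z
    apply (ψ a a).injective
    apply huinj
    -- u (ψ (ψ z)) = u (ψ z)
    have e1 : u a a a (ψ a a (ψ a a z)) = Ψ₂ a a a (Ψ₁ a a a (u a a a z)) := by
      rw [hΨ₁', huv (ψ a a z), hΨ₂', ← huv]
    have e2 : u a a a (ψ a a z) = Ψ₃ a a a (u a a a z) := by
      rw [huv z, hΨ₃']
    rw [e1, e2, hcoc']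
  refine ⟨?_, ?_, ?_⟩
  · -- map_units
    rintro ⟨c, hc⟩
    obtain ⟨n, rfl⟩ := (Submonoid.mem_powers_iff _ _).mp hc
    change IsUnit (algebraMap R (Module.End R (Mi a)) (f a ^ n))
    rw [map_pow]
    exact (hMi a).pow n
  · -- surj
    intro y
    -- Step B2
    have hB2 : ∀ j, ∃ n : ℕ, ∃ x : Mi j, f a ^ n • ψ a j (g a j y) = g j a x := by
      intro j
      obtain ⟨x, n, hx⟩ := loc_surj_pow (f a) (g j a) (ψ a j (g a j y))
      exact ⟨n, x, hx⟩
    obtain ⟨_⟩ := nonempty_fintype ι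
    choose n₁ x₀ hx₀ using hB2
    set N₁ := Finset.univ.sup n₁ with hN₁
    have hxj : ∀ j, ∃ x : Mi j, g j a x = ψ a j (g a j (f a ^ N₁ • y)) := by
      intro j
      have hle : n₁ j ≤ N₁ := Finset.le_sup (Finset.mem_univ j)
      obtain ⟨d, hd⟩ := Nat.exists_eq_add_of_le hle
      refine ⟨f a ^ d • x₀ j, ?_⟩
      rw [map_smul, ← hx₀ j, map_smul, map_smul, smul_smul, hd, pow_add, mul_comm]
    choose x hx using hxj
    set z := f a ^ N₁ • y with hz
    have hxa : x a = z := by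
      apply hgaa.1
      rw [hx a, hψaa]
    -- Step B3
    have hB3 : ∀ jk : ι × ι, ∃ n : ℕ,
        f a ^ n • g jk.1 jk.2 (x jk.1) = f a ^ n • ψ jk.2 jk.1 (g jk.2 jk.1 (x jk.2)) := by
      rintro ⟨j, k⟩
      apply loc_compare_eq (f k) (f a) (g j k) (t j a k) (v j a k) (hv j a k)
      -- both sides equal u j a k (ψ a j (g a j z))
      have e1 : v j a k (g j k (x j)) = u j a k (ψ a j (g a j z)) := by
        rw [hv', ← hu', hx j]
      have e2 : v j a k (ψ k j (g k j (x k))) = u j a k (ψ a j (g a j z)) := by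
        rw [← hΨ₂' a k j, hv', ← hu', hx k, ← hΨ₁' a k j, hcoc', hu', ← hv' a k j, hΨ₃']
      rw [e1, e2]
    obtain ⟨N₂, hN₂⟩ := uniform_pow (f a) (fun jk : ι × ι => Mij jk.1 jk.2)
      (fun jk => g jk.1 jk.2 (x jk.1)) (fun jk => ψ jk.2 jk.1 (g jk.2 jk.1 (x jk.2))) hB3
    have hmem : (f a ^ N₂ • x) ∈ M := by
      rw [hM]
      intro j k
      have := hN₂ (j, k)
      simp only [Pi.smul_apply, map_smul]
      exact this
    refine ⟨(⟨f a ^ N₂ • x, hmem⟩, ⟨f a ^ (N₂ + N₁), N₂ + N₁, rfl⟩), ?_⟩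
    change f a ^ (N₂ + N₁) • y = (f a ^ N₂ • x) a
    rw [Pi.smul_apply, hxa, hz, smul_smul, pow_add]
  · -- exists_of_eq
    intro m m' hmm'
    have hma : m.1 a = m'.1 a := hmm'
    have hj : ∀ j, ∃ n : ℕ, f a ^ n • m.1 j = f a ^ n • m'.1 j := by
      intro j
      apply loc_exists_of_eq_pow (f a) (g j a)
      rw [(hM m.1).mp m.2 j a, (hM m'.1).mp m'.2 j a, hma]
    obtain ⟨N, hN⟩ := uniform_pow (f a) Mi m.1 m'.1 hj
    refine ⟨⟨f a ^ N, N, rfl⟩, ?_⟩
    apply Subtype.ext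
    funext j
    exact hN j

end Main

end Groth.Agent.Lib.Helper89
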