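import Mathlib

/-!
# Flat base change of global sections; kernels in pushout squares (helper89)
-/

set_option autoImplicit false
universe u

open CategoryTheory CategoryTheory.Limits AlgebraicGeometry TopologicalSpace Opposite

namespace Groth.Agent.Lib.Helper89.HensCouple

theorem appLE_top_top {X Y : Scheme.{u}} (f : X ⟶ Y) (e : (⊤ : X.Opens) ≤ f ⁻¹ᵁ ⊤) :
    f.appLE ⊤ ⊤ e = f.appTop := by
  exact Scheme.Hom.appLE_eq_app f (U := ⊤)

/-- Flat base change for global sections: for a pullback square with `f : T ⟶ S` flat, `S`, `T`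
affine and `X` qcqs, the square of global sections is a pushout. -/
theorem isPushout_appTop_of_flat {X S T Y : Scheme.{u}} {f : T ⟶ S} {g : Y ⟶ X} {iX : X ⟶ S}
    {iY : Y ⟶ T} (H : IsPullback g iY iX f) [Flat f] [IsAffine S] [IsAffine T]
    [CompactSpace X] [QuasiSeparatedSpace X] :
    IsPushout iX.appTop f.appTop g.appTop iY.appTop := by
  have h1 := isIso_pushoutSection_of_isQuasiSeparated_of_flat_right H (US := ⊤) (UT := ⊤)
    (UX := ⊤) (UY := ⊤) le_rfl le_rfl (by simp) (isAffineOpen_top S) (isAffineOpen_top T)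
    isCompact_univ (isQuasiSeparated_univ_iff.mpr inferInstance)
  have h2 := (isIso_pushoutSection_iff ..).mp h1
  convert h2 using 1 <;> exact (appLE_top_top _ _).symm

open TensorProduct in
/-- Ring-level statement: if `1 ⊗ x = 0` in `R₁ ⊗[R₀] R₂` with `R₂` flat over `R₀`, then `x` lies in
the extension of the kernel of `R₀ → R₁`. -/
theorem mem_map_ker_of_tmul_eq_zero {R₀ R₁ R₂ : Type*} [CommRing R₀] [CommRing R₁] [CommRing R₂]
    [Algebra R₀ R₁] [Algebra R₀ R₂] [Module.Flat R₀ R₂] (x : R₂)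
    (hx : (1 : R₁) ⊗ₜ[R₀] x = 0) :
    x ∈ (RingHom.ker (algebraMap R₀ R₁)).map (algebraMap R₀ R₂) := by
  obtain ⟨K, hK⟩ : ∃ K : Ideal R₀, K = RingHom.ker (algebraMap R₀ R₁) := ⟨_, rfl⟩
  rw [← hK]
  let f : (R₀ ⧸ K) →ₗ[R₀] R₁ :=
    (Ideal.Quotient.liftₐ K (Algebra.ofId R₀ R₁) (fun a ha => by
      rw [hK] at ha; exact ha)).toLinearMap
  have hf : Function.Injective f := by
    rw [injective_iff_map_eq_zero]
    intro y hy
    obtain ⟨r, rfl⟩ := Ideal.Quotient.mk_surjective y
    have : algebraMap R₀ R₁ r = 0 := hy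
    rw [Ideal.Quotient.eq_zero_iff_mem, hK]
    exact this
  have hinj := Module.Flat.rTensor_preserves_injective_linearMap (M := R₂) f hf
  have h1 : (Ideal.Quotient.mk K (1 : R₀)) ⊗ₜ[R₀] x = 0 := by
    apply hinj
    rw [map_zero, LinearMap.rTensor_tmul]
    have : f (Ideal.Quotient.mk K 1) = 1 := by
      show algebraMap R₀ R₁ 1 = 1
      exact map_one _
    rw [this, hx]
  have h2 := congrArg (TensorProduct.quotTensorEquivQuotSMul R₂ K) h1
  rw [TensorProduct.quotTensorEquivQuotSMul_mk_tmul, map_zero, one_smul,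
    Submodule.Quotient.mk_eq_zero, Ideal.smul_top_eq_map] at h2
  exact h2

/-- In a pushout square of commutative rings with `β` flat, the kernel of `δ` is the extension
of the kernel of `α`. -/
theorem ker_inr_of_isPushout_of_flat {R₀ R₁ R₂ R₃ : CommRingCat.{u}} {α : R₀ ⟶ R₁} {β : R₀ ⟶ R₂}
    {γ : R₁ ⟶ R₃} {δ : R₂ ⟶ R₃} (h : IsPushout α β γ δ) (hβ : β.hom.Flat) :
    RingHom.ker δ.hom = (RingHom.ker α.hom).map β.hom := by
  apply le_antisymm
  · intro x hx
    let _ := α.hom.toAlgebra
    let _ := β.hom.toAlgebra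
    have hflat : Module.Flat R₀ R₂ := hβ
    have hT := CommRingCat.isPushout_tensorProduct R₀ R₁ R₂
    have hinr := hT.inr_isoIsPushout_hom _ _ h
    have h1 : (hT.isoIsPushout _ _ h).hom.hom ((1 : R₁) ⊗ₜ[R₀] x) = δ.hom x := by
      have := congrArg (fun m => m.hom x) hinr
      exact this
    have h2 : (1 : R₁) ⊗ₜ[R₀] x = 0 := by
      have hx' : δ.hom x = 0 := hx
      rw [hx'] at h1
      have hinj : Function.Injective (hT.isoIsPushout _ _ h).hom.hom :=
        ((hT.isoIsPushout _ _ h).commRingCatIsoToRingEquiv).injective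
      apply hinj
      rw [h1, map_zero]
    exact mem_map_ker_of_tmul_eq_zero x h2
  · rw [Ideal.map_le_iff_le_comap]
    intro x hx
    have hx' : α.hom x = 0 := hx
    show δ.hom (β.hom x) = 0
    have := congrArg (fun m => m.hom x) h.w
    simp only [CommRingCat.hom_comp, RingHom.comp_apply] at this
    rw [← this, hx', map_zero]

end Groth.Agent.Lib.Helper89.HensCouple
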