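import Mathlib
import Groth.Agent.Lib.Helper89.HensCouple1
import Groth.Agent.Lib.Helper89.HensCouple2

/-!
# Henselian couples: idempotent lifting for finite flat algebras over global sections (helper89)
-/

set_option autoImplicit false
universe u

open CategoryTheory CategoryTheory.Limits AlgebraicGeometry TopologicalSpace Opposite

namespace Groth.Agent.Lib.Helper89.HensCouple

theorem compactSpace_of_isClosedImmersion {X X₀ : Scheme.{u}} (i : X₀ ⟶ X) [IsClosedImmersion i]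
    [CompactSpace X] : CompactSpace X₀ :=
  i.isClosedEmbedding.compactSpace

theorem quasiSeparatedSpace_of_isClosedImmersion {X X₀ : Scheme.{u}} (i : X₀ ⟶ X)
    [IsClosedImmersion i] [QuasiSeparatedSpace X] : QuasiSeparatedSpace X₀ :=
  quasiSeparatedSpace_of_quasiSeparated i

theorem exists_idem_lift_aux {X X₀ Y P : Scheme.{u}} (i : X₀ ⟶ X)
    [CompactSpace X] [QuasiSeparatedSpace X] [CompactSpace X₀] [QuasiSeparatedSpace X₀]
    (C : CommRingCat.{u}) (φ : Γ(X, ⊤) ⟶ C) (hflat : φ.hom.Flat)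
    (g : Y ⟶ X) (iY : Y ⟶ Spec C) (p : P ⟶ Y) (q : P ⟶ X₀)
    (H1 : IsPullback g iY X.toSpecΓ (Spec.map φ)) (H2 : IsPullback p q g i)
    (hlift : ∀ ε₀ : Γ(P, ⊤), IsIdempotentElem ε₀ →
      ∃ ε : Γ(Y, ⊤), IsIdempotentElem ε ∧ p.appTop.hom ε = ε₀)
    (e₀ : C) (he₀ : e₀ * e₀ - e₀ ∈ (RingHom.ker i.appTop.hom).map φ.hom) :
    ∃ e : C, IsIdempotentElem e ∧ e - e₀ ∈ (RingHom.ker i.appTop.hom).map φ.hom := by
  have hflS : Flat (Spec.map φ) := Flat.SpecMap_iff.mpr hflat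
  have PO1 := isPushout_appTop_of_flat H1
  have H3 := (H2.paste_horiz H1.flip).flip
  have PO2 := isPushout_appTop_of_flat H3
  have hiso1 : IsIso X.toSpecΓ.appTop := by rw [Scheme.toSpecΓ_appTop]; infer_instance
  have hiso2 : IsIso iY.appTop := PO1.isIso_inr_of_isIso
  obtain ⟨ψ, hψ⟩ : ∃ ψ : C ⟶ Γ(Y, ⊤), ψ = (Scheme.ΓSpecIso C).inv ≫ iY.appTop := ⟨_, rfl⟩
  have hψiso : IsIso ψ := by rw [hψ]; infer_instance
  obtain ⟨δ', hδ'⟩ : ∃ δ' : C ⟶ Γ(P, ⊤), δ' = ψ ≫ p.appTop := ⟨_, rfl⟩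
  have PO2' : IsPushout i.appTop φ q.appTop δ' := by
    refine PO2.of_iso (Scheme.ΓSpecIso _) (Iso.refl _) (Scheme.ΓSpecIso C) (Iso.refl _) ?_ ?_ ?_ ?_
    · rw [Scheme.Hom.comp_appTop, Scheme.toSpecΓ_appTop]
      simp
    · exact Scheme.ΓSpecIso_naturality φ
    · simp
    · rw [hδ', hψ, Scheme.Hom.comp_appTop]
      simp
  have hker : RingHom.ker δ'.hom = (RingHom.ker i.appTop.hom).map φ.hom :=
    ker_inr_of_isPushout_of_flat PO2' hflat
  have hid0 : IsIdempotentElem (δ'.hom e₀) := by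
    have h := he₀
    rw [← hker, RingHom.mem_ker, map_sub, map_mul, sub_eq_zero] at h
    exact h
  obtain ⟨ε, hε, hεp⟩ := hlift _ hid0
  have hψbij : Function.Bijective ψ.hom := ConcreteCategory.bijective_of_isIso ψ
  obtain ⟨e, rfl⟩ := hψbij.2 ε
  refine ⟨e, ?_, ?_⟩
  · apply hψbij.1
    rw [map_mul]
    exact hε.eq
  · rw [← hker, RingHom.mem_ker, map_sub, sub_eq_zero, ← hεp, hδ']
    rfl

theorem exists_idem_lift_finite_flat {X X₀ : Scheme.{u}} (i : X₀ ⟶ X) [IsClosedImmersion i]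
    [CompactSpace X] [QuasiSeparatedSpace X]
    (hX : ∀ (Y : Scheme.{u}) (g : Y ⟶ X), IsFinite g →
      ∀ V : Set ↥(pullback g i), IsClopen V →
        ∃ U : Set ↥Y, IsClopen U ∧ (pullback.fst g i).base ⁻¹' U = V)
    (C : CommRingCat.{u}) (φ : Γ(X, ⊤) ⟶ C) (hfin : φ.hom.Finite) (hflat : φ.hom.Flat)
    (e₀ : C) (he₀ : e₀ * e₀ - e₀ ∈ (RingHom.ker i.appTop.hom).map φ.hom) :
    ∃ e : C, IsIdempotentElem e ∧ e - e₀ ∈ (RingHom.ker i.appTop.hom).map φ.hom := by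
  have hc0 : CompactSpace X₀ := compactSpace_of_isClosedImmersion i
  have hq0 : QuasiSeparatedSpace X₀ := quasiSeparatedSpace_of_isClosedImmersion i
  have hfS : IsFinite (Spec.map φ) := (IsFinite.SpecMap_iff φ).mpr hfin
  have hflS : Flat (Spec.map φ) := Flat.SpecMap_iff.mpr hflat
  -- the finite morphism `g : Y ⟶ X`
  have hg : IsFinite (pullback.fst X.toSpecΓ (Spec.map φ)) := inferInstance
  have H1 : IsPullback (pullback.fst X.toSpecΓ (Spec.map φ)) (pullback.snd X.toSpecΓ (Spec.map φ))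
      X.toSpecΓ (Spec.map φ) := IsPullback.of_hasPullback _ _
  have H2 : IsPullback (pullback.fst (pullback.fst X.toSpecΓ (Spec.map φ)) i)
      (pullback.snd (pullback.fst X.toSpecΓ (Spec.map φ)) i)
      (pullback.fst X.toSpecΓ (Spec.map φ)) i := IsPullback.of_hasPullback _ _
  exact exists_idem_lift_aux i C φ hflat _ _ _ _ H1 H2
    (exists_idem_lift_of_clopen_lift _ (hX _ _ hg)) e₀ he₀

theorem range_SpecMap_mk {A : Type u} [CommRing A] (I : Ideal A) :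
    Set.range (Spec.map (CommRingCat.ofHom (Ideal.Quotient.mk I))) =
      PrimeSpectrum.zeroLocus (I : Set A) := by
  have := range_comap_of_surjective _ (Ideal.Quotient.mk I) Ideal.Quotient.mk_surjective
  rw [Ideal.mk_ker] at this
  exact this

/-- A global section which restricts to `1` on `X₀` is a unit, for a henselian couple `(X, X₀)`. -/
theorem isUnit_of_appTop_eq_one {X X₀ : Scheme.{u}} (i : X₀ ⟶ X)
    (hX : ∀ (Y : Scheme.{u}) (g : Y ⟶ X), IsFinite g →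
      ∀ V : Set ↥(pullback g i), IsClopen V →
        ∃! U : Set ↥Y, IsClopen U ∧ (pullback.fst g i).base ⁻¹' U = V)
    (u : Γ(X, ⊤)) (hu : i.appTop.hom u = 1) : IsUnit u := by
  obtain ⟨φ, hφ⟩ : ∃ φ : Γ(X, ⊤) ⟶ CommRingCat.of (Γ(X, ⊤) ⧸ Ideal.span {u}),
      φ = CommRingCat.ofHom (Ideal.Quotient.mk (Ideal.span {u})) := ⟨_, rfl⟩
  have hfS : IsFinite (Spec.map φ) := by
    rw [IsFinite.SpecMap_iff, hφ]
    exact RingHom.Finite.of_surjective _ Ideal.Quotient.mk_surjective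
  have hg : IsFinite (pullback.fst X.toSpecΓ (Spec.map φ)) := inferInstance
  have hrange_g : Set.range (pullback.fst X.toSpecΓ (Spec.map φ)) =
      ((X.basicOpen u : X.Opens) : Set X)ᶜ := by
    rw [Scheme.Pullback.range_fst, hφ, range_SpecMap_mk, ← Scheme.toSpecΓ_preimage_basicOpen]
    ext x
    obtain ⟨y, hy⟩ : ∃ y : PrimeSpectrum Γ(X, ⊤), y = X.toSpecΓ x := ⟨_, rfl⟩
    have : (x ∈ ⇑X.toSpecΓ ⁻¹' PrimeSpectrum.zeroLocus ((Ideal.span {u} : Ideal Γ(X, ⊤)) : Set Γ(X, ⊤)) ↔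
        x ∈ ((X.toSpecΓ ⁻¹ᵁ PrimeSpectrum.basicOpen u : X.Opens) : Set X)ᶜ) ↔
        (y ∈ PrimeSpectrum.zeroLocus ((Ideal.span {u} : Ideal Γ(X, ⊤)) : Set Γ(X, ⊤)) ↔
          ¬ (y ∈ PrimeSpectrum.basicOpen u)) := by
      rw [hy]; rfl
    rw [this]
    rw [PrimeSpectrum.mem_zeroLocus, PrimeSpectrum.mem_basicOpen, not_not, SetLike.coe_subset_coe,
      Ideal.span_singleton_le_iff_mem]
  have hrange_i : Set.range i ⊆ ((X.basicOpen u : X.Opens) : Set X) := by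
    rintro _ ⟨x₀, rfl⟩
    have h1 : i ⁻¹ᵁ (X.basicOpen u) = X₀.basicOpen (i.appTop.hom u) :=
      Scheme.preimage_basicOpen_top i u
    rw [hu, Scheme.basicOpen_one] at h1
    have : x₀ ∈ i ⁻¹ᵁ (X.basicOpen u) := by rw [h1]; trivial
    exact this
  have hP : IsEmpty ↑(pullback (pullback.fst X.toSpecΓ (Spec.map φ)) i) := by
    rw [Scheme.isEmpty_pullback_iff, hrange_g]
    exact (Set.disjoint_compl_left_iff_subset.mpr hrange_i)
  obtain ⟨U, -, huniq⟩ := hX _ _ hg ∅ isClopen_empty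
  have h1 := huniq ∅ ⟨isClopen_empty, Set.preimage_empty⟩
  have h2 := huniq Set.univ ⟨isClopen_univ, Set.eq_empty_of_isEmpty _⟩
  have hYe : (Set.univ : Set ↑(pullback X.toSpecΓ (Spec.map φ))) = ∅ := h2.trans h1.symm
  have hY : IsEmpty ↑(pullback X.toSpecΓ (Spec.map φ)) := Set.univ_eq_empty_iff.mp hYe
  have hall : ∀ x : X, x ∈ X.basicOpen u := by
    intro x
    by_contra hx
    have hx' : x ∈ Set.range (pullback.fst X.toSpecΓ (Spec.map φ)) := by
      rw [hrange_g]; exact hx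
    obtain ⟨y, -⟩ := hx'
    exact hY.false y
  apply X.toRingedSpace.isUnit_of_isUnit_germ ⊤ u
  intro x hx
  exact (X.mem_basicOpen_top u x).mp (hall x)

end Groth.Agent.Lib.Helper89.HensCouple
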