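import Mathlib
import Groth.Agent.Lib.Helper3.IdemLift
import Groth.Agent.Lib.Helper3.IdemRoot
import Groth.Agent.Lib.Helper3.HenselianMap
import Groth.Agent.Lib.Helper89.HensCouple3

/-!
# Henselian pairs and henselian couples `(Spec A, Spec A/I)` (helper89)

The first four lemmas are copied verbatim from helper2's `Lib/Helper2/HenselianPairFEt.lean`
(which has a large import closure); the rest is new.
-/

set_option linter.style.haveILetI false
set_option autoImplicit false

universe u
open CategoryTheory CategoryTheory.Limits AlgebraicGeometry TopologicalSpace Opposite TensorProduct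

namespace Groth.Agent.Lib.Helper89.HensCouple4

/-- Clopen subsets of `V(IB)` lift to clopen subsets of `Spec B`, `B` finite over a henselian pair `(A, I)`. -/
theorem exists_idempotent_basicOpen_inter_zeroLocus {A : Type u} [CommRing A] (I : Ideal A) [HenselianRing A I]
    {B : Type u} [CommRing B] [Algebra A B] [Module.Finite A B] (S : Set (PrimeSpectrum B))
    (hS : S ⊆ PrimeSpectrum.zeroLocus (I.map (algebraMap A B) : Set B))
    (hS1 : IsClosed S) (hS2 : IsClosed (PrimeSpectrum.zeroLocus (I.map (algebraMap A B) : Set B) \ S)) :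
    ∃ e : B, IsIdempotentElem e ∧
      (PrimeSpectrum.basicOpen e : Set (PrimeSpectrum B)) ∩
        PrimeSpectrum.zeroLocus (I.map (algebraMap A B) : Set B) = S := by
  set IB := I.map (algebraMap A B) with hIB
  let π := Ideal.Quotient.mk IB
  let c : PrimeSpectrum (B ⧸ IB) → PrimeSpectrum B := PrimeSpectrum.comap π
  have hc : Continuous c := PrimeSpectrum.continuous_comap π
  have hrange : Set.range c = PrimeSpectrum.zeroLocus (IB : Set B) := by
    have := range_comap_of_surjective _ π Ideal.Quotient.mk_surjective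
    rw [Ideal.mk_ker] at this
    exact this
  have hclopen : IsClopen (c ⁻¹' S) := by
    refine ⟨hS1.preimage hc, ?_⟩
    rw [← isClosed_compl_iff]
    have : (c ⁻¹' S)ᶜ = c ⁻¹' (PrimeSpectrum.zeroLocus (IB : Set B) \ S) := by
      ext x
      simp only [Set.mem_compl_iff, Set.mem_preimage, Set.mem_sdiff]
      constructor
      · intro hx
        exact ⟨hrange ▸ ⟨x, rfl⟩, hx⟩
      · intro hx
        exact hx.2
    rw [this]
    exact hS2.preimage hc
  obtain ⟨eb, heb, hebS⟩ := PrimeSpectrum.isClopen_iff.mp hclopen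
  obtain ⟨b, rfl⟩ := Ideal.Quotient.mk_surjective eb
  have hb : b * b - b ∈ IB := by
    rw [← Ideal.Quotient.eq_zero_iff_mem, map_sub, map_mul, sub_eq_zero]
    exact heb
  obtain ⟨e, he, heb'⟩ := Groth.Agent.Lib.Helper3.exists_idempotent_lift_of_finite I b hb
  have hπ : π e = π b := by
    rw [← sub_eq_zero, ← map_sub, Ideal.Quotient.eq_zero_iff_mem]
    exact heb'
  refine ⟨e, he, ?_⟩
  ext p
  constructor
  · rintro ⟨hpe, hpI⟩
    rw [← hrange] at hpI
    obtain ⟨pb, rfl⟩ := hpI
    have : pb ∈ c ⁻¹' S := by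
      rw [hebS]
      change π b ∉ pb.asIdeal
      rw [← hπ]
      exact hpe
    exact this
  · intro hp
    have hpI := hS hp
    refine ⟨?_, hpI⟩
    rw [← hrange] at hpI
    obtain ⟨pb, rfl⟩ := hpI
    have : pb ∈ c ⁻¹' S := hp
    rw [hebS] at this
    change π e ∉ pb.asIdeal
    rw [hπ]
    exact this

theorem range_SpecMap_quotient_mk {A : Type u} [CommRing A] (I : Ideal A) :
    Set.range (Spec.map (CommRingCat.ofHom (Ideal.Quotient.mk I))) = PrimeSpectrum.zeroLocus (I : Set A) := by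
  have := range_comap_of_surjective _ (Ideal.Quotient.mk I) Ideal.Quotient.mk_surjective
  rw [Ideal.mk_ker] at this
  exact this

/-- A nonempty closed subset of `Spec A` meets `V(I)` if `I` is contained in the Jacobson radical. -/
theorem exists_mem_zeroLocus_of_isClosed_of_le_jacobson {A : Type u} [CommRing A] (I : Ideal A)
    (hI : I ≤ Ideal.jacobson ⊥) (W : Set (PrimeSpectrum A)) (hW : IsClosed W) (w : PrimeSpectrum A) (hw : w ∈ W) :
    ∃ m ∈ W, m ∈ PrimeSpectrum.zeroLocus (I : Set A) := by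
  obtain ⟨m, hm, hwm⟩ := Ideal.exists_le_maximal w.asIdeal w.2.ne_top
  let m' : PrimeSpectrum A := ⟨m, hm.isPrime⟩
  have hspec : w ⤳ m' := (PrimeSpectrum.le_iff_specializes _ _).mp hwm
  refine ⟨m', hspec.mem_closed hW hw, ?_⟩
  rw [PrimeSpectrum.mem_zeroLocus, SetLike.coe_subset_coe]
  refine hI.trans ?_
  exact sInf_le ⟨bot_le, hm⟩

/-- Clopen correspondence for finite schemes over a henselian pair. -/
theorem clopen_correspondence_of_henselianPair (A : Type u) [CommRing A] (I : Ideal A) [HenselianRing A I]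
    {T : Scheme.{u}} (q : T ⟶ Spec (CommRingCat.of A)) [IsFinite q] :
    (∀ C : Set T, IsClopen C →
      Set.range (pullback.fst q (Spec.map (CommRingCat.ofHom (Ideal.Quotient.mk I)))) ⊆ C → C = Set.univ) ∧
    (∀ C' : Set ↥(pullback q (Spec.map (CommRingCat.ofHom (Ideal.Quotient.mk I)))), IsClopen C' →
      ∃ C : Set T, IsClopen C ∧
        (pullback.fst q (Spec.map (CommRingCat.ofHom (Ideal.Quotient.mk I)))) ⁻¹' C = C') := by
  let j := Spec.map (CommRingCat.ofHom (Ideal.Quotient.mk I))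
  have hrfst : Set.range (pullback.fst q j) = q ⁻¹' (PrimeSpectrum.zeroLocus (I : Set A)) := by
    rw [Scheme.Pullback.range_fst, range_SpecMap_quotient_mk]
  constructor
  · intro C hC hrange
    rw [Set.eq_univ_iff_forall]
    intro t
    by_contra ht
    obtain ⟨m, ⟨z, hz, hzm⟩, hmI⟩ := exists_mem_zeroLocus_of_isClosed_of_le_jacobson I HenselianRing.jac
      (q '' Cᶜ) (q.isClosedMap _ hC.compl.1) (q t) ⟨t, ht, rfl⟩
    apply hz
    apply hrange
    rw [hrfst]
    have hmI' : (q z : PrimeSpectrum A) ∈ PrimeSpectrum.zeroLocus (I : Set A) := by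
      rw [hzm]; exact hmI
    exact hmI'
  · intro C' hC'
    haveI : IsAffine T := isAffine_of_isAffineHom q
    let φ₀ : CommRingCat.of A ⟶ Γ(T, ⊤) := (Scheme.ΓSpecIso (CommRingCat.of A)).inv ≫ q.appTop
    have hq : q = T.isoSpec.hom ≫ Spec.map φ₀ := by
      have h1 := Scheme.toSpecΓ_naturality q
      have h2 : (Spec (CommRingCat.of A)).toSpecΓ ≫ Spec.map (Scheme.ΓSpecIso (CommRingCat.of A)).inv = 𝟙 _ :=
        toSpecΓ_SpecMap_ΓSpecIso_inv _
      calc q = q ≫ (Spec (CommRingCat.of A)).toSpecΓ ≫ Spec.map (Scheme.ΓSpecIso (CommRingCat.of A)).inv := by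
              rw [h2, Category.comp_id]
        _ = T.isoSpec.hom ≫ Spec.map φ₀ := by
              rw [← Category.assoc, h1, Category.assoc, ← Spec.map_comp]
              rfl
    have hfin : φ₀.hom.Finite := by
      have h1 : q.appTop.hom.Finite := Scheme.Hom.finite_appTop q
      have h2 : (Scheme.ΓSpecIso (CommRingCat.of A)).inv.hom.Finite :=
        RingHom.Finite.of_surjective _
          (ConcreteCategory.bijective_of_isIso (Scheme.ΓSpecIso (CommRingCat.of A)).inv).2
      exact h1.comp h2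
    letI : Algebra A Γ(T, ⊤) := φ₀.hom.toAlgebra
    haveI : Module.Finite A Γ(T, ⊤) := hfin
    set IB : Ideal Γ(T, ⊤) := I.map (algebraMap A Γ(T, ⊤)) with hIB
    let Φ : T → PrimeSpectrum Γ(T, ⊤) := fun t => T.isoSpec.hom t
    have hΦhomeo : IsHomeomorph Φ := (Scheme.homeoOfIso T.isoSpec).isHomeomorph
    have hqΦ : ∀ t : T, (q t : PrimeSpectrum A) = PrimeSpectrum.comap φ₀.hom (Φ t) := by
      intro t
      have := congrArg (fun g : T ⟶ Spec (CommRingCat.of A) => g t) hq
      simp only [Scheme.Hom.comp_apply] at this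
      exact this
    have hΦI : ∀ t : T, Φ t ∈ PrimeSpectrum.zeroLocus (IB : Set Γ(T, ⊤)) ↔
        t ∈ q ⁻¹' (PrimeSpectrum.zeroLocus (I : Set A)) := by
      intro t
      have h1 : (q t : PrimeSpectrum A) = PrimeSpectrum.comap φ₀.hom (Φ t) := hqΦ t
      constructor
      · intro h
        change (q t : PrimeSpectrum A) ∈ PrimeSpectrum.zeroLocus (I : Set A)
        rw [h1]
        intro a ha
        exact h (Ideal.mem_map_of_mem _ ha)
      · intro h
        change (q t : PrimeSpectrum A) ∈ PrimeSpectrum.zeroLocus (I : Set A) at h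
        rw [h1] at h
        rw [PrimeSpectrum.mem_zeroLocus, SetLike.coe_subset_coe, hIB, Ideal.map_le_iff_le_comap]
        exact h
    haveI : IsClosedImmersion j := IsClosedImmersion.spec_of_surjective _ Ideal.Quotient.mk_surjective
    haveI : IsClosedImmersion (pullback.fst q j) := inferInstance
    let ψ : ↥(pullback q j) → PrimeSpectrum Γ(T, ⊤) := fun x => Φ (pullback.fst q j x)
    have hψcl : IsClosedMap ψ :=
      hΦhomeo.isClosedMap.comp (pullback.fst q j).isClosedEmbedding.isClosedMap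
    have hψinj : Function.Injective ψ :=
      hΦhomeo.injective.comp (pullback.fst q j).isClosedEmbedding.injective
    have hψrange : ∀ p : PrimeSpectrum Γ(T, ⊤),
        p ∈ PrimeSpectrum.zeroLocus (IB : Set Γ(T, ⊤)) ↔ ∃ x, ψ x = p := by
      intro p
      obtain ⟨t, rfl⟩ := hΦhomeo.surjective p
      rw [hΦI t]
      constructor
      · intro ht
        have : t ∈ Set.range (pullback.fst q j) := by
          rw [hrfst]
          exact ht
        obtain ⟨x, rfl⟩ := this
        exact ⟨x, rfl⟩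
      · rintro ⟨x, hx⟩
        have hx' : pullback.fst q j x = t := hΦhomeo.injective hx
        have : t ∈ Set.range (pullback.fst q j) := ⟨x, hx'⟩
        rw [hrfst] at this
        exact this
    have hS2 : PrimeSpectrum.zeroLocus (IB : Set Γ(T, ⊤)) \ (ψ '' C') = ψ '' C'ᶜ := by
      ext p
      constructor
      · rintro ⟨hp1, hp2⟩
        obtain ⟨x, rfl⟩ := (hψrange p).mp hp1
        refine ⟨x, ?_, rfl⟩
        intro hx
        exact hp2 ⟨x, hx, rfl⟩
      · rintro ⟨x, hx, rfl⟩
        refine ⟨(hψrange _).mpr ⟨x, rfl⟩, ?_⟩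
        rintro ⟨y, hy, hyx⟩
        exact hx (hψinj hyx ▸ hy)
    obtain ⟨e, he, heS⟩ := exists_idempotent_basicOpen_inter_zeroLocus I (ψ '' C')
      (by
        rintro _ ⟨x, -, rfl⟩
        exact (hψrange _).mpr ⟨x, rfl⟩)
      (hψcl _ hC'.1)
      (by
        rw [hS2]
        exact hψcl _ hC'.compl.1)
    refine ⟨Φ ⁻¹' (PrimeSpectrum.basicOpen e : Set (PrimeSpectrum Γ(T, ⊤))),
      (PrimeSpectrum.isClopen_iff.mpr ⟨e, he, rfl⟩).preimage hΦhomeo.continuous, ?_⟩
    ext x
    constructor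
    · intro hx
      have h1 : ψ x ∈ (PrimeSpectrum.basicOpen e : Set (PrimeSpectrum Γ(T, ⊤))) ∩
          PrimeSpectrum.zeroLocus (IB : Set Γ(T, ⊤)) := ⟨hx, (hψrange _).mpr ⟨x, rfl⟩⟩
      rw [heS] at h1
      obtain ⟨y, hy, hyx⟩ := h1
      exact hψinj hyx ▸ hy
    · intro hx
      have h1 : ψ x ∈ ψ '' C' := ⟨x, hx, rfl⟩
      rw [← heS] at h1
      exact h1.1


open Groth.Agent.Lib.Helper89.HensCouple in
/-- If `(X, X₀)` is a henselian couple with `X` qcqs then `(Γ(X, O_X), ker(Γ(X) → Γ(X₀)))` is a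
henselian pair. -/
theorem henselianRing_of_couple {X X₀ : Scheme.{u}}
    (i : X₀ ⟶ X) [IsClosedImmersion i] [CompactSpace ↥X] [QuasiSeparatedSpace ↥X]
    (hX : ∀ (Y : Scheme.{u}) (g : Y ⟶ X), IsFinite g →
      ∀ V : Set ↥(pullback g (i)), IsClopen V →
        ∃! U : Set ↥Y, IsClopen U ∧ (pullback.fst g (i)).base ⁻¹' U = V) :
    HenselianRing (Γ(X, ⊤) : Type u) (RingHom.ker i.appTop.hom) := by
  obtain ⟨J, hJ⟩ : ∃ J : Ideal (Γ(X, ⊤) : Type u), J = RingHom.ker i.appTop.hom := ⟨_, rfl⟩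
  rw [← hJ]
  have hjac : J ≤ Ideal.jacobson ⊥ := by
    intro b hb
    rw [Ideal.mem_jacobson_bot]
    intro y
    apply isUnit_of_appTop_eq_one i hX
    have : i.appTop.hom b = 0 := by rw [hJ] at hb; exact hb
    rw [map_add, map_mul, this, zero_mul, zero_add, map_one]
  refine ⟨hjac, ?_⟩
  intro f hf a₀ h₁ h₂
  have hloc := isLocalHom_of_le_jacobson_bot J hjac
  have hu : IsUnit (f.derivative.eval a₀) := IsUnit.of_map (Ideal.Quotient.mk J) _ h₂
  apply Groth.Agent.Lib.Helper3.exists_root_of_idempotent_lift hjac f hf a₀ h₁ hu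
  intro e₀ he₀
  have hfinM : Module.Finite (Γ(X, ⊤) : Type u) (AdjoinRoot f) := hf.finite_adjoinRoot
  have hfreeM : Module.Free (Γ(X, ⊤) : Type u) (AdjoinRoot f) := hf.free_adjoinRoot
  have hfin : (algebraMap (Γ(X, ⊤) : Type u) (AdjoinRoot f)).Finite :=
    RingHom.finite_algebraMap.mpr hfinM
  have hflat : (algebraMap (Γ(X, ⊤) : Type u) (AdjoinRoot f)).Flat :=
    RingHom.flat_algebraMap_iff.mpr inferInstance
  have := exists_idem_lift_finite_flat i
    (fun Y g hg V hV => (hX Y g hg V hV).exists) (CommRingCat.of (AdjoinRoot f))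
    (CommRingCat.ofHom (algebraMap (Γ(X, ⊤) : Type u) (AdjoinRoot f))) hfin hflat e₀
    (by rw [← hJ]; exact he₀)
  rw [← hJ] at this
  exact this

/-- Over a henselian pair `(A, I)`, `(Spec A, Spec A/I)` is a henselian couple. -/
theorem existsUnique_clopen_of_henselianRing (A : Type u) [CommRing A] (I : Ideal A)
    [HenselianRing A I] (Y : Scheme.{u}) (g : Y ⟶ Spec (CommRingCat.of A)) (hg : IsFinite g)
    (V : Set ↥(pullback g (Spec.map (CommRingCat.ofHom (Ideal.Quotient.mk I))))) (hV : IsClopen V) :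
    ∃! U : Set ↥Y, IsClopen U ∧
      (pullback.fst g (Spec.map (CommRingCat.ofHom (Ideal.Quotient.mk I)))).base ⁻¹' U = V := by
  obtain ⟨h1, h2⟩ := clopen_correspondence_of_henselianPair A I g
  obtain ⟨U, hU, hUV⟩ := h2 V hV
  refine ⟨U, ⟨hU, hUV⟩, ?_⟩
  rintro U' ⟨hU', hU'V⟩
  have hD : IsClopen ((U ∩ U') ∪ (Uᶜ ∩ U'ᶜ)) := (hU.inter hU').union (hU.compl.inter hU'.compl)
  have hsub : Set.range (pullback.fst g (Spec.map (CommRingCat.ofHom (Ideal.Quotient.mk I)))) ⊆
      (U ∩ U') ∪ (Uᶜ ∩ U'ᶜ) := by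
    rintro _ ⟨x, rfl⟩
    have e1 : (pullback.fst g (Spec.map (CommRingCat.ofHom (Ideal.Quotient.mk I)))) x ∈ U ↔ x ∈ V := by
      rw [← hUV]; rfl
    have e2 : (pullback.fst g (Spec.map (CommRingCat.ofHom (Ideal.Quotient.mk I)))) x ∈ U' ↔ x ∈ V := by
      rw [← hU'V]; rfl
    by_cases hx : x ∈ V
    · exact Or.inl ⟨e1.mpr hx, e2.mpr hx⟩
    · exact Or.inr ⟨fun h => hx (e1.mp h), fun h => hx (e2.mp h)⟩
  have huniv := h1 _ hD hsub
  ext y
  have hy : y ∈ (U ∩ U') ∪ (Uᶜ ∩ U'ᶜ) := by rw [huniv]; trivial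
  rcases hy with ⟨hy1, hy2⟩ | ⟨hy1, hy2⟩
  · exact ⟨fun _ => hy1, fun _ => hy2⟩
  · exact ⟨fun h => absurd h hy2, fun h => absurd h hy1⟩

theorem henselianRing_of_ringEquiv_comap {R S : Type*} [CommRing R] [CommRing S] (e : R ≃+* S)
    (I : Ideal S) (h : HenselianRing R (I.comap (e : R →+* S))) : HenselianRing S I := by
  have H2 := Groth.Agent.Lib.Helper3.henselianRing_of_ringEquiv e (I.comap (e : R →+* S))
  have hI : Ideal.map (e : R →+* S) (Ideal.comap (e : R →+* S) I) = I :=
    Ideal.map_comap_of_surjective _ e.surjective _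
  rw [hI] at H2
  exact H2

/-- If `(Spec A, Spec A/I)` is a henselian couple then `(A, I)` is a henselian pair. -/
theorem henselianRing_of_couple_spec (A : Type u) [CommRing A] (I : Ideal A)
    (hX : ∀ (Y : Scheme.{u}) (g : Y ⟶ Spec (CommRingCat.of A)), IsFinite g →
      ∀ V : Set ↥(pullback g (Spec.map (CommRingCat.ofHom (Ideal.Quotient.mk I)))), IsClopen V →
        ∃! U : Set ↥Y, IsClopen U ∧
          (pullback.fst g (Spec.map (CommRingCat.ofHom (Ideal.Quotient.mk I)))).base ⁻¹' U = V) :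
    HenselianRing A I := by
  haveI : IsClosedImmersion (Spec.map (CommRingCat.ofHom (Ideal.Quotient.mk I))) :=
    IsClosedImmersion.spec_of_surjective _ Ideal.Quotient.mk_surjective
  have H := henselianRing_of_couple (Spec.map (CommRingCat.ofHom (Ideal.Quotient.mk I))) hX
  obtain ⟨e, he⟩ : ∃ e : (Γ(Spec (CommRingCat.of A), ⊤) : Type u) ≃+* A,
      e = (Scheme.ΓSpecIso (CommRingCat.of A)).commRingCatIsoToRingEquiv := ⟨_, rfl⟩
  have hker : RingHom.ker (Spec.map (CommRingCat.ofHom (Ideal.Quotient.mk I))).appTop.hom =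
      I.comap (e : _ →+* A) := by
    ext x
    rw [RingHom.mem_ker, Ideal.mem_comap]
    have hnat := Scheme.ΓSpecIso_naturality (CommRingCat.ofHom (Ideal.Quotient.mk I))
    have h1 := congrArg (fun m => m.hom x) hnat
    have h1' : (Scheme.ΓSpecIso (CommRingCat.of (A ⧸ I))).hom.hom
        ((Spec.map (CommRingCat.ofHom (Ideal.Quotient.mk I))).appTop.hom x) =
        Ideal.Quotient.mk I (e x) := by
      rw [he]; exact h1
    have hinj : Function.Injective (Scheme.ΓSpecIso (CommRingCat.of (A ⧸ I))).hom.hom :=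
      (ConcreteCategory.bijective_of_isIso (Scheme.ΓSpecIso (CommRingCat.of (A ⧸ I))).hom).1
    constructor
    · intro hx
      rw [hx, map_zero] at h1'
      exact Ideal.Quotient.eq_zero_iff_mem.mp h1'.symm
    · intro hx
      apply hinj
      rw [h1', map_zero]
      exact Ideal.Quotient.eq_zero_iff_mem.mpr hx
  rw [hker] at H
  exact henselianRing_of_ringEquiv_comap e I H

end Groth.Agent.Lib.Helper89.HensCouple4
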