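import Mathlib

/-!
# Henselian couples: topological reformulation and disjoint unions (helper89)
-/

set_option autoImplicit false
universe u

open CategoryTheory CategoryTheory.Limits AlgebraicGeometry TopologicalSpace Opposite

namespace Groth.Agent.Lib.Helper89.HensCouple5

/-- Every clopen subset of the closed subspace `W` is the trace of a unique clopen subset. -/
def TopCond {Y : Type*} [TopologicalSpace Y] (W : Set Y) : Prop :=
  ∀ V : Set Y, V ⊆ W → IsClosed V → IsClosed (W \ V) → ∃! U : Set Y, IsClopen U ∧ U ∩ W = V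

theorem topCond_iff_of_isClosedEmbedding {P Y : Type*} [TopologicalSpace P] [TopologicalSpace Y]
    (e : P → Y) (he : Topology.IsClosedEmbedding e) :
    (∀ V : Set P, IsClopen V → ∃! U : Set Y, IsClopen U ∧ e ⁻¹' U = V) ↔
      TopCond (Set.range e) := by
  have key : ∀ U : Set Y, ∀ V' : Set P, e ⁻¹' U = V' ↔ U ∩ Set.range e = e '' V' := by
    intro U V'
    constructor
    · intro h
      rw [← h, Set.image_preimage_eq_inter_range]
    · intro h
      ext p
      constructor
      · intro hp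
        have : e p ∈ U ∩ Set.range e := ⟨hp, ⟨p, rfl⟩⟩
        rw [h] at this
        obtain ⟨p', hp', hpp'⟩ := this
        rwa [← he.injective hpp']
      · intro hp
        have : e p ∈ e '' V' := ⟨p, hp, rfl⟩
        rw [← h] at this
        exact this.1
  constructor
  · intro h V hVW hV hWV
    have hV' : IsClopen (e ⁻¹' V) := by
      refine ⟨hV.preimage he.continuous, ?_⟩
      rw [← isClosed_compl_iff]
      have : (e ⁻¹' V)ᶜ = e ⁻¹' (Set.range e \ V) := by
        ext p
        simp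
      rw [this]
      exact hWV.preimage he.continuous
    have himg : e '' (e ⁻¹' V) = V := by
      rw [Set.image_preimage_eq_inter_range]
      exact Set.inter_eq_left.mpr hVW
    obtain ⟨U, ⟨hU, hUV⟩, huniq⟩ := h _ hV'
    refine ⟨U, ⟨hU, ?_⟩, ?_⟩
    · rw [(key U _).mp hUV, himg]
    · rintro U' ⟨hU', hU'V⟩
      apply huniq
      refine ⟨hU', (key U' _).mpr ?_⟩
      rw [hU'V, himg]
  · intro h V' hV'
    have h1 : IsClosed (e '' V') := he.isClosedMap _ hV'.1
    have h2 : IsClosed (Set.range e \ e '' V') := by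
      have : Set.range e \ e '' V' = e '' V'ᶜ := by
        rw [Set.image_compl_eq_range_sdiff_image he.injective]
      rw [this]
      exact he.isClosedMap _ hV'.compl.1
    obtain ⟨U, ⟨hU, hUV⟩, huniq⟩ := h _ (Set.image_subset_range e V') h1 h2
    refine ⟨U, ⟨hU, (key U _).mpr hUV⟩, ?_⟩
    rintro U' ⟨hU', hU'V⟩
    apply huniq
    exact ⟨hU', (key U' _).mp hU'V⟩

/-- The topological condition glues along a disjoint cover by open embeddings. -/
theorem topCond_of_openEmbeddings {Y : Type*} [TopologicalSpace Y] {ι : Type*} {Yj : ι → Type*}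
    [∀ j, TopologicalSpace (Yj j)] (o : ∀ j, Yj j → Y) (ho : ∀ j, Topology.IsOpenEmbedding (o j))
    (hdisj : ∀ j k, j ≠ k → Disjoint (Set.range (o j)) (Set.range (o k)))
    (hcov : ∀ y, ∃ j y', o j y' = y) (W : Set Y) (h : ∀ j, TopCond ((o j) ⁻¹' W)) :
    TopCond W := by
  intro V hVW hV hWV
  have hVj : ∀ j, ∃! Uj : Set (Yj j), IsClopen Uj ∧ Uj ∩ (o j) ⁻¹' W = (o j) ⁻¹' V := by
    intro j
    apply h j
    · exact Set.preimage_mono hVW
    · exact hV.preimage (ho j).continuous
    · have : (o j) ⁻¹' W \ (o j) ⁻¹' V = (o j) ⁻¹' (W \ V) := rfl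
      rw [this]
      exact hWV.preimage (ho j).continuous
  choose Uj hUj hUjuniq using hVj
  have hindex : ∀ j k (y : Yj j) (y' : Yj k), o j y = o k y' → j = k := by
    intro j k y y' hyy'
    by_contra hne
    exact Set.disjoint_left.mp (hdisj j k hne) ⟨y, rfl⟩ ⟨y', hyy'.symm⟩
  have hmem : ∀ j (y : Yj j) (S : ∀ j, Set (Yj j)), o j y ∈ (⋃ k, o k '' S k) ↔ y ∈ S j := by
    intro j y S
    constructor
    · intro hy
      obtain ⟨k, hk⟩ := Set.mem_iUnion.mp hy
      obtain ⟨y', hy', hyy'⟩ := hk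
      have hjk := hindex k j y' y hyy'
      subst hjk
      rwa [← (ho k).injective hyy']
    · intro hy
      exact Set.mem_iUnion.mpr ⟨j, y, hy, rfl⟩
  have hopen : ∀ S : ∀ j, Set (Yj j), (∀ j, IsOpen (S j)) → IsOpen (⋃ k, o k '' S k) := by
    intro S hS
    exact isOpen_iUnion fun k => (ho k).isOpenMap _ (hS k)
  have hcompl : (⋃ k, o k '' Uj k)ᶜ = ⋃ k, o k '' (Uj k)ᶜ := by
    ext y
    obtain ⟨j, y', rfl⟩ := hcov y
    rw [Set.mem_compl_iff, hmem j y' Uj, hmem j y' (fun k => (Uj k)ᶜ)]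
    rfl
  have hclopen : IsClopen (⋃ k, o k '' Uj k) := by
    refine ⟨?_, hopen _ fun j => (hUj j).1.2⟩
    rw [← isOpen_compl_iff, hcompl]
    exact hopen _ fun j => (hUj j).1.1.isOpen_compl
  refine ⟨⋃ k, o k '' Uj k, ⟨hclopen, ?_⟩, ?_⟩
  · ext y
    obtain ⟨j, y', rfl⟩ := hcov y
    rw [Set.mem_inter_iff, hmem j y' Uj]
    have := (hUj j).2
    have h1 : y' ∈ Uj j ∩ o j ⁻¹' W ↔ y' ∈ o j ⁻¹' V := by rw [this]
    exact h1
  · rintro U' ⟨hU', hU'V⟩
    ext y
    obtain ⟨j, y', rfl⟩ := hcov y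
    rw [hmem j y' Uj]
    have h2 : (o j) ⁻¹' U' = Uj j := by
      apply hUjuniq j
      refine ⟨hU'.preimage (ho j).continuous, ?_⟩
      rw [← hU'V]
      rfl
    rw [← h2]
    rfl

/-- Scheme-level reformulation: the lifting condition for the pullback of a closed immersion is the
topological condition on the preimage of its range. -/
theorem couple_iff_topCond {X X₀ Y : Scheme.{u}} (g : Y ⟶ X) (i : X₀ ⟶ X) [IsClosedImmersion i] :
    (∀ V : Set ↥(pullback g i), IsClopen V →
      ∃! U : Set ↥Y, IsClopen U ∧ (pullback.fst g i).base ⁻¹' U = V) ↔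
    TopCond (g.base ⁻¹' Set.range i.base) := by
  have hcl : IsClosedImmersion (pullback.fst g i) := inferInstance
  have he : Topology.IsClosedEmbedding (pullback.fst g i).base :=
    (pullback.fst g i).isClosedEmbedding
  have hr : Set.range (pullback.fst g i).base = g.base ⁻¹' Set.range i.base :=
    Scheme.Pullback.range_fst g i
  rw [← hr]
  exact topCond_iff_of_isClosedEmbedding _ he

section Sigma

variable {ι : Type u} (X : ι → Scheme.{u})

theorem exists_sigmaι_eq (y : ↥(∐ X)) : ∃ (j : ι) (x : X j), (Sigma.ι X j).base x = y := by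
  obtain ⟨⟨j, x⟩, rfl⟩ := (sigmaMk X).surjective y
  exact ⟨j, x, (sigmaMk_mk X j x).symm⟩

theorem isClosed_range_sigmaι (j : ι) : IsClosed (Set.range (Sigma.ι X j).base) := by
  rw [← isOpen_compl_iff]
  have : (Set.range (Sigma.ι X j).base)ᶜ = ⋃ k ∈ {k : ι | k ≠ j}, Set.range (Sigma.ι X k).base := by
    ext y
    obtain ⟨k, x, rfl⟩ := exists_sigmaι_eq X y
    simp only [Set.mem_compl_iff, Set.mem_range, ne_eq, Set.mem_ofPred_eq, Set.mem_iUnion,
      exists_prop]
    constructor
    · intro h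
      refine ⟨k, ?_, x, rfl⟩
      rintro rfl
      exact h ⟨x, rfl⟩
    · rintro ⟨k', hk', x', hx'⟩ ⟨x'', hx''⟩
      have := (sigmaι_eq_iff X _ _ _ _).mp (hx'.trans hx''.symm)
      exact hk' (congrArg Sigma.fst this)
  rw [this]
  exact isOpen_biUnion fun k _ => (Sigma.ι X k).isOpenEmbedding.isOpen_range

theorem isClosedImmersion_sigmaι (j : ι) : IsClosedImmersion (Sigma.ι X j) :=
  IsClosedImmersion.of_isPreimmersion _ (isClosed_range_sigmaι X j)

variable {X} in
theorem preimage_sigmaι_range_map {X₀ : ι → Scheme.{u}} (i : ∀ j, X₀ j ⟶ X j) (j : ι) :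
    (Sigma.ι X j).base ⁻¹' Set.range (Limits.Sigma.map i).base = Set.range (i j).base := by
  have hcomm : ∀ k, Sigma.ι X₀ k ≫ Limits.Sigma.map i = i k ≫ Sigma.ι X k := fun k =>
    Sigma.ι_map i k
  have hcomm' : ∀ k (z : X₀ k), (Limits.Sigma.map i).base ((Sigma.ι X₀ k).base z) =
      (Sigma.ι X k).base ((i k).base z) := by
    intro k z
    have := congrArg (fun m => m.base z) (hcomm k)
    exact this
  ext x
  constructor
  · rintro ⟨z, hz⟩
    obtain ⟨k, z', rfl⟩ := exists_sigmaι_eq X₀ z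
    rw [hcomm'] at hz
    have := (sigmaι_eq_iff X _ _ _ _).mp hz
    obtain rfl : k = j := congrArg Sigma.fst this
    have hx : (i k).base z' = x := eq_of_heq (Sigma.mk.inj this).2
    exact ⟨z', hx⟩
  · rintro ⟨z, rfl⟩
    exact ⟨(Sigma.ι X₀ j).base z, hcomm' j z⟩

end Sigma

section Main

variable {ι : Type u} {X X₀ : ι → Scheme.{u}} (i : ∀ j, X₀ j ⟶ X j)

theorem sigmaMap_sigmaι_apply (k : ι) (z : X₀ k) :
    (Limits.Sigma.map i).base ((Sigma.ι X₀ k).base z) = (Sigma.ι X k).base ((i k).base z) := by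
  have := congrArg (fun m => m.base z) (Sigma.ι_map i k)
  exact this

theorem surjectiveOnStalks_sigmaMap [∀ j, IsClosedImmersion (i j)] :
    SurjectiveOnStalks (Limits.Sigma.map i) := by
  apply IsZariskiLocalAtSource.of_openCover (sigmaOpenCover X₀)
  intro j'
  obtain ⟨j, hj⟩ : ∃ j : ι, j = j' := ⟨j', rfl⟩
  have h1 : IsPreimmersion (i j) := inferInstance
  have h2 : SurjectiveOnStalks (i j) := h1.toSurjectiveOnStalks
  have h3 : SurjectiveOnStalks (i j ≫ Sigma.ι X j) := SurjectiveOnStalks.comp _ _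
  have h : Sigma.ι X₀ j ≫ Limits.Sigma.map i = i j ≫ Sigma.ι X j := Sigma.ι_map i j
  rw [← h] at h3
  subst hj
  exact h3

theorem isEmbedding_sigmaMap [∀ j, IsClosedImmersion (i j)] :
    Topology.IsEmbedding (Limits.Sigma.map i).base := by
  have h1 : Topology.IsEmbedding (@Sigma.map ι ι (fun j => ↥(X₀ j)) (fun j => ↥(X j)) id
      (fun j => ⇑(i j).base)) := by
    rw [Topology.isEmbedding_sigmaMap Function.injective_id]
    intro j
    exact (i j).isEmbedding
  have h2 : (Limits.Sigma.map i).base =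
      (sigmaMk X) ∘ (@Sigma.map ι ι (fun j => ↥(X₀ j)) (fun j => ↥(X j)) id
        (fun j => ⇑(i j).base)) ∘ (sigmaMk X₀).symm := by
    funext y
    obtain ⟨⟨j, z⟩, rfl⟩ := (sigmaMk X₀).surjective y
    rw [Function.comp_apply, Function.comp_apply, Homeomorph.symm_apply_apply]
    show _ = sigmaMk X ⟨j, (i j).base z⟩
    rw [sigmaMk_mk, sigmaMk_mk]
    exact sigmaMap_sigmaι_apply i j z
  rw [h2]
  exact (sigmaMk X).isEmbedding.comp (h1.comp (sigmaMk X₀).symm.isEmbedding)

theorem isClosed_range_sigmaMap [∀ j, IsClosedImmersion (i j)] :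
    IsClosed (Set.range (Limits.Sigma.map i).base) := by
  rw [← isOpen_compl_iff]
  have : (Set.range (Limits.Sigma.map i).base)ᶜ =
      ⋃ j, (Sigma.ι X j).base '' (Set.range (i j).base)ᶜ := by
    ext y
    obtain ⟨j, x, rfl⟩ := exists_sigmaι_eq X y
    have h3 := preimage_sigmaι_range_map i j
    have h4 : (Sigma.ι X j).base x ∈ Set.range (Limits.Sigma.map i).base ↔ x ∈ Set.range (i j).base := by
      rw [← h3]; rfl
    rw [Set.mem_compl_iff, h4, Set.mem_iUnion]
    constructor
    · intro hx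
      exact ⟨j, x, hx, rfl⟩
    · rintro ⟨k, x', hx', hxx'⟩ hx
      have := (sigmaι_eq_iff X _ _ _ _).mp hxx'
      obtain rfl : k = j := congrArg Sigma.fst this
      have hx2 : x' = x := eq_of_heq (Sigma.mk.inj this).2
      exact hx' (hx2 ▸ hx)
  rw [this]
  exact isOpen_iUnion fun j => (Sigma.ι X j).isOpenEmbedding.isOpenMap _
    (i j).isClosedEmbedding.isClosed_range.isOpen_compl

theorem isClosedImmersion_sigmaMap [∀ j, IsClosedImmersion (i j)] :
    IsClosedImmersion (Limits.Sigma.map i) := by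
  have h1 : SurjectiveOnStalks (Limits.Sigma.map i) := surjectiveOnStalks_sigmaMap i
  have h2 : IsPreimmersion (Limits.Sigma.map i) := ⟨isEmbedding_sigmaMap i⟩
  exact IsClosedImmersion.of_isPreimmersion _ (isClosed_range_sigmaMap i)

end Main

section MainThm

variable {ι : Type u} (X X₀ : ι → Scheme.{u}) (i : ∀ j, X₀ j ⟶ X j) [∀ j, IsClosedImmersion (i j)]

theorem sigma_iff :
    (∀ (Y : Scheme.{u}) (g : Y ⟶ ∐ X), IsFinite g →
      ∀ V : Set ↥(pullback g (Limits.Sigma.map i)), IsClopen V →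
        ∃! U : Set ↥Y, IsClopen U ∧ (pullback.fst g (Limits.Sigma.map i)).base ⁻¹' U = V) ↔
    ∀ j : ι, ∀ (Y : Scheme.{u}) (g : Y ⟶ X j), IsFinite g →
      ∀ V : Set ↥(pullback g (i j)), IsClopen V →
        ∃! U : Set ↥Y, IsClopen U ∧ (pullback.fst g (i j)).base ⁻¹' U = V := by
  have hSig : IsClosedImmersion (Limits.Sigma.map i) := isClosedImmersion_sigmaMap i
  constructor
  · intro H j Y g hg
    have hι : IsClosedImmersion (Sigma.ι X j) := isClosedImmersion_sigmaι X j
    have hfin : IsFinite (g ≫ Sigma.ι X j) := inferInstance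
    have h1 := (couple_iff_topCond (g ≫ Sigma.ι X j) (Limits.Sigma.map i)).mp
      (H Y (g ≫ Sigma.ι X j) hfin)
    rw [couple_iff_topCond]
    have h2 : (g ≫ Sigma.ι X j).base ⁻¹' Set.range (Limits.Sigma.map i).base =
        g.base ⁻¹' Set.range (i j).base := by
      rw [← preimage_sigmaι_range_map i j]
      rfl
    rw [h2] at h1
    exact h1
  · intro H Y g hg
    rw [couple_iff_topCond]
    -- the open pieces
    obtain ⟨O, hO⟩ : ∃ O : ι → Y.Opens, O = fun j => g ⁻¹ᵁ (Sigma.ι X j).opensRange := ⟨_, rfl⟩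
    obtain ⟨gj, hgj⟩ : ∃ gj : ∀ j, ((O j : Y.Opens) : Scheme.{u}) ⟶ X j,
        ∀ j, gj j ≫ Sigma.ι X j = (O j).ι ≫ g ∧ IsFinite (gj j) := by
      subst hO
      refine ⟨fun j => (g ∣_ (Sigma.ι X j).opensRange) ≫ (Sigma.ι X j).isoOpensRange.inv, ?_⟩
      intro j
      constructor
      · rw [Category.assoc, Scheme.Hom.isoOpensRange_inv_comp, morphismRestrict_ι]
      · infer_instance
    apply topCond_of_openEmbeddings (fun j => (O j).ι.base) (fun j => (O j).ι.isOpenEmbedding)
    · intro j k hjk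
      rw [Set.disjoint_left]
      rintro _ ⟨y, rfl⟩ ⟨y', hyy'⟩
      have hy : ((O j).ι.base y) ∈ O j := y.2
      have hy' : ((O k).ι.base y') ∈ O k := y'.2
      rw [hyy'] at hy'
      subst hO
      have hd := disjoint_opensRange_sigmaι X j k hjk
      have : g.base ((g ⁻¹ᵁ (Sigma.ι X j).opensRange).ι.base y) ∈
          (Sigma.ι X j).opensRange ⊓ (Sigma.ι X k).opensRange := ⟨hy, hy'⟩
      rw [disjoint_iff.mp hd] at this
      exact this
    · intro y
      obtain ⟨j, x, hx⟩ := exists_sigmaι_eq X (g.base y)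
      subst hO
      have hy : y ∈ g ⁻¹ᵁ (Sigma.ι X j).opensRange := ⟨x, hx⟩
      exact ⟨j, ⟨y, hy⟩, rfl⟩
    · intro j
      have h1 := (couple_iff_topCond (gj j) (i j)).mp (H j _ (gj j) (hgj j).2)
      have h2 : (O j).ι.base ⁻¹' (g.base ⁻¹' Set.range (Limits.Sigma.map i).base) =
          (gj j).base ⁻¹' Set.range (i j).base := by
        rw [← preimage_sigmaι_range_map i j]
        have h3 := (hgj j).1
        have h4 : ∀ y, (Sigma.ι X j).base ((gj j).base y) = g.base ((O j).ι.base y) := by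
          intro y
          exact congrArg (fun m => m.base y) h3
        ext y
        simp only [Set.mem_preimage]
        rw [h4]
      rw [h2]
      exact h1

end MainThm

end Groth.Agent.Lib.Helper89.HensCouple5
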