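import Groth.Agent.S17959
import Groth.Agent.Lib.Helper9.Hens.PairNoetherian
import Groth.Agent.Lib.Helper9.Hens.PairUniversal

/-!
# A proper scheme that is a henselian couple is proper over a henselian pair
-/

set_option autoImplicit false
open CategoryTheory CategoryTheory.Limits AlgebraicGeometry

universe u

namespace Groth.Agent.Lib.Helper89.HensCouple6

/-- `(C, ⊥)` is a henselian pair. -/
theorem henselianRing_bot (C : Type u) [CommRing C] : HenselianRing C (⊥ : Ideal C) where
  jac := bot_le
  is_henselian := by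
    intro f _ a₀ h₁ _
    exact ⟨a₀, by simpa [Polynomial.IsRoot] using h₁, by simp⟩

/-- The quotient square is a pushout of commutative rings. -/
theorem isPushout_quotient {A H : Type u} [CommRing A] [CommRing H] (φ : A →+* H) (I : Ideal A) :
    IsPushout (CommRingCat.ofHom φ) (CommRingCat.ofHom (Ideal.Quotient.mk I))
      (CommRingCat.ofHom (Ideal.Quotient.mk (I.map φ)))
      (CommRingCat.ofHom (Ideal.quotientMap (I.map φ) φ Ideal.le_comap_map)) := by
  have w : CommRingCat.ofHom φ ≫ CommRingCat.ofHom (Ideal.Quotient.mk (I.map φ)) =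
      CommRingCat.ofHom (Ideal.Quotient.mk I) ≫
        CommRingCat.ofHom (Ideal.quotientMap (I.map φ) φ Ideal.le_comap_map) := by
    ext x
    simp
  have key : ∀ s : PushoutCocone (CommRingCat.ofHom φ) (CommRingCat.ofHom (Ideal.Quotient.mk I)),
      ∀ a ∈ I.map φ, s.inl.hom a = 0 := by
    intro s
    have : I.map φ ≤ RingHom.ker s.inl.hom := by
      rw [Ideal.map_le_iff_le_comap]
      intro x hx
      rw [Ideal.mem_comap, RingHom.mem_ker]
      have h1 := congrArg (fun g => g.hom x) s.condition
      simp only [CommRingCat.hom_comp, CommRingCat.hom_ofHom, RingHom.coe_comp,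
        Function.comp_apply] at h1
      rw [h1, Ideal.Quotient.eq_zero_iff_mem.mpr hx, map_zero]
    exact fun a ha => this ha
  refine ⟨⟨w⟩, ⟨PushoutCocone.IsColimit.mk _
    (fun s => CommRingCat.ofHom (Ideal.Quotient.lift (I.map φ) s.inl.hom (key s))) ?_ ?_ ?_⟩⟩
  · intro s
    ext x
    simp
  · intro s
    ext x
    have h1 := congrArg (fun g => g.hom x) s.condition
    simp only [CommRingCat.hom_comp, CommRingCat.hom_ofHom, RingHom.coe_comp,
      Function.comp_apply] at h1
    simp [h1]
  · intro s m h₁ _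
    ext x
    have h2 := congrArg (fun g => g.hom x) h₁
    simp only [CommRingCat.hom_comp, CommRingCat.hom_ofHom, RingHom.coe_comp,
      Function.comp_apply] at h2
    simp [h2]


/-- Two morphisms to the spectrum of a pair henselization agree as soon as they agree after
composing to `Spec A`, provided `I` vanishes on the source. -/
theorem hom_ext_of_isPairHenselization {A : Type u} [CommRing A] {I : Ideal A} {H : Type u}
    [CommRing H] [Algebra A H] (hH : Hens2.IsPairHenselization A I H) {Z : Scheme.{u}}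
    (a b : Z ⟶ Spec (CommRingCat.of H))
    (hab : a ≫ Spec.map (CommRingCat.ofHom (algebraMap A H)) =
      b ≫ Spec.map (CommRingCat.ofHom (algebraMap A H)))
    (hI : ∀ x ∈ I, (a ≫ Spec.map (CommRingCat.ofHom (algebraMap A H))).appTop.hom
      ((Scheme.ΓSpecIso (CommRingCat.of A)).inv.hom x) = 0) : a = b := by
  apply ext_to_Spec
  rw [Scheme.Γ_map_op, Scheme.Γ_map_op]
  have key : ∀ c : Z ⟶ Spec (CommRingCat.of H),
      CommRingCat.ofHom (algebraMap A H) ≫ (Scheme.ΓSpecIso (CommRingCat.of H)).inv ≫ c.appTop =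
      (Scheme.ΓSpecIso (CommRingCat.of A)).inv ≫
        (c ≫ Spec.map (CommRingCat.ofHom (algebraMap A H))).appTop := by
    intro c
    rw [Scheme.Hom.comp_appTop, Scheme.ΓSpecIso_inv_naturality_assoc]
  set α := ((Scheme.ΓSpecIso (CommRingCat.of H)).inv ≫ a.appTop).hom with hα
  set β := ((Scheme.ΓSpecIso (CommRingCat.of H)).inv ≫ b.appTop).hom with hβ
  have h1 : α.comp (algebraMap A H) = β.comp (algebraMap A H) := by
    have := (key a).trans ((congrArg (fun c => (Scheme.ΓSpecIso (CommRingCat.of A)).inv ≫
      Scheme.Hom.appTop c) hab).trans (key b).symm)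
    exact congrArg CommRingCat.Hom.hom this
  have h2 : I.map (α.comp (algebraMap A H)) ≤ (⊥ : Ideal (Γ(Z, ⊤) : Type u)) := by
    rw [Ideal.map_le_iff_le_comap]
    intro x hx
    rw [Ideal.mem_comap, Ideal.mem_bot]
    have h3 := congrArg (fun g => g.hom x) (key a)
    simp only [CommRingCat.hom_comp, CommRingCat.hom_ofHom, RingHom.coe_comp,
      Function.comp_apply] at h3
    have h4 := hI x hx
    simp only [CommRingCat.hom_comp, RingHom.coe_comp, Function.comp_apply] at h4
    show α (algebraMap A H x) = 0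
    rw [hα]
    simp only [CommRingCat.hom_comp, RingHom.coe_comp, Function.comp_apply]
    rw [h3]
    exact h4
  obtain ⟨g, -, hg⟩ := hH.2 (Γ(Z, ⊤) : Type u) ⊥ (α.comp (algebraMap A H))
    (henselianRing_bot _) h2
  have e1 : α = g := hg α rfl
  have e2 : β = g := hg β h1.symm
  ext x
  exact DFunLike.congr_fun (e1.trans e2.symm) x

open Groth.Agent.Lib.Helper9 in
/-- A proper scheme over a Noetherian ring which is a henselian couple along `V(I)` is proper over
the henselization of `(A, I)`. -/
theorem exists_proper_over_henselian_pair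
    (A : Type u) [CommRing A] [IsNoetherianRing A] (I : Ideal A) {X : Scheme.{u}}
    (f : X ⟶ Spec (CommRingCat.of A)) [IsProper f]
    (hX : ∀ (Y : Scheme.{u}) (g : Y ⟶ X), IsFinite g →
      ∀ V : Set ↥(pullback g (pullback.fst f (Spec.map (CommRingCat.ofHom (Ideal.Quotient.mk I))))), IsClopen V →
        ∃! U : Set ↥Y, IsClopen U ∧ (pullback.fst g (pullback.fst f (Spec.map (CommRingCat.ofHom (Ideal.Quotient.mk I))))).base ⁻¹' U = V) :
    ∃ (A' : Type u) (_ : CommRing A') (I' : Ideal A') (_ : HenselianRing A' I') (_ : IsNoetherianRing A')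
      (f' : X ⟶ Spec (CommRingCat.of A')) (_ : IsProper f')
      (t : pullback f (Spec.map (CommRingCat.ofHom (Ideal.Quotient.mk I))) ⟶ Spec (CommRingCat.of (A' ⧸ I'))),
      IsPullback (pullback.fst f (Spec.map (CommRingCat.ofHom (Ideal.Quotient.mk I)))) t f' (Spec.map (CommRingCat.ofHom (Ideal.Quotient.mk I'))) := by
  haveI hj : IsClosedImmersion (Spec.map (CommRingCat.ofHom (Ideal.Quotient.mk I))) :=
    IsClosedImmersion.spec_of_surjective _ Ideal.Quotient.mk_surjective
  haveI : CompactSpace X := QuasiCompact.compactSpace_of_compactSpace f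
  haveI : QuasiSeparatedSpace X := quasiSeparatedSpace_of_quasiSeparated f
  have hHens := Groth.Agent.S17959.result
    (pullback.fst f (Spec.map (CommRingCat.ofHom (Ideal.Quotient.mk I)))) hX
  have hH := Hens.PairHens.isPairHenselization A I
  -- the structure map on global sections
  let φ : A →+* Γ(X, ⊤) := f.appTop.hom.comp (Scheme.ΓSpecIso (CommRingCat.of A)).inv.hom
  have hφ : I.map φ ≤ RingHom.ker
      (pullback.fst f (Spec.map (CommRingCat.ofHom (Ideal.Quotient.mk I)))).appTop.hom := by
    rw [Ideal.map_le_iff_le_comap]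
    intro a ha
    rw [Ideal.mem_comap, RingHom.mem_ker]
    have h1 : f.appTop ≫ (pullback.fst f (Spec.map (CommRingCat.ofHom
        (Ideal.Quotient.mk I)))).appTop =
        (Spec.map (CommRingCat.ofHom (Ideal.Quotient.mk I))).appTop ≫
          (pullback.snd f (Spec.map (CommRingCat.ofHom (Ideal.Quotient.mk I)))).appTop := by
      rw [← Scheme.Hom.comp_appTop, ← Scheme.Hom.comp_appTop, pullback.condition]
    have h2 : (Scheme.ΓSpecIso (CommRingCat.of A)).inv ≫
        (Spec.map (CommRingCat.ofHom (Ideal.Quotient.mk I))).appTop =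
        CommRingCat.ofHom (Ideal.Quotient.mk I) ≫
          (Scheme.ΓSpecIso (CommRingCat.of (A ⧸ I))).inv :=
      (Scheme.ΓSpecIso_inv_naturality (CommRingCat.ofHom (Ideal.Quotient.mk I))).symm
    have h3 := congrArg (fun g => g.hom ((Scheme.ΓSpecIso (CommRingCat.of A)).inv.hom a)) h1
    have h4 := congrArg (fun g => g.hom a) h2
    simp only [CommRingCat.hom_comp, CommRingCat.hom_ofHom, RingHom.coe_comp,
      Function.comp_apply] at h3 h4
    show (pullback.fst f (Spec.map (CommRingCat.ofHom (Ideal.Quotient.mk I)))).appTop.hom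
      (f.appTop.hom ((Scheme.ΓSpecIso (CommRingCat.of A)).inv.hom a)) = 0
    rw [h3, h4, Ideal.Quotient.eq_zero_iff_mem.mpr ha, map_zero, map_zero]
  obtain ⟨g, hg, -⟩ := hH.2 Γ(X, ⊤) _ φ hHens hφ
  let f' : X ⟶ Spec (CommRingCat.of (Hens.PairHens A I)) :=
    X.toSpecΓ ≫ Spec.map (CommRingCat.ofHom g)
  have hf' : f' ≫ Spec.map (CommRingCat.ofHom (algebraMap A (Hens.PairHens A I))) = f := by
    have e1 : CommRingCat.ofHom (algebraMap A (Hens.PairHens A I)) ≫ CommRingCat.ofHom g =
        (Scheme.ΓSpecIso (CommRingCat.of A)).inv ≫ f.appTop := by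
      ext a
      exact DFunLike.congr_fun hg a
    show (X.toSpecΓ ≫ Spec.map (CommRingCat.ofHom g)) ≫ _ = f
    rw [Category.assoc, ← Spec.map_comp, e1, Spec.map_comp, ← Scheme.toSpecΓ_naturality_assoc,
      toSpecΓ_SpecMap_ΓSpecIso_inv, Category.comp_id]
  haveI : IsProper (f' ≫ Spec.map (CommRingCat.ofHom (algebraMap A (Hens.PairHens A I)))) := by
    rw [hf']; infer_instance
  haveI hf'p : IsProper f' :=
    IsProper.of_comp f' (Spec.map (CommRingCat.ofHom (algebraMap A (Hens.PairHens A I))))
  have hbij := Hens.quotientMap_bijective_of_isPairHenselization hH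
  let q := RingEquiv.ofBijective _ hbij
  let t : pullback f (Spec.map (CommRingCat.ofHom (Ideal.Quotient.mk I))) ⟶
      Spec (CommRingCat.of (Hens.PairHens A I ⧸ I.map (algebraMap A (Hens.PairHens A I)))) :=
    pullback.snd f (Spec.map (CommRingCat.ofHom (Ideal.Quotient.mk I))) ≫
      Spec.map (CommRingCat.ofHom (q.symm : _ →+* _))
  refine ⟨Hens.PairHens A I, inferInstance, I.map (algebraMap A (Hens.PairHens A I)), hH.1,
    Hens.isNoetherianRing_of_isPairHenselization hH, f', hf'p, t, ?_⟩
  have hpo := isPullback_SpecMap_of_isPushout _ _ _ _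
    (isPushout_quotient (algebraMap A (Hens.PairHens A I)) I)
  have ht : t ≫ Spec.map (CommRingCat.ofHom (Ideal.quotientMap
      (I.map (algebraMap A (Hens.PairHens A I))) (algebraMap A (Hens.PairHens A I))
      Ideal.le_comap_map)) = pullback.snd f (Spec.map (CommRingCat.ofHom (Ideal.Quotient.mk I))) := by
    show (_ ≫ _) ≫ _ = _
    rw [Category.assoc, ← Spec.map_comp]
    have : CommRingCat.ofHom (Ideal.quotientMap
        (I.map (algebraMap A (Hens.PairHens A I))) (algebraMap A (Hens.PairHens A I))
        Ideal.le_comap_map) ≫ CommRingCat.ofHom (q.symm : _ →+* _) = 𝟙 _ := by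
      ext x
      exact q.symm_apply_apply (Ideal.Quotient.mk I x)
    rw [this, Spec.map_id, Category.comp_id]
  refine IsPullback.of_bot (v₂₁ := Spec.map (CommRingCat.ofHom (Ideal.quotientMap
      (I.map (algebraMap A (Hens.PairHens A I))) (algebraMap A (Hens.PairHens A I))
      Ideal.le_comap_map))) (v₂₂ := Spec.map (CommRingCat.ofHom (algebraMap A (Hens.PairHens A I))))
      (h₃₁ := Spec.map (CommRingCat.ofHom (Ideal.Quotient.mk I))) ?_ ?_ hpo
  · rw [ht, hf']
    exact IsPullback.of_hasPullback _ _
  · -- commutativity, by the uniqueness part of the universal property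
    have hw : (pullback.fst f (Spec.map (CommRingCat.ofHom (Ideal.Quotient.mk I))) ≫ f') ≫
        Spec.map (CommRingCat.ofHom (algebraMap A (Hens.PairHens A I))) =
        pullback.snd f (Spec.map (CommRingCat.ofHom (Ideal.Quotient.mk I))) ≫
          Spec.map (CommRingCat.ofHom (Ideal.Quotient.mk I)) := by
      rw [Category.assoc, hf', pullback.condition]
    apply hom_ext_of_isPairHenselization hH
    · rw [hw, Category.assoc, hpo.w, ← Category.assoc, ht]
    · intro x hx
      rw [hw, Scheme.Hom.comp_appTop]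
      have h2 : (Scheme.ΓSpecIso (CommRingCat.of A)).inv ≫
          (Spec.map (CommRingCat.ofHom (Ideal.Quotient.mk I))).appTop =
          CommRingCat.ofHom (Ideal.Quotient.mk I) ≫
            (Scheme.ΓSpecIso (CommRingCat.of (A ⧸ I))).inv :=
        (Scheme.ΓSpecIso_inv_naturality (CommRingCat.ofHom (Ideal.Quotient.mk I))).symm
      have h4 := congrArg (fun g => g.hom x) h2
      simp only [CommRingCat.hom_comp, CommRingCat.hom_ofHom, RingHom.coe_comp,
        Function.comp_apply] at h4 ⊢
      rw [h4, Ideal.Quotient.eq_zero_iff_mem.mpr hx, map_zero, map_zero]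

end Groth.Agent.Lib.Helper89.HensCouple6
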