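import Mathlib

set_option autoImplicit false
universe u
open CategoryTheory CategoryTheory.Limits AlgebraicGeometry

namespace Groth.Agent.Lib.Helper89.HensCoupleSec

/-- The hypothesis "clopen subsets lift uniquely along finite morphisms". -/
def Couple {S S₀ : Scheme.{u}} (i : S₀ ⟶ S) : Prop :=
  ∀ (S' : Scheme.{u}) (g : S' ⟶ S), IsFinite g →
    ∀ V : Set ↥(pullback g i), IsClopen V →
      ∃! U : Set ↥S', IsClopen U ∧ (pullback.fst g i).base ⁻¹' U = V

variable {S S₀ : Scheme.{u}} (i : S₀ ⟶ S)

theorem clopen_eq_univ (ha : Couple i) {T : Scheme.{u}} (π : T ⟶ S) [IsFinite π] (C : Set T)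
    (hC : IsClopen C) (hr : Set.range (pullback.fst π i) ⊆ C) : C = Set.univ := by
  obtain ⟨U, -, huniq⟩ := ha T π inferInstance Set.univ isClopen_univ
  have h1 : C = U := huniq C ⟨hC, by
    ext x
    simp only [Set.mem_preimage, Set.mem_univ, iff_true]
    exact hr ⟨x, rfl⟩⟩
  have h2 : Set.univ = U := huniq Set.univ ⟨isClopen_univ, by simp⟩
  rw [h1, ← h2]

theorem clopen_eq_univ_self (ha : Couple i) (C : Set S) (hC : IsClopen C)
    (hr : Set.range i ⊆ C) : C = Set.univ := by
  apply clopen_eq_univ i ha (𝟙 S) C hC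
  rintro _ ⟨x, rfl⟩
  apply hr
  refine ⟨pullback.snd (𝟙 S) i x, ?_⟩
  have := congrArg (fun f => f.base x) (pullback.condition (f := 𝟙 S) (g := i))
  simp only [Category.comp_id] at this
  exact this.symm

theorem closed_eq_empty (ha : Couple i) {T : Scheme.{u}} (π : T ⟶ S) [IsFinite π] (Z : Set T)
    (hZ : IsClosed Z) (hdis : ∀ z ∈ Z, π z ∉ Set.range i) : Z = ∅ := by
  let I := Scheme.IdealSheafData.vanishingIdeal ⟨Z, hZ⟩
  have hrange : Set.range I.subschemeι = Z := by
    rw [Scheme.IdealSheafData.range_subschemeι]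
    simp [I]
  have h := clopen_eq_univ i ha (I.subschemeι ≫ π) ∅ isClopen_empty (by
    rintro _ ⟨x, rfl⟩
    exfalso
    have hx : I.subschemeι (pullback.fst (I.subschemeι ≫ π) i x) ∈ Z := by
      rw [← hrange]; exact ⟨_, rfl⟩
    apply hdis _ hx
    refine ⟨pullback.snd (I.subschemeι ≫ π) i x, ?_⟩
    have := congrArg (fun f => f.base x) (pullback.condition (f := I.subschemeι ≫ π) (g := i))
    exact this.symm)
  rw [← hrange]
  rw [Set.eq_empty_iff_forall_notMem]
  rintro _ ⟨x, rfl⟩
  have : x ∈ (∅ : Set I.subscheme) := h ▸ Set.mem_univ x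
  exact this

/-- A section of an étale separated morphism is an open and closed immersion. -/
theorem isOpenImmersion_and_isClosedImmersion_of_section {A B : Scheme.{u}} (q : A ⟶ B)
    [IsSeparated q] [Etale q] (γ : B ⟶ A) (hγ : γ ≫ q = 𝟙 B) :
    IsOpenImmersion γ ∧ IsClosedImmersion γ := by
  have h1 : Etale (γ ≫ q) := by rw [hγ]; infer_instance
  have h2 : IsClosedImmersion (γ ≫ q) := by rw [hγ]; infer_instance
  have hγet : Etale γ :=
    MorphismProperty.of_postcomp (W := @Etale) (W' := @Etale) γ q inferInstance h1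
  have hγcl : IsClosedImmersion γ :=
    MorphismProperty.of_postcomp (W := @IsClosedImmersion) (W' := @IsSeparated) γ q
      inferInstance h2
  have hmono : Mono γ := mono_of_mono_fac hγ
  exact ⟨IsOpenImmersion.of_flat_of_mono γ, hγcl⟩

/-- A compact subset of a scheme is contained in a compact open. -/
theorem exists_compact_opens_superset {X : Scheme.{u}} (K : Set X) (hK : IsCompact K) :
    ∃ U : X.Opens, IsCompact (U : Set X) ∧ K ⊆ U := by
  have hcov : K ⊆ ⋃ x : X, ((X.affineCover.f (X.affineCover.idx x)).opensRange : Set X) := by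
    intro x _
    exact Set.mem_iUnion.mpr ⟨x, X.affineCover.covers x⟩
  obtain ⟨t, ht⟩ := hK.elim_finite_subcover _ (fun x => (X.affineCover.f (X.affineCover.idx x)).opensRange.2) hcov
  refine ⟨⨆ x ∈ t, (X.affineCover.f (X.affineCover.idx x)).opensRange, ?_, ?_⟩
  · simp only [TopologicalSpace.Opens.coe_iSup]
    apply t.finite_toSet.isCompact_biUnion
    intro x _
    exact (isAffineOpen_opensRange _).isCompact
  · simpa using ht

end Groth.Agent.Lib.Helper89.HensCoupleSec
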