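import Groth.Agent.Lib.Helper89.HensCoupleSec
import Groth.Agent.Lib.Helper69.Rigid
import Groth.Agent.Lib.Helper54.FlatPoint
import Groth.Agent.S0385

/-!
# Henselian couples: sections of étale separated morphisms lift uniquely (helper89)

`(S, S₀)` a couple with `S` qcqs such that clopen subsets lift uniquely along finite morphisms.
Then sections over `S₀` of étale separated `S`-schemes lift uniquely to sections over `S`.
-/

set_option autoImplicit false
universe u
open CategoryTheory CategoryTheory.Limits AlgebraicGeometry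

namespace Groth.Agent.Lib.Helper89.HensCoupleSec

open Groth.Agent.Lib.Helper69 in
/-- Two `Y`-morphisms to a separated unramified `Y`-scheme which agree after precomposition with
`ξ` agree, provided every clopen subset of the source containing the image of `ξ` is everything.
(Same as helper2's lemma, restated here to keep imports small.) -/
theorem eq_of_comp_eq_of_clopen {T X Y W : Scheme.{u}} (p : X ⟶ Y) [IsSeparated p]
    [IsOpenImmersion (pullback.diagonal p)]
    (f g : T ⟶ X) (h : f ≫ p = g ≫ p) (ξ : W ⟶ T)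
    (hd : ∀ C : Set T, IsClopen C → Set.range ξ ⊆ C → C = Set.univ)
    (hξ : ξ ≫ f = ξ ≫ g) : f = g := by
  let X' : Over Y := Over.mk (f ≫ p)
  let Y' : Over Y := Over.mk p
  let U' : Over Y := Over.mk (ξ ≫ f ≫ p)
  let f' : X' ⟶ Y' := Over.homMk f
  let g' : X' ⟶ Y' := Over.homMk g h.symm
  let ξ' : U' ⟶ X' := Over.homMk ξ
  have : IsSeparated Y'.hom := ‹_›
  have : IsOpenImmersion (pullback.diagonal Y'.hom) := ‹_›
  have hopen : IsOpenImmersion (equalizer.ι f' g').left := isOpenImmersion_equalizer_ι_left f' g'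
  have hclosed : IsClosedImmersion (equalizer.ι f' g').left := inferInstance
  have hfac : (equalizer.lift ξ' (by ext1; exact hξ) : U' ⟶ equalizer f' g').left ≫
      (equalizer.ι f' g').left = ξ := by
    rw [← Over.comp_left, equalizer.lift_ι]; rfl
  have hsurj : Function.Surjective (equalizer.ι f' g').left := by
    rw [← Set.range_eq_univ]
    have hclopen : IsClopen (Set.range (equalizer.ι f' g').left) :=
      ⟨(Scheme.Hom.isClosedEmbedding _).isClosed_range, (Scheme.Hom.isOpenEmbedding _).isOpen_range⟩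
    apply hd _ hclopen
    rintro _ ⟨w, rfl⟩
    refine ⟨(equalizer.lift ξ' (by ext1; exact hξ) : U' ⟶ equalizer f' g').left w, ?_⟩
    rw [← Scheme.Hom.comp_apply, hfac]
  have : IsIso (equalizer.ι f' g').left :=
    (isIso_iff_isOpenImmersion_and_surjective _).mpr ⟨hopen, ⟨hsurj⟩⟩
  rw [← cancel_epi (equalizer.ι f' g').left]
  exact congr($(equalizer.condition f' g').left)

variable {S S₀ : Scheme.{u}} (i : S₀ ⟶ S)

theorem section_unique (ha : Couple i) {S' : Scheme.{u}} (g : S' ⟶ S) [Etale g] [IsSeparated g]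
    (u u' : S ⟶ S') (hu : u ≫ g = 𝟙 S) (hu' : u' ≫ g = 𝟙 S) (h : i ≫ u = i ≫ u') : u = u' :=
  eq_of_comp_eq_of_clopen g u u' (hu.trans hu'.symm) i
    (fun C hC hr => clopen_eq_univ_self i ha C hC hr) h

set_option maxHeartbeats 800000 in
theorem exists_section [IsClosedImmersion i] [CompactSpace S] [QuasiSeparatedSpace S]
    (ha : Couple i) {S' : Scheme.{u}} (g : S' ⟶ S) [Etale g] [IsSeparated g]
    (u₀ : S₀ ⟶ pullback g i) (hu₀ : u₀ ≫ pullback.snd g i = 𝟙 S₀) :
    ∃ u : S ⟶ S', u ≫ g = 𝟙 S ∧ i ≫ u = u₀ ≫ pullback.fst g i := by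
  obtain ⟨a, ha_def⟩ : ∃ a : S₀ ⟶ S', a = u₀ ≫ pullback.fst g i := ⟨_, rfl⟩
  have hag : a ≫ g = i := by
    rw [ha_def, Category.assoc, pullback.condition, ← Category.assoc, hu₀, Category.id_comp]
  haveI : CompactSpace S₀ := i.isClosedEmbedding.compactSpace
  obtain ⟨W, hWc, hWa⟩ :=
    exists_compact_opens_superset (Set.range a) (isCompact_range a.continuous)
  haveI : CompactSpace (W : Scheme.{u}) := isCompact_iff_compactSpace.mp hWc
  haveI : LocallyQuasiFinite (W.ι ≫ g) := Groth.Agent.Lib.Helper54.locallyQuasiFinite_of_etale _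
  obtain ⟨T, j, π, hj, -, hπ, hfac⟩ := Groth.Agent.S0385.result (W.ι ≫ g)
  haveI : Etale (j ≫ π) := by rw [hfac]; infer_instance
  haveI : IsSeparated (j ≫ π) := by rw [hfac]; infer_instance
  -- the point `S₀ ⟶ T`
  let a₁ : S₀ ⟶ W := IsOpenImmersion.lift W.ι a (by rw [Scheme.Opens.range_ι]; exact hWa)
  have ha₁ : a₁ ≫ W.ι = a := IsOpenImmersion.lift_fac _ _ _
  obtain ⟨w, hw_def⟩ : ∃ w : S₀ ⟶ T, w = a₁ ≫ j := ⟨_, rfl⟩
  have hwπ : w ≫ π = i := by rw [hw_def, Category.assoc, hfac, ← Category.assoc, ha₁, hag]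
  let v₀ : S₀ ⟶ pullback π i := pullback.lift w (𝟙 S₀) (by rw [hwπ, Category.id_comp])
  have hv₀q : v₀ ≫ pullback.fst π i = w := pullback.lift_fst _ _ _
  have hv₀π : v₀ ≫ pullback.snd π i = 𝟙 S₀ := pullback.lift_snd _ _ _
  -- `v₀` is an open and closed immersion
  have hv₀c : IsClosedImmersion v₀ :=
    MorphismProperty.of_postcomp (W := @IsClosedImmersion) (W' := @IsSeparated) v₀
      (pullback.snd π i) inferInstance (by rw [hv₀π]; infer_instance)
  have hv₀o : IsOpenImmersion v₀ := by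
    let b₁ : S₀ ⟶ pullback (j ≫ π) i := pullback.lift a₁ (𝟙 S₀) (by
      rw [← Category.assoc, ← hw_def, hwπ, Category.id_comp])
    have hb₁1 : b₁ ≫ pullback.fst (j ≫ π) i = a₁ := pullback.lift_fst _ _ _
    have hb₁2 : b₁ ≫ pullback.snd (j ≫ π) i = 𝟙 S₀ := pullback.lift_snd _ _ _
    let j₀ : pullback (j ≫ π) i ⟶ pullback π i :=
      pullback.lift (pullback.fst (j ≫ π) i ≫ j) (pullback.snd (j ≫ π) i) (by
        rw [Category.assoc, pullback.condition])
    have hj₀1 : j₀ ≫ pullback.fst π i = pullback.fst (j ≫ π) i ≫ j := pullback.lift_fst _ _ _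
    have hj₀2 : j₀ ≫ pullback.snd π i = pullback.snd (j ≫ π) i := pullback.lift_snd _ _ _
    have sq : IsPullback (pullback.fst (j ≫ π) i) j₀ j (pullback.fst π i) := by
      have outer : IsPullback (j₀ ≫ pullback.snd π i) (pullback.fst (j ≫ π) i) i (j ≫ π) := by
        rw [hj₀2]
        exact (IsPullback.of_hasPullback (j ≫ π) i).flip
      have right : IsPullback (pullback.snd π i) (pullback.fst π i) i π :=
        (IsPullback.of_hasPullback π i).flip
      exact (IsPullback.of_right outer hj₀1 right).flip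
    have hj₀o : IsOpenImmersion j₀ :=
      MorphismProperty.of_isPullback (P := @IsOpenImmersion) sq hj
    have hb₁o : IsOpenImmersion b₁ :=
      (isOpenImmersion_and_isClosedImmersion_of_section (pullback.snd (j ≫ π) i) b₁ hb₁2).1
    have hv : v₀ = b₁ ≫ j₀ := by
      apply pullback.hom_ext
      · rw [hv₀q, Category.assoc, hj₀1, ← Category.assoc, hb₁1, hw_def]
      · rw [hv₀π, Category.assoc, hj₀2, hb₁2]
    rw [hv]
    infer_instance
  have hclopen : IsClopen (Set.range v₀) :=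
    ⟨v₀.isClosedEmbedding.isClosed_range, v₀.isOpenEmbedding.isOpen_range⟩
  obtain ⟨U, ⟨hU, hUV⟩, -⟩ := ha T π hπ (Set.range v₀) hclopen
  have hUV' : ∀ t₀ : ↥(pullback π i), pullback.fst π i t₀ ∈ U ↔ t₀ ∈ Set.range v₀ := by
    intro t₀
    rw [← hUV]
    rfl
  have hwU : ∀ s : S₀, w s ∈ U := by
    intro s
    have : pullback.fst π i (v₀ s) ∈ U := (hUV' _).mpr ⟨s, rfl⟩
    rwa [← Scheme.Hom.comp_apply, hv₀q] at this
  -- Claim A
  have hUj : U ⊆ Set.range j := by
    have hempty := closed_eq_empty i ha π (U \ Set.range j)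
      (hU.1.sdiff j.isOpenEmbedding.isOpen_range) (by
        rintro z ⟨hzU, hzj⟩ ⟨s₀, hs₀⟩
        have hz : z ∈ Set.range (pullback.fst π i) := by
          rw [Scheme.Pullback.range_fst]
          exact ⟨s₀, hs₀⟩
        obtain ⟨t₀, rfl⟩ := hz
        obtain ⟨s, rfl⟩ := (hUV' t₀).mp hzU
        apply hzj
        refine ⟨a₁ s, ?_⟩
        rw [← Scheme.Hom.comp_apply, ← Scheme.Hom.comp_apply, hv₀q, hw_def])
    intro z hz
    by_contra hzj
    have : z ∈ U \ Set.range j := ⟨hz, hzj⟩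
    rw [hempty] at this
    exact this
  -- the clopen subscheme
  let 𝒰 : T.Opens := ⟨U, hU.2⟩
  haveI : IsClosedImmersion 𝒰.ι := by
    apply IsClosedImmersion.of_isPreimmersion
    rw [Scheme.Opens.range_ι]
    exact hU.1
  let k : (𝒰 : Scheme.{u}) ⟶ W := IsOpenImmersion.lift j 𝒰.ι (by
    rw [Scheme.Opens.range_ι]; exact hUj)
  have hk : k ≫ j = 𝒰.ι := IsOpenImmersion.lift_fac _ _ _
  haveI : IsOpenImmersion (k ≫ j) := by rw [hk]; infer_instance
  haveI : IsOpenImmersion k := IsOpenImmersion.of_comp k j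
  obtain ⟨ρ, hρ_def⟩ : ∃ ρ : (𝒰 : Scheme.{u}) ⟶ S, ρ = 𝒰.ι ≫ π := ⟨_, rfl⟩
  have hρ : ρ = k ≫ W.ι ≫ g := by rw [hρ_def, ← hfac, ← Category.assoc, hk]
  haveI : IsFinite ρ := by rw [hρ_def]; infer_instance
  haveI : Etale ρ := by rw [hρ]; infer_instance
  -- the lift of `w` to `𝒰`
  let ũ : S₀ ⟶ 𝒰 := IsOpenImmersion.lift 𝒰.ι w (by
    rw [Scheme.Opens.range_ι]
    rintro _ ⟨s, rfl⟩
    exact hwU s)
  have hũ : ũ ≫ 𝒰.ι = w := IsOpenImmersion.lift_fac _ _ _
  have hũρ : ũ ≫ ρ = i := by rw [hρ_def, ← Category.assoc, hũ, hwπ]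
  -- the base change of `ρ` along `i` is an isomorphism
  have hiso : IsIso (pullback.snd ρ i) := by
    let s : S₀ ⟶ pullback ρ i := pullback.lift ũ (𝟙 S₀) (by rw [hũρ, Category.id_comp])
    have hs1 : s ≫ pullback.fst ρ i = ũ := pullback.lift_fst _ _ _
    have hs2 : s ≫ pullback.snd ρ i = 𝟙 S₀ := pullback.lift_snd _ _ _
    let m : pullback ρ i ⟶ pullback π i :=
      pullback.lift (pullback.fst ρ i ≫ 𝒰.ι) (pullback.snd ρ i) (by
        rw [Category.assoc, ← hρ_def, pullback.condition])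
    have hm1 : m ≫ pullback.fst π i = pullback.fst ρ i ≫ 𝒰.ι := pullback.lift_fst _ _ _
    have hm2 : m ≫ pullback.snd π i = pullback.snd ρ i := pullback.lift_snd _ _ _
    have hmrange : Set.range m ⊆ Set.range v₀ := by
      rintro _ ⟨x, rfl⟩
      rw [← hUV']
      rw [← Scheme.Hom.comp_apply, hm1, Scheme.Hom.comp_apply]
      exact (pullback.fst ρ i x).2
    let m' : pullback ρ i ⟶ S₀ := IsOpenImmersion.lift v₀ m hmrange
    have hm' : m' ≫ v₀ = m := IsOpenImmersion.lift_fac _ _ _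
    have hm'snd : m' = pullback.snd ρ i := by
      rw [← hm2, ← hm', Category.assoc, hv₀π, Category.comp_id]
    have hsndv : pullback.snd ρ i ≫ v₀ = m := by rw [← hm'snd, hm']
    have hinv : pullback.snd ρ i ≫ s = 𝟙 _ := by
      apply pullback.hom_ext
      · rw [Category.assoc, hs1, Category.id_comp, ← cancel_mono 𝒰.ι, Category.assoc, hũ, ← hv₀q,
          ← Category.assoc, hsndv, hm1]
      · rw [Category.assoc, hs2, Category.comp_id, Category.id_comp]
    exact ⟨s, hinv, hs2⟩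
  have hrank : ∀ s₀ : S₀, Scheme.Hom.finrank ρ (i s₀) = 1 := by
    intro s₀
    rw [← Scheme.Hom.finrank_pullback_snd ρ i s₀, Scheme.Hom.finrank_eq_one_of_isIso]
    rfl
  have hS : {y : S | Scheme.Hom.finrank ρ y = 1} = Set.univ := by
    apply clopen_eq_univ_self i ha _ ((Scheme.Hom.isLocallyConstant_finrank ρ).isClopen_fiber 1)
    rintro _ ⟨s₀, rfl⟩
    exact hrank s₀
  have hρiso : IsIso ρ := by
    rw [Scheme.Hom.isIso_iff_finrank_eq]
    funext y
    have : y ∈ {y : S | Scheme.Hom.finrank ρ y = 1} := hS ▸ Set.mem_univ y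
    exact this
  refine ⟨inv ρ ≫ k ≫ W.ι, ?_, ?_⟩
  · rw [Category.assoc, Category.assoc, ← hρ, IsIso.inv_hom_id]
  · have h1 : i ≫ inv ρ = ũ := by rw [IsIso.comp_inv_eq, hũρ]
    have h2 : ũ ≫ k = a₁ := by
      rw [← cancel_mono j, Category.assoc, hk, hũ, hw_def]
    rw [← Category.assoc, h1, ← Category.assoc, h2, ha₁, ha_def]

end Groth.Agent.Lib.Helper89.HensCoupleSec
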