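import Groth.Agent.Lib.Helper89.ApproxIdem
import Groth.Prelude.Def_Hens2

/-!
# Idempotents of `R{t}[1/t]` come from `R`

* `isAdicComplete_X`: `R⟦X⟧` is `X`-adically complete.
* `idem_away_X`: idempotents of `R⟦X⟧[1/X]` are constants.
* `pairHenselization_surj`: for a henselization `B` of `(A, I)`, `A → B/IB` is surjective.
* `existsUnique_idem_henselization`: idempotents of `R{t}[1/t]`.
-/

set_option linter.unusedSectionVars false
set_option linter.unusedVariables false

namespace Groth.Agent.Lib.Helper89.Approx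

open PowerSeries

universe u

section PS

variable {R : Type*} [CommRing R]

theorem isAdicComplete_X :
    IsAdicComplete (Ideal.span {(PowerSeries.X : R⟦X⟧)}) R⟦X⟧ := by
  have key : ∀ (n : ℕ) (f : R⟦X⟧),
      f ∈ ((Ideal.span {(PowerSeries.X : R⟦X⟧)}) ^ n • ⊤ : Submodule R⟦X⟧ R⟦X⟧) ↔
        ∀ m < n, PowerSeries.coeff m f = 0 := by
    intro n f
    rw [smul_eq_mul, Ideal.mul_top, Ideal.span_singleton_pow, Ideal.mem_span_singleton,
      PowerSeries.X_pow_dvd_iff]
  refine { haus' := ?_, prec' := ?_ }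
  · intro x hx
    ext m
    have h1 := hx (m + 1)
    rw [SModEq.sub_mem, sub_zero, key] at h1
    simpa using h1 m (Nat.lt_succ_self m)
  · intro f hf
    refine ⟨PowerSeries.mk fun n => PowerSeries.coeff n (f (n + 1)), fun n => ?_⟩
    rw [SModEq.sub_mem, key]
    intro m hm
    rw [map_sub, PowerSeries.coeff_mk, sub_eq_zero]
    have h1 := hf (show m + 1 ≤ n from hm)
    rw [SModEq.sub_mem, key] at h1
    have h2 := h1 m (Nat.lt_succ_self m)
    rw [map_sub, sub_eq_zero] at h2
    exact h2.symm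

lemma coeff_mul_mem {I J : Ideal R} {f g : R⟦X⟧} (hf : ∀ i, coeff i f ∈ I)
    (hg : ∀ i, coeff i g ∈ J) (i : ℕ) : coeff i (f * g) ∈ I * J := by
  rw [PowerSeries.coeff_mul]
  exact Ideal.sum_mem _ fun p _ => Ideal.mul_mem_mul (hf _) (hg _)

lemma coeff_pow_mem {J : Ideal R} {f : R⟦X⟧} (hf : ∀ i, coeff i f ∈ J) (n : ℕ) :
    ∀ i, coeff i (f ^ n) ∈ J ^ n := by
  induction n with
  | zero => intro i; simp
  | succ n ih =>
    intro i
    rw [pow_succ, pow_succ]
    exact coeff_mul_mem ih hf i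

lemma isNilpotent_coeff_of_sq {f : R⟦X⟧} {k : ℕ} (h : f * f = X ^ k * f) {i : ℕ} (hi : i ≠ k) :
    IsNilpotent (coeff i f) := by
  rw [nilpotent_iff_mem_prime]
  intro P hP
  have h1 : (PowerSeries.map (Ideal.Quotient.mk P) f) *
      (PowerSeries.map (Ideal.Quotient.mk P) f - X ^ k) = 0 := by
    have := congrArg (PowerSeries.map (Ideal.Quotient.mk P)) h
    rw [map_mul, map_mul, map_pow, PowerSeries.map_X] at this
    rw [mul_sub, this]; ring
  rcases mul_eq_zero.mp h1 with h2 | h2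
  · have := congrArg (coeff i) h2
    rwa [coeff_map, map_zero, Ideal.Quotient.eq_zero_iff_mem] at this
  · have := congrArg (coeff i) (sub_eq_zero.mp h2)
    rwa [coeff_map, coeff_X_pow, if_neg hi, Ideal.Quotient.eq_zero_iff_mem] at this

lemma eq_C_of_idem {g : R⟦X⟧} (h : g * g = g) : g = C (constantCoeff g) := by
  have hr : constantCoeff g * constantCoeff g = constantCoeff g := by rw [← map_mul, h]
  have h3 := idem_sub_cube h (show (C (constantCoeff g) : R⟦X⟧) * C (constantCoeff g) =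
    C (constantCoeff g) by rw [← map_mul, hr])
  have hunit : IsUnit (1 - (g - C (constantCoeff g)) * (g - C (constantCoeff g))) := by
    rw [PowerSeries.isUnit_iff_constantCoeff]
    simp
  exact sub_eq_zero.mp (hunit.mul_left_eq_zero.mp h3)

theorem exists_idem_of_sq {f : R⟦X⟧} {k : ℕ} (h : f * f = X ^ k * f) :
    ∃ r : R, r * r = r ∧ IsNilpotent (f - X ^ k * C r) := by
  classical
  obtain ⟨J, hJ⟩ : ∃ J : Ideal R,
      J = Ideal.span ((fun i => coeff i f) '' (Finset.range k : Set ℕ)) := ⟨_, rfl⟩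
  have hJnil : IsNilpotent J := by
    rw [Ideal.FG.isNilpotent_iff_le_nilradical]
    · rw [hJ, Ideal.span_le]
      rintro _ ⟨i, hi, rfl⟩
      have hik : i < k := by simpa using hi
      exact isNilpotent_coeff_of_sq h (ne_of_lt hik)
    · rw [hJ]
      exact ⟨(Finset.range k).image (fun i => coeff i f), by simp⟩
  obtain ⟨M, hM⟩ := hJnil
  obtain ⟨π, hπ⟩ : ∃ π : R⟦X⟧ →+* (R ⧸ J)⟦X⟧, π = PowerSeries.map (Ideal.Quotient.mk J) :=
    ⟨_, rfl⟩
  have hker : ∀ x ∈ RingHom.ker π, IsNilpotent x := by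
    intro x hx
    refine ⟨M, ?_⟩
    have hxJ : ∀ i, coeff i x ∈ J := fun i => by
      have := congrArg (coeff i) (RingHom.mem_ker.mp hx)
      rwa [hπ, coeff_map, map_zero, Ideal.Quotient.eq_zero_iff_mem] at this
    ext i
    have := coeff_pow_mem hxJ M i
    rw [hM] at this
    simpa using this
  obtain ⟨g, hg⟩ : ∃ g : R⟦X⟧, g = PowerSeries.mk fun i => coeff (i + k) f := ⟨_, rfl⟩
  have hfg : π f = X ^ k * π g := by
    ext i
    rw [hπ, coeff_map, coeff_X_pow_mul', coeff_map]
    split_ifs with hik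
    · rw [hg, coeff_mk, Nat.sub_add_cancel hik]
    · rw [Ideal.Quotient.eq_zero_iff_mem, hJ]
      exact Ideal.subset_span ⟨i, by simpa using (not_le.mp hik), rfl⟩
  have hgidem : π g * π g = π g := by
    have := congrArg π h
    rw [map_mul, map_mul, map_pow, hfg] at this
    have hX : π X = X := by rw [hπ, PowerSeries.map_X]
    rw [hX] at this
    have h2 : X ^ (k + k) * (π g * π g) = X ^ (k + k) * π g := by
      rw [pow_add]; linear_combination this
    exact X_pow_mul_cancel h2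
  obtain ⟨g', hg'idem, hg'⟩ :=
    exists_isIdempotentElem_eq_of_ker_isNilpotent π hker (π g) ⟨g, rfl⟩ hgidem
  have hg'C := eq_C_of_idem hg'idem.eq
  refine ⟨constantCoeff g', by rw [← map_mul, hg'idem.eq], hker _ ?_⟩
  have hX : π X = X := by rw [hπ, PowerSeries.map_X]
  rw [RingHom.mem_ker, map_sub, map_mul, map_pow, hX, ← hg'C, hg', hfg, sub_self]

theorem idem_away_X (Λ' : Type*) [CommRing Λ'] [Algebra R⟦X⟧ Λ']
    [IsLocalization.Away (X : R⟦X⟧) Λ'] (e : Λ') (he : e * e = e) :
    ∃ r : R, r * r = r ∧ e = algebraMap R⟦X⟧ Λ' (C r) := by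
  obtain ⟨n, f, hf⟩ := IsLocalization.Away.surj (X : R⟦X⟧) e
  have hXu : IsUnit (algebraMap R⟦X⟧ Λ' X) := IsLocalization.Away.algebraMap_isUnit X
  have h1 : algebraMap R⟦X⟧ Λ' (f * f) = algebraMap R⟦X⟧ Λ' (X ^ n * f) := by
    rw [map_mul, map_mul, map_pow, ← hf]
    linear_combination (algebraMap R⟦X⟧ Λ' X ^ n * algebraMap R⟦X⟧ Λ' X ^ n) * he
  obtain ⟨m, hm⟩ := IsLocalization.Away.exists_of_eq (X : R⟦X⟧) h1
  have h2 : f * f = X ^ n * f := X_pow_mul_cancel hm
  obtain ⟨r, hr, hnil⟩ := exists_idem_of_sq h2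
  refine ⟨r, hr, ?_⟩
  have hCr : algebraMap R⟦X⟧ Λ' (C r) * algebraMap R⟦X⟧ Λ' (C r) = algebraMap R⟦X⟧ Λ' (C r) := by
    rw [← map_mul, ← map_mul, hr]
  refine eq_of_isNilpotent_sub_of_isIdempotentElem he hCr ?_
  obtain ⟨M, hM⟩ := hnil
  refine ⟨M, ?_⟩
  have h3 : (e - algebraMap R⟦X⟧ Λ' (C r)) * algebraMap R⟦X⟧ Λ' X ^ n =
      algebraMap R⟦X⟧ Λ' (f - X ^ n * C r) := by
    rw [map_sub, map_mul, map_pow, ← hf]; ring
  have h4 : (e - algebraMap R⟦X⟧ Λ' (C r)) ^ M * (algebraMap R⟦X⟧ Λ' X ^ n) ^ M = 0 := by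
    rw [← mul_pow, h3, ← map_pow, hM, map_zero]
  exact ((hXu.pow n).pow M).mul_left_eq_zero.mp h4

end PS


section Hens

open Polynomial

variable {A B : Type u} [CommRing A] [CommRing B] [Algebra A B] {I : Ideal A}

/-- The subring of `B` of elements congruent to an element of `A` modulo `IB`. -/
noncomputable def congSubring (A B : Type u) [CommRing A] [CommRing B] [Algebra A B]
    (I : Ideal A) : Subring B :=
  ((Ideal.Quotient.mk (I.map (algebraMap A B))).comp (algebraMap A B)).range.comap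
    (Ideal.Quotient.mk (I.map (algebraMap A B)))

lemma mem_congSubring {b : B} :
    b ∈ congSubring A B I ↔ ∃ a : A, b - algebraMap A B a ∈ I.map (algebraMap A B) := by
  unfold congSubring
  rw [Subring.mem_comap, RingHom.mem_range]
  constructor
  · rintro ⟨a, ha⟩
    refine ⟨a, ?_⟩
    rw [RingHom.comp_apply, Ideal.Quotient.eq] at ha
    have := Ideal.neg_mem_iff _ |>.mpr ha
    rwa [neg_sub] at this
  · rintro ⟨a, ha⟩
    refine ⟨a, ?_⟩
    rw [RingHom.comp_apply, Ideal.Quotient.eq]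
    have := Ideal.neg_mem_iff _ |>.mpr ha
    rwa [neg_sub] at this

lemma mem_congSubring_of_sub_mem {b b' : B} (hb' : b' ∈ congSubring A B I)
    (h : b - b' ∈ I.map (algebraMap A B)) : b ∈ congSubring A B I := by
  obtain ⟨a, ha⟩ := mem_congSubring.mp hb'
  refine mem_congSubring.mpr ⟨a, ?_⟩
  have : b - algebraMap A B a = (b - b') + (b' - algebraMap A B a) := by ring
  rw [this]
  exact Ideal.add_mem _ h ha

theorem henselianRing_congSubring [hH : HenselianRing B (I.map (algebraMap A B))] :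
    HenselianRing (congSubring A B I)
      ((I.map (algebraMap A B)).comap (congSubring A B I).subtype) := by
  obtain ⟨IB, hIB⟩ : ∃ IB, IB = I.map (algebraMap A B) := ⟨_, rfl⟩
  obtain ⟨B', hB'⟩ : ∃ B', B' = congSubring A B I := ⟨_, rfl⟩
  have hmemB' : ∀ {b b' : B}, b' ∈ B' → b - b' ∈ IB → b ∈ B' := by
    intro b b' h1 h2
    rw [hB'] at h1 ⊢
    rw [hIB] at h2
    exact mem_congSubring_of_sub_mem h1 h2
  rw [← hIB] at hH ⊢
  rw [← hB']
  refine { jac := ?_, is_henselian := ?_ }
  · intro x hx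
    rw [Ideal.mem_jacobson_bot]
    intro y
    have hxI : (x : B) ∈ IB := hx
    have hxJ : (x : B) ∈ (⊥ : Ideal B).jacobson := HenselianRing.jac hxI
    obtain ⟨u, hu⟩ := (Ideal.mem_jacobson_bot.mp hxJ) (y : B)
    have hinv : ((x : B) * (y : B) + 1) * ↑u⁻¹ = 1 := by rw [← hu, Units.mul_inv]
    have huB' : (↑u⁻¹ : B) ∈ B' := by
      refine hmemB' B'.one_mem ?_
      have : (↑u⁻¹ : B) - 1 = (x : B) * (-((y : B) * ↑u⁻¹)) := by linear_combination hinv
      rw [this]
      exact Ideal.mul_mem_right _ _ hxI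
    refine IsUnit.of_mul_eq_one ⟨↑u⁻¹, huB'⟩ ?_
    ext
    simpa using hinv
  · intro f hf a₀ h1 h2
    have hfm : (f.map B'.subtype).Monic := hf.map _
    have hcoe : (a₀ : B) = B'.subtype a₀ := rfl
    have h1' : (f.map B'.subtype).eval (a₀ : B) ∈ IB := by
      rw [hcoe, Polynomial.eval_map_apply]
      exact h1
    have h2' : IsUnit (Ideal.Quotient.mk IB ((f.map B'.subtype).derivative.eval (a₀ : B))) := by
      rw [Polynomial.derivative_map, hcoe, Polynomial.eval_map_apply]
      have := h2.map (Ideal.quotientMap IB B'.subtype (le_refl _))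
      rwa [Ideal.quotientMap_mk] at this
    obtain ⟨a, ha, haI⟩ := HenselianRing.is_henselian (f.map B'.subtype) hfm (a₀ : B) h1' h2'
    have haB' : a ∈ B' := hmemB' a₀.2 haI
    refine ⟨⟨a, haB'⟩, ?_, haI⟩
    rw [Polynomial.IsRoot.def] at ha ⊢
    apply Subtype.val_injective
    have := Polynomial.eval_map_apply (p := f) B'.subtype (⟨a, haB'⟩ : B')
    rw [Subring.subtype_apply] at this
    rw [← Subring.subtype_apply, ← this]
    exact ha

theorem pairHenselization_surj (hB : Hens2.IsPairHenselization A I B) (b : B) :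
    ∃ a : A, b - algebraMap A B a ∈ I.map (algebraMap A B) := by
  obtain ⟨hH, huniv⟩ := hB
  have hH' := henselianRing_congSubring (A := A) (B := B) (I := I)
  have hAmem : ∀ a : A, algebraMap A B a ∈ congSubring A B I := fun a =>
    mem_congSubring.mpr ⟨a, by rw [sub_self]; exact Ideal.zero_mem _⟩
  obtain ⟨f, hf⟩ : ∃ f : A →+* congSubring A B I, ∀ a, (f a : B) = algebraMap A B a :=
    ⟨(algebraMap A B).codRestrict (congSubring A B I) hAmem, fun a => rfl⟩
  have hle : I.map f ≤ (I.map (algebraMap A B)).comap (congSubring A B I).subtype := by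
    rw [Ideal.map_le_iff_le_comap]
    intro a ha
    rw [Ideal.mem_comap, Ideal.mem_comap, Subring.subtype_apply, hf]
    exact Ideal.mem_map_of_mem _ ha
  obtain ⟨g, hg, -⟩ := huniv (congSubring A B I) _ f hH' hle
  obtain ⟨g₀, -, hg₀⟩ := huniv B (I.map (algebraMap A B)) (algebraMap A B) hH le_rfl
  have h1 : (congSubring A B I).subtype.comp g = g₀ := by
    apply hg₀
    rw [RingHom.comp_assoc, hg]
    ext a
    rw [RingHom.comp_apply, Subring.subtype_apply, hf]
  have h2 : RingHom.id B = g₀ := by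
    apply hg₀
    rw [RingHom.id_comp]
  have h3 : b = (g b : B) := by
    have := congrArg (fun φ : B →+* B => φ b) (h2.trans h1.symm)
    simpa using this
  rw [h3]
  exact mem_congSubring.mp (g b).2

theorem pairHenselization_surj_pow {t : A}
    (hB : Hens2.IsPairHenselization A (Ideal.span {t}) B) (N : ℕ) (b : B) :
    ∃ (a : A) (b' : B), b = algebraMap A B a + algebraMap A B t ^ N * b' := by
  induction N with
  | zero => exact ⟨0, b, by simp⟩
  | succ N ih =>
    obtain ⟨a, b', hb⟩ := ih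
    obtain ⟨a₁, ha₁⟩ := pairHenselization_surj hB b'
    rw [Ideal.map_span, Set.image_singleton, Ideal.mem_span_singleton'] at ha₁
    obtain ⟨b'', hb''⟩ := ha₁
    refine ⟨a + t ^ N * a₁, b'', ?_⟩
    rw [hb, map_add, map_mul, map_pow, pow_succ]
    linear_combination (algebraMap A B t ^ N) * hb''.symm

end Hens

end Groth.Agent.Lib.Helper89.Approx
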