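import Groth.Agent.Lib.Helper89.HensIdem

/-!
# Idempotents of `R{t}[1/t]` come from `R` (assembly)
-/

set_option linter.unusedSectionVars false
set_option linter.unusedVariables false
set_option linter.style.haveILetI false

namespace Groth.Agent.Lib.Helper89.Approx

open Polynomial

universe u

section Main

variable (R : Type u) [CommRing R] (B : Type u) [CommRing B] [Algebra R[X] B]

theorem existsUnique_idem_henselization
    (hB : Hens2.IsPairHenselization R[X] (Ideal.span {(X : R[X])}) B)
    (e : Localization.Away (algebraMap R[X] B X)) (he : e * e = e) :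
    ∃! r : R, r * r = r ∧
      algebraMap B (Localization.Away (algebraMap R[X] B X))
        (algebraMap R[X] B (Polynomial.C r)) = e := by
  -- Henselian
  haveI hH : HenselianRing B (Ideal.span {algebraMap R[X] B X}) := by
    have := hB.1
    rwa [Ideal.map_span, Set.image_singleton] at this
  -- the map to power series
  haveI : IsAdicComplete (Ideal.span {(PowerSeries.X : PowerSeries R)}) (PowerSeries R) :=
    isAdicComplete_X
  have hHP : HenselianRing (PowerSeries R) (Ideal.span {(PowerSeries.X : PowerSeries R)}) :=
    inferInstance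
  obtain ⟨φ, hφ, -⟩ := hB.2 (PowerSeries R) (Ideal.span {PowerSeries.X})
    (Polynomial.coeToPowerSeries.ringHom) hHP (by
      rw [Ideal.map_span, Set.image_singleton]; simp)
  have hφa : ∀ p : R[X], φ (algebraMap R[X] B p) = (p : PowerSeries R) := fun p => by
    have := congrArg (fun ψ : R[X] →+* PowerSeries R => ψ p) hφ
    simpa using this
  have hφX : φ (algebraMap R[X] B X) = PowerSeries.X := by rw [hφa, Polynomial.coe_X]
  letI : Algebra B (PowerSeries R) := φ.toAlgebra
  have halg : ∀ b, algebraMap B (PowerSeries R) b = φ b := fun b => rfl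
  obtain ⟨Λ, hΛ⟩ : ∃ Λ : Type u, Λ = Localization.Away (algebraMap R[X] B X) := ⟨_, rfl⟩
  letI : Algebra (Localization.Away (algebraMap R[X] B X))
      (Localization.Away (algebraMap B (PowerSeries R) (algebraMap R[X] B X))) :=
    (Localization.awayMap (algebraMap B (PowerSeries R)) (algebraMap R[X] B X)).toAlgebra
  have hjalg : ∀ a : B, algebraMap (Localization.Away (algebraMap R[X] B X))
      (Localization.Away (algebraMap B (PowerSeries R) (algebraMap R[X] B X)))
      (algebraMap B (Localization.Away (algebraMap R[X] B X)) a) =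
      algebraMap (PowerSeries R)
        (Localization.Away (algebraMap B (PowerSeries R) (algebraMap R[X] B X)))
        (algebraMap B (PowerSeries R) a) := by
    intro a
    change Localization.awayMap _ _ _ = _
    exact IsLocalization.map_eq _ a
  have H1 : ∀ x : PowerSeries R, ∃ (a₀ : B) (y : PowerSeries R),
      x = algebraMap B (PowerSeries R) a₀ +
        algebraMap B (PowerSeries R) (algebraMap R[X] B X) * y := by
    intro x
    refine ⟨algebraMap R[X] B (Polynomial.C (PowerSeries.constantCoeff x)),
      PowerSeries.mk fun p => PowerSeries.coeff (p + 1) x, ?_⟩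
    rw [halg, halg, hφa, hφX, Polynomial.coe_C]
    conv_lhs => rw [PowerSeries.eq_X_mul_shift_add_const x]
    rw [add_comm]
  have H2 : ∀ (a : B) (N : ℕ) (z : PowerSeries R),
      algebraMap B (PowerSeries R) a =
        algebraMap B (PowerSeries R) (algebraMap R[X] B X) ^ N * z →
      ∃ c : B, a = algebraMap R[X] B X ^ N * c := by
    intro a N z h
    obtain ⟨p, b', hb⟩ := pairHenselization_surj_pow hB N a
    rw [halg, halg, hφX, hb, map_add, map_mul, map_pow, hφX, hφa] at h
    have h4 : (p : PowerSeries R) = PowerSeries.X ^ N * (z - φ b') := by linear_combination h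
    have hdvd : (X : R[X]) ^ N ∣ p := by
      rw [Polynomial.X_pow_dvd_iff]
      intro d hd
      have := congrArg (PowerSeries.coeff d) h4
      rw [Polynomial.coeff_coe, PowerSeries.coeff_X_pow_mul', if_neg (by omega)] at this
      exact this
    obtain ⟨p', hp'⟩ := hdvd
    refine ⟨algebraMap R[X] B p' + b', ?_⟩
    rw [hb, hp', map_mul, map_pow]; ring
  have H3 : algebraMap B (PowerSeries R) (algebraMap R[X] B X) ∈
      (⊥ : Ideal (PowerSeries R)).jacobson := by
    rw [halg, hφX, Ideal.mem_jacobson_bot]
    intro y
    rw [PowerSeries.isUnit_iff_constantCoeff]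
    simp
  -- image of e
  obtain ⟨e', he'⟩ : ∃ e' : Localization.Away (algebraMap B (PowerSeries R) (algebraMap R[X] B X)),
      e' = algebraMap (Localization.Away (algebraMap R[X] B X)) _ e := ⟨_, rfl⟩
  have he'idem : e' * e' = e' := by rw [he', ← map_mul, he]
  haveI : IsLocalization.Away (PowerSeries.X : PowerSeries R)
      (Localization.Away (algebraMap B (PowerSeries R) (algebraMap R[X] B X))) := by
    rw [← hφX]
    exact inferInstanceAs (IsLocalization.Away (algebraMap B (PowerSeries R)
      (algebraMap R[X] B X)) (Localization.Away (algebraMap B (PowerSeries R) (algebraMap R[X] B X))))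
  obtain ⟨r, hr, hre⟩ := idem_away_X (R := R)
    (Localization.Away (algebraMap B (PowerSeries R) (algebraMap R[X] B X))) e' he'idem
  obtain ⟨e₀, -, huniq⟩ := existsUnique_idempotent (A := B)
    (Λ := Localization.Away (algebraMap R[X] B X))
    (Λ' := Localization.Away (algebraMap B (PowerSeries R) (algebraMap R[X] B X)))
    (algebraMap R[X] B X) hjalg H1 H2 H3 e' he'idem
  have hCr : ∀ r : R, algebraMap B (PowerSeries R) (algebraMap R[X] B (Polynomial.C r)) =
      PowerSeries.C r := fun r => by
    rw [halg, hφa, Polynomial.coe_C]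
  have h1 : e = e₀ := huniq e ⟨he, he'.symm⟩
  have h2 : algebraMap B (Localization.Away (algebraMap R[X] B X))
      (algebraMap R[X] B (Polynomial.C r)) = e₀ := by
    apply huniq
    refine ⟨by rw [← map_mul, ← map_mul, ← map_mul, hr], ?_⟩
    rw [hjalg, hCr, hre]
  refine ⟨r, ⟨hr, h2.trans h1.symm⟩, ?_⟩
  rintro r' ⟨hr', hr'e⟩
  have h3 : algebraMap (PowerSeries R)
      (Localization.Away (algebraMap B (PowerSeries R) (algebraMap R[X] B X))) (PowerSeries.C r') =
      algebraMap (PowerSeries R) _ (PowerSeries.C r) := by
    rw [← hre, he', ← hr'e, hjalg, hCr]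
  obtain ⟨m, hm⟩ := IsLocalization.Away.exists_of_eq (PowerSeries.X : PowerSeries R) h3
  have := PowerSeries.X_pow_mul_cancel hm
  exact PowerSeries.C_injective this

end Main

end Groth.Agent.Lib.Helper89.Approx
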