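import Groth.Agent.Lib.Helper89.ApproxProj
import Groth.Agent.Lib.Helper89.HensIdem

/-!
# Finitely generated projective modules over `R{t}[1/t]` and `R((t))`
-/

set_option linter.unusedSectionVars false
set_option linter.unusedVariables false
set_option linter.style.haveILetI false

namespace Groth.Agent.Lib.Helper89.Approx

open Polynomial TensorProduct

universe u

section Main

variable (R : Type u) [CommRing R] (B : Type u) [CommRing B] [Algebra R[X] B]

theorem projective_henselization_laurent
    (hB : Hens2.IsPairHenselization R[X] (Ideal.span {(X : R[X])}) B)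
    (ψ : B →ₐ[R[X]] PowerSeries R)
    (L' : Type u) [CommRing L'] [Algebra (Localization.Away (algebraMap R[X] B X)) L']
    (e : L' ≃+* LaurentSeries R)
    (he : ∀ b : B, e (algebraMap (Localization.Away (algebraMap R[X] B X)) L'
        (algebraMap B (Localization.Away (algebraMap R[X] B X)) b)) =
      HahnSeries.ofPowerSeries ℤ R (ψ b)) :
    (∀ (M N : Type u) [AddCommGroup M] [Module (Localization.Away (algebraMap R[X] B X)) M]
        [Module.Finite (Localization.Away (algebraMap R[X] B X)) M]
        [Module.Projective (Localization.Away (algebraMap R[X] B X)) M]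
        [AddCommGroup N] [Module (Localization.Away (algebraMap R[X] B X)) N]
        [Module.Finite (Localization.Away (algebraMap R[X] B X)) N]
        [Module.Projective (Localization.Away (algebraMap R[X] B X)) N],
        Nonempty (L' ⊗[Localization.Away (algebraMap R[X] B X)] M ≃ₗ[L']
          L' ⊗[Localization.Away (algebraMap R[X] B X)] N) →
        Nonempty (M ≃ₗ[Localization.Away (algebraMap R[X] B X)] N)) ∧
    (∀ (M' : Type u) [AddCommGroup M'] [Module L' M'] [Module.Finite L' M']
        [Module.Projective L' M'],
        ∃ (M : Type u) (_ : AddCommGroup M)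
          (_ : Module (Localization.Away (algebraMap R[X] B X)) M),
          Module.Finite (Localization.Away (algebraMap R[X] B X)) M ∧
          Module.Projective (Localization.Away (algebraMap R[X] B X)) M ∧
          Nonempty (L' ⊗[Localization.Away (algebraMap R[X] B X)] M ≃ₗ[L'] M')) := by
  -- Henselian
  haveI hH : HenselianRing B (Ideal.span {algebraMap R[X] B X}) := by
    have := hB.1
    rwa [Ideal.map_span, Set.image_singleton] at this
  obtain ⟨φ, hφ⟩ : ∃ φ : B →+* PowerSeries R, φ = ψ.toRingHom := ⟨_, rfl⟩
  have hφa : ∀ p : R[X], φ (algebraMap R[X] B p) = (p : PowerSeries R) := fun p => by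
    rw [hφ]
    show ψ (algebraMap R[X] B p) = _
    rw [ψ.commutes, PowerSeries.algebraMap_apply', Algebra.algebraMap_self, PowerSeries.map_id]
    rfl
  have hφX : φ (algebraMap R[X] B X) = PowerSeries.X := by rw [hφa, Polynomial.coe_X]
  have heφ : ∀ b : B, e (algebraMap (Localization.Away (algebraMap R[X] B X)) L'
        (algebraMap B (Localization.Away (algebraMap R[X] B X)) b)) =
      HahnSeries.ofPowerSeries ℤ R (φ b) := fun b => by rw [he, hφ]; rfl
  letI : Algebra B (PowerSeries R) := φ.toAlgebra
  have halg : ∀ b, algebraMap B (PowerSeries R) b = φ b := fun b => rfl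
  letI algL' : Algebra (PowerSeries R) L' :=
    ((e.symm : LaurentSeries R →+* L').comp (HahnSeries.ofPowerSeries ℤ R)).toAlgebra
  have halgL' : ∀ f : PowerSeries R, algebraMap (PowerSeries R) L' f =
      e.symm (HahnSeries.ofPowerSeries ℤ R f) := fun f => rfl
  haveI : IsLocalization.Away (PowerSeries.X : PowerSeries R) L' := by
    let e' : LaurentSeries R ≃ₐ[PowerSeries R] L' :=
      AlgEquiv.ofRingEquiv (f := e.symm) (fun x => rfl)
    exact IsLocalization.isLocalization_of_algEquiv (Submonoid.powers PowerSeries.X) e'
  haveI : IsLocalization.Away (algebraMap B (PowerSeries R) (algebraMap R[X] B X)) L' := by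
    rw [halg, hφX]
    infer_instance
  have hjalg : ∀ a : B, algebraMap (Localization.Away (algebraMap R[X] B X)) L'
      (algebraMap B (Localization.Away (algebraMap R[X] B X)) a) =
      algebraMap (PowerSeries R) L' (algebraMap B (PowerSeries R) a) := by
    intro a
    rw [halgL', halg, ← heφ, RingEquiv.symm_apply_apply]
  have H1 : ∀ x : PowerSeries R, ∃ (a₀ : B) (y : PowerSeries R),
      x = algebraMap B (PowerSeries R) a₀ +
        algebraMap B (PowerSeries R) (algebraMap R[X] B X) * y := by
    intro x
    refine ⟨algebraMap R[X] B (Polynomial.C (PowerSeries.constantCoeff x)),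
      PowerSeries.mk fun p => PowerSeries.coeff (p + 1) x, ?_⟩
    rw [halg, halg, hφa, hφX, Polynomial.coe_C]
    conv_lhs => rw [PowerSeries.eq_X_mul_shift_add_const x]
    rw [add_comm]
  have H2 : ∀ (a : B) (N : ℕ) (z : PowerSeries R),
      algebraMap B (PowerSeries R) a =
        algebraMap B (PowerSeries R) (algebraMap R[X] B X) ^ N * z →
      ∃ c : B, a = algebraMap R[X] B X ^ N * c := by
    intro a N z h
    obtain ⟨p, b', hb⟩ := pairHenselization_surj_pow hB N a
    rw [halg, halg, hφX, hb, map_add, map_mul, map_pow, hφX, hφa] at h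
    have h4 : (p : PowerSeries R) = PowerSeries.X ^ N * (z - φ b') := by linear_combination h
    have hdvd : (X : R[X]) ^ N ∣ p := by
      rw [Polynomial.X_pow_dvd_iff]
      intro d hd
      have := congrArg (PowerSeries.coeff d) h4
      rw [Polynomial.coeff_coe, PowerSeries.coeff_X_pow_mul', if_neg (by omega)] at this
      exact this
    obtain ⟨p', hp'⟩ := hdvd
    refine ⟨algebraMap R[X] B p' + b', ?_⟩
    rw [hb, hp', map_mul, map_pow]; ring
  have H3 : algebraMap B (PowerSeries R) (algebraMap R[X] B X) ∈
      (⊥ : Ideal (PowerSeries R)).jacobson := by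
    rw [halg, hφX, Ideal.mem_jacobson_bot]
    intro y
    rw [PowerSeries.isUnit_iff_constantCoeff]
    simp
  refine ⟨?_, ?_⟩
  · intro M N _ _ _ _ _ _ _ _ ⟨f⟩
    have htI : algebraMap R[X] B X ∈ Ideal.span {algebraMap R[X] B X} :=
      Ideal.mem_span_singleton_self _
    have hjac : Ideal.span {algebraMap R[X] B X} ≤ (⊥ : Ideal B).jacobson := HenselianRing.jac
    obtain ⟨hpair, -⟩ := approxPair_of_completionLike (algebraMap R[X] B X) (hjac htI)
      (PowerSeries R) (Localization.Away (algebraMap R[X] B X)) L' hjalg H1 H2 H3
    exact hpair.nonempty_equiv M N f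
  · intro M' _ _ _ _
    exact exists_projective_baseChange (Ac := PowerSeries R)
      (Λ := Localization.Away (algebraMap R[X] B X)) (Λ' := L') (algebraMap R[X] B X)
      hjalg H1 H2 H3 M'

end Main

end Groth.Agent.Lib.Helper89.Approx
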