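import Groth.Agent.Lib.Helper3.QFSplit

/-!
# Finite-type algebras over a Henselian local ring with finite closed fibre
-/

set_option linter.unusedSectionVars false
set_option linter.unusedVariables false
set_option linter.style.haveILetI false

namespace Groth.Agent.Lib.Helper89.HensWeier

open IsLocalRing

universe u

section QF

variable {R S : Type*} [CommRing R] [CommRing S] [Algebra R S]

/-- If the spectrum of `S ⧸ I S` is discrete, then `S` is quasi-finite over `R` at every prime
containing `I S`. -/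
lemma quasiFiniteAt_of_discrete [Algebra.FiniteType R S] (I : Ideal R)
    [hd : DiscreteTopology (PrimeSpectrum (S ⧸ I.map (algebraMap R S)))]
    (q : Ideal S) [hq' : q.IsPrime] (hq : I.map (algebraMap R S) ≤ q) :
    Algebra.QuasiFiniteAt R q := by
  obtain ⟨J, hJ⟩ : ∃ J, J = I.map (algebraMap R S) := ⟨_, rfl⟩
  rw [← hJ] at hd hq
  let Q : PrimeSpectrum S := ⟨q, hq'⟩
  have hemb := PrimeSpectrum.isClosedEmbedding_comap_of_surjective (S ⧸ J)
    (Ideal.Quotient.mk J) Ideal.Quotient.mk_surjective
  have hrange : Set.range (PrimeSpectrum.comap (Ideal.Quotient.mk J)) =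
      PrimeSpectrum.zeroLocus (J : Set S) := by
    rw [range_comap_of_surjective _ _ Ideal.Quotient.mk_surjective,
      Ideal.mk_ker]
  have hQ : Q ∈ PrimeSpectrum.zeroLocus (J : Set S) := hq
  rw [← hrange] at hQ
  obtain ⟨Q₀, hQ₀⟩ := hQ
  -- an open set cutting out `Q` in the zero locus
  have hopen : IsOpen ({Q₀} : Set (PrimeSpectrum (S ⧸ J))) := isOpen_discrete _
  obtain ⟨U, hU, hUQ⟩ := hemb.isInducing.isOpen_iff.mp hopen
  apply Algebra.QuasiFiniteAt.of_isOpen_singleton_fiber Q
  have : ({⟨Q, rfl⟩} : Set (PrimeSpectrum.comap (algebraMap R S) ⁻¹'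
      {Q.comap (algebraMap R S)})) = Subtype.val ⁻¹' U := by
    ext ⟨Q', hQ'⟩
    rw [Set.mem_singleton_iff, Subtype.ext_iff, Set.mem_preimage]
    change Q' = Q ↔ Q' ∈ U
    constructor
    · rintro rfl
      have : Q₀ ∈ PrimeSpectrum.comap (Ideal.Quotient.mk J) ⁻¹' U := by rw [hUQ]; rfl
      rw [Set.mem_preimage, hQ₀] at this
      exact this
    · intro hQU
      have hQ'J : Q' ∈ PrimeSpectrum.zeroLocus (J : Set S) := by
        intro x hx
        have h1 : Q'.comap (algebraMap R S) = Q.comap (algebraMap R S) := hQ'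
        have h2 : ∀ a ∈ I, algebraMap R S a ∈ Q'.asIdeal := by
          intro a ha
          have : a ∈ (Q.comap (algebraMap R S)).asIdeal :=
            hq (hJ ▸ Ideal.mem_map_of_mem _ ha)
          rw [← h1] at this
          exact this
        have h3 : J ≤ Q'.asIdeal := by
          rw [hJ, Ideal.map_le_iff_le_comap]
          exact h2
        exact h3 hx
      rw [← hrange] at hQ'J
      obtain ⟨Q₁, hQ₁⟩ := hQ'J
      have : Q₁ ∈ PrimeSpectrum.comap (Ideal.Quotient.mk J) ⁻¹' U := by
        rw [Set.mem_preimage, hQ₁]; exact hQU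
      rw [hUQ] at this
      rw [← hQ₁, ← hQ₀, this]
  rw [this]
  exact hU.preimage continuous_subtype_val

end QF

section Split

/-- A finite-type algebra over a Henselian local ring with discrete closed fibre is
(finite) × (empty closed fibre), the idempotent of the second factor lying in `𝔪 S`. -/
theorem exists_idempotent_mem_map_finite (R : Type u) [CommRing R] [HenselianLocalRing R]
    (S : Type u) [CommRing S] [Algebra R S] [Algebra.FiniteType R S]
    [hd : DiscreteTopology (PrimeSpectrum (S ⧸ (maximalIdeal R).map (algebraMap R S)))] :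
    ∃ e : S, IsIdempotentElem e ∧ e ∈ (maximalIdeal R).map (algebraMap R S) ∧
      Module.Finite R (S ⧸ Ideal.span ({e} : Set S)) := by
  obtain ⟨e₁, he₁, hfin, hq⟩ := Groth.Agent.Lib.Helper3.exists_idempotent_split_of_finiteType R S
  refine ⟨1 - e₁, he₁.one_sub, ?_, hfin⟩
  obtain ⟨D, hD⟩ : ∃ D : Ideal S, D = Ideal.span ({e₁} : Set S) := ⟨_, rfl⟩
  rw [← hD] at hq
  obtain ⟨mD, hmD⟩ : ∃ mD, mD = (maximalIdeal R).map (algebraMap R (S ⧸ D)) := ⟨_, rfl⟩
  have htop : mD = ⊤ := by
    by_contra hne
    obtain ⟨M, hM, hle⟩ := Ideal.exists_le_maximal _ hne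
    have hMp : M.IsPrime := hM.isPrime
    have hover : M.LiesOver (maximalIdeal R) := by
      constructor
      have h1 : maximalIdeal R ≤ M.under R := by
        intro a ha
        exact hle (hmD ▸ Ideal.mem_map_of_mem _ ha)
      have hne' : M.under R ≠ ⊤ := (Ideal.comap_isPrime _ _).ne_top
      exact ((maximalIdeal.isMaximal R).eq_of_le hne' h1)
    -- discreteness of the closed fibre of the quotient
    have hle' : (maximalIdeal R).map (algebraMap R S) ≤
        ((maximalIdeal R).map (algebraMap R (S ⧸ D))).comap (Ideal.Quotient.mk D) := by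
      rw [← Ideal.map_le_iff_le_comap, Ideal.map_map]
      exact le_of_eq rfl
    have hsurj : Function.Surjective
        (Ideal.quotientMap ((maximalIdeal R).map (algebraMap R (S ⧸ D))) (Ideal.Quotient.mk D)
          hle') :=
      Ideal.quotientMap_surjective Ideal.Quotient.mk_surjective
    have hemb := PrimeSpectrum.isClosedEmbedding_comap_of_surjective
      ((S ⧸ D) ⧸ (maximalIdeal R).map (algebraMap R (S ⧸ D))) _ hsurj
    haveI : DiscreteTopology
        (PrimeSpectrum ((S ⧸ D) ⧸ (maximalIdeal R).map (algebraMap R (S ⧸ D)))) :=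
      hemb.isEmbedding.discreteTopology
    haveI : Algebra.FiniteType R (S ⧸ D) := inferInstance
    have hqf : Algebra.QuasiFiniteAt R M :=
      quasiFiniteAt_of_discrete (maximalIdeal R) M (hmD ▸ hle)
    exact hq M hover hqf
  -- `1 ∈ 𝔪 (S/D)`
  have h1 : (1 : S ⧸ D) ∈ mD := by rw [htop]; trivial
  have h2 : mD = ((maximalIdeal R).map (algebraMap R S)).map (Ideal.Quotient.mk D) := by
    rw [hmD, Ideal.map_map]; rfl
  rw [h2] at h1
  obtain ⟨μ, hμ, hμ1⟩ := (Ideal.mem_map_iff_of_surjective _ Ideal.Quotient.mk_surjective).mp h1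
  have h3 : μ - 1 ∈ D := by
    rw [← Ideal.Quotient.eq, hμ1, map_one]
  rw [hD] at h3
  obtain ⟨c, hc⟩ := Ideal.mem_span_singleton'.mp h3
  have h4 : (1 - e₁) = (1 - e₁) * μ := by
    have he : e₁ * e₁ = e₁ := he₁
    have : (1 - e₁) * (μ - 1) = 0 := by
      rw [← hc]
      linear_combination (-c) * he
    linear_combination (-1 : S) * this
  rw [h4]
  exact Ideal.mul_mem_left _ _ hμ

end Split

end Groth.Agent.Lib.Helper89.HensWeier
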