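import Groth.Agent.Lib.Helper89.HensWeier1
import Groth.Agent.Lib.Helper9.Hens.PairQuotient
import Groth.Agent.Lib.Helper9.Hens.PairUniversal

/-!
# The core finiteness lemma for the henselization `R{t}` of `R[t]` along `(t)`

For a Henselian local ring `R`, `B` a henselization of `(R[X], (X))`, `T` the image of `X`,
an ideal `𝔞` of `B` with `T ^ n ∈ 𝔞 + 𝔪 B`: every element of `B` is congruent modulo `𝔞` to a
polynomial of degree `< n`.
-/

set_option linter.unusedSectionVars false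
set_option linter.unusedVariables false
set_option linter.style.haveILetI false

namespace Groth.Agent.Lib.Helper89.HensWeier

open IsLocalRing Polynomial Groth.Agent.Lib.Helper9.Hens

universe u

section Basic

variable {R : Type u} [CommRing R] {B : Type u} [CommRing B] [Algebra R B] [Algebra R[X] B]
  [IsScalarTower R R[X] B] (hB : Hens2.IsPairHenselization R[X] (Ideal.span {(X : R[X])}) B)

include hB

/-- The image `T` of `X` lies in the Jacobson radical. -/
lemma T_mem_jacobson : algebraMap R[X] B X ∈ Ideal.jacobson (⊥ : Ideal B) :=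
  hB.1.jac (Ideal.mem_map_of_mem _ (Ideal.subset_span rfl))

lemma algebraMap_C (r : R) : algebraMap R[X] B (C r) = algebraMap R B r := by
  rw [IsScalarTower.algebraMap_apply R R[X] B r, Polynomial.algebraMap_apply,
    Algebra.algebraMap_self, RingHom.id_apply]

/-- Every `b = r + T b'`. -/
lemma exists_eq_add_T_mul (b : B) :
    ∃ (r : R) (b' : B), b = algebraMap R B r + algebraMap R[X] B X * b' := by
  obtain ⟨a, ha⟩ := exists_sub_mem_map_of_isPairHenselization hB b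
  rw [Ideal.map_span, Set.image_singleton, Ideal.mem_span_singleton'] at ha
  obtain ⟨c, hc⟩ := ha
  refine ⟨a.coeff 0, c + algebraMap R[X] B a.divX, ?_⟩
  have h1 : a.divX * X + C (a.coeff 0) = a := Polynomial.divX_mul_X_add a
  have h2 : algebraMap R[X] B a = algebraMap R[X] B a.divX * algebraMap R[X] B X +
      algebraMap R B (a.coeff 0) := by
    conv_lhs => rw [← h1]
    rw [map_add, map_mul, algebraMap_C hB]
  linear_combination (-1 : B) * hc + h2

/-- `𝔪 B ⊆ Jac(B)`. -/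
lemma map_maximalIdeal_le_jacobson [IsLocalRing R] :
    (maximalIdeal R).map (algebraMap R B) ≤ Ideal.jacobson (⊥ : Ideal B) := by
  have key : ∀ y ∈ (maximalIdeal R).map (algebraMap R B), ∃ (μ : R) (y' : B),
      μ ∈ maximalIdeal R ∧ y = algebraMap R B μ + algebraMap R[X] B X * y' := by
    intro y hy
    refine Submodule.span_induction ?_ ?_ ?_ ?_ hy
    · rintro _ ⟨μ, hμ, rfl⟩
      exact ⟨μ, 0, hμ, by simp⟩
    · exact ⟨0, 0, zero_mem _, by simp⟩
    · rintro x y _ _ ⟨μ₁, y₁, h₁, rfl⟩ ⟨μ₂, y₂, h₂, rfl⟩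
      exact ⟨μ₁ + μ₂, y₁ + y₂, add_mem h₁ h₂, by rw [map_add]; ring⟩
    · rintro a x _ ⟨μ, y', hμ, rfl⟩
      obtain ⟨r, a', rfl⟩ := exists_eq_add_T_mul hB a
      refine ⟨r * μ, algebraMap R B r * y' + a' * algebraMap R B μ +
        a' * algebraMap R[X] B X * y', Ideal.mul_mem_left _ _ hμ, ?_⟩
      rw [smul_eq_mul, map_mul]; ring
  intro y hy
  rw [Ideal.mem_jacobson_bot]
  intro z
  obtain ⟨μ, y', hμ, hy'⟩ := key (y * z) (Ideal.mul_mem_right _ _ hy)
  rw [hy']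
  have hu : IsUnit (μ * 1 + 1) :=
    Ideal.mem_jacobson_bot.mp (IsLocalRing.maximalIdeal_le_jacobson ⊥ hμ) 1
  rw [mul_one] at hu
  obtain ⟨v, hv⟩ := hu.map (algebraMap R B)
  have hT := Ideal.mem_jacobson_bot.mp (T_mem_jacobson hB) (y' * (↑v⁻¹ : B))
  have : algebraMap R B μ + algebraMap R[X] B X * y' + 1 =
      (v : B) * (algebraMap R[X] B X * (y' * (↑v⁻¹ : B)) + 1) := by
    have h1 : (v : B) * (↑v⁻¹ : B) = 1 := v.mul_inv
    rw [hv, map_add, map_one]
    rw [hv, map_add, map_one] at h1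
    linear_combination (-(algebraMap R[X] B X * y')) * h1
  rw [this]
  exact v.isUnit.mul hT

/-- An idempotent of a quotient of `B` lying in `𝔪 (B/𝔞)` vanishes. -/
lemma idempotent_eq_zero_of_mem [IsLocalRing R] (𝔞 : Ideal B) (ε : B ⧸ 𝔞)
    (hε : IsIdempotentElem ε)
    (hm : ε ∈ ((maximalIdeal R).map (algebraMap R B)).map (Ideal.Quotient.mk 𝔞)) : ε = 0 := by
  obtain ⟨β, hβ, rfl⟩ := (Ideal.mem_map_iff_of_surjective _ Ideal.Quotient.mk_surjective).mp hm
  have hu : IsUnit (β * (-1) + 1) :=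
    Ideal.mem_jacobson_bot.mp (map_maximalIdeal_le_jacobson hB hβ) (-1)
  have hu' := hu.map (Ideal.Quotient.mk 𝔞)
  have h0 : Ideal.Quotient.mk 𝔞 β * Ideal.Quotient.mk 𝔞 (β * (-1) + 1) = 0 := by
    have := hε.eq
    rw [map_add, map_mul, map_neg, map_one]
    linear_combination (-1 : B ⧸ 𝔞) * this
  exact hu'.mul_left_eq_zero.mp h0

end Basic

section Core

variable {R : Type u} [CommRing R] [HenselianLocalRing R] {B : Type u} [CommRing B] [Algebra R B]
  [Algebra R[X] B]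
  [IsScalarTower R R[X] B] (hB : Hens2.IsPairHenselization R[X] (Ideal.span {(X : R[X])}) B)

include hB

/-- **Core lemma.** If `T ^ n ∈ 𝔞 + 𝔪 B` then every element of `B` is congruent modulo `𝔞` to a
polynomial of degree `< n`. -/
theorem exists_polynomial_sub_mem (𝔞 : Ideal B) (n : ℕ)
    (hn : (algebraMap R[X] B X) ^ n ∈ 𝔞 ⊔ (maximalIdeal R).map (algebraMap R B)) (b : B) :
    ∃ q ∈ Polynomial.degreeLT R n, algebraMap R[X] B q - b ∈ 𝔞 := by
  classical
  obtain ⟨a, ha, y, hy, hay⟩ := Submodule.mem_sup.mp hn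
  obtain ⟨k, f, g, hsum⟩ := Submodule.mem_span_set'.mp hy
  choose μ hμm hμ using fun i => (g i).2
  obtain ⟨E, _, _, _, hbijE, φ, s, hs⟩ :=
    exists_etale_bijective_algHom_apply_eq_fin hB (fun o : Option (Fin k) => o.elim b f)
  letI : Algebra R E := ((algebraMap R[X] E).comp (C : R →+* R[X])).toAlgebra
  haveI : IsScalarTower R R[X] E := IsScalarTower.of_algebraMap_eq (fun r => rfl)
  haveI : Algebra.FiniteType R E :=
    Algebra.FiniteType.trans (inferInstance : Algebra.FiniteType R R[X])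
      (inferInstance : Algebra.FiniteType R[X] E)
  have hφR : ∀ r : R, φ (algebraMap R E r) = algebraMap R B r := by
    intro r
    change φ (algebraMap R[X] E (C r)) = _
    rw [φ.commutes, algebraMap_C hB]
  obtain ⟨𝔞', h𝔞'⟩ : ∃ 𝔞' : Ideal E, 𝔞' = 𝔞.comap (φ : E →+* B) := ⟨_, rfl⟩
  have hmem𝔞' : ∀ x : E, x ∈ 𝔞' ↔ φ x ∈ 𝔞 := by
    intro x; rw [h𝔞']; rfl
  obtain ⟨XE, hXE⟩ : ∃ XE : E, XE = algebraMap R[X] E X := ⟨_, rfl⟩
  have hφXE : φ XE = algebraMap R[X] B X := by rw [hXE, φ.commutes]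
  -- the relation `XE ^ n ≡ ∑ μ i • s i` modulo `𝔞'`
  have hrel : XE ^ n - ∑ i, algebraMap R E (μ i) * s (some i) ∈ 𝔞' := by
    rw [hmem𝔞', map_sub, map_pow, hφXE, map_sum]
    have h1 : ∑ i, φ (algebraMap R E (μ i) * s (some i)) = y := by
      rw [← hsum]
      refine Finset.sum_congr rfl fun i _ => ?_
      rw [map_mul, hφR, hs (some i), hμ i, smul_eq_mul, mul_comm]
      rfl
    rw [h1, ← hay, add_sub_cancel_right]
    exact ha
  -- decomposition `e = p + XE ^ j e'`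
  have hdec1 : ∀ e : E, ∃ (p : R[X]) (e' : E), e = algebraMap R[X] E p + XE * e' := by
    intro e
    obtain ⟨p, hp⟩ := ((Groth.Agent.Lib.Helper9.quotientMap_bijective_iff (I := Ideal.span {(X : R[X])}) (S := E)).mp
      hbijE).1 e
    rw [Ideal.map_span, Set.image_singleton, Ideal.mem_span_singleton'] at hp
    obtain ⟨c, hc⟩ := hp
    exact ⟨p, c, by rw [hXE]; linear_combination (-1 : E) * hc⟩
  have hdec : ∀ j : ℕ, ∀ e : E, ∃ (p : R[X]) (e' : E),
      e = algebraMap R[X] E p + XE ^ j * e' := by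
    intro j
    induction j with
    | zero => intro e; exact ⟨0, e, by simp⟩
    | succ j ih =>
      intro e
      obtain ⟨p, e', rfl⟩ := ih e
      obtain ⟨p', e'', rfl⟩ := hdec1 e'
      refine ⟨p + X ^ j * p', e'', ?_⟩
      rw [map_add, map_mul, map_pow, ← hXE]
      ring
  -- the quotient
  let π : R[X] →ₐ[R] E ⧸ 𝔞' := (Ideal.Quotient.mkₐ R 𝔞').comp (IsScalarTower.toAlgHom R R[X] E)
  have hπ : ∀ p : R[X], π p = Ideal.Quotient.mk 𝔞' (algebraMap R[X] E p) := fun p => rfl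
  obtain ⟨N, hN⟩ : ∃ N : Submodule R (E ⧸ 𝔞'), N = (degreeLT R n).map π.toLinearMap := ⟨_, rfl⟩
  have hNfg : N.FG := by
    rw [hN, degreeLT_eq_span_X_pow]
    exact (Submodule.fg_span (Finset.finite_toSet _)).map _
  have hXn : Ideal.Quotient.mk 𝔞' (XE ^ n) =
      ∑ i, μ i • Ideal.Quotient.mk 𝔞' (s (some i)) := by
    have h1 := Ideal.Quotient.eq.mpr hrel
    rw [h1, map_sum]
    refine Finset.sum_congr rfl fun i _ => ?_
    rw [map_mul, Algebra.smul_def]
    rfl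
  have hXnmem : ∀ z : E ⧸ 𝔞', Ideal.Quotient.mk 𝔞' (XE ^ n) * z ∈
      (maximalIdeal R) • (⊤ : Submodule R (E ⧸ 𝔞')) := by
    intro z
    rw [hXn, Finset.sum_mul]
    refine Submodule.sum_mem _ fun i _ => ?_
    rw [smul_mul_assoc]
    exact Submodule.smul_mem_smul (hμm i) trivial
  have hgen : (⊤ : Submodule R (E ⧸ 𝔞')) ≤ N ⊔ (maximalIdeal R) • (⊤ : Submodule R (E ⧸ 𝔞')) := by
    intro c _
    obtain ⟨e, rfl⟩ := Ideal.Quotient.mk_surjective c
    obtain ⟨p, e', rfl⟩ := hdec n e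
    have h1 := Polynomial.modByMonic_add_div p ((X : R[X]) ^ n)
    have h2 : Ideal.Quotient.mk 𝔞' (algebraMap R[X] E p + XE ^ n * e') =
        π (p %ₘ X ^ n) + Ideal.Quotient.mk 𝔞' (XE ^ n) *
          (Ideal.Quotient.mk 𝔞' (algebraMap R[X] E (p /ₘ X ^ n)) + Ideal.Quotient.mk 𝔞' e') := by
      conv_lhs => rw [← h1]
      rw [hπ, hXE]
      simp only [map_add, map_mul, map_pow]
      ring
    rw [h2]
    refine Submodule.add_mem_sup ?_ (hXnmem _)
    rw [hN]
    refine Submodule.mem_map_of_mem ?_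
    rw [Polynomial.mem_degreeLT]
    calc (p %ₘ X ^ n).degree < (X ^ n : R[X]).degree :=
          Polynomial.degree_modByMonic_lt p (monic_X_pow n)
      _ = n := by rw [degree_X_pow]
  -- the closed fibre is a finite module
  obtain ⟨mC, hmC⟩ : ∃ mC : Ideal (E ⧸ 𝔞'), mC = (maximalIdeal R).map (algebraMap R (E ⧸ 𝔞')) :=
    ⟨_, rfl⟩
  have hsmul_le : ∀ z ∈ (maximalIdeal R) • (⊤ : Submodule R (E ⧸ 𝔞')), z ∈ mC := by
    intro z hz
    rw [Ideal.smul_top_eq_map] at hz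
    rw [hmC]
    exact hz
  haveI hfinF : Module.Finite R ((E ⧸ 𝔞') ⧸ mC) := by
    haveI : Module.Finite R N := Module.Finite.iff_fg.mpr hNfg
    refine Module.Finite.of_surjective
      ((Ideal.Quotient.mkₐ R mC).toLinearMap.comp N.subtype) ?_
    intro c
    obtain ⟨c, rfl⟩ := Ideal.Quotient.mk_surjective c
    obtain ⟨ν, hν, z, hz, rfl⟩ := Submodule.mem_sup.mp (hgen (Submodule.mem_top (x := c)))
    refine ⟨⟨ν, hν⟩, ?_⟩
    change Ideal.Quotient.mk mC ν = Ideal.Quotient.mk mC (ν + z)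
    rw [map_add, Ideal.Quotient.eq_zero_iff_mem.mpr (hsmul_le z hz), add_zero]
  haveI hdisc : DiscreteTopology (PrimeSpectrum ((E ⧸ 𝔞') ⧸ mC)) := by
    letI := Ideal.Quotient.field (maximalIdeal R)
    have hkill : ∀ r ∈ maximalIdeal R, algebraMap R ((E ⧸ 𝔞') ⧸ mC) r = 0 := by
      intro r hr
      change Ideal.Quotient.mk mC (algebraMap R (E ⧸ 𝔞') r) = 0
      rw [Ideal.Quotient.eq_zero_iff_mem, hmC]
      exact Ideal.mem_map_of_mem _ hr
    letI : Algebra (R ⧸ maximalIdeal R) ((E ⧸ 𝔞') ⧸ mC) :=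
      (Ideal.Quotient.lift (maximalIdeal R) (algebraMap R ((E ⧸ 𝔞') ⧸ mC)) hkill).toAlgebra
    haveI : IsScalarTower R (R ⧸ maximalIdeal R) ((E ⧸ 𝔞') ⧸ mC) :=
      IsScalarTower.of_algebraMap_eq (fun r => rfl)
    haveI : Module.Finite (R ⧸ maximalIdeal R) ((E ⧸ 𝔞') ⧸ mC) :=
      Module.Finite.of_restrictScalars_finite R _ _
    haveI : IsArtinianRing ((E ⧸ 𝔞') ⧸ mC) := IsArtinianRing.of_finite (R ⧸ maximalIdeal R) _
    infer_instance
  rw [hmC] at hdisc
  obtain ⟨e, he, hem, hfin⟩ := exists_idempotent_mem_map_finite R (E ⧸ 𝔞')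
  -- `e = 0`
  have hle : 𝔞' ≤ 𝔞.comap (φ : E →+* B) := le_of_eq h𝔞'
  obtain ⟨θ, hθ⟩ : ∃ θ : E ⧸ 𝔞' →+* B ⧸ 𝔞, θ = Ideal.quotientMap 𝔞 (φ : E →+* B) hle := ⟨_, rfl⟩
  have hθinj : Function.Injective θ := by
    rw [hθ]
    subst h𝔞'
    exact Ideal.quotientMap_injective
  have hθmk : ∀ x : E, θ (Ideal.Quotient.mk 𝔞' x) = Ideal.Quotient.mk 𝔞 (φ x) := by
    intro x; rw [hθ]; rfl
  have he0 : e = 0 := by
    apply hθinj
    rw [map_zero]
    refine idempotent_eq_zero_of_mem hB 𝔞 (θ e) (he.map θ) ?_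
    have h1 := Ideal.mem_map_of_mem θ hem
    rw [Ideal.map_map] at h1
    rw [Ideal.map_map]
    have h2 : θ.comp (algebraMap R (E ⧸ 𝔞')) = (Ideal.Quotient.mk 𝔞).comp (algebraMap R B) := by
      ext r
      change θ (Ideal.Quotient.mk 𝔞' (algebraMap R E r)) = _
      rw [hθmk, hφR]
      rfl
    rw [h2] at h1
    exact h1
  haveI hfinC : Module.Finite R (E ⧸ 𝔞') := by
    rw [he0] at hfin
    have hbot : Ideal.span ({0} : Set (E ⧸ 𝔞')) = ⊥ := by simp
    exact Module.Finite.equiv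
      ((Submodule.quotEquivOfEqBot (Ideal.span ({0} : Set (E ⧸ 𝔞'))) hbot).restrictScalars R)
  -- Nakayama
  have hNtop : (⊤ : Submodule R (E ⧸ 𝔞')) ≤ N := by
    refine Submodule.le_of_le_smul_of_le_jacobson_bot (Module.Finite.fg_top)
      (IsLocalRing.maximalIdeal_le_jacobson ⊥) hgen
  have hb : Ideal.Quotient.mk 𝔞' (s none) ∈ N := hNtop trivial
  rw [hN] at hb
  obtain ⟨q, hq, hqb⟩ := hb
  refine ⟨q, hq, ?_⟩
  have h1 : algebraMap R[X] E q - s none ∈ 𝔞' := by
    rw [← Ideal.Quotient.eq]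
    exact hqb
  rw [hmem𝔞', map_sub, φ.commutes, hs none] at h1
  exact h1

end Core

end Groth.Agent.Lib.Helper89.HensWeier
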