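import Groth.Agent.Lib.Helper89.HensWeier2
import Groth.Agent.Lib.Helper9.Hens.PairIntegral
import Groth.Agent.Lib.Helper9.Hens.PairNoetherian
import Groth.Agent.Lib.Helper3.IdemBij
import Groth.Agent.Lib.Helper3.Henselian2

/-!
# Distinguished polynomials and the henselization `R{t}`
-/

set_option linter.unusedSectionVars false
set_option linter.unusedVariables false
set_option linter.style.haveILetI false

namespace Groth.Agent.Lib.Helper89.HensWeier

open IsLocalRing Polynomial Groth.Agent.Lib.Helper9.Hens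

universe u

section Dist

variable {R : Type u} [CommRing R] [HenselianLocalRing R] {B : Type u} [CommRing B] [Algebra R B]
  [Algebra R[X] B]
  [IsScalarTower R R[X] B] (hB : Hens2.IsPairHenselization R[X] (Ideal.span {(X : R[X])}) B)

/-- For a distinguished polynomial `P`, the class of `X ^ deg P` in `R[X]/(P)` lies in `𝔪`. -/
lemma X_pow_mem_of_distinguished (P : R[X]) (hP : P.Monic)
    (hPm : ∀ i, i < P.natDegree → P.coeff i ∈ maximalIdeal R) :
    Ideal.Quotient.mk (Ideal.span {P}) (X ^ P.natDegree) ∈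
      (maximalIdeal R).map (algebraMap R (R[X] ⧸ Ideal.span {P})) := by
  have h1 : P = X ^ P.natDegree + ∑ i ∈ Finset.range P.natDegree, C (P.coeff i) * X ^ i := by
    conv_lhs => rw [hP.as_sum]
  have h2 : Ideal.Quotient.mk (Ideal.span {P}) (X ^ P.natDegree) =
      - ∑ i ∈ Finset.range P.natDegree,
        Ideal.Quotient.mk (Ideal.span {P}) (C (P.coeff i) * X ^ i) := by
    have h3 : Ideal.Quotient.mk (Ideal.span {P}) P = 0 :=
      Ideal.Quotient.eq_zero_iff_mem.mpr (Ideal.subset_span rfl)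
    have h4 := congrArg (Ideal.Quotient.mk (Ideal.span {P})) h1
    rw [h3, map_add, map_sum] at h4
    exact eq_neg_of_add_eq_zero_left h4.symm
  rw [h2]
  refine Ideal.neg_mem_iff _ |>.mpr (Ideal.sum_mem _ fun i hi => ?_)
  rw [map_mul]
  refine Ideal.mul_mem_right _ _ ?_
  exact Ideal.mem_map_of_mem _ (hPm i (Finset.mem_range.mp hi))

include hB

/-- `R[X]/(P) → B/(P)` is bijective for a distinguished polynomial `P`. -/
theorem bijective_quotient_of_distinguished (P : R[X]) (hP : P.Monic)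
    (hPm : ∀ i, i < P.natDegree → P.coeff i ∈ maximalIdeal R) :
    Function.Bijective (algebraMap (R[X] ⧸ Ideal.span {P})
      (B ⧸ (Ideal.span {P}).map (algebraMap R[X] B))) := by
  have h1 := isPairHenselization_quotient hB (Ideal.span {P})
  haveI : Module.Finite R (R[X] ⧸ Ideal.span {P}) := hP.finite_quotient
  haveI : Algebra.IsIntegral R (R[X] ⧸ Ideal.span {P}) := Algebra.IsIntegral.of_finite _ _
  have h2 : HenselianRing (R[X] ⧸ Ideal.span {P})
      ((maximalIdeal R).map (algebraMap R (R[X] ⧸ Ideal.span {P}))) :=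
    Groth.Agent.Lib.Helper3.henselianRing_map_of_isIntegral (maximalIdeal R) _
  haveI h3 := Groth.Agent.Lib.Helper9.henselianRing_radical h2
  have hle : (Ideal.span {(X : R[X])}).map (Ideal.Quotient.mk (Ideal.span {P})) ≤
      ((maximalIdeal R).map (algebraMap R (R[X] ⧸ Ideal.span {P}))).radical := by
    rw [Ideal.map_span, Set.image_singleton, Ideal.span_le, Set.singleton_subset_iff]
    refine ⟨P.natDegree, ?_⟩
    rw [← map_pow]
    exact X_pow_mem_of_distinguished P hP hPm
  have h4 : HenselianRing (R[X] ⧸ Ideal.span {P})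
      ((Ideal.span {(X : R[X])}).map (Ideal.Quotient.mk (Ideal.span {P}))) :=
    Groth.Agent.Lib.Helper3.henselianRing_of_le hle
  have h5 := isPairHenselization_self _ _ h4
  refine bijective_of_isPairHenselization h5 h1 _ ?_
  rw [Algebra.algebraMap_self, RingHom.comp_id]

/-- Elementwise form of `bijective_quotient_of_distinguished`. -/
theorem distinguished_surj_inj (P : R[X]) (hP : P.Monic)
    (hPm : ∀ i, i < P.natDegree → P.coeff i ∈ maximalIdeal R) :
    (∀ b : B, ∃ q : R[X], b - algebraMap R[X] B q ∈ Ideal.span {algebraMap R[X] B P}) ∧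
    (∀ q : R[X], algebraMap R[X] B q ∈ Ideal.span {algebraMap R[X] B P} → q ∈ Ideal.span {P}) := by
  have h := bijective_quotient_of_distinguished hB P hP hPm
  have h' := (Groth.Agent.Lib.Helper9.quotientMap_bijective_iff (I := Ideal.span {P})
    (S := B)).mp h
  rw [Ideal.map_span, Set.image_singleton] at h'
  exact h'

end Dist

section Prep

variable {R : Type u} [CommRing R] [HenselianLocalRing R] {B : Type u} [CommRing B] [Algebra R B]
  [Algebra R[X] B]
  [IsScalarTower R R[X] B] (hB : Hens2.IsPairHenselization R[X] (Ideal.span {(X : R[X])}) B)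

include hB

/-- `R[X]/(X^j) → B/(T^j)` elementwise. -/
lemma pow_surj_inj (j : ℕ) :
    (∀ b : B, ∃ q : R[X], b - algebraMap R[X] B q ∈ Ideal.span {algebraMap R[X] B X ^ j}) ∧
    (∀ q : R[X], algebraMap R[X] B q ∈ Ideal.span {algebraMap R[X] B X ^ j} → X ^ j ∣ q) := by
  have h := (Groth.Agent.Lib.Helper9.quotientMap_bijective_iff
    (I := (Ideal.span {(X : R[X])}) ^ j) (S := B)).mp
    (quotientMap_pow_bijective_of_isPairHenselization hB j)
  rw [Ideal.span_singleton_pow, Ideal.map_span, Set.image_singleton, map_pow] at h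
  refine ⟨h.1, fun q hq => ?_⟩
  exact Ideal.mem_span_singleton.mp (h.2 q hq)

/-- Elements of `𝔪 B` are polynomials with coefficients in `𝔪` modulo `T ^ j`. -/
lemma exists_sub_mem_span_pow (y : B) (hy : y ∈ (maximalIdeal R).map (algebraMap R B)) (j : ℕ) :
    ∃ p ∈ (maximalIdeal R).map (C : R →+* R[X]),
      y - algebraMap R[X] B p ∈ Ideal.span {algebraMap R[X] B X ^ j} := by
  refine Submodule.span_induction ?_ ?_ ?_ ?_ hy
  · rintro _ ⟨μ, hμ, rfl⟩
    refine ⟨C μ, Ideal.mem_map_of_mem _ hμ, ?_⟩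
    rw [algebraMap_C hB, sub_self]
    exact zero_mem _
  · exact ⟨0, zero_mem _, by simp⟩
  · rintro x y _ _ ⟨p₁, h₁, h₁'⟩ ⟨p₂, h₂, h₂'⟩
    refine ⟨p₁ + p₂, add_mem h₁ h₂, ?_⟩
    have : x + y - algebraMap R[X] B (p₁ + p₂) =
        (x - algebraMap R[X] B p₁) + (y - algebraMap R[X] B p₂) := by rw [map_add]; ring
    rw [this]
    exact add_mem h₁' h₂'
  · rintro a x _ ⟨p, h₁, h₁'⟩
    obtain ⟨pa, hpa⟩ := (pow_surj_inj hB j).1 a
    refine ⟨pa * p, Ideal.mul_mem_left _ _ h₁, ?_⟩
    have : a • x - algebraMap R[X] B (pa * p) =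
        a * (x - algebraMap R[X] B p) + (a - algebraMap R[X] B pa) * algebraMap R[X] B p := by
      rw [map_mul, smul_eq_mul]; ring
    rw [this]
    exact add_mem (Ideal.mul_mem_left _ _ h₁') (Ideal.mul_mem_right _ _ hpa)

/-- If `q ∈ T^d B + 𝔪 B` then the coefficients of `q` below `d` lie in `𝔪`. -/
lemma coeff_mem_of_mem_sup (q : R[X]) (d : ℕ)
    (hq : algebraMap R[X] B q ∈ Ideal.span {algebraMap R[X] B X ^ d} ⊔
      (maximalIdeal R).map (algebraMap R B)) :
    ∀ i < d, q.coeff i ∈ maximalIdeal R := by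
  obtain ⟨a, ha, y, hy, hay⟩ := Submodule.mem_sup.mp hq
  obtain ⟨p, hp, hpy⟩ := exists_sub_mem_span_pow hB y hy d
  have h1 : algebraMap R[X] B (q - p) ∈ Ideal.span {algebraMap R[X] B X ^ d} := by
    have : algebraMap R[X] B (q - p) = a + (y - algebraMap R[X] B p) := by
      rw [map_sub, ← hay]; ring
    rw [this]
    exact add_mem ha hpy
  have h2 := (pow_surj_inj hB d).2 _ h1
  rw [X_pow_dvd_iff] at h2
  intro i hi
  have h3 := h2 i hi
  rw [coeff_sub, sub_eq_zero] at h3
  rw [h3]
  exact Ideal.mem_map_C_iff.mp hp i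

/-- `T ^ d ∉ 𝔪 B`. -/
lemma T_pow_notMem (d : ℕ) :
    algebraMap R[X] B X ^ d ∉ (maximalIdeal R).map (algebraMap R B) := by
  intro h
  have h1 : algebraMap R[X] B (X ^ d) ∈ Ideal.span {algebraMap R[X] B X ^ (d + 1)} ⊔
      (maximalIdeal R).map (algebraMap R B) := by
    rw [map_pow]
    exact Ideal.mem_sup_right h
  have h2 := coeff_mem_of_mem_sup hB _ _ h1 d (Nat.lt_succ_self d)
  rw [coeff_X_pow, if_pos rfl] at h2
  exact (Ideal.ne_top_iff_one _).mp (maximalIdeal.isMaximal R).ne_top h2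

/-- The image of `𝔪 R[X]` is in `𝔪 B`. -/
lemma algebraMap_mem_of_mem_map_C (q : R[X]) (hq : q ∈ (maximalIdeal R).map (C : R →+* R[X])) :
    algebraMap R[X] B q ∈ (maximalIdeal R).map (algebraMap R B) := by
  have h1 := Ideal.mem_map_of_mem (algebraMap R[X] B) hq
  rw [Ideal.map_map] at h1
  have h2 : (algebraMap R[X] B).comp (C : R →+* R[X]) = algebraMap R B := by
    ext r; exact algebraMap_C hB r
  rw [h2] at h1
  exact h1

/-- An element `r + T z` of `B` with `r` a unit of `R` is a unit. -/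
lemma isUnit_of_eq_add (z z' : B) (r : R) (hr : IsUnit r)
    (hz : z = algebraMap R B r + algebraMap R[X] B X * z') : IsUnit z := by
  rw [hz]
  exact Groth.Agent.Lib.Helper3.isUnit_add_of_mem_jacobson_bot (hr.map _)
    (Ideal.mul_mem_right _ _ (T_mem_jacobson hB))

/-- **Weierstrass normal form modulo `𝔪`**: an element outside `𝔪 B` is `T ^ d · unit` modulo
`𝔪 B`. -/
theorem exists_pow_unit_decomp (f : B) (hf : f ∉ (maximalIdeal R).map (algebraMap R B)) :
    ∃ (d : ℕ) (g : Bˣ) (y : B), y ∈ (maximalIdeal R).map (algebraMap R B) ∧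
      f = algebraMap R[X] B X ^ d * g + y := by
  obtain ⟨K, hK⟩ : ∃ K : Ideal R[X], K = (maximalIdeal R).map (C : R →+* R[X]) := ⟨_, rfl⟩
  have hKB : K.map (algebraMap R[X] B) = (maximalIdeal R).map (algebraMap R B) := by
    rw [hK, Ideal.map_map]
    congr 1
    ext r; exact algebraMap_C hB r
  have hH := isPairHenselization_quotient hB K
  haveI : IsNoetherianRing (R[X] ⧸ K) := by
    letI := Ideal.Quotient.field (maximalIdeal R)
    rw [hK]
    exact isNoetherianRing_of_ringEquiv _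
      (Ideal.polynomialQuotientEquivQuotientPolynomial (maximalIdeal R))
  haveI : IsNoetherianRing (B ⧸ K.map (algebraMap R[X] B)) :=
    isNoetherianRing_of_isPairHenselization hH
  obtain ⟨t, ht⟩ : ∃ t : B ⧸ K.map (algebraMap R[X] B),
    t = Ideal.Quotient.mk _ (algebraMap R[X] B X) := ⟨_, rfl⟩
  have hI₀ : ((Ideal.span {(X : R[X])}).map (Ideal.Quotient.mk K)).map
      (algebraMap (R[X] ⧸ K) (B ⧸ K.map (algebraMap R[X] B))) = Ideal.span {t} := by
    rw [Ideal.map_span, Set.image_singleton, Ideal.map_span, Set.image_singleton, ht]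
    rfl
  have hjac : Ideal.span {t} ≤ Ideal.jacobson (⊥ : Ideal (B ⧸ K.map (algebraMap R[X] B))) := by
    rw [← hI₀]
    exact hH.1.jac
  have hkrull := Ideal.iInf_pow_smul_eq_bot_of_le_jacobson
    (M := B ⧸ K.map (algebraMap R[X] B)) (Ideal.span {t}) hjac
  have hfbar : Ideal.Quotient.mk (K.map (algebraMap R[X] B)) f ≠ 0 := by
    rw [Ne, Ideal.Quotient.eq_zero_iff_mem, hKB]
    exact hf
  have hex : ∃ i : ℕ, Ideal.Quotient.mk (K.map (algebraMap R[X] B)) f ∉ Ideal.span {t ^ i} := by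
    by_contra hcon
    push Not at hcon
    apply hfbar
    have : Ideal.Quotient.mk (K.map (algebraMap R[X] B)) f ∈
        (⨅ i : ℕ, Ideal.span {t} ^ i • ⊤ : Submodule (B ⧸ K.map (algebraMap R[X] B))
          (B ⧸ K.map (algebraMap R[X] B))) := by
      rw [Submodule.mem_iInf]
      intro i
      rw [smul_eq_mul, Ideal.mul_top, Ideal.span_singleton_pow]
      exact hcon i
    rw [hkrull] at this
    exact this
  classical
  obtain ⟨i, hi, hmin⟩ : ∃ i : ℕ, Ideal.Quotient.mk (K.map (algebraMap R[X] B)) f ∉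
      Ideal.span {t ^ i} ∧ ∀ j < i, Ideal.Quotient.mk (K.map (algebraMap R[X] B)) f ∈
      Ideal.span {t ^ j} :=
    ⟨Nat.find hex, Nat.find_spec hex, fun j hj => not_not.mp (Nat.find_min hex hj)⟩
  have hi0 : i ≠ 0 := by
    rintro rfl
    apply hi
    rw [pow_zero, Ideal.span_singleton_one]
    trivial
  obtain ⟨d, rfl⟩ := Nat.exists_eq_succ_of_ne_zero hi0
  have hd := hmin d (Nat.lt_succ_self d)
  obtain ⟨gbar, hgbar⟩ := Ideal.mem_span_singleton'.mp hd
  obtain ⟨g, rfl⟩ := Ideal.Quotient.mk_surjective gbar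
  obtain ⟨r, g', hg⟩ := exists_eq_add_T_mul hB g
  have hr : IsUnit r := by
    by_contra hr
    have hrm : r ∈ maximalIdeal R := hr
    apply hi
    rw [Ideal.mem_span_singleton']
    refine ⟨Ideal.Quotient.mk _ g', ?_⟩
    rw [← hgbar, hg, map_add, map_mul, ← ht]
    have : Ideal.Quotient.mk (K.map (algebraMap R[X] B)) (algebraMap R B r) = 0 := by
      rw [Ideal.Quotient.eq_zero_iff_mem, hKB]
      exact Ideal.mem_map_of_mem _ hrm
    rw [this, zero_add, Nat.succ_eq_add_one]
    ring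
  obtain ⟨gu, hgu⟩ := isUnit_of_eq_add hB g g' r hr hg
  refine ⟨d, gu, f - algebraMap R[X] B X ^ d * g, ?_, by rw [hgu]; ring⟩
  rw [← hKB, ← Ideal.Quotient.eq_zero_iff_mem, map_sub, map_mul, map_pow, ← ht, ← hgbar]
  ring

end Prep

end Groth.Agent.Lib.Helper89.HensWeier
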