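import Groth.Agent.Lib.Helper89.HensWeier3

/-!
# Henselian Weierstrass preparation for `R{t}`
-/

set_option linter.unusedSectionVars false
set_option linter.unusedVariables false
set_option linter.style.haveILetI false

namespace Groth.Agent.Lib.Helper89.HensWeier

open IsLocalRing Polynomial Groth.Agent.Lib.Helper9.Hens

universe u

section Weier

variable {R : Type u} [CommRing R] [HenselianLocalRing R] {B : Type u} [CommRing B] [Algebra R B]
  [Algebra R[X] B]
  [IsScalarTower R R[X] B] (hB : Hens2.IsPairHenselization R[X] (Ideal.span {(X : R[X])}) B)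

include hB

/-- Existence in Weierstrass preparation. -/
theorem weierstrass_exists (f : B) (hf : f ∉ (maximalIdeal R).map (algebraMap R B)) :
    ∃ (P : R[X]) (u : Bˣ), P.Monic ∧ (∀ i : ℕ, i < P.natDegree → P.coeff i ∈ maximalIdeal R) ∧
      f = algebraMap R[X] B P * (u : B) := by
  obtain ⟨d, g, y, hy, hfg⟩ := exists_pow_unit_decomp hB f hf
  -- `T ^ d ∈ (f) + 𝔪 B`
  have hTd : algebraMap R[X] B X ^ d ∈ Ideal.span {f} ⊔ (maximalIdeal R).map (algebraMap R B) := by
    have : algebraMap R[X] B X ^ d = (↑g⁻¹ : B) * f + (-(↑g⁻¹ : B)) * y := by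
      have h1 : (↑g⁻¹ : B) * (g : B) = 1 := g.inv_mul
      rw [hfg]
      linear_combination (-(algebraMap R[X] B X ^ d)) * h1
    rw [this]
    exact Submodule.add_mem_sup (Ideal.mul_mem_left _ _ (Ideal.subset_span rfl))
      (Ideal.mul_mem_left _ _ hy)
  obtain ⟨q, hq, hqf⟩ := exists_polynomial_sub_mem hB (Ideal.span {f}) d hTd
    (algebraMap R[X] B X ^ d)
  rw [Polynomial.mem_degreeLT] at hq
  have hPmonic : (X ^ d - q).Monic := monic_X_pow_sub hq
  have hPdeg : (X ^ d - q).natDegree = d := by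
    have h1 : (X ^ d - q).degree = ((d : ℕ) : WithBot ℕ) := by
      rw [degree_sub_eq_left_of_degree_lt (by rw [degree_X_pow]; exact hq), degree_X_pow]
    exact natDegree_eq_of_degree_eq_some h1
  -- `P = f v`
  have hPmem : algebraMap R[X] B (X ^ d - q) ∈ Ideal.span {f} := by
    have : algebraMap R[X] B (X ^ d - q) = -(algebraMap R[X] B q - algebraMap R[X] B X ^ d) := by
      rw [map_sub, map_pow, neg_sub]
    rw [this]
    exact neg_mem hqf
  obtain ⟨v, hv⟩ := Ideal.mem_span_singleton'.mp hPmem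
  -- coefficients of `q`
  have hqcoeff : ∀ i < d, q.coeff i ∈ maximalIdeal R := by
    apply coeff_mem_of_mem_sup hB
    have : algebraMap R[X] B q = (1 - v * g) * algebraMap R[X] B X ^ d + (-v) * y := by
      rw [map_sub, map_pow, hfg] at hv
      linear_combination hv
    rw [this]
    exact Submodule.add_mem_sup (Ideal.mul_mem_left _ _ (Ideal.subset_span rfl))
      (Ideal.mul_mem_left _ _ hy)
  have hqmem : q ∈ (maximalIdeal R).map (C : R →+* R[X]) := by
    rw [Ideal.mem_map_C_iff]
    intro i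
    by_cases hi : i < d
    · exact hqcoeff i hi
    · rw [coeff_eq_zero_of_degree_lt (lt_of_lt_of_le hq (by exact_mod_cast not_lt.mp hi))]
      exact zero_mem _
  have hqB := algebraMap_mem_of_mem_map_C hB q hqmem
  -- `v` is a unit
  have hvunit : IsUnit v := by
    have hz : algebraMap R[X] B X ^ d * (1 - g * v) ∈ (maximalIdeal R).map (algebraMap R B) := by
      have : algebraMap R[X] B X ^ d * (1 - g * v) = algebraMap R[X] B q + v * y := by
        rw [map_sub, map_pow, hfg] at hv
        linear_combination (-1 : B) * hv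
      rw [this]
      exact add_mem hqB (Ideal.mul_mem_left _ _ hy)
    obtain ⟨r, z', hz'⟩ := exists_eq_add_T_mul hB (1 - g * v)
    have hr : r ∈ maximalIdeal R := by
      by_contra hr
      have hru : IsUnit r := by
        by_contra h; exact hr h
      obtain ⟨w, hw⟩ := isUnit_of_eq_add hB _ z' r hru hz'
      apply T_pow_notMem hB d
      have : algebraMap R[X] B X ^ d =
          (↑w⁻¹ : B) * (algebraMap R[X] B X ^ d * (1 - g * v)) := by
        have h1 : (↑w⁻¹ : B) * (w : B) = 1 := w.inv_mul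
        rw [← hw]
        linear_combination (-(algebraMap R[X] B X ^ d)) * h1
      rw [this]
      exact Ideal.mul_mem_left _ _ hz
    have hgv : IsUnit ((g : B) * v) := by
      have h1 : IsUnit (1 - r) := by
        have := Ideal.mem_jacobson_bot.mp (IsLocalRing.maximalIdeal_le_jacobson ⊥ hr) (-1)
        rw [mul_neg, mul_one, neg_add_eq_sub] at this
        exact this
      have h2 : (g : B) * v = algebraMap R B (1 - r) + algebraMap R[X] B X * (-z') := by
        rw [map_sub, map_one]
        linear_combination (-1 : B) * hz'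
      exact isUnit_of_eq_add hB _ _ _ h1 h2
    exact isUnit_of_mul_isUnit_right hgv
  obtain ⟨vu, hvu⟩ := hvunit
  refine ⟨X ^ d - q, vu⁻¹, hPmonic, ?_, ?_⟩
  · intro i hi
    rw [hPdeg] at hi
    rw [coeff_sub, coeff_X_pow, if_neg (ne_of_lt hi), zero_sub]
    exact neg_mem (hqcoeff i hi)
  · have h1 : (vu : B) * (↑vu⁻¹ : B) = 1 := vu.mul_inv
    rw [← hv, ← hvu]
    linear_combination (-f) * h1

/-- Uniqueness in Weierstrass preparation. -/
theorem weierstrass_unique (f : B) (P₁ P₂ : R[X]) (u₁ u₂ : Bˣ) (h₁ : P₁.Monic) (h₂ : P₂.Monic)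
    (hm₁ : ∀ i : ℕ, i < P₁.natDegree → P₁.coeff i ∈ maximalIdeal R)
    (hm₂ : ∀ i : ℕ, i < P₂.natDegree → P₂.coeff i ∈ maximalIdeal R)
    (hf₁ : f = algebraMap R[X] B P₁ * (u₁ : B)) (hf₂ : f = algebraMap R[X] B P₂ * (u₂ : B)) :
    P₁ = P₂ ∧ u₁ = u₂ := by
  have key : ∀ (P P' : R[X]) (u u' : Bˣ), P.Monic →
      (∀ i : ℕ, i < P.natDegree → P.coeff i ∈ maximalIdeal R) →
      f = algebraMap R[X] B P * (u : B) → f = algebraMap R[X] B P' * (u' : B) → P ∣ P' := by
    intro P P' u u' hP hPm hf hf'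
    have h1 : algebraMap R[X] B P' ∈ Ideal.span {algebraMap R[X] B P} := by
      rw [Ideal.mem_span_singleton']
      refine ⟨u * (↑u'⁻¹ : B), ?_⟩
      have h2 : (u' : B) * (↑u'⁻¹ : B) = 1 := u'.mul_inv
      have h3 : algebraMap R[X] B P * (u : B) = algebraMap R[X] B P' * (u' : B) := by
        rw [← hf, ← hf']
      linear_combination (↑u'⁻¹ : B) * h3 + (algebraMap R[X] B P') * h2
    exact Ideal.mem_span_singleton.mp ((distinguished_surj_inj hB P hP hPm).2 P' h1)
  have hd12 := key P₁ P₂ u₁ u₂ h₁ hm₁ hf₁ hf₂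
  have hd21 := key P₂ P₁ u₂ u₁ h₂ hm₂ hf₂ hf₁
  haveI : Nontrivial R := inferInstance
  have hdeg : ∀ (P P' : R[X]), P.Monic → P'.Monic → P ∣ P' → P.natDegree ≤ P'.natDegree := by
    rintro P P' hP hP' ⟨c, rfl⟩
    have hc : c ≠ 0 := by
      rintro rfl
      rw [mul_zero] at hP'
      exact hP'.ne_zero rfl
    rw [hP.natDegree_mul' hc]
    exact Nat.le_add_right _ _
  have hPeq : P₁ = P₂ :=
    eq_of_monic_of_dvd_of_natDegree_le h₂ h₁ hd21 (hdeg P₁ P₂ h₁ h₂ hd12)
  refine ⟨hPeq, ?_⟩
  subst hPeq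
  haveI := flat_of_isPairHenselization hB
  have hreg : IsSMulRegular B (algebraMap R[X] B P₁) :=
    IsSMulRegular.of_flat (h₁.isRegular.left.isSMulRegular)
  apply Units.ext
  apply hreg
  change algebraMap R[X] B P₁ * (u₁ : B) = algebraMap R[X] B P₁ * (u₂ : B)
  rw [← hf₁, ← hf₂]

end Weier

end Groth.Agent.Lib.Helper89.HensWeier
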