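import Groth.Agent.Lib.Helper89.ApproxLaurent

/-!
# `(R[t]_{1+tR[t]})[1/t]` is the localization of `R[s]` (`s = t⁻¹`) at the monic polynomials
-/

set_option linter.unusedSectionVars false
set_option linter.unusedVariables false
set_option linter.style.haveILetI false

namespace Groth.Agent.Lib.Helper89.MonicLoc

open Polynomial Groth.Agent.Lib.Helper89.Approx

universe u

section Basic

variable {R : Type u} [CommRing R] {L : Type u} [CommRing L] [Algebra R[X] L]
  [IsLocalization (MX R) L] [Algebra R L] [IsScalarTower R R[X] L]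
  (ψ : R[X] →ₐ[R] L) (hψ : ψ X * algebraMap R[X] L X = 1)

lemma psi_eq (p : R[X]) : ψ p = eval₂ (algebraMap R L) (ψ X) p := by
  rw [← aeval_def, aeval_algHom_apply, aeval_X_left_apply]

lemma alg_eq (p : R[X]) :
    algebraMap R[X] L p = eval₂ (algebraMap R L) (algebraMap R[X] L X) p := by
  have := psi_eq (IsScalarTower.toAlgHom R R[X] L) p
  simpa using this

lemma monic_reflect_of_coeff_zero {g : R[X]} (hg : g.coeff 0 = 1) :
    (reflect g.natDegree g).Monic := by
  refine monic_of_natDegree_le_of_coeff_eq_one g.natDegree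
    (natDegree_reflect_le.trans (by simp)) ?_
  rw [coeff_reflect, revAt_le le_rfl, Nat.sub_self, hg]

lemma natDegree_reflect_self_le (p : R[X]) : (reflect p.natDegree p).natDegree ≤ p.natDegree :=
  natDegree_reflect_le.trans (by simp)

include hψ

lemma alg_reflect {N : ℕ} {p : R[X]} (hp : p.natDegree ≤ N) :
    algebraMap R[X] L (reflect N p) * (ψ X) ^ N = ψ p := by
  letI : Invertible (ψ X) := ⟨algebraMap R[X] L X, by rw [mul_comm]; exact hψ, hψ⟩
  have := eval₂_reflect_mul_pow (algebraMap R L) (ψ X) N p hp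
  rw [psi_eq ψ p, ← this, alg_eq]
  rfl

lemma psi_reflect {N : ℕ} {p : R[X]} (hp : p.natDegree ≤ N) :
    ψ (reflect N p) * (algebraMap R[X] L X) ^ N = algebraMap R[X] L p := by
  letI : Invertible (algebraMap R[X] L X) := ⟨ψ X, hψ, by rw [mul_comm]; exact hψ⟩
  have := eval₂_reflect_mul_pow (algebraMap R L) (algebraMap R[X] L X) N p hp
  rw [alg_eq p, ← this, psi_eq ψ]
  rfl

lemma isUnit_psi_X : IsUnit (ψ X) := IsUnit.of_mul_eq_one _ hψ

lemma isUnit_alg_X : IsUnit (algebraMap R[X] L X) :=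
  IsUnit.of_mul_eq_one (ψ X) (by rw [mul_comm]; exact hψ)

lemma isUnit_psi_of_monic {h : R[X]} (hh : h.Monic) : IsUnit (ψ h) := by
  rw [← alg_reflect ψ hψ (le_refl h.natDegree)]
  refine IsUnit.mul ?_ ((isUnit_psi_X ψ hψ).pow _)
  have hmem : reflect h.natDegree h ∈ MX R := by
    refine Submonoid.subset_closure (Or.inl ?_)
    change (reflect h.natDegree h).coeff 0 = 1
    rw [coeff_reflect, revAt_zero]
    exact hh.coeff_natDegree
  exact IsLocalization.map_units L (⟨_, hmem⟩ : MX R)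

lemma exists_monic_mul_eq (l : L) : ∃ (p h : R[X]), h.Monic ∧ l * ψ h = ψ p := by
  obtain ⟨a, c, rfl⟩ := IsLocalization.exists_mk'_eq (MX R) l
  obtain ⟨k, g, hg, hc⟩ := exists_eq_X_pow_mul_of_mem_MX c.2
  have hrel := IsLocalization.mk'_spec L a c
  rw [hc, map_mul, map_pow, ← psi_reflect ψ hψ (le_refl g.natDegree),
    ← psi_reflect ψ hψ (le_refl a.natDegree)] at hrel
  obtain ⟨l, hl⟩ : ∃ l, l = IsLocalization.mk' L a c := ⟨_, rfl⟩
  rw [← hl] at hrel ⊢
  obtain ⟨σ, hσ⟩ : ∃ σ, σ = ψ X := ⟨_, rfl⟩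
  obtain ⟨τ, hτ⟩ : ∃ τ, τ = algebraMap R[X] L X := ⟨_, rfl⟩
  rw [← hσ, ← hτ] at hψ
  rw [← hτ] at hrel
  have A1 : ∀ n : ℕ, σ ^ n * τ ^ n = 1 := fun n => by rw [← mul_pow, hψ, one_pow]
  refine ⟨X ^ (k + g.natDegree) * reflect a.natDegree a, X ^ a.natDegree * reflect g.natDegree g,
    (monic_X_pow _).mul (monic_reflect_of_coeff_zero hg), ?_⟩
  rw [map_mul, map_mul, map_pow, map_pow, ← hσ]
  linear_combination (σ ^ a.natDegree * σ ^ (k + g.natDegree)) * hrel -
    (l * ψ (reflect g.natDegree g) * σ ^ a.natDegree) * A1 (k + g.natDegree) +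
    (ψ (reflect a.natDegree a) * σ ^ (k + g.natDegree)) * A1 a.natDegree

lemma exists_monic_mul_eq_zero {p : R[X]} (hp : ψ p = 0) : ∃ h : R[X], h.Monic ∧ h * p = 0 := by
  have h1 : algebraMap R[X] L (reflect p.natDegree p) = 0 := by
    have := alg_reflect ψ hψ (le_refl p.natDegree)
    rw [hp] at this
    exact ((isUnit_psi_X ψ hψ).pow _).mul_left_eq_zero.mp this
  obtain ⟨c, hc⟩ := (IsLocalization.map_eq_zero_iff (MX R) L _).mp h1
  obtain ⟨k, g, hg, hcg⟩ := exists_eq_X_pow_mul_of_mem_MX c.2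
  rw [hcg, mul_assoc, (monic_X_pow k).mul_right_eq_zero_iff] at hc
  refine ⟨reflect g.natDegree g, monic_reflect_of_coeff_zero hg, ?_⟩
  have := reflect_mul g (reflect p.natDegree p) (le_refl g.natDegree)
    (natDegree_reflect_self_le p)
  rw [hc, reflect_zero, reflect_reflect] at this
  exact this.symm

end Basic


section Ideals

variable {R : Type u} [CommRing R] {L : Type u} [CommRing L] [Algebra R[X] L]
  [IsLocalization (MX R) L] [Algebra R L] [IsScalarTower R R[X] L]
  (ψ : R[X] →ₐ[R] L) (hψ : ψ X * algebraMap R[X] L X = 1)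

include hψ

/-- Every ideal of `L` is extended from its contraction. -/
lemma map_comap_eq (J : Ideal L) : (J.comap ψ.toRingHom).map ψ.toRingHom = J := by
  refine le_antisymm Ideal.map_comap_le fun l hl => ?_
  obtain ⟨p, h, hh, hlh⟩ := exists_monic_mul_eq ψ hψ l
  obtain ⟨u, hu⟩ := isUnit_psi_of_monic ψ hψ hh
  have hpJ : p ∈ J.comap ψ.toRingHom := by
    rw [Ideal.mem_comap]
    change ψ p ∈ J
    rw [← hlh]
    exact J.mul_mem_right _ hl
  have : l = ψ.toRingHom p * ↑u⁻¹ := by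
    change l = ψ p * ↑u⁻¹
    rw [← hlh, ← hu, mul_assoc, Units.mul_inv, mul_one]
  rw [this]
  exact Ideal.mul_mem_right _ _ (Ideal.mem_map_of_mem _ hpJ)

/-- Elements of an extended ideal are fractions with numerator in the ideal and monic denominator. -/
lemma exists_of_mem_map {I : Ideal R[X]} {l : L} (hl : l ∈ I.map ψ.toRingHom) :
    ∃ i ∈ I, ∃ h : R[X], h.Monic ∧ l * ψ h = ψ i := by
  unfold Ideal.map at hl
  induction hl using Submodule.span_induction with
  | mem x hx =>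
    obtain ⟨i, hi, rfl⟩ := hx
    exact ⟨i, hi, 1, monic_one, by rw [map_one, mul_one]; rfl⟩
  | zero => exact ⟨0, I.zero_mem, 1, monic_one, by simp⟩
  | add x y _ _ hx hy =>
    obtain ⟨i₁, hi₁, h₁, hh₁, e₁⟩ := hx
    obtain ⟨i₂, hi₂, h₂, hh₂, e₂⟩ := hy
    refine ⟨i₁ * h₂ + i₂ * h₁, I.add_mem (I.mul_mem_right _ hi₁) (I.mul_mem_right _ hi₂),
      h₁ * h₂, hh₁.mul hh₂, ?_⟩
    rw [map_mul, map_add, map_mul, map_mul, ← e₁, ← e₂]
    ring
  | smul a x _ hx =>
    obtain ⟨i, hi, h, hh, e⟩ := hx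
    obtain ⟨p', h', hh', e'⟩ := exists_monic_mul_eq ψ hψ a
    refine ⟨p' * i, I.mul_mem_left _ hi, h' * h, hh'.mul hh, ?_⟩
    rw [map_mul, map_mul, ← e, ← e', smul_eq_mul]
    ring

lemma exists_monic_mul_mem_of_mem_comap_map {I : Ideal R[X]} {p : R[X]}
    (hp : p ∈ (I.map ψ.toRingHom).comap ψ.toRingHom) : ∃ h : R[X], h.Monic ∧ h * p ∈ I := by
  rw [Ideal.mem_comap] at hp
  obtain ⟨i, hi, h, hh, e⟩ := exists_of_mem_map ψ hψ hp
  have h0 : ψ (p * h - i) = 0 := by
    rw [map_sub, map_mul, ← e]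
    change ψ p * ψ h - ψ p * ψ h = 0
    rw [sub_self]
  obtain ⟨h', hh', e'⟩ := exists_monic_mul_eq_zero ψ hψ h0
  refine ⟨h' * h, hh'.mul hh, ?_⟩
  have : h' * h * p = h' * (p * h - i) + h' * i := by ring
  rw [this, e', zero_add]
  exact I.mul_mem_left _ hi

end Ideals

section Nakayama

variable {R : Type u} [CommRing R] [IsLocalRing R]

/-- If `I + 𝔪 R[X] = R[X]` then every monic polynomial is a unit modulo `I`. -/
lemma sup_span_monic_eq_top {I : Ideal R[X]}
    (hI : I ⊔ (IsLocalRing.maximalIdeal R).map (algebraMap R R[X]) = ⊤) {h : R[X]}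
    (hh : h.Monic) : I ⊔ Ideal.span {h} = ⊤ := by
  obtain ⟨K, hK⟩ : ∃ K, K = I ⊔ Ideal.span {h} := ⟨_, rfl⟩
  rw [← hK]
  have hfin : Module.Finite R (R[X] ⧸ K) := by
    have h1 : Module.Finite R (AdjoinRoot h) := hh.finite_adjoinRoot
    haveI h1' : Module.Finite R (R[X] ⧸ Ideal.span {h}) := h1
    have hle : Ideal.span {h} ≤ K := hK ▸ le_sup_right
    exact Module.Finite.of_surjective
      (Ideal.Quotient.factorₐ R hle : (R[X] ⧸ Ideal.span {h}) →ₐ[R] R[X] ⧸ K).toLinearMap
      (Ideal.Quotient.factor_surjective hle)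
  have hm : (IsLocalRing.maximalIdeal R).map (algebraMap R (R[X] ⧸ K)) = ⊤ := by
    have h1 : algebraMap R (R[X] ⧸ K) = (Ideal.Quotient.mk K).comp (algebraMap R R[X]) := rfl
    rw [h1, ← Ideal.map_map]
    have h2 := congrArg (Ideal.map (Ideal.Quotient.mk K)) hI
    rw [Ideal.map_sup, Ideal.map_top] at h2
    have h3 : I.map (Ideal.Quotient.mk K) = ⊥ := by
      rw [Ideal.map_eq_bot_iff_le_ker, Ideal.mk_ker, hK]
      exact le_sup_left
    rw [h3, bot_sup_eq] at h2
    exact h2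
  have htop : (⊤ : Submodule R (R[X] ⧸ K)) = ⊥ := by
    refine Submodule.eq_bot_of_le_smul_of_le_jacobson_bot (IsLocalRing.maximalIdeal R) ⊤
      Module.Finite.fg_top ?_ (IsLocalRing.maximalIdeal_le_jacobson _)
    rw [Ideal.smul_top_eq_map, hm]
    exact le_of_eq rfl
  have hsub : Subsingleton (R[X] ⧸ K) := by
    refine ⟨fun a b => ?_⟩
    have ha : a ∈ (⊤ : Submodule R (R[X] ⧸ K)) := Submodule.mem_top
    have hb : b ∈ (⊤ : Submodule R (R[X] ⧸ K)) := Submodule.mem_top
    rw [htop, Submodule.mem_bot] at ha hb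
    rw [ha, hb]
  exact Ideal.Quotient.subsingleton_iff.mp hsub

lemma exists_mul_sub_one_mem {I : Ideal R[X]}
    (hI : I ⊔ (IsLocalRing.maximalIdeal R).map (algebraMap R R[X]) = ⊤) {h : R[X]}
    (hh : h.Monic) : ∃ q : R[X], 1 - h * q ∈ I := by
  have h1 : (1 : R[X]) ∈ I ⊔ Ideal.span {h} := by
    rw [sup_span_monic_eq_top hI hh]; exact Submodule.mem_top
  obtain ⟨i, hi, y, hy, hiy⟩ := Submodule.mem_sup.mp h1
  obtain ⟨q, rfl⟩ := Ideal.mem_span_singleton'.mp hy
  refine ⟨q, ?_⟩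
  have : 1 - h * q = i := by rw [← hiy]; ring
  rw [this]; exact hi

end Nakayama


section Part1

open IsLocalRing

variable {R : Type u} [CommRing R] [IsLocalRing R] {L : Type u} [CommRing L] [Algebra R[X] L]
  [IsLocalization (MX R) L] [Algebra R L] [IsScalarTower R R[X] L]
  (ψ : R[X] →ₐ[R] L) (hψ : ψ X * algebraMap R[X] L X = 1)

include hψ

theorem part1 (I : Ideal R[X]) (hI : I ⊔ (maximalIdeal R).map (algebraMap R R[X]) = ⊤) :
    (I.map ψ.toRingHom).comap ψ.toRingHom = I ∧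
    I.map ψ.toRingHom ⊔ (maximalIdeal R).map (algebraMap R L) = ⊤ ∧
    Function.Bijective
      (Ideal.quotientMap (I.map ψ.toRingHom) ψ.toRingHom Ideal.le_comap_map) := by
  have hcomap : (I.map ψ.toRingHom).comap ψ.toRingHom = I := by
    refine le_antisymm (fun p hp => ?_) Ideal.le_comap_map
    obtain ⟨h, hh, hhp⟩ := exists_monic_mul_mem_of_mem_comap_map ψ hψ hp
    obtain ⟨q, hq⟩ := exists_mul_sub_one_mem hI hh
    have : p = (1 - h * q) * p + q * (h * p) := by ring
    rw [this]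
    exact I.add_mem (I.mul_mem_right _ hq) (I.mul_mem_left _ hhp)
  refine ⟨hcomap, ?_, ?_, ?_⟩
  · have h2 := congrArg (Ideal.map ψ.toRingHom) hI
    rw [Ideal.map_sup, Ideal.map_top, Ideal.map_map] at h2
    have h3 : ψ.toRingHom.comp (algebraMap R R[X]) = algebraMap R L := by
      ext a; exact ψ.commutes a
    rw [h3] at h2
    exact h2
  · exact Ideal.quotientMap_injective' (le_of_eq hcomap)
  · intro y
    obtain ⟨l, rfl⟩ := Ideal.Quotient.mk_surjective y
    obtain ⟨p, h, hh, hlh⟩ := exists_monic_mul_eq ψ hψ l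
    obtain ⟨q, hq⟩ := exists_mul_sub_one_mem hI hh
    refine ⟨Ideal.Quotient.mk I (p * q), ?_⟩
    rw [Ideal.quotientMap_mk, Ideal.Quotient.eq]
    have : ψ.toRingHom (p * q) - l = -(l * ψ.toRingHom (1 - h * q)) := by
      change ψ (p * q) - l = -(l * ψ (1 - h * q))
      rw [map_mul, ← hlh, map_sub, map_one, map_mul]; ring
    rw [this]
    exact Ideal.neg_mem_iff _ |>.mpr (Ideal.mul_mem_left _ _ (Ideal.mem_map_of_mem _ hq))

end Part1

section QF

open TensorProduct

variable {R : Type u} [CommRing R]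

theorem quasiFinite_quotient_of_isUnit_coeff {I : Ideal R[X]} {g : R[X]} (hg : g ∈ I) {n : ℕ}
    (hn : IsUnit (g.coeff n)) : Algebra.QuasiFinite R (R[X] ⧸ I) := by
  refine ⟨fun P _ => ?_⟩
  obtain ⟨ξ, hξ⟩ : ∃ ξ : P.Fiber (R[X] ⧸ I),
      ξ = Algebra.TensorProduct.includeRight (Ideal.Quotient.mk I X) := ⟨_, rfl⟩
  have hmk : ∀ p : R[X], Ideal.Quotient.mk I p = aeval (Ideal.Quotient.mk I X) p := by
    intro p
    have := aeval_algHom_apply (Ideal.Quotient.mkₐ R I) X p
    rw [aeval_X_left_apply] at this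
    exact this.symm
  have hinc : ∀ p : R[X], (Algebra.TensorProduct.includeRight (Ideal.Quotient.mk I p) :
      P.Fiber (R[X] ⧸ I)) = aeval ξ p := by
    intro p
    rw [hξ, aeval_algHom_apply, ← hmk]
  have hint : IsIntegral P.ResidueField ξ := by
    rw [← isAlgebraic_iff_isIntegral]
    refine ⟨g.map (algebraMap R P.ResidueField), ?_, ?_⟩
    · intro h0
      have := congrArg (fun q => q.coeff n) h0
      simp only [coeff_map, coeff_zero] at this
      exact (hn.map (algebraMap R P.ResidueField)).ne_zero this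
    · rw [aeval_map_algebraMap, ← hinc, Ideal.Quotient.eq_zero_iff_mem.mpr hg, map_zero]
  have htop : Algebra.adjoin P.ResidueField {ξ} = ⊤ := by
    rw [eq_top_iff]
    intro t _
    clear * - hinc
    induction t using TensorProduct.induction_on with
    | zero => exact Subalgebra.zero_mem _
    | tmul k s =>
      obtain ⟨p, rfl⟩ := Ideal.Quotient.mk_surjective s
      have : k ⊗ₜ[R] (Ideal.Quotient.mk I p) =
          k • (Algebra.TensorProduct.includeRight (Ideal.Quotient.mk I p) :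
            P.Fiber (R[X] ⧸ I)) := by
        rw [Algebra.TensorProduct.includeRight_apply, TensorProduct.smul_tmul', smul_eq_mul,
          mul_one]
      rw [this, hinc]
      refine Subalgebra.smul_mem _ ?_ _
      have h1 : aeval ξ p = aeval ξ (p.map (algebraMap R P.ResidueField)) := by
        rw [aeval_map_algebraMap]
      rw [h1]
      exact aeval_mem_adjoin_singleton _ _
    | add x y hx hy => exact Subalgebra.add_mem _ hx hy
  have hfin := Algebra.finite_adjoin_simple_of_isIntegral hint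
  rw [htop] at hfin
  exact Module.Finite.equiv
    (Subalgebra.topEquiv (R := P.ResidueField) (A := P.Fiber (R[X] ⧸ I))).toLinearEquiv

end QF

end Groth.Agent.Lib.Helper89.MonicLoc
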