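import Groth.Agent.Lib.Helper89.HensWeier4
import Groth.Agent.Lib.Helper89.MonicLoc

/-!
# Ideals of `R[1/t]` versus `R{t}[1/t]` away from the residue fibre
-/

set_option linter.unusedSectionVars false
set_option linter.unusedVariables false
set_option linter.style.haveILetI false

namespace Groth.Agent.Lib.Helper89.HensWeier

open IsLocalRing Polynomial Groth.Agent.Lib.Helper9.Hens

universe u

section Basic

variable {R : Type u} [CommRing R] {L : Type u} [CommRing L] [Algebra R[X] L]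
  [Algebra R L] [IsScalarTower R R[X] L]
  (ψ : R[X] →ₐ[R] L) (hψ : ψ X * algebraMap R[X] L X = 1)

lemma psi_eq (p : R[X]) : ψ p = eval₂ (algebraMap R L) (ψ X) p := by
  rw [← aeval_def, aeval_algHom_apply, aeval_X_left_apply]

lemma alg_eq (p : R[X]) :
    algebraMap R[X] L p = eval₂ (algebraMap R L) (algebraMap R[X] L X) p := by
  have := psi_eq (IsScalarTower.toAlgHom R R[X] L) p
  simpa using this

include hψ

lemma alg_reflect {N : ℕ} {p : R[X]} (hp : p.natDegree ≤ N) :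
    algebraMap R[X] L (reflect N p) * (ψ X) ^ N = ψ p := by
  letI : Invertible (ψ X) := ⟨algebraMap R[X] L X, by rw [mul_comm]; exact hψ, hψ⟩
  have := eval₂_reflect_mul_pow (algebraMap R L) (ψ X) N p hp
  rw [psi_eq ψ p, ← this, alg_eq]
  rfl

lemma sigma_tau_pow (n : ℕ) : (ψ X) ^ n * (algebraMap R[X] L X) ^ n = 1 := by
  rw [← mul_pow, hψ, one_pow]

/-- `alg (reflect N p) = ψ p * τ ^ N`. -/
lemma alg_reflect' {N : ℕ} {p : R[X]} (hp : p.natDegree ≤ N) :
    algebraMap R[X] L (reflect N p) = ψ p * (algebraMap R[X] L X) ^ N := by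
  rw [← alg_reflect ψ hψ hp, mul_assoc, sigma_tau_pow ψ hψ, mul_one]

end Basic

/-- `g(s) = 1 + (terms with coefficients in 𝔪)`. -/
def IsInvDist {R : Type u} [CommRing R] [IsLocalRing R] (g : R[X]) : Prop :=
  g.coeff 0 = 1 ∧ ∀ j, 1 ≤ j → g.coeff j ∈ maximalIdeal R

section Reflect

variable {R : Type u} [CommRing R] [IsLocalRing R]

lemma IsInvDist.reflect_spec {g : R[X]} (hg : IsInvDist g) :
    (reflect g.natDegree g).Monic ∧ (reflect g.natDegree g).natDegree = g.natDegree ∧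
      ∀ i, i < (reflect g.natDegree g).natDegree →
        (reflect g.natDegree g).coeff i ∈ maximalIdeal R := by
  have hmonic := MonicLoc.monic_reflect_of_coeff_zero hg.1
  have hdeg : (reflect g.natDegree g).natDegree = g.natDegree := by
    refine le_antisymm (MonicLoc.natDegree_reflect_self_le g) ?_
    refine le_natDegree_of_ne_zero ?_
    rw [coeff_reflect, revAt_le le_rfl, Nat.sub_self, hg.1]
    exact one_ne_zero
  refine ⟨hmonic, hdeg, ?_⟩
  intro i hi
  rw [hdeg] at hi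
  rw [coeff_reflect, revAt_le hi.le]
  exact hg.2 _ (Nat.sub_pos_of_lt hi)

/-- Distinguished polynomials reflect to inverse-distinguished ones. -/
lemma isInvDist_reflect {P : R[X]} (hP : P.Monic)
    (hPm : ∀ i, i < P.natDegree → P.coeff i ∈ maximalIdeal R) :
    IsInvDist (reflect P.natDegree P) := by
  refine ⟨?_, ?_⟩
  · rw [coeff_reflect, revAt_zero]
    exact hP.coeff_natDegree
  · intro j hj
    rw [coeff_reflect]
    by_cases hjn : j ≤ P.natDegree
    · rw [revAt_le hjn]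
      apply hPm
      omega
    · rw [revAt_eq_self_of_lt (not_le.mp hjn), coeff_eq_zero_of_natDegree_lt (not_le.mp hjn)]
      exact zero_mem _

end Reflect

section Eval

/-- Evaluation of a polynomial at two congruent points gives congruent values. -/
lemma eval₂_sub_mem {R L : Type*} [CommRing R] [CommRing L] (K : Ideal L) (f : R →+* L) {a b : L}
    (hab : a - b ∈ K) (q : R[X]) : eval₂ f a q - eval₂ f b q ∈ K := by
  rw [← Ideal.Quotient.eq, hom_eval₂, hom_eval₂, Ideal.Quotient.eq.mpr hab]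

end Eval

section Laurent

variable {R : Type u} [CommRing R] [HenselianLocalRing R] {B : Type u} [CommRing B] [Algebra R B]
  [Algebra R[X] B] [IsScalarTower R R[X] B]
  (hB : Hens2.IsPairHenselization R[X] (Ideal.span {(X : R[X])}) B)
  {L : Type u} [CommRing L] [Algebra B L] [Algebra R L] [Algebra R[X] L]
  [IsScalarTower R B L] [IsScalarTower R[X] B L] [IsScalarTower R R[X] L]
  [IsLocalization.Away (algebraMap R[X] B X) L]
  (ψ : R[X] →ₐ[R] L) (hψ : ψ X * algebraMap R[X] L X = 1)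

include hB hψ

/-- Surjectivity of `R[s]/(g) → L/(g)`. -/
theorem invDist_surj {g : R[X]} (hg : IsInvDist g) (ℓ : L) :
    ∃ p : R[X], ℓ - ψ p ∈ Ideal.span {ψ g} := by
  obtain ⟨hP, hPdeg, hPm⟩ := hg.reflect_spec
  obtain ⟨P, hPdef⟩ : ∃ P, P = reflect g.natDegree g := ⟨_, rfl⟩
  rw [← hPdef] at hP hPdeg hPm
  obtain ⟨τ, hτ⟩ : ∃ τ, τ = algebraMap R[X] L X := ⟨_, rfl⟩
  obtain ⟨σ, hσ⟩ : ∃ σ, σ = ψ X := ⟨_, rfl⟩
  have hστ : ∀ n : ℕ, σ ^ n * τ ^ n = 1 := fun n => by
    rw [hσ, hτ]; exact sigma_tau_pow ψ hψ n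
  have hτB : algebraMap B L (algebraMap R[X] B X) = τ := by
    rw [hτ, ← IsScalarTower.algebraMap_apply]
  obtain ⟨k, b, hb⟩ := IsLocalization.Away.surj (algebraMap R[X] B X) ℓ
  rw [hτB] at hb
  obtain ⟨q, hq⟩ := (distinguished_surj_inj hB P hP hPm).1 b
  obtain ⟨b', hb'⟩ := Ideal.mem_span_singleton'.mp hq
  have hb'L : algebraMap B L b = algebraMap R[X] L q +
      algebraMap B L b' * algebraMap R[X] L P := by
    have := congrArg (algebraMap B L) hb'
    rw [map_mul, map_sub, ← IsScalarTower.algebraMap_apply, ← IsScalarTower.algebraMap_apply] at this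
    linear_combination (-1 : L) * this
  have hPL : algebraMap R[X] L P = ψ g * τ ^ g.natDegree := by
    rw [hPdef, hτ]
    exact alg_reflect' ψ hψ le_rfl
  -- `τ ≡ ψ (-divX g)`
  have hτg : τ - ψ (-(divX g)) ∈ Ideal.span {ψ g} := by
    have h1 : divX g * X + C (g.coeff 0) = g := divX_mul_X_add g
    rw [hg.1, map_one] at h1
    have h2 : ψ g = ψ (divX g) * σ + 1 := by
      conv_lhs => rw [← h1]
      rw [map_add, map_mul, map_one, hσ]
    have h3 : τ - ψ (-(divX g)) = τ * ψ g := by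
      have := hστ 1
      rw [pow_one, pow_one] at this
      rw [h2, map_neg]
      linear_combination (-(ψ (divX g))) * this
    rw [h3]
    exact Ideal.mul_mem_left _ _ (Ideal.subset_span rfl)
  have hq1 : algebraMap R[X] L q - ψ (eval₂ C (-(divX g)) q) ∈ Ideal.span {ψ g} := by
    have h1 : ψ (eval₂ C (-(divX g)) q) = eval₂ (algebraMap R L) (ψ (-(divX g))) q := by
      have := hom_eval₂ q (C : R →+* R[X]) (ψ : R[X] →+* L) (-(divX g))
      rw [RingHom.coe_coe] at this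
      rw [this]
      congr 1
      ext r
      change ψ (C r) = _
      rw [← Polynomial.algebraMap_eq, ψ.commutes]
    rw [h1, alg_eq q, ← hτ]
    exact eval₂_sub_mem _ _ hτg q
  refine ⟨X ^ k * eval₂ C (-(divX g)) q, ?_⟩
  have : ℓ - ψ (X ^ k * eval₂ C (-(divX g)) q) =
      σ ^ k * (algebraMap R[X] L q - ψ (eval₂ C (-(divX g)) q)) +
        (σ ^ k * algebraMap B L b' * τ ^ g.natDegree) * ψ g := by
    rw [map_mul, map_pow, ← hσ]
    have h1 := hστ k
    rw [hPL] at hb'L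
    linear_combination (-ℓ) * h1 + (σ ^ k) * hb + (σ ^ k) * hb'L
  rw [this]
  exact add_mem (Ideal.mul_mem_left _ _ hq1) (Ideal.mul_mem_left _ _ (Ideal.subset_span rfl))

/-- Injectivity of `R[s]/(g) → L/(g)`. -/
theorem invDist_inj {g : R[X]} (hg : IsInvDist g) (p : R[X]) (hp : ψ p ∈ Ideal.span {ψ g}) :
    g ∣ p := by
  obtain ⟨hP, hPdeg, hPm⟩ := hg.reflect_spec
  obtain ⟨P, hPdef⟩ : ∃ P, P = reflect g.natDegree g := ⟨_, rfl⟩
  rw [← hPdef] at hP hPdeg hPm
  obtain ⟨n, hn⟩ : ∃ n, n = g.natDegree := ⟨_, rfl⟩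
  obtain ⟨τ, hτ⟩ : ∃ τ, τ = algebraMap R[X] L X := ⟨_, rfl⟩
  obtain ⟨σ, hσ⟩ : ∃ σ, σ = ψ X := ⟨_, rfl⟩
  have hστ : ∀ n : ℕ, σ ^ n * τ ^ n = 1 := fun n => by
    rw [hσ, hτ]; exact sigma_tau_pow ψ hψ n
  have hτB : algebraMap B L (algebraMap R[X] B X) = τ := by
    rw [hτ, ← IsScalarTower.algebraMap_apply]
  obtain ⟨w, hw⟩ := Ideal.mem_span_singleton'.mp hp
  obtain ⟨k, b, hb⟩ := IsLocalization.Away.surj (algebraMap R[X] B X) w
  rw [hτB] at hb
  obtain ⟨N, hN⟩ : ∃ N, N = p.natDegree := ⟨_, rfl⟩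
  have hpt : algebraMap R[X] L (reflect N p) = ψ p * τ ^ N := by
    rw [hτ]
    exact alg_reflect' ψ hψ (le_of_eq hN.symm)
  have hPL : algebraMap R[X] L P = ψ g * τ ^ n := by
    rw [hPdef, hτ, hn]
    exact alg_reflect' ψ hψ le_rfl
  have heqL : algebraMap B L (algebraMap R[X] B (X ^ (n + k) * reflect N p)) =
      algebraMap B L (b * algebraMap R[X] B (P * X ^ N)) := by
    rw [map_mul (algebraMap B L), ← IsScalarTower.algebraMap_apply,
      ← IsScalarTower.algebraMap_apply, map_mul, map_mul, map_pow, map_pow, ← hτ, hpt, hPL, ← hb,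
      ← hw]
    ring
  obtain ⟨j, hj⟩ := IsLocalization.Away.exists_of_eq (algebraMap R[X] B X) heqL
  have hmem : algebraMap R[X] B (X ^ (j + (n + k)) * reflect N p) ∈
      Ideal.span {algebraMap R[X] B P} := by
    rw [Ideal.mem_span_singleton']
    refine ⟨algebraMap R[X] B X ^ j * b * algebraMap R[X] B X ^ N, ?_⟩
    have : algebraMap R[X] B (X ^ (j + (n + k)) * reflect N p) =
        algebraMap R[X] B X ^ j * algebraMap R[X] B (X ^ (n + k) * reflect N p) := by
      rw [pow_add, mul_assoc, map_mul, map_pow]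
    rw [this, hj, map_mul, map_pow]
    ring
  obtain ⟨c, hc⟩ := Ideal.mem_span_singleton.mp ((distinguished_surj_inj hB P hP hPm).2 _ hmem)
  obtain ⟨a, ha⟩ : ∃ a, a = j + (n + k) := ⟨_, rfl⟩
  rw [← ha] at hc
  have hna : n ≤ a := by omega
  have hcdeg : c.natDegree ≤ a + N - n := by
    by_cases hc0 : c = 0
    · rw [hc0, natDegree_zero]; exact Nat.zero_le _
    · have h1 : (P * c).natDegree = P.natDegree + c.natDegree := hP.natDegree_mul' hc0
      have h2 : (X ^ a * reflect N p).natDegree ≤ a + N :=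
        natDegree_mul_le.trans (add_le_add (natDegree_X_pow_le _) natDegree_reflect_le |>.trans
          (by rw [hN, max_self]))
      rw [hc, h1, hPdeg, ← hn] at h2
      omega
  have h1 : reflect (a + N) (X ^ a * reflect N p) = p := by
    rw [reflect_mul _ _ (natDegree_X_pow_le a)
      (natDegree_reflect_le.trans (by rw [hN, max_self])),
      reflect_monomial, revAt_le le_rfl, Nat.sub_self, pow_zero, one_mul, reflect_reflect]
  have h2 : reflect (n + (a + N - n)) (P * c) = g * reflect (a + N - n) c := by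
    rw [reflect_mul _ _ (by rw [hPdeg, hn]) hcdeg, hPdef, hn, reflect_reflect]
  have h3 : n + (a + N - n) = a + N := by omega
  rw [h3, ← hc, h1] at h2
  exact ⟨_, h2⟩

end Laurent

section Main

variable {R : Type u} [CommRing R] [HenselianLocalRing R] {B : Type u} [CommRing B] [Algebra R B]
  [Algebra R[X] B] [IsScalarTower R R[X] B]
  (hB : Hens2.IsPairHenselization R[X] (Ideal.span {(X : R[X])}) B)
  {L : Type u} [CommRing L] [Algebra B L] [Algebra R L] [Algebra R[X] L]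
  [IsScalarTower R B L] [IsScalarTower R[X] B L] [IsScalarTower R R[X] L]
  [IsLocalization.Away (algebraMap R[X] B X) L]
  (ψ : R[X] →ₐ[R] L) (hψ : ψ X * algebraMap R[X] L X = 1)

omit [HenselianLocalRing R] in
/-- An ideal of `R[s]` comaximal with `𝔪 R[s]` contains an inverse-distinguished polynomial. -/
lemma exists_isInvDist_mem [IsLocalRing R] (I : Ideal R[X])
    (hI : I ⊔ (maximalIdeal R).map (algebraMap R R[X]) = ⊤) : ∃ g ∈ I, IsInvDist g := by
  have h1 : (1 : R[X]) ∈ I ⊔ (maximalIdeal R).map (algebraMap R R[X]) := by rw [hI]; trivial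
  obtain ⟨g₁, hg₁, μ, hμ, h⟩ := Submodule.mem_sup.mp h1
  rw [Polynomial.algebraMap_eq] at hμ
  have hμc := Ideal.mem_map_C_iff.mp hμ
  have hcoeff : ∀ j, g₁.coeff j = (1 : R[X]).coeff j - μ.coeff j := by
    intro j
    rw [← h, coeff_add, add_sub_cancel_right]
  have hu : IsUnit (g₁.coeff 0) := by
    rw [hcoeff 0, coeff_one_zero]
    have := Ideal.mem_jacobson_bot.mp (IsLocalRing.maximalIdeal_le_jacobson ⊥ (hμc 0)) (-1)
    rw [mul_neg, mul_one, neg_add_eq_sub] at this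
    exact this
  obtain ⟨u, hu⟩ := hu
  refine ⟨C (↑u⁻¹ : R) * g₁, Ideal.mul_mem_left _ _ hg₁, ?_, ?_⟩
  · rw [coeff_C_mul, ← hu]
    exact u.inv_mul
  · intro j hj
    rw [coeff_C_mul, hcoeff j, coeff_one, if_neg (by omega), zero_sub]
    exact Ideal.mul_mem_left _ _ (neg_mem (hμc j))

include hB hψ

theorem partA (I : Ideal R[X]) (hI : I ⊔ (maximalIdeal R).map (algebraMap R R[X]) = ⊤) :
    (∀ ℓ : L, ∃ p : R[X], ℓ - ψ p ∈ I.map ψ.toRingHom) ∧
    (∀ p : R[X], ψ p ∈ I.map ψ.toRingHom → p ∈ I) := by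
  obtain ⟨g, hgI, hg⟩ := exists_isInvDist_mem I hI
  have hle : Ideal.span {ψ g} ≤ I.map ψ.toRingHom := by
    rw [Ideal.span_le, Set.singleton_subset_iff]
    exact Ideal.mem_map_of_mem ψ.toRingHom hgI
  refine ⟨fun ℓ => ?_, fun p hp => ?_⟩
  · obtain ⟨p, hp⟩ := invDist_surj hB ψ hψ hg ℓ
    exact ⟨p, hle hp⟩
  · have key : ∀ z ∈ I.map ψ.toRingHom, ∃ a ∈ I, z - ψ a ∈ Ideal.span {ψ g} := by
      intro z hz
      refine Submodule.span_induction ?_ ?_ ?_ ?_ hz
      · rintro _ ⟨a, ha, rfl⟩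
        exact ⟨a, ha, by
          change ψ a - ψ a ∈ _
          rw [sub_self]; exact zero_mem _⟩
      · exact ⟨0, zero_mem _, by simp⟩
      · rintro x y _ _ ⟨a₁, h₁, h₁'⟩ ⟨a₂, h₂, h₂'⟩
        refine ⟨a₁ + a₂, add_mem h₁ h₂, ?_⟩
        have : x + y - ψ (a₁ + a₂) = (x - ψ a₁) + (y - ψ a₂) := by rw [map_add]; ring
        rw [this]
        exact add_mem h₁' h₂'
      · rintro ℓ x _ ⟨a, h₁, h₁'⟩
        obtain ⟨p₁, hp₁⟩ := invDist_surj hB ψ hψ hg ℓ
        refine ⟨p₁ * a, Ideal.mul_mem_left _ _ h₁, ?_⟩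
        have : ℓ • x - ψ (p₁ * a) = ℓ * (x - ψ a) + (ℓ - ψ p₁) * ψ a := by
          rw [map_mul, smul_eq_mul]; ring
        rw [this]
        exact add_mem (Ideal.mul_mem_left _ _ h₁') (Ideal.mul_mem_right _ _ hp₁)
    obtain ⟨a, ha, hpa⟩ := key _ hp
    rw [← map_sub] at hpa
    obtain ⟨c, hc⟩ := invDist_inj hB ψ hψ hg _ hpa
    have : p = a + g * c := by rw [← hc]; ring
    rw [this]
    exact add_mem ha (Ideal.mul_mem_right _ _ hgI)

theorem partB (J : Ideal L) (hJ : J ⊔ (maximalIdeal R).map (algebraMap R L) = ⊤) :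
    (J.comap ψ.toRingHom).map ψ.toRingHom = J ∧
      J.comap ψ.toRingHom ⊔ (maximalIdeal R).map (algebraMap R R[X]) = ⊤ := by
  classical
  obtain ⟨τ, hτ⟩ : ∃ τ, τ = algebraMap R[X] L X := ⟨_, rfl⟩
  have hτB : algebraMap B L (algebraMap R[X] B X) = τ := by
    rw [hτ, ← IsScalarTower.algebraMap_apply]
  obtain ⟨𝔞, h𝔞⟩ : ∃ 𝔞 : Ideal B, 𝔞 = J.comap (algebraMap B L) := ⟨_, rfl⟩
  -- clearing denominators in `𝔪 L`
  have hclear : ∀ y ∈ (maximalIdeal R).map (algebraMap R L), ∃ (k : ℕ) (yB : B),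
      yB ∈ (maximalIdeal R).map (algebraMap R B) ∧ y * τ ^ k = algebraMap B L yB := by
    intro y hy
    refine Submodule.span_induction ?_ ?_ ?_ ?_ hy
    · rintro _ ⟨μ, hμ, rfl⟩
      refine ⟨0, algebraMap R B μ, Ideal.mem_map_of_mem _ hμ, ?_⟩
      rw [pow_zero, mul_one, ← IsScalarTower.algebraMap_apply]
    · exact ⟨0, 0, zero_mem _, by simp⟩
    · rintro x y _ _ ⟨k₁, y₁, h₁, h₁'⟩ ⟨k₂, y₂, h₂, h₂'⟩
      refine ⟨k₁ + k₂, algebraMap R[X] B X ^ k₂ * y₁ + algebraMap R[X] B X ^ k₁ * y₂,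
        add_mem (Ideal.mul_mem_left _ _ h₁) (Ideal.mul_mem_left _ _ h₂), ?_⟩
      rw [map_add, map_mul, map_mul, map_pow, map_pow, hτB, ← h₁', ← h₂']
      ring
    · rintro ℓ x _ ⟨k, y₁, h₁, h₁'⟩
      obtain ⟨k', b, hb⟩ := IsLocalization.Away.surj (algebraMap R[X] B X) ℓ
      rw [hτB] at hb
      refine ⟨k' + k, b * y₁, Ideal.mul_mem_left _ _ h₁, ?_⟩
      rw [map_mul, ← hb, ← h₁', smul_eq_mul]
      ring
  -- `T ^ n ∈ 𝔞 + 𝔪 B`
  obtain ⟨n, hn⟩ : ∃ n : ℕ, algebraMap R[X] B X ^ n ∈ 𝔞 ⊔ (maximalIdeal R).map (algebraMap R B) := by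
    have h1 : (1 : L) ∈ J ⊔ (maximalIdeal R).map (algebraMap R L) := by rw [hJ]; trivial
    obtain ⟨j, hj, y, hy, hjy⟩ := Submodule.mem_sup.mp h1
    obtain ⟨k, yB, hyB, hky⟩ := hclear y hy
    obtain ⟨k', b, hb⟩ := IsLocalization.Away.surj (algebraMap R[X] B X) j
    rw [hτB] at hb
    have hb𝔞 : b ∈ 𝔞 := by
      rw [h𝔞, Ideal.mem_comap, ← hb]
      exact Ideal.mul_mem_right _ _ hj
    have heq : algebraMap B L (algebraMap R[X] B X ^ (k + k')) =
        algebraMap B L (algebraMap R[X] B X ^ k * b + algebraMap R[X] B X ^ k' * yB) := by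
      rw [map_add, map_mul, map_mul, map_pow, map_pow, map_pow, hτB, ← hb, ← hky]
      have : τ ^ (k + k') = (j + y) * τ ^ (k + k') := by rw [hjy, one_mul]
      rw [this]
      ring
    obtain ⟨i, hi⟩ := IsLocalization.Away.exists_of_eq (algebraMap R[X] B X) heq
    refine ⟨i + (k + k'), ?_⟩
    rw [pow_add, hi, mul_add]
    exact Submodule.add_mem_sup (Ideal.mul_mem_left _ _ (Ideal.mul_mem_left _ _ hb𝔞))
      (Ideal.mul_mem_left _ _ (Ideal.mul_mem_left _ _ hyB))
  -- a distinguished polynomial in `𝔞`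
  obtain ⟨q', hq'deg, hq'm, hq'⟩ : ∃ q' ∈ degreeLT R n, q' ∈ (maximalIdeal R).map (C : R →+* R[X]) ∧
      algebraMap R[X] B (X ^ n - q') ∈ 𝔞 := by
    obtain ⟨a, ha, y, hy, hay⟩ := Submodule.mem_sup.mp hn
    obtain ⟨k, f, g, hsum⟩ := Submodule.mem_span_set'.mp hy
    choose μ hμm hμ using fun i => (g i).2
    choose q hqdeg hq using fun i => exists_polynomial_sub_mem hB 𝔞 n hn (f i)
    refine ⟨∑ i, C (μ i) * q i, ?_, ?_, ?_⟩
    · refine Submodule.sum_mem _ fun i _ => ?_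
      rw [← smul_eq_C_mul]
      exact Submodule.smul_mem _ _ (hqdeg i)
    · exact Ideal.sum_mem _ fun i _ => Ideal.mul_mem_right _ _ (Ideal.mem_map_of_mem _ (hμm i))
    · have : algebraMap R[X] B (X ^ n - ∑ i, C (μ i) * q i) =
          a - ∑ i, algebraMap R B (μ i) * (algebraMap R[X] B (q i) - f i) := by
        rw [map_sub, map_pow, ← hay, ← hsum, map_sum]
        simp only [mul_sub, Finset.sum_sub_distrib, map_mul, algebraMap_C hB, smul_eq_mul, hμ]
        have : ∀ i, f i * (g i : B) = (g i : B) * f i := fun i => mul_comm _ _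
        simp only [this]
        ring
      rw [this]
      exact sub_mem ha (Ideal.sum_mem _ fun i _ => Ideal.mul_mem_left _ _ (hq i))
  rw [mem_degreeLT] at hq'deg
  obtain ⟨P, hPdef⟩ : ∃ P, P = X ^ n - q' := ⟨_, rfl⟩
  rw [← hPdef] at hq'
  have hPmonic : P.Monic := by rw [hPdef]; exact monic_X_pow_sub hq'deg
  have hPdeg : P.natDegree = n := by
    have h1 : (X ^ n - q').degree = ((n : ℕ) : WithBot ℕ) := by
      rw [degree_sub_eq_left_of_degree_lt (by rw [degree_X_pow]; exact hq'deg), degree_X_pow]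
    rw [hPdef]
    exact natDegree_eq_of_degree_eq_some h1
  have hPm : ∀ i, i < P.natDegree → P.coeff i ∈ maximalIdeal R := by
    intro i hi
    rw [hPdeg] at hi
    rw [hPdef, coeff_sub, coeff_X_pow, if_neg (ne_of_lt hi), zero_sub]
    exact neg_mem (Ideal.mem_map_C_iff.mp hq'm i)
  obtain ⟨g, hgdef⟩ : ∃ g, g = reflect P.natDegree P := ⟨_, rfl⟩
  have hg : IsInvDist g := by rw [hgdef]; exact isInvDist_reflect hPmonic hPm
  have hgJ : g ∈ J.comap ψ.toRingHom := by
    rw [Ideal.mem_comap]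
    change ψ g ∈ J
    have hgdeg : g.natDegree ≤ P.natDegree := by
      rw [hgdef]; exact natDegree_reflect_le.trans (by rw [max_self])
    rw [← alg_reflect ψ hψ hgdeg, hgdef, reflect_reflect]
    refine Ideal.mul_mem_right _ _ ?_
    rw [IsScalarTower.algebraMap_apply R[X] B L]
    rw [h𝔞, Ideal.mem_comap] at hq'
    exact hq'
  refine ⟨le_antisymm Ideal.map_comap_le ?_, ?_⟩
  · intro ℓ hℓ
    obtain ⟨p, hp⟩ := invDist_surj hB ψ hψ hg ℓ
    obtain ⟨w, hw⟩ := Ideal.mem_span_singleton'.mp hp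
    have hgmap : ψ g ∈ (J.comap ψ.toRingHom).map ψ.toRingHom :=
      Ideal.mem_map_of_mem ψ.toRingHom hgJ
    have hpJ : p ∈ J.comap ψ.toRingHom := by
      rw [Ideal.mem_comap]
      change ψ p ∈ J
      have : ψ p = ℓ - w * ψ g := by rw [hw]; ring
      rw [this]
      exact sub_mem hℓ (Ideal.mul_mem_left _ _ hgJ)
    have : ℓ = ψ p + w * ψ g := by rw [hw]; ring
    rw [this]
    exact add_mem (Ideal.mem_map_of_mem ψ.toRingHom hpJ) (Ideal.mul_mem_left _ _ hgmap)
  · rw [Ideal.eq_top_iff_one]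
    have h1 : (1 : R[X]) = g + (1 - g) := by ring
    rw [h1]
    refine Submodule.add_mem_sup hgJ ?_
    rw [Polynomial.algebraMap_eq, Ideal.mem_map_C_iff]
    intro j
    rw [coeff_sub, coeff_one]
    by_cases hj : j = 0
    · rw [hj, if_pos rfl, hg.1, sub_self]
      exact zero_mem _
    · rw [if_neg hj, zero_sub]
      exact neg_mem (hg.2 j (Nat.one_le_iff_ne_zero.mpr hj))

end Main

end Groth.Agent.Lib.Helper89.HensWeier
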