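import Mathlib

/-!
# Invertible modules as invertible ideals (generic lemmas)
-/

set_option linter.unusedSectionVars false
set_option linter.unusedVariables false
set_option linter.style.haveILetI false

namespace Groth.Agent.Lib.Helper89.HensWeier

open TensorProduct

universe u

section Generic

variable {Λ : Type u} [CommRing Λ]

/-- If `ρ : Λ → K` is surjective and `Pic K` is trivial, every invertible `Λ`-module has an element
`e` and a functional `φ` with `ρ (φ e) = 1`. -/
theorem exists_dual_apply_map_eq_one {K : Type u} [CommRing K] (ρ : Λ →+* K)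
    (hρ : Function.Surjective ρ) [Subsingleton (CommRing.Pic K)]
    (M : Type u) [AddCommGroup M] [Module Λ M] [Module.Invertible Λ M] :
    ∃ (e : M) (φ : Module.Dual Λ M), ρ (φ e) = 1 := by
  letI : Algebra Λ K := ρ.toAlgebra
  haveI : Module.Free K (K ⊗[Λ] M) := inferInstance
  obtain ⟨θ⟩ := Module.Invertible.free_iff_linearEquiv.mp this
  let χ : M →ₗ[Λ] K := (θ.toLinearMap.restrictScalars Λ).comp (TensorProduct.mk Λ K M 1)
  have hχ : Function.Surjective χ := by
    intro y
    obtain ⟨z, rfl⟩ := θ.surjective y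
    have hz : ∃ m : M, z = (1 : K) ⊗ₜ[Λ] m := by
      induction z using TensorProduct.induction_on with
      | zero => exact ⟨0, by simp⟩
      | tmul a m =>
        obtain ⟨l, rfl⟩ := hρ a
        refine ⟨l • m, ?_⟩
        rw [TensorProduct.tmul_smul, TensorProduct.smul_tmul', Algebra.smul_def, mul_one]
        rfl
      | add z₁ z₂ h₁ h₂ =>
        obtain ⟨m₁, rfl⟩ := h₁
        obtain ⟨m₂, rfl⟩ := h₂
        exact ⟨m₁ + m₂, by rw [TensorProduct.tmul_add]⟩
    obtain ⟨m, rfl⟩ := hz
    exact ⟨m, rfl⟩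
  obtain ⟨φ, hφ⟩ := Module.projective_lifting_property (Algebra.linearMap Λ K) χ hρ
  obtain ⟨e, he⟩ := hχ 1
  refine ⟨e, φ, ?_⟩
  have := DFunLike.congr_fun hφ e
  rw [he] at this
  exact this

variable (M : Type u) [AddCommGroup M] [Module Λ M] [Module.Invertible Λ M]

/-- The rank-one identity. -/
theorem dual_apply_mul_comm (φ φ' : Module.Dual Λ M) (x y : M) :
    φ x * φ' y = φ y * φ' x := by
  have h := congrArg ((LinearMap.mul' Λ Λ).comp (TensorProduct.map φ φ'))
    (Module.Invertible.tmul_comm (R := Λ) (m₁ := x) (m₂ := y))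
  simpa using h

/-- A functional taking a regular value is injective. -/
theorem dual_injective_of_mem_nonZeroDivisors (φ : Module.Dual Λ M) (e : M)
    (h : φ e ∈ nonZeroDivisors Λ) : Function.Injective φ := by
  rw [injective_iff_map_eq_zero]
  intro x hx
  rw [← Module.forall_dual_apply_eq_zero_iff Λ x]
  intro φ'
  have h1 := dual_apply_mul_comm M φ φ' x e
  rw [hx, zero_mul] at h1
  exact (mul_left_mem_nonZeroDivisors_eq_zero_iff h).mp h1.symm

/-- The image of an invertible module under a functional is an invertible ideal: there is an ideal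
`𝔠` with `range φ * 𝔠 = (φ e')`. -/
theorem exists_ideal_range_mul_eq_span (φ : Module.Dual Λ M) (e' : M) :
    ∃ 𝔠 : Ideal Λ, (LinearMap.range φ : Ideal Λ) * 𝔠 = Ideal.span {φ e'} ∧ φ e' ∈ 𝔠 := by
  let 𝔠 : Ideal Λ :=
    { carrier := {l | ∀ m : M, l * φ m ∈ Ideal.span {φ e'}}
      add_mem' := fun {a b} ha hb m => by
        rw [add_mul]; exact add_mem (ha m) (hb m)
      zero_mem' := fun m => by rw [zero_mul]; exact zero_mem _
      smul_mem' := fun c x hx m => by
        rw [smul_eq_mul, mul_assoc]; exact Ideal.mul_mem_left _ _ (hx m) }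
  have hmem : ∀ l, l ∈ 𝔠 ↔ ∀ m : M, l * φ m ∈ Ideal.span {φ e'} := fun l => Iff.rfl
  refine ⟨𝔠, ?_, ?_⟩
  · apply le_antisymm
    · rw [Ideal.mul_le]
      rintro _ ⟨m, rfl⟩ c hc
      rw [mul_comm]
      exact (hmem c).mp hc m
    · rw [Ideal.span_le, Set.singleton_subset_iff]
      have key : ∀ z : Module.Dual Λ M ⊗[Λ] M, contractLeft Λ M z * φ e' ∈
          (LinearMap.range φ : Ideal Λ) * 𝔠 := by
        intro z
        induction z using TensorProduct.induction_on with
        | zero => simp
        | tmul φ' x =>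
          rw [contractLeft_apply, dual_apply_mul_comm M φ' φ x e', mul_comm (φ' e')]
          refine Ideal.mul_mem_mul ⟨x, rfl⟩ ?_
          rw [hmem]
          intro m
          rw [dual_apply_mul_comm M φ' φ e' m]
          exact Ideal.mul_mem_left _ _ (Ideal.subset_span rfl)
        | add z₁ z₂ h₁ h₂ =>
          rw [map_add, add_mul]
          exact add_mem h₁ h₂
      obtain ⟨z, hz⟩ := (Module.Invertible.bijective (R := Λ) (M := M)).2 1
      have := key z
      rw [hz, one_mul] at this
      exact this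
  · rw [hmem]
    intro m
    exact Ideal.mul_mem_right _ _ (Ideal.subset_span rfl)

end Generic

section InvIdeal

variable {Λ : Type u} [CommRing Λ]

/-- An ideal `𝔟` with `𝔟 𝔠 = (x)`, `x` regular, is an invertible module. -/
theorem invertible_of_mul_eq_span (𝔟 𝔠 : Ideal Λ) (x : Λ) (hx : x ∈ nonZeroDivisors Λ)
    (h : 𝔟 * 𝔠 = Ideal.span {x}) : Module.Invertible Λ 𝔟 := by
  let S := Localization.Away x
  have hinj : Function.Injective (algebraMap Λ S) :=
    IsLocalization.injective S (Submonoid.powers_le.mpr hx)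
  haveI : FaithfulSMul Λ S := (faithfulSMul_iff_algebraMap_injective Λ S).mpr hinj
  obtain ⟨xinv, hxinv⟩ : ∃ xinv : S, xinv * algebraMap Λ S x = 1 := by
    obtain ⟨u, hu⟩ := IsLocalization.Away.algebraMap_isUnit (S := S) x
    exact ⟨↑u⁻¹, by rw [← hu]; exact u.inv_mul⟩
  let I : Submodule Λ S := Submodule.map (Algebra.linearMap Λ S) 𝔟
  let J : Submodule Λ S :=
    Submodule.map ((LinearMap.mulLeft Λ xinv).comp (Algebra.linearMap Λ S)) 𝔠
  have hIJ : I * J = 1 := by
    apply le_antisymm
    · rw [Submodule.mul_le]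
      rintro _ ⟨b, hb, rfl⟩ _ ⟨c, hc, rfl⟩
      have hbc : b * c ∈ Ideal.span {x} := h ▸ Ideal.mul_mem_mul hb hc
      obtain ⟨r, hr⟩ := Ideal.mem_span_singleton'.mp hbc
      rw [Submodule.mem_one]
      refine ⟨r, ?_⟩
      simp only [LinearMap.coe_comp, Function.comp_apply, Algebra.linearMap_apply,
        LinearMap.mulLeft_apply]
      have : algebraMap Λ S b * (xinv * algebraMap Λ S c) =
          xinv * algebraMap Λ S (b * c) := by rw [map_mul]; ring
      rw [this, ← hr, map_mul, ← mul_assoc, mul_comm xinv, mul_assoc, hxinv, mul_one]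
    · rw [Submodule.one_le]
      have key : ∀ y ∈ 𝔟 * 𝔠, xinv * algebraMap Λ S y ∈ I * J := by
        intro y hy
        refine Submodule.mul_induction_on hy ?_ ?_
        · intro b hb c hc
          have : xinv * algebraMap Λ S (b * c) =
              algebraMap Λ S b * (xinv * algebraMap Λ S c) := by rw [map_mul]; ring
          rw [this]
          exact Submodule.mul_mem_mul ⟨b, hb, rfl⟩ ⟨c, hc, rfl⟩
        · intro y₁ y₂ h₁ h₂
          rw [map_add, mul_add]
          exact add_mem h₁ h₂
      have := key x (h ▸ Ideal.subset_span rfl)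
      rw [hxinv] at this
      exact this
  obtain ⟨U, hU⟩ : ∃ U : (Submodule Λ S)ˣ, (U : Submodule Λ S) = I :=
    ⟨Units.mkOfMulEqOne I J hIJ, rfl⟩
  haveI : Module.Invertible Λ (U : Submodule Λ S) := inferInstance
  have e : 𝔟 ≃ₗ[Λ] (U : Submodule Λ S) :=
    (Submodule.equivMapOfInjective (Algebra.linearMap Λ S) hinj 𝔟).trans
      (LinearEquiv.ofEq _ _ hU.symm)
  exact Module.Invertible.congr e.symm

end InvIdeal

end Groth.Agent.Lib.Helper89.HensWeier
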