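import Groth.Agent.Lib.Helper89.HensWeier5
import Groth.Agent.Lib.Helper89.HensWeier6

/-!
# Picard groups of `R[1/t]` and `R{t}[1/t]`
-/

set_option linter.unusedSectionVars false
set_option linter.unusedVariables false
set_option linter.style.haveILetI false

namespace Groth.Agent.Lib.Helper89.HensWeier

open IsLocalRing Polynomial Groth.Agent.Lib.Helper9.Hens TensorProduct

universe u

section PolyRing

variable {R : Type u} [CommRing R] [IsLocalRing R]

/-- Inverse-distinguished polynomials are nonzerodivisors. -/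
lemma IsInvDist.mem_nonZeroDivisors {g : R[X]} (hg : IsInvDist g) : g ∈ nonZeroDivisors R[X] := by
  obtain ⟨hP, hPdeg, hPm⟩ := hg.reflect_spec
  rw [mem_nonZeroDivisors_iff_right]
  intro h hh
  have h1 := reflect_mul h g (le_refl h.natDegree) (le_refl g.natDegree)
  rw [hh, reflect_zero] at h1
  have h2 : reflect h.natDegree h = 0 := (hP.mul_left_eq_zero_iff).mp h1.symm
  exact reflect_eq_zero_iff.mp h2

lemma IsInvDist.sub_one_mem {g : R[X]} (hg : IsInvDist g) :
    g - 1 ∈ (maximalIdeal R).map (algebraMap R R[X]) := by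
  rw [Polynomial.algebraMap_eq, Ideal.mem_map_C_iff]
  intro j
  rw [coeff_sub, coeff_one]
  by_cases hj : j = 0
  · rw [hj, if_pos rfl, hg.1, sub_self]
    exact zero_mem _
  · rw [if_neg hj, sub_zero]
    exact hg.2 j (Nat.one_le_iff_ne_zero.mpr hj)

/-- An ideal containing an inverse-distinguished polynomial is comaximal with `𝔪 R[s]`. -/
lemma sup_eq_top_of_isInvDist_mem {I : Ideal R[X]} {g : R[X]} (hg : IsInvDist g) (hgI : g ∈ I) :
    I ⊔ (maximalIdeal R).map (algebraMap R R[X]) = ⊤ := by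
  rw [Ideal.eq_top_iff_one]
  have h1 : (1 : R[X]) = g + -(g - 1) := by ring
  rw [h1]
  exact Submodule.add_mem_sup hgI (neg_mem hg.sub_one_mem)

lemma IsInvDist.mul {g h : R[X]} (hg : IsInvDist g) (hh : IsInvDist h) : IsInvDist (g * h) := by
  have key : g * h - 1 ∈ (maximalIdeal R).map (algebraMap R R[X]) := by
    have : g * h - 1 = g * (h - 1) + (g - 1) := by ring
    rw [this]
    exact add_mem (Ideal.mul_mem_left _ _ hh.sub_one_mem) hg.sub_one_mem
  rw [Polynomial.algebraMap_eq, Ideal.mem_map_C_iff] at key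
  refine ⟨?_, ?_⟩
  · rw [mul_coeff_zero, hg.1, hh.1, mul_one]
  · intro j hj
    have := key j
    rw [coeff_sub, coeff_one, if_neg (by omega), sub_zero] at this
    exact this

/-- The Picard group of `k[X]` is trivial, transported to the reduction map of `R[X]`. -/
lemma exists_dual_apply_sub_one_mem (M : Type u) [AddCommGroup M] [Module R[X] M]
    [Module.Invertible R[X] M] :
    ∃ (e : M) (φ : Module.Dual R[X] M),
      φ e - 1 ∈ (maximalIdeal R).map (algebraMap R R[X]) := by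
  letI := Ideal.Quotient.field (maximalIdeal R)
  obtain ⟨e, φ, h⟩ := exists_dual_apply_map_eq_one
    (Polynomial.mapRingHom (Ideal.Quotient.mk (maximalIdeal R)))
    (Polynomial.map_surjective _ Ideal.Quotient.mk_surjective) M
  refine ⟨e, φ, ?_⟩
  have h1 : φ e - 1 ∈ RingHom.ker (Polynomial.mapRingHom (Ideal.Quotient.mk (maximalIdeal R))) := by
    rw [RingHom.mem_ker, map_sub, h, map_one, sub_self]
  rw [Polynomial.ker_mapRingHom, Ideal.mk_ker] at h1
  rw [Polynomial.algebraMap_eq]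
  exact h1

end PolyRing

section LSide

variable {R : Type u} [CommRing R] [HenselianLocalRing R] {B : Type u} [CommRing B] [Algebra R B]
  [Algebra R[X] B] [IsScalarTower R R[X] B]
  (hB : Hens2.IsPairHenselization R[X] (Ideal.span {(X : R[X])}) B)
  {L : Type u} [CommRing L] [Algebra B L] [Algebra R L] [Algebra R[X] L]
  [IsScalarTower R B L] [IsScalarTower R[X] B L] [IsScalarTower R R[X] L]
  [IsLocalization.Away (algebraMap R[X] B X) L]
  (ψ : R[X] →ₐ[R] L) (hψ : ψ X * algebraMap R[X] L X = 1)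

omit [HenselianLocalRing R] [IsScalarTower R R[X] B] [IsScalarTower R[X] B L]
  [IsScalarTower R R[X] L] [IsLocalization.Away (algebraMap R[X] B X) L] in
lemma algebraMap_mem_of_mem_mB [IsLocalRing R] (y : B)
    (hy : y ∈ (maximalIdeal R).map (algebraMap R B)) :
    algebraMap B L y ∈ (maximalIdeal R).map (algebraMap R L) := by
  have h1 := Ideal.mem_map_of_mem (algebraMap B L) hy
  rw [Ideal.map_map, ← IsScalarTower.algebraMap_eq] at h1
  exact h1

omit [HenselianLocalRing R] [IsScalarTower R R[X] B] [IsScalarTower R R[X] L] in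
/-- Clearing denominators in `𝔪 L`. -/
lemma exists_clear [IsLocalRing R] (y : L) (hy : y ∈ (maximalIdeal R).map (algebraMap R L)) :
    ∃ (k : ℕ) (yB : B), yB ∈ (maximalIdeal R).map (algebraMap R B) ∧
      y * (algebraMap R[X] L X) ^ k = algebraMap B L yB := by
  obtain ⟨τ, hτ⟩ : ∃ τ, τ = algebraMap R[X] L X := ⟨_, rfl⟩
  have hτB : algebraMap B L (algebraMap R[X] B X) = τ := by
    rw [hτ, ← IsScalarTower.algebraMap_apply]
  rw [← hτ]
  refine Submodule.span_induction ?_ ?_ ?_ ?_ hy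
  · rintro _ ⟨μ, hμ, rfl⟩
    refine ⟨0, algebraMap R B μ, Ideal.mem_map_of_mem _ hμ, ?_⟩
    rw [pow_zero, mul_one, ← IsScalarTower.algebraMap_apply]
  · exact ⟨0, 0, zero_mem _, by simp⟩
  · rintro x y _ _ ⟨k₁, y₁, h₁, h₁'⟩ ⟨k₂, y₂, h₂, h₂'⟩
    refine ⟨k₁ + k₂, algebraMap R[X] B X ^ k₂ * y₁ + algebraMap R[X] B X ^ k₁ * y₂,
      add_mem (Ideal.mul_mem_left _ _ h₁) (Ideal.mul_mem_left _ _ h₂), ?_⟩
    rw [map_add, map_mul, map_mul, map_pow, map_pow, hτB, ← h₁', ← h₂']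
    ring
  · rintro ℓ x _ ⟨k, y₁, h₁, h₁'⟩
    obtain ⟨k', b, hb⟩ := IsLocalization.Away.surj (algebraMap R[X] B X) ℓ
    rw [hτB] at hb
    refine ⟨k' + k, b * y₁, Ideal.mul_mem_left _ _ h₁, ?_⟩
    rw [map_mul, ← hb, ← h₁', smul_eq_mul]
    ring

include hB in
lemma one_notMem_mL : (1 : L) ∉ (maximalIdeal R).map (algebraMap R L) := by
  intro h
  obtain ⟨k, yB, hyB, hk⟩ := exists_clear (B := B) (1 : L) h
  rw [one_mul, IsScalarTower.algebraMap_apply R[X] B L, ← map_pow] at hk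
  obtain ⟨j, hj⟩ := IsLocalization.Away.exists_of_eq (algebraMap R[X] B X) hk
  apply T_pow_notMem hB (j + k)
  rw [pow_add, hj]
  exact Ideal.mul_mem_left _ _ hyB

include hB hψ in
/-- `L / 𝔪 L` is a field, elementwise. -/
lemma mem_or_exists_mul_sub_one_mem (ℓ : L) :
    ℓ ∈ (maximalIdeal R).map (algebraMap R L) ∨
      ∃ ℓ' : L, ℓ * ℓ' - 1 ∈ (maximalIdeal R).map (algebraMap R L) := by
  obtain ⟨τ, hτ⟩ : ∃ τ, τ = algebraMap R[X] L X := ⟨_, rfl⟩
  obtain ⟨σ, hσ⟩ : ∃ σ, σ = ψ X := ⟨_, rfl⟩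
  have hστ : ∀ n : ℕ, σ ^ n * τ ^ n = 1 := fun n => by
    rw [hσ, hτ]; exact sigma_tau_pow ψ hψ n
  have hτB : algebraMap B L (algebraMap R[X] B X) = τ := by
    rw [hτ, ← IsScalarTower.algebraMap_apply]
  obtain ⟨k, b, hb⟩ := IsLocalization.Away.surj (algebraMap R[X] B X) ℓ
  rw [hτB] at hb
  by_cases hbm : b ∈ (maximalIdeal R).map (algebraMap R B)
  · left
    have : ℓ = σ ^ k * algebraMap B L b := by
      rw [← hb]
      linear_combination (-ℓ) * hστ k
    rw [this]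
    exact Ideal.mul_mem_left _ _ (algebraMap_mem_of_mem_mB b hbm)
  · right
    obtain ⟨d, g, y, hy, hbg⟩ := exists_pow_unit_decomp hB b hbm
    refine ⟨σ ^ d * algebraMap B L (↑g⁻¹ : B) * τ ^ k, ?_⟩
    have h1 : algebraMap B L (g : B) * algebraMap B L (↑g⁻¹ : B) = 1 := by
      rw [← map_mul, g.mul_inv, map_one]
    have h2 : algebraMap B L b = τ ^ d * algebraMap B L (g : B) + algebraMap B L y := by
      rw [hbg, map_add, map_mul, map_pow, hτB]
    have : ℓ * (σ ^ d * algebraMap B L (↑g⁻¹ : B) * τ ^ k) - 1 =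
        (σ ^ d * algebraMap B L (↑g⁻¹ : B)) * algebraMap B L y := by
      rw [h2] at hb
      linear_combination (σ ^ d * algebraMap B L (↑g⁻¹ : B)) * hb + (σ ^ d * τ ^ d) * h1 + hστ d
    rw [this]
    exact Ideal.mul_mem_left _ _ (algebraMap_mem_of_mem_mB y hy)

include hB hψ in
lemma subsingleton_pic_quotient :
    Subsingleton (CommRing.Pic (L ⧸ (maximalIdeal R).map (algebraMap R L))) := by
  haveI : Nontrivial (L ⧸ (maximalIdeal R).map (algebraMap R L)) := by
    apply Ideal.Quotient.nontrivial_iff.mpr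
    rw [Ne, Ideal.eq_top_iff_one]
    exact one_notMem_mL hB
  haveI : IsLocalRing (L ⧸ (maximalIdeal R).map (algebraMap R L)) := by
    apply IsLocalRing.of_isUnit_or_isUnit_one_sub_self
    intro a
    obtain ⟨ℓ, rfl⟩ := Ideal.Quotient.mk_surjective a
    rcases mem_or_exists_mul_sub_one_mem hB ψ hψ ℓ with h | ⟨ℓ', h⟩
    · right
      rw [Ideal.Quotient.eq_zero_iff_mem.mpr h, sub_zero]
      exact isUnit_one
    · left
      refine IsUnit.of_mul_eq_one (Ideal.Quotient.mk _ ℓ') ?_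
      rw [← map_mul, ← map_one (Ideal.Quotient.mk _), Ideal.Quotient.eq]
      exact h
  infer_instance

include hB hψ in
lemma exists_dual_apply_sub_one_mem_L (𝓛 : Type u) [AddCommGroup 𝓛] [Module L 𝓛]
    [Module.Invertible L 𝓛] :
    ∃ (e : 𝓛) (φ : Module.Dual L 𝓛), φ e - 1 ∈ (maximalIdeal R).map (algebraMap R L) := by
  haveI := subsingleton_pic_quotient hB ψ hψ
  obtain ⟨e, φ, h⟩ := exists_dual_apply_map_eq_one
    (Ideal.Quotient.mk ((maximalIdeal R).map (algebraMap R L))) Ideal.Quotient.mk_surjective 𝓛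
  refine ⟨e, φ, ?_⟩
  rw [← Ideal.Quotient.eq, h, map_one]

include hB hψ in
/-- `ψ g` is a nonzerodivisor of `L` for inverse-distinguished `g`. -/
lemma psi_mem_nonZeroDivisors {g : R[X]} (hg : IsInvDist g) : ψ g ∈ nonZeroDivisors L := by
  obtain ⟨hP, hPdeg, hPm⟩ := hg.reflect_spec
  obtain ⟨τ, hτ⟩ : ∃ τ, τ = algebraMap R[X] L X := ⟨_, rfl⟩
  obtain ⟨σ, hσ⟩ : ∃ σ, σ = ψ X := ⟨_, rfl⟩
  have hστ : ∀ n : ℕ, σ ^ n * τ ^ n = 1 := fun n => by
    rw [hσ, hτ]; exact sigma_tau_pow ψ hψ n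
  have hτB : algebraMap B L (algebraMap R[X] B X) = τ := by
    rw [hτ, ← IsScalarTower.algebraMap_apply]
  haveI := flat_of_isPairHenselization hB
  have hreg : IsSMulRegular B (algebraMap R[X] B (reflect g.natDegree g)) :=
    IsSMulRegular.of_flat (hP.isRegular.left.isSMulRegular)
  have hPL : algebraMap R[X] L (reflect g.natDegree g) = ψ g * τ ^ g.natDegree := by
    rw [hτ]
    exact alg_reflect' ψ hψ le_rfl
  rw [mem_nonZeroDivisors_iff_right]
  intro ℓ hℓ
  obtain ⟨k, c, hc⟩ := IsLocalization.Away.surj (algebraMap R[X] B X) ℓ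
  rw [hτB] at hc
  have h1 : algebraMap B L (algebraMap R[X] B (reflect g.natDegree g) * c) = algebraMap B L 0 := by
    rw [map_mul, ← IsScalarTower.algebraMap_apply, hPL, ← hc, map_zero]
    linear_combination (τ ^ g.natDegree * τ ^ k) * hℓ
  obtain ⟨j, hj⟩ := IsLocalization.Away.exists_of_eq (algebraMap R[X] B X) h1
  rw [mul_zero] at hj
  have h2 : algebraMap R[X] B X ^ j * c = 0 := by
    apply hreg
    change algebraMap R[X] B (reflect g.natDegree g) * (algebraMap R[X] B X ^ j * c) =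
      algebraMap R[X] B (reflect g.natDegree g) * 0
    rw [mul_zero, ← hj]
    ring
  have h3 : τ ^ j * algebraMap B L c = 0 := by
    rw [← hτB, ← map_pow, ← map_mul, h2, map_zero]
  have : ℓ = (σ ^ j * σ ^ k) * (τ ^ j * algebraMap B L c) := by
    rw [← hc]
    linear_combination (-ℓ * σ ^ j * τ ^ j) * hστ k - ℓ * hστ j
  rw [this, h3, mul_zero]

end LSide

section Pic

variable {R : Type u} [CommRing R] [HenselianLocalRing R] {B : Type u} [CommRing B] [Algebra R B]
  [Algebra R[X] B] [IsScalarTower R R[X] B]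
  (hB : Hens2.IsPairHenselization R[X] (Ideal.span {(X : R[X])}) B)
  {L : Type u} [CommRing L] [Algebra B L] [Algebra R L] [Algebra R[X] L]
  [IsScalarTower R B L] [IsScalarTower R[X] B L] [IsScalarTower R R[X] L]
  [IsLocalization.Away (algebraMap R[X] B X) L]
  (ψ : R[X] →ₐ[R] L) (hψ : ψ X * algebraMap R[X] L X = 1)

include hB hψ

lemma comap_map_eq_of_sup_eq_top (I : Ideal R[X])
    (hI : I ⊔ (maximalIdeal R).map (algebraMap R R[X]) = ⊤) :
    (I.map ψ.toRingHom).comap ψ.toRingHom = I :=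
  le_antisymm (fun p hp => (partA hB ψ hψ I hI).2 p hp) Ideal.le_comap_map

lemma eq_of_map_eq (I₁ I₂ : Ideal R[X])
    (h₁ : I₁ ⊔ (maximalIdeal R).map (algebraMap R R[X]) = ⊤)
    (h₂ : I₂ ⊔ (maximalIdeal R).map (algebraMap R R[X]) = ⊤)
    (h : I₁.map ψ.toRingHom = I₂.map ψ.toRingHom) : I₁ = I₂ := by
  rw [← comap_map_eq_of_sup_eq_top hB ψ hψ I₁ h₁, h, comap_map_eq_of_sup_eq_top hB ψ hψ I₂ h₂]

lemma psi_sub_one_mem {g : R[X]} (hg : IsInvDist g) :
    ψ g - 1 ∈ (maximalIdeal R).map (algebraMap R L) := by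
  have h1 := Ideal.mem_map_of_mem ψ.toRingHom hg.sub_one_mem
  rw [Ideal.map_map] at h1
  have h3 : ψ.toRingHom.comp (algebraMap R R[X]) = algebraMap R L := by
    ext r; exact ψ.commutes r
  rw [h3] at h1
  have : ψ.toRingHom (g - 1) = ψ g - 1 := by
    rw [map_sub, map_one]; rfl
  rw [this] at h1
  exact h1

/-- Every invertible `L`-module is isomorphic to the extension of an invertible ideal of `R[s]`
(containing an inverse-distinguished polynomial). -/
theorem exists_invertible_ideal_of_invertible (𝓛 : Type u) [AddCommGroup 𝓛] [Module L 𝓛]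
    [Module.Invertible L 𝓛] :
    ∃ 𝔟 : Ideal R[X], Module.Invertible R[X] 𝔟 ∧ (∃ g ∈ 𝔟, IsInvDist g) ∧
      Nonempty (𝓛 ≃ₗ[L] (𝔟.map ψ.toRingHom : Ideal L)) := by
  obtain ⟨e, φ, he⟩ := exists_dual_apply_sub_one_mem_L hB ψ hψ 𝓛
  obtain ⟨J, hJ⟩ : ∃ J : Ideal L, J = LinearMap.range φ := ⟨_, rfl⟩
  have hJtop : J ⊔ (maximalIdeal R).map (algebraMap R L) = ⊤ := by
    rw [Ideal.eq_top_iff_one]
    have : (1 : L) = φ e + -(φ e - 1) := by ring
    rw [this]
    exact Submodule.add_mem_sup (hJ ▸ ⟨e, rfl⟩) (neg_mem he)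
  obtain ⟨hJmap, hJcomap⟩ := partB hB ψ hψ J hJtop
  obtain ⟨g, hg𝔟, hg⟩ := exists_isInvDist_mem _ hJcomap
  have hgJ : ψ g ∈ J := hg𝔟
  obtain ⟨e'', he''⟩ : ∃ e'', φ e'' = ψ g := by rw [hJ] at hgJ; exact hgJ
  have hreg := psi_mem_nonZeroDivisors hB ψ hψ hg
  have hφinj : Function.Injective φ :=
    dual_injective_of_mem_nonZeroDivisors 𝓛 φ e'' (he'' ▸ hreg)
  obtain ⟨𝔠', h𝔠', hg𝔠'⟩ := exists_ideal_range_mul_eq_span 𝓛 φ e''
  rw [he'', ← hJ] at h𝔠'
  rw [he''] at hg𝔠'
  have h𝔠'top : 𝔠' ⊔ (maximalIdeal R).map (algebraMap R L) = ⊤ := by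
    rw [Ideal.eq_top_iff_one]
    have : (1 : L) = ψ g + -(ψ g - 1) := by ring
    rw [this]
    exact Submodule.add_mem_sup hg𝔠' (neg_mem (psi_sub_one_mem hB ψ hψ hg))
  obtain ⟨h𝔠'map, h𝔠'comap⟩ := partB hB ψ hψ 𝔠' h𝔠'top
  have hg𝔠 : g ∈ 𝔠'.comap ψ.toRingHom := hg𝔠'
  have hprod : J.comap ψ.toRingHom * 𝔠'.comap ψ.toRingHom = Ideal.span {g} := by
    apply eq_of_map_eq hB ψ hψ
    · exact sup_eq_top_of_isInvDist_mem (hg.mul hg) (Ideal.mul_mem_mul hg𝔟 hg𝔠)
    · exact sup_eq_top_of_isInvDist_mem hg (Ideal.subset_span rfl)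
    · rw [Ideal.map_mul, hJmap, h𝔠'map, h𝔠', Ideal.map_span, Set.image_singleton]
      rfl
  have hinv : Module.Invertible R[X] (J.comap ψ.toRingHom) :=
    invertible_of_mul_eq_span _ _ g hg.mem_nonZeroDivisors hprod
  refine ⟨J.comap ψ.toRingHom, hinv, ⟨g, hg𝔟, hg⟩, ?_⟩
  have e1 : 𝓛 ≃ₗ[L] LinearMap.range φ := LinearEquiv.ofInjective φ hφinj
  have h2 : (LinearMap.range φ : Submodule L L) =
      ((J.comap ψ.toRingHom).map ψ.toRingHom : Ideal L) := by
    rw [hJmap, hJ]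
  exact ⟨e1.trans (LinearEquiv.ofEq _ _ h2)⟩

/-- If the extension to `L` of an ideal `𝔟` of `R[s]` containing an inverse-distinguished polynomial
is principal, then `𝔟` is principal, generated by an inverse-distinguished polynomial. -/
theorem exists_eq_span_of_map_eq_span (𝔟 : Ideal R[X]) (g : R[X]) (hg : IsInvDist g) (hg𝔟 : g ∈ 𝔟)
    (β : L) (hβ : 𝔟.map ψ.toRingHom = Ideal.span {β}) :
    ∃ g_b : R[X], IsInvDist g_b ∧ 𝔟 = Ideal.span {g_b} := by
  obtain ⟨hP, hPdeg, hPm⟩ := hg.reflect_spec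
  obtain ⟨P, hPdef⟩ : ∃ P, P = reflect g.natDegree g := ⟨_, rfl⟩
  rw [← hPdef] at hP hPdeg hPm
  obtain ⟨n, hn⟩ : ∃ n, n = g.natDegree := ⟨_, rfl⟩
  obtain ⟨τ, hτ⟩ : ∃ τ, τ = algebraMap R[X] L X := ⟨_, rfl⟩
  obtain ⟨σ, hσ⟩ : ∃ σ, σ = ψ X := ⟨_, rfl⟩
  have hστ : ∀ n : ℕ, σ ^ n * τ ^ n = 1 := fun n => by
    rw [hσ, hτ]; exact sigma_tau_pow ψ hψ n
  have hτB : algebraMap B L (algebraMap R[X] B X) = τ := by
    rw [hτ, ← IsScalarTower.algebraMap_apply]
  have hPL : algebraMap R[X] L P = ψ g * τ ^ n := by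
    rw [hPdef, hτ, hn]
    exact alg_reflect' ψ hψ le_rfl
  -- `ψ g = lam * β`
  have hgβ : ψ g ∈ Ideal.span {β} := hβ ▸ Ideal.mem_map_of_mem ψ.toRingHom hg𝔟
  obtain ⟨lam, hlam⟩ := Ideal.mem_span_singleton'.mp hgβ
  obtain ⟨a, b, hb⟩ := IsLocalization.Away.surj (algebraMap R[X] B X) β
  obtain ⟨c, l, hl⟩ := IsLocalization.Away.surj (algebraMap R[X] B X) lam
  rw [hτB] at hb hl
  have heqL : algebraMap B L (algebraMap R[X] B X ^ n * (b * l)) =
      algebraMap B L (algebraMap R[X] B P * algebraMap R[X] B X ^ (a + c)) := by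
    rw [map_mul, map_mul, map_mul, map_pow, map_pow, hτB, ← IsScalarTower.algebraMap_apply, hPL,
      ← hb, ← hl, ← hlam]
    have := hστ n
    ring
  obtain ⟨j, hj⟩ := IsLocalization.Away.exists_of_eq (algebraMap R[X] B X) heqL
  -- `b ∉ 𝔪 B`
  have hbm : b ∉ (maximalIdeal R).map (algebraMap R B) := by
    intro hbm
    have h1 : algebraMap R[X] B X ^ j * (algebraMap R[X] B P * algebraMap R[X] B X ^ (a + c)) ∈
        (maximalIdeal R).map (algebraMap R B) := by
      rw [← hj]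
      exact Ideal.mul_mem_left _ _ (Ideal.mul_mem_left _ _ (Ideal.mul_mem_right _ _ hbm))
    have h2 : algebraMap R[X] B (P - X ^ n) ∈ (maximalIdeal R).map (algebraMap R B) := by
      apply algebraMap_mem_of_mem_map_C hB
      rw [Ideal.mem_map_C_iff]
      intro i
      rw [coeff_sub, coeff_X_pow]
      rcases lt_trichotomy i n with hi | hi | hi
      · rw [if_neg (ne_of_lt hi), sub_zero]
        exact hPm i (by rw [hPdeg, ← hn]; exact hi)
      · rw [if_pos hi, hi, hn, ← hPdeg, hP.coeff_natDegree, sub_self]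
        exact zero_mem _
      · rw [if_neg (ne_of_gt hi), sub_zero,
          coeff_eq_zero_of_natDegree_lt (by rw [hPdeg, ← hn]; exact hi)]
        exact zero_mem _
    apply T_pow_notMem hB (j + n + (a + c))
    have : algebraMap R[X] B X ^ (j + n + (a + c)) =
        algebraMap R[X] B X ^ j * (algebraMap R[X] B P * algebraMap R[X] B X ^ (a + c)) -
          algebraMap R[X] B X ^ j * algebraMap R[X] B X ^ (a + c) * algebraMap R[X] B (P - X ^ n) := by
      rw [map_sub, map_pow]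
      ring
    rw [this]
    exact sub_mem h1 (Ideal.mul_mem_left _ _ h2)
  obtain ⟨Pb, v, hPb, hPbm, hbPv⟩ := weierstrass_exists hB b hbm
  obtain ⟨gb, hgbdef⟩ : ∃ gb, gb = reflect Pb.natDegree Pb := ⟨_, rfl⟩
  have hgb : IsInvDist gb := by rw [hgbdef]; exact isInvDist_reflect hPb hPbm
  have hgbL : ψ gb = algebraMap R[X] L Pb * σ ^ Pb.natDegree := by
    have hgbdeg : gb.natDegree ≤ Pb.natDegree := by
      rw [hgbdef]; exact natDegree_reflect_le.trans (by rw [max_self])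
    rw [← alg_reflect ψ hψ hgbdeg, hgbdef, reflect_reflect, hσ]
  refine ⟨gb, hgb, ?_⟩
  apply eq_of_map_eq hB ψ hψ
  · exact sup_eq_top_of_isInvDist_mem hg hg𝔟
  · exact sup_eq_top_of_isInvDist_mem hgb (Ideal.subset_span rfl)
  · rw [hβ, Ideal.map_span, Set.image_singleton]
    change Ideal.span {β} = Ideal.span {ψ gb}
    have hvL : algebraMap B L (v : B) * algebraMap B L (↑v⁻¹ : B) = 1 := by
      rw [← map_mul, v.mul_inv, map_one]
    have hbL : algebraMap B L b = algebraMap R[X] L Pb * algebraMap B L (v : B) := by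
      rw [hbPv, map_mul, ← IsScalarTower.algebraMap_apply]
    apply le_antisymm
    · rw [Ideal.span_le, Set.singleton_subset_iff, SetLike.mem_coe, Ideal.mem_span_singleton']
      refine ⟨σ ^ a * algebraMap B L (v : B) * τ ^ Pb.natDegree, ?_⟩
      rw [hgbL]
      have h1 := hστ a
      have h2 := hστ Pb.natDegree
      rw [hbL] at hb
      linear_combination (σ ^ a * algebraMap B L (v : B) * algebraMap R[X] L Pb) * h2 -
        (σ ^ a) * hb + β * h1
    · rw [Ideal.span_le, Set.singleton_subset_iff, SetLike.mem_coe, Ideal.mem_span_singleton']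
      refine ⟨τ ^ a * algebraMap B L (↑v⁻¹ : B) * σ ^ Pb.natDegree, ?_⟩
      rw [hgbL]
      rw [hbL] at hb
      linear_combination (algebraMap B L (↑v⁻¹ : B) * σ ^ Pb.natDegree) * hb +
        (algebraMap R[X] L Pb * σ ^ Pb.natDegree) * hvL

end Pic

end Groth.Agent.Lib.Helper89.HensWeier
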