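import Groth.Agent.Lib.Helper89.HensWeier7
import Groth.Agent.Lib.Helper89.HensProj

/-!
# `Pic R[1/t] ≅ Pic R((t))` for a Henselian local ring `R`
-/

set_option linter.unusedSectionVars false
set_option linter.unusedVariables false
set_option linter.style.haveILetI false

namespace Groth.Agent.Lib.Helper89.HensWeier

open IsLocalRing Polynomial Groth.Agent.Lib.Helper9.Hens TensorProduct

universe u

section Compare

variable {A L Λ : Type u} [CommRing A] [CommRing L] [CommRing Λ] (ψ : A →+* L) [Algebra A Λ]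
  [Algebra L Λ] (hcompat : ∀ a, algebraMap L Λ (ψ a) = algebraMap A Λ a)

include hcompat in
/-- Base change of an invertible ideal along `A → Λ` agrees with base change of its extension to `L`
along `L → Λ`. -/
theorem nonempty_baseChange_equiv (𝔟 : Ideal A) [Module.Invertible A 𝔟]
    [Module.Invertible L (𝔟.map ψ : Ideal L)] :
    Nonempty (Λ ⊗[A] 𝔟 ≃ₗ[Λ] Λ ⊗[L] (𝔟.map ψ : Ideal L)) := by
  let f : 𝔟 →ₗ[A] Λ ⊗[L] (𝔟.map ψ : Ideal L) :=
    { toFun := fun b => (1 : Λ) ⊗ₜ[L] (⟨ψ b, Ideal.mem_map_of_mem ψ b.2⟩ : (𝔟.map ψ : Ideal L))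
      map_add' := fun b b' => by
        rw [← TensorProduct.tmul_add]
        congr 1
        ext
        simp
      map_smul' := fun a b => by
        rw [RingHom.id_apply, TensorProduct.smul_tmul', Algebra.smul_def, mul_one, ← hcompat]
        have : (⟨ψ ((a • b : 𝔟) : A), Ideal.mem_map_of_mem ψ (a • b).2⟩ : (𝔟.map ψ : Ideal L)) =
            ψ a • (⟨ψ b, Ideal.mem_map_of_mem ψ b.2⟩ : (𝔟.map ψ : Ideal L)) := by
          ext
          simp
        rw [this, TensorProduct.tmul_smul, TensorProduct.smul_tmul', Algebra.smul_def, mul_one] }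
  let Θ : Λ ⊗[A] 𝔟 →ₗ[Λ] Λ ⊗[L] (𝔟.map ψ : Ideal L) := LinearMap.liftBaseChange Λ f
  have hΘ : ∀ (c : Λ) (b : 𝔟), Θ (c ⊗ₜ[A] b) =
      c ⊗ₜ[L] (⟨ψ b, Ideal.mem_map_of_mem ψ b.2⟩ : (𝔟.map ψ : Ideal L)) := by
    intro c b
    change c • ((1 : Λ) ⊗ₜ[L] _) = _
    rw [TensorProduct.smul_tmul', smul_eq_mul, mul_one]
  have hsurj : Function.Surjective Θ := by
    have key : ∀ (x : L) (hx : x ∈ (𝔟.map ψ : Ideal L)) (c : Λ),
        c ⊗ₜ[L] (⟨x, hx⟩ : (𝔟.map ψ : Ideal L)) ∈ LinearMap.range Θ := by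
      intro x hx
      refine Submodule.span_induction
        (p := fun x hx => ∀ c : Λ, c ⊗ₜ[L] (⟨x, hx⟩ : (𝔟.map ψ : Ideal L)) ∈ LinearMap.range Θ)
        ?_ ?_ ?_ ?_ hx
      · rintro _ ⟨b, hb, rfl⟩ c
        exact ⟨c ⊗ₜ[A] (⟨b, hb⟩ : 𝔟), hΘ c ⟨b, hb⟩⟩
      · intro c
        have : (⟨0, zero_mem _⟩ : (𝔟.map ψ : Ideal L)) = 0 := rfl
        rw [this, TensorProduct.tmul_zero]
        exact zero_mem _
      · intro x y hx hy h₁ h₂ c
        have : (⟨x + y, add_mem hx hy⟩ : (𝔟.map ψ : Ideal L)) =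
            (⟨x, hx⟩ : (𝔟.map ψ : Ideal L)) + ⟨y, hy⟩ := rfl
        rw [this, TensorProduct.tmul_add]
        exact add_mem (h₁ c) (h₂ c)
      · intro l x hx h c
        have : (⟨l • x, Submodule.smul_mem _ l hx⟩ : (𝔟.map ψ : Ideal L)) =
            l • (⟨x, hx⟩ : (𝔟.map ψ : Ideal L)) := rfl
        rw [this, TensorProduct.tmul_smul, TensorProduct.smul_tmul']
        exact h _
    intro z
    induction z using TensorProduct.induction_on with
    | zero => exact ⟨0, map_zero _⟩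
    | tmul c y => exact key y.1 y.2 c
    | add z₁ z₂ h₁ h₂ =>
      obtain ⟨w₁, rfl⟩ := h₁
      obtain ⟨w₂, rfl⟩ := h₂
      exact ⟨w₁ + w₂, map_add _ _ _⟩
  exact ⟨LinearEquiv.ofBijective Θ (Module.Invertible.bijective_of_surjective hsurj)⟩

end Compare

section Aux

variable {R : Type u} [CommRing R] [HenselianLocalRing R] {B : Type u} [CommRing B] [Algebra R B]
  [Algebra R[X] B] [IsScalarTower R R[X] B]
  (hB : Hens2.IsPairHenselization R[X] (Ideal.span {(X : R[X])}) B)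
  {L : Type u} [CommRing L] [Algebra B L] [Algebra R L] [Algebra R[X] L]
  [IsScalarTower R B L] [IsScalarTower R[X] B L] [IsScalarTower R R[X] L]
  [IsLocalization.Away (algebraMap R[X] B X) L]
  (ψ : R[X] →ₐ[R] L) (hψ : ψ X * algebraMap R[X] L X = 1)
  {Λ : Type u} [CommRing Λ] [Algebra R[X] Λ] [Algebra L Λ]
  (hcompat : ∀ a, algebraMap L Λ (ψ.toRingHom a) = algebraMap R[X] Λ a)
  (hP1 : ∀ (M N : Type u) [AddCommGroup M] [Module L M] [Module.Finite L M] [Module.Projective L M]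
    [AddCommGroup N] [Module L N] [Module.Finite L N] [Module.Projective L N],
    Nonempty (Λ ⊗[L] M ≃ₗ[Λ] Λ ⊗[L] N) → Nonempty (M ≃ₗ[L] N))
  (hP2 : ∀ (M' : Type u) [AddCommGroup M'] [Module Λ M'] [Module.Finite Λ M']
    [Module.Projective Λ M'],
    ∃ (M : Type u) (_ : AddCommGroup M) (_ : Module L M), Module.Finite L M ∧
      Module.Projective L M ∧ Nonempty (Λ ⊗[L] M ≃ₗ[Λ] M'))

/-- A principal ideal generated by a nonzerodivisor is free. -/
lemma free_of_eq_span {A : Type u} [CommRing A] (I : Ideal A) (x : A) (hx : x ∈ nonZeroDivisors A)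
    (hI : I = Ideal.span {x}) : Nonempty (A ≃ₗ[A] I) := by
  have hxI : x ∈ I := hI ▸ Ideal.subset_span rfl
  refine ⟨LinearEquiv.ofBijective (LinearMap.toSpanSingleton A I ⟨x, hxI⟩) ⟨?_, ?_⟩⟩
  · rw [injective_iff_map_eq_zero]
    intro a ha
    have h1 : a * x = 0 := by
      have := congrArg Subtype.val ha
      simpa using this
    exact (mul_right_mem_nonZeroDivisors_eq_zero_iff hx).mp h1
  · rintro ⟨y, hy⟩
    have hy' : y ∈ Ideal.span {x} := hI ▸ hy
    obtain ⟨a, rfl⟩ := Ideal.mem_span_singleton'.mp hy'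
    refine ⟨a, ?_⟩
    ext
    simp

/-- An ideal isomorphic to the ring as a module is principal. -/
lemma eq_span_of_linearEquiv {A : Type u} [CommRing A] (I : Ideal A) (e : I ≃ₗ[A] A) :
    I = Ideal.span {((e.symm 1 : I) : A)} := by
  apply le_antisymm
  · intro y hy
    rw [Ideal.mem_span_singleton']
    refine ⟨e ⟨y, hy⟩, ?_⟩
    have h1 : (⟨y, hy⟩ : I) = e ⟨y, hy⟩ • e.symm 1 := by
      rw [← map_smul, smul_eq_mul, mul_one, e.symm_apply_apply]
    have := congrArg Subtype.val h1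
    simpa using this.symm
  · rw [Ideal.span_le, Set.singleton_subset_iff]
    exact (e.symm 1).2

include hB hψ hcompat hP1 in
theorem pic_inj_aux (M : Type u) [AddCommGroup M] [Module R[X] M] [Module.Invertible R[X] M]
    (hfree : Module.Free Λ (Λ ⊗[R[X]] M)) : Module.Free R[X] M := by
  obtain ⟨e, φ, he⟩ := exists_dual_apply_sub_one_mem (R := R) M
  obtain ⟨I, hI⟩ : ∃ I : Ideal R[X], I = LinearMap.range φ := ⟨_, rfl⟩
  have hItop : I ⊔ (maximalIdeal R).map (algebraMap R R[X]) = ⊤ := by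
    rw [Ideal.eq_top_iff_one]
    have : (1 : R[X]) = φ e + -(φ e - 1) := by ring
    rw [this]
    exact Submodule.add_mem_sup (hI ▸ ⟨e, rfl⟩) (neg_mem he)
  obtain ⟨g, hgI, hg⟩ := exists_isInvDist_mem I hItop
  obtain ⟨e'', he''⟩ : ∃ e'', φ e'' = g := by rw [hI] at hgI; exact hgI
  have hφinj : Function.Injective φ :=
    dual_injective_of_mem_nonZeroDivisors M φ e'' (he'' ▸ hg.mem_nonZeroDivisors)
  obtain ⟨𝔠, h𝔠, -⟩ := exists_ideal_range_mul_eq_span M φ e''
  rw [he'', ← hI] at h𝔠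
  have eM : M ≃ₗ[R[X]] I :=
    (LinearEquiv.ofInjective φ hφinj).trans (LinearEquiv.ofEq _ _ hI.symm)
  haveI : Module.Invertible R[X] I := Module.Invertible.congr eM
  have hprodL : I.map ψ.toRingHom * 𝔠.map ψ.toRingHom = Ideal.span {ψ g} := by
    rw [← Ideal.map_mul, h𝔠, Ideal.map_span, Set.image_singleton]
    rfl
  haveI : Module.Invertible L (I.map ψ.toRingHom : Ideal L) :=
    invertible_of_mul_eq_span _ _ (ψ g) (psi_mem_nonZeroDivisors hB ψ hψ hg) hprodL
  obtain ⟨Θ⟩ := nonempty_baseChange_equiv ψ.toRingHom hcompat I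
  obtain ⟨e1⟩ := Module.Invertible.free_iff_linearEquiv.mp hfree
  have e2 : Λ ⊗[R[X]] M ≃ₗ[Λ] Λ ⊗[R[X]] I :=
    TensorProduct.AlgebraTensorModule.congr (LinearEquiv.refl Λ Λ) eM
  have e3 : Λ ⊗[L] L ≃ₗ[Λ] Λ := TensorProduct.AlgebraTensorModule.rid L Λ Λ
  have e4 : Λ ⊗[L] (I.map ψ.toRingHom : Ideal L) ≃ₗ[Λ] Λ ⊗[L] L :=
    Θ.symm.trans (e2.symm.trans (e1.trans e3.symm))
  obtain ⟨e5⟩ := hP1 (I.map ψ.toRingHom : Ideal L) L ⟨e4⟩
  have hβ := eq_span_of_linearEquiv _ e5
  obtain ⟨gb, hgb, hIgb⟩ := exists_eq_span_of_map_eq_span hB ψ hψ I g hg hgI _ hβ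
  obtain ⟨e6⟩ := free_of_eq_span I gb hgb.mem_nonZeroDivisors hIgb
  exact Module.Free.of_equiv (e6.trans eM.symm)

include hB hψ hcompat hP1 hP2 in
theorem pic_surj_aux (𝓛' : Type u) [AddCommGroup 𝓛'] [Module Λ 𝓛'] [Module.Invertible Λ 𝓛'] :
    ∃ (M : Type u) (_ : AddCommGroup M) (_ : Module R[X] M), Module.Invertible R[X] M ∧
      Nonempty (𝓛' ≃ₗ[Λ] Λ ⊗[R[X]] M) := by
  obtain ⟨P, _, _, hPfin, hPproj, ⟨eP⟩⟩ := hP2 𝓛'
  obtain ⟨Q, _, _, hQfin, hQproj, ⟨eQ⟩⟩ := hP2 (Module.Dual Λ 𝓛')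
  have e1 : Λ ⊗[L] (P ⊗[L] Q) ≃ₗ[Λ] (Λ ⊗[L] P) ⊗[Λ] (Λ ⊗[L] Q) :=
    TensorProduct.AlgebraTensorModule.distribBaseChange L Λ P Q
  have e2 : (Λ ⊗[L] P) ⊗[Λ] (Λ ⊗[L] Q) ≃ₗ[Λ] 𝓛' ⊗[Λ] Module.Dual Λ 𝓛' :=
    TensorProduct.congr eP eQ
  have e3 : 𝓛' ⊗[Λ] Module.Dual Λ 𝓛' ≃ₗ[Λ] Λ :=
    (TensorProduct.comm Λ _ _).trans (Module.Invertible.linearEquiv Λ 𝓛')
  have e4 : Λ ⊗[L] L ≃ₗ[Λ] Λ := TensorProduct.AlgebraTensorModule.rid L Λ Λ
  obtain ⟨e5⟩ := hP1 (P ⊗[L] Q) L ⟨e1.trans (e2.trans (e3.trans e4.symm))⟩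
  haveI : Module.Invertible L P := Module.Invertible.left e5
  obtain ⟨𝔟, h𝔟inv, -, ⟨eP𝔟⟩⟩ := exists_invertible_ideal_of_invertible hB ψ hψ P
  haveI := h𝔟inv
  haveI : Module.Invertible L (𝔟.map ψ.toRingHom : Ideal L) := Module.Invertible.congr eP𝔟
  obtain ⟨Θ⟩ := nonempty_baseChange_equiv ψ.toRingHom hcompat 𝔟
  have e6 : Λ ⊗[L] (𝔟.map ψ.toRingHom : Ideal L) ≃ₗ[Λ] Λ ⊗[L] P :=
    TensorProduct.AlgebraTensorModule.congr (LinearEquiv.refl Λ Λ) eP𝔟.symm
  exact ⟨𝔟, inferInstance, inferInstance, h𝔟inv, ⟨(Θ.trans (e6.trans eP)).symm⟩⟩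

end Aux

section Final

open Groth.Agent.Lib.Helper89.Approx

theorem pic_laurentSeries (R : Type u) [CommRing R]
    [HenselianLocalRing R] [Algebra R[X] (LaurentSeries R)]
    (halg : algebraMap R[X] (LaurentSeries R) =
      Polynomial.eval₂RingHom (HahnSeries.C) (HahnSeries.single (-1 : ℤ) (1 : R))) :
    (∀ (M : Type u) [AddCommGroup M] [Module R[X] M] [Module.Invertible R[X] M],
        Module.Free (LaurentSeries R) (LaurentSeries R ⊗[R[X]] M) → Module.Free R[X] M) ∧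
    (∀ (L : Type u) [AddCommGroup L] [Module (LaurentSeries R) L]
        [Module.Invertible (LaurentSeries R) L],
        ∃ (M : Type u) (_ : AddCommGroup M) (_ : Module R[X] M), Module.Invertible R[X] M ∧
          Nonempty (L ≃ₗ[LaurentSeries R] LaurentSeries R ⊗[R[X]] M)) := by
  -- the henselization `B = R{t}`
  obtain ⟨B, _, _, hB⟩ : ∃ (B : Type u) (_ : CommRing B) (_ : Algebra R[X] B),
      Hens2.IsPairHenselization R[X] (Ideal.span {(X : R[X])}) B :=
    ⟨PairHens R[X] (Ideal.span {(X : R[X])}), inferInstance, inferInstance,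
      PairHens.isPairHenselization _ _⟩
  letI : Algebra R B := ((algebraMap R[X] B).comp (C : R →+* R[X])).toAlgebra
  haveI : IsScalarTower R R[X] B := IsScalarTower.of_algebraMap_eq (fun r => rfl)
  -- the map to power series
  haveI : IsAdicComplete (Ideal.span {(PowerSeries.X : PowerSeries R)}) (PowerSeries R) :=
    isAdicComplete_X
  have hHens : HenselianRing (PowerSeries R) (Ideal.span {(PowerSeries.X : PowerSeries R)}) :=
    inferInstance
  obtain ⟨ψB₀, hψB₀, -⟩ := hB.2 (PowerSeries R) (Ideal.span {(PowerSeries.X : PowerSeries R)})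
    (algebraMap R[X] (PowerSeries R)) hHens (by
      rw [Ideal.map_span, Set.image_singleton]
      have : algebraMap R[X] (PowerSeries R) X = PowerSeries.X := Polynomial.coe_X
      rw [this])
  let ψB : B →ₐ[R[X]] PowerSeries R :=
    { ψB₀ with commutes' := fun p => DFunLike.congr_fun hψB₀ p }
  have hψBX : ψB (algebraMap R[X] B X) = PowerSeries.X := by
    rw [ψB.commutes]
    exact Polynomial.coe_X
  -- the map `χ : L → R((t))`
  have hunit : IsUnit (((HahnSeries.ofPowerSeries ℤ R).comp (ψB : B →+* PowerSeries R))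
      (algebraMap R[X] B X)) := by
    change IsUnit (HahnSeries.ofPowerSeries ℤ R (ψB (algebraMap R[X] B X)))
    rw [hψBX, HahnSeries.ofPowerSeries_X]
    refine IsUnit.of_mul_eq_one (HahnSeries.single (-1 : ℤ) (1 : R)) ?_
    rw [HahnSeries.single_mul_single]
    simp
  let χ : Localization.Away (algebraMap R[X] B X) →+* LaurentSeries R :=
    IsLocalization.Away.lift (algebraMap R[X] B X) hunit
  have hχ : ∀ b : B, χ (algebraMap B (Localization.Away (algebraMap R[X] B X)) b) =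
      HahnSeries.ofPowerSeries ℤ R (ψB b) := fun b => IsLocalization.Away.lift_eq _ hunit b
  letI : Algebra (Localization.Away (algebraMap R[X] B X)) (LaurentSeries R) := χ.toAlgebra
  obtain ⟨hP1, hP2⟩ := projective_henselization_laurent R B hB ψB (LaurentSeries R)
    (RingEquiv.refl _) hχ
  -- the map `ψ : R[s] → L`
  obtain ⟨σ, hσ⟩ : ∃ σ : Localization.Away (algebraMap R[X] B X),
      σ * algebraMap B (Localization.Away (algebraMap R[X] B X)) (algebraMap R[X] B X) = 1 := by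
    obtain ⟨u, hu⟩ := IsLocalization.Away.algebraMap_isUnit
      (S := Localization.Away (algebraMap R[X] B X)) (algebraMap R[X] B X)
    exact ⟨↑u⁻¹, by rw [← hu]; exact u.inv_mul⟩
  let ψ : R[X] →ₐ[R] Localization.Away (algebraMap R[X] B X) := Polynomial.aeval σ
  have hψ : ψ X * algebraMap R[X] (Localization.Away (algebraMap R[X] B X)) X = 1 := by
    rw [IsScalarTower.algebraMap_apply R[X] B (Localization.Away (algebraMap R[X] B X))]
    change Polynomial.aeval σ X * _ = 1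
    rw [Polynomial.aeval_X]
    exact hσ
  -- compatibility
  have hcompat : ∀ a : R[X], algebraMap (Localization.Away (algebraMap R[X] B X)) (LaurentSeries R)
      (ψ.toRingHom a) = algebraMap R[X] (LaurentSeries R) a := by
    intro a
    have : (χ.comp ψ.toRingHom) = algebraMap R[X] (LaurentSeries R) := by
      rw [halg]
      apply Polynomial.ringHom_ext
      · intro r
        change χ (Polynomial.aeval σ (C r)) = Polynomial.eval₂ _ _ (C r)
        rw [Polynomial.aeval_C, Polynomial.eval₂_C,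
          IsScalarTower.algebraMap_apply R B (Localization.Away (algebraMap R[X] B X)), hχ]
        change HahnSeries.ofPowerSeries ℤ R (ψB (algebraMap R[X] B (C r))) = _
        rw [ψB.commutes]
        change HahnSeries.ofPowerSeries ℤ R ((C r : R[X]) : PowerSeries R) = _
        rw [Polynomial.coe_C, HahnSeries.ofPowerSeries_C]
      · change χ (Polynomial.aeval σ X) = Polynomial.eval₂ _ _ X
        rw [Polynomial.aeval_X, Polynomial.eval₂_X]
        have h1 : χ σ * HahnSeries.single (1 : ℤ) (1 : R) = 1 := by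
          have := congrArg χ hσ
          rw [map_mul, map_one, hχ, hψBX, HahnSeries.ofPowerSeries_X] at this
          exact this
        have h2 : HahnSeries.single (1 : ℤ) (1 : R) * HahnSeries.single (-1 : ℤ) (1 : R) = 1 := by
          rw [HahnSeries.single_mul_single]
          simp
        calc χ σ = χ σ * (HahnSeries.single (1 : ℤ) (1 : R) *
              HahnSeries.single (-1 : ℤ) (1 : R)) := by rw [h2, mul_one]
          _ = HahnSeries.single (-1 : ℤ) (1 : R) := by rw [← mul_assoc, h1, one_mul]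
    exact DFunLike.congr_fun this a
  refine ⟨fun M _ _ _ hfree => ?_, fun 𝓛' _ _ _ => ?_⟩
  · exact pic_inj_aux hB ψ hψ hcompat hP1 M hfree
  · exact pic_surj_aux hB ψ hψ hcompat hP1 hP2 𝓛'

end Final

end Groth.Agent.Lib.Helper89.HensWeier
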