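import Groth.Agent.Lib.Helper89.HironakaTrans

/-!
# Converse of Hironaka's criterion: tools (helper89)

* `inf_smul_top_le_smul`: `Y ∩ (rs) X = (rs) Y` when `rs` is weakly regular on `X/Y`.
* `TD G rs P`: an elementwise form of "`rs` is weakly regular on `G_P`".
* `exists_le_mem_associatedPrimes_quot_ofList`: associated primes go up along regular sequences
  in the Jacobson radical.
* `flatQ_of_TD`: a finite module `G` over `A/R`, such that `G/(rs)G` is flat over `A/(R+(rs))` and
  `rs` is weakly regular on `G_P` for the associated primes `P` of `A/(R+(rs))`, is flat over `A/R`.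
-/

set_option autoImplicit false
universe u
open TensorProduct Pointwise RingTheory.Sequence

namespace Groth.Agent.Lib.Helper89.HironakaConv

open Groth.Agent.Lib.Helper29 Groth.Agent.Lib.Helper89

section Inter

variable {A : Type u} [CommRing A] {X : Type u} [AddCommGroup X] [Module A X]

/-- If `rs` is weakly regular on `X/Y` then `Y ∩ (rs)X ⊆ (rs)Y`. -/
theorem inf_smul_top_le_smul (Y : Submodule A X) (rs : List A)
    (h : IsWeaklyRegular (X ⧸ Y) rs) :
    Y ⊓ (Ideal.ofList rs • (⊤ : Submodule A X)) ≤ Ideal.ofList rs • Y := by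
  intro y hy
  obtain ⟨hyY, hyI⟩ := hy
  have hex0 : Function.Exact (0 : PUnit.{u+1} →ₗ[A] Y) Y.subtype := by
    intro z
    constructor
    · intro hz
      refine ⟨PUnit.unit, ?_⟩
      rw [LinearMap.zero_apply]
      exact (Submodule.coe_eq_zero.mp hz).symm
    · rintro ⟨_, rfl⟩
      simp
  have hex := map_first_exact_on_four_term_right_exact_of_isSMulRegular_last
    (rs := rs) hex0 (LinearMap.exact_subtype_mkQ Y) (Submodule.mkQ_surjective Y) h
  have h0 : (Submodule.mapQ (Ideal.ofList rs • (⊤ : Submodule A Y))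
      (Ideal.ofList rs • (⊤ : Submodule A X)) Y.subtype
      (Submodule.smul_top_le_comap_smul_top (Ideal.ofList rs) Y.subtype))
      (Submodule.Quotient.mk ⟨y, hyY⟩) = 0 := by
    rw [Submodule.mapQ_apply, Submodule.Quotient.mk_eq_zero]
    exact hyI
  obtain ⟨w, hw⟩ := (hex _).mp h0
  obtain ⟨w', rfl⟩ := Submodule.Quotient.mk_surjective _ w
  rw [Submodule.mapQ_apply, LinearMap.zero_apply, Submodule.Quotient.mk_zero, eq_comm,
    Submodule.Quotient.mk_eq_zero] at hw
  exact (HironakaTrans.mem_smul_top_subtype_iff X (Ideal.ofList rs) Y ⟨y, hyY⟩).mp hw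

theorem one_tmul_eq_zero_iff (Q : Ideal A) (x : X) :
    ((1 : A ⧸ Q) ⊗ₜ[A] x = 0) ↔ x ∈ Q • (⊤ : Submodule A X) := by
  rw [← (quotTensorEquivQuotSMul X Q).map_eq_zero_iff, ← map_one (Ideal.Quotient.mk Q),
    quotTensorEquivQuotSMul_mk_tmul, one_smul, Submodule.Quotient.mk_eq_zero]

end Inter

section TD

variable {A : Type u} [CommRing A]

/-- "Torsion dies at `P`": an elementwise form of "`rs` is weakly regular on `G_P`". -/
def TD (G : Type u) [AddCommGroup G] [Module A G] (rs : List A) (P : Ideal A) : Prop :=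
  ∀ (init : List A) (y : A) (tail : List A), rs = init ++ y :: tail → ∀ t : G,
    y • t ∈ Ideal.ofList init • (⊤ : Submodule A G) →
      ∃ s : A, s ∉ P ∧ s • t ∈ Ideal.ofList init • (⊤ : Submodule A G)

variable {G : Type u} [AddCommGroup G] [Module A G]

theorem TD.head {x : A} {rest : List A} {P : Ideal A} (h : TD G (x :: rest) P) (t : G)
    (ht : x • t = 0) : ∃ s : A, s ∉ P ∧ s • t = 0 := by
  obtain ⟨s, hs, hst⟩ := h [] x rest rfl t (by rw [ht]; exact zero_mem _)
  refine ⟨s, hs, ?_⟩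
  rw [Ideal.ofList_nil, Submodule.bot_smul] at hst
  exact (Submodule.mem_bot A).mp hst

theorem map_mkQ_ofList_smul_top (x : A) (init : List A) :
    Submodule.map (Submodule.mkQ (x • (⊤ : Submodule A G)))
      (Ideal.ofList init • (⊤ : Submodule A G)) =
      Ideal.ofList init • (⊤ : Submodule A (QuotSMulTop x G)) := by
  rw [Submodule.map_smul'', Submodule.map_top, Submodule.range_mkQ]

theorem TD.tail {x : A} {rest : List A} {P : Ideal A} (h : TD G (x :: rest) P) :
    TD (QuotSMulTop x G) rest P := by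
  intro init y tail hrest tbar htbar
  obtain ⟨t, rfl⟩ := Submodule.mkQ_surjective _ tbar
  rw [← map_mkQ_ofList_smul_top, ← map_smul] at htbar
  obtain ⟨g, hg, hgt⟩ := htbar
  have hsub : g - y • t ∈ x • (⊤ : Submodule A G) := by
    rw [← Submodule.ker_mkQ (x • (⊤ : Submodule A G)), LinearMap.mem_ker, map_sub, hgt, sub_self]
  have hyt : y • t ∈ Ideal.ofList (x :: init) • (⊤ : Submodule A G) := by
    rw [Ideal.ofList_cons_smul]
    have : y • t = -(g - y • t) + g := by abel
    rw [this]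
    exact Submodule.add_mem_sup (Submodule.neg_mem _ hsub) hg
  obtain ⟨s, hs, hst⟩ := h (x :: init) y tail (by rw [hrest]; rfl) t hyt
  refine ⟨s, hs, ?_⟩
  rw [Ideal.ofList_cons_smul, Submodule.mem_sup] at hst
  obtain ⟨a, ha, b, hb, hab⟩ := hst
  rw [← map_mkQ_ofList_smul_top, ← map_smul, ← hab, map_add]
  have ha0 : Submodule.mkQ (x • (⊤ : Submodule A G)) a = 0 := by
    rw [← LinearMap.mem_ker, Submodule.ker_mkQ]; exact ha
  rw [ha0, zero_add]
  exact Submodule.mem_map_of_mem hb

end TD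

section AssUp

variable {A : Type u} [CommRing A] [IsNoetherianRing A]

/-- Associated primes go up along a regular element of the Jacobson radical. -/
theorem exists_le_mem_associatedPrimes_quotSMulTop (N : Type u) [AddCommGroup N] [Module A N]
    [Module.Finite A N] (x : A) (hx : x ∈ (⊥ : Ideal A).jacobson) (hreg : IsSMulRegular N x)
    (P : Ideal A) (hP : P ∈ associatedPrimes A N) :
    ∃ P' ∈ associatedPrimes A (QuotSMulTop x N), P ≤ P' := by
  obtain ⟨hPprime, n₀, hn₀⟩ := isAssociatedPrime_iff.mp hP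
  let N' : Submodule A N :=
    { carrier := {n | ∀ a ∈ P, a • n = 0}
      add_mem' := fun {u v} hu hv a ha => by
        show a • (u + v) = 0
        rw [smul_add, hu a ha, hv a ha, add_zero]
      zero_mem' := fun a _ => smul_zero a
      smul_mem' := fun c u hu a ha => by
        show a • c • u = 0
        rw [smul_comm, hu a ha, smul_zero] }
  have hn₀N' : n₀ ∈ N' := by
    intro a ha
    rw [hn₀, Submodule.mem_colon_singleton, Submodule.mem_bot] at ha
    exact ha
  have hn₀ne : n₀ ≠ 0 := by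
    intro h0
    apply hPprime.ne_top
    rw [hn₀, h0]
    ext a
    simp [Submodule.mem_colon_singleton]
  have hN'ne : N' ≠ ⊥ := fun hbot => hn₀ne ((Submodule.mem_bot A).mp (hbot ▸ hn₀N'))
  have hnot : ¬ N' ≤ Ideal.span {x} • N' := by
    intro hle
    apply hN'ne
    exact Submodule.eq_bot_of_le_smul_of_le_jacobson_bot (Ideal.span {x}) N'
      (IsNoetherian.noetherian N') hle ((Ideal.span_singleton_le_iff_mem _).mpr hx)
  obtain ⟨n, hnN', hnx⟩ := SetLike.not_le_iff_exists.mp hnot
  have hnbar : (Submodule.mkQ (x • (⊤ : Submodule A N)) n) ≠ 0 := by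
    intro h0
    rw [← LinearMap.mem_ker, Submodule.ker_mkQ, Submodule.mem_smul_pointwise_iff_exists] at h0
    obtain ⟨m, -, hm⟩ := h0
    apply hnx
    have hmN' : m ∈ N' := by
      intro a ha
      apply hreg
      show x • a • m = x • (0 : N)
      rw [smul_zero, smul_comm, hm]
      exact hnN' a ha
    rw [← hm]
    exact Submodule.smul_mem_smul (Ideal.mem_span_singleton_self x) hmN'
  obtain ⟨P', hP', hle⟩ := exists_le_isAssociatedPrime_of_isNoetherianRing A _ hnbar
  refine ⟨P', hP', fun a ha => hle ?_⟩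
  rw [Submodule.mem_colon_singleton, Submodule.mem_bot, ← map_smul, hnN' a ha, map_zero]

/-- Associated primes go up along a regular sequence in the Jacobson radical. -/
theorem exists_le_mem_associatedPrimes_quot_ofList : ∀ (rs : List A) (N : Type u)
    [AddCommGroup N] [Module A N] [Module.Finite A N],
    (∀ r ∈ rs, r ∈ (⊥ : Ideal A).jacobson) → IsWeaklyRegular N rs →
    ∀ P ∈ associatedPrimes A N,
      ∃ P' ∈ associatedPrimes A (N ⧸ Ideal.ofList rs • (⊤ : Submodule A N)), P ≤ P'
  | [], N, _, _, _, _, _, P, hP => by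
    refine ⟨P, ?_, le_rfl⟩
    have hbot : Ideal.ofList ([] : List A) • (⊤ : Submodule A N) = ⊥ := by
      rw [Ideal.ofList_nil, Submodule.bot_smul]
    rw [LinearEquiv.AssociatedPrimes.eq (Submodule.quotEquivOfEqBot _ hbot)]
    exact hP
  | x :: rest, N, _, _, _, hJ, hreg, P, hP => by
    rw [isWeaklyRegular_cons_iff] at hreg
    obtain ⟨hx, hrest⟩ := hreg
    obtain ⟨P₁, hP₁, hle₁⟩ := exists_le_mem_associatedPrimes_quotSMulTop N x
      (hJ x List.mem_cons_self) hx P hP
    obtain ⟨P₂, hP₂, hle₂⟩ := exists_le_mem_associatedPrimes_quot_ofList rest (QuotSMulTop x N)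
      (fun r hr => hJ r (List.mem_cons_of_mem _ hr)) hrest P₁ hP₁
    refine ⟨P₂, ?_, hle₁.trans hle₂⟩
    rw [LinearEquiv.AssociatedPrimes.eq
      (Submodule.quotOfListConsSMulTopEquivQuotSMulTopInner N x rest)]
    exact hP₂

/-- `(A/R)/I(A/R) ≃ A/(R + I)`. -/
noncomputable def quotQuotSMulTopEquiv (R I : Ideal A) :
    ((A ⧸ R) ⧸ (I • (⊤ : Submodule A (A ⧸ R)))) ≃ₗ[A] A ⧸ (R ⊔ I) :=
  (Submodule.quotEquivOfEq _ _ (by
    show I • (⊤ : Submodule A (A ⧸ R)) = Submodule.map (Submodule.mkQ R) I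
    have h1 : (I : Submodule A A) = I • (⊤ : Submodule A A) := by
      rw [Ideal.smul_top_eq_map]
      simp
    conv_rhs => rw [h1]
    rw [Submodule.map_smul'', Submodule.map_top, Submodule.range_mkQ])).trans
    (Submodule.quotientQuotientEquivQuotientSup R I)

end AssUp

section AssTrick

variable {A : Type u} [CommRing A] [IsNoetherianRing A]

/-- **The associated-prime trick.** Let `G` be a finite module killed by `R`, `x` in the Jacobson
radical with `G/xG` flat over `A/(R + x)`. If the `x`-torsion of `G` dies at a set of primes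
dominating the associated primes of `A/(R + x)`, then `x` is regular on `G`. -/
theorem isSMulRegular_of_flatQ_sup_span (R : Ideal A) (G : Type u) [AddCommGroup G] [Module A G]
    [Module.Finite A G] (hG : R • (⊤ : Submodule A G) = ⊥) {x : A}
    (hxJ : x ∈ (⊥ : Ideal A).jacobson) (h1 : FlatQ (R ⊔ Ideal.span {x}) G)
    (𝒮 : Set (Ideal A)) (h𝒮 : ∀ P ∈ 𝒮, P.IsPrime)
    (hcov : ∀ P ∈ associatedPrimes A (A ⧸ (R ⊔ Ideal.span {x})), ∃ P' ∈ 𝒮, P ≤ P')
    (hTD : ∀ P' ∈ 𝒮, ∀ t : G, x • t = 0 → ∃ s : A, s ∉ P' ∧ s • t = 0) :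
    IsSMulRegular G x := by
  unfold FlatQ at h1
  have hfp : Module.FinitePresentation (A ⧸ (R ⊔ Ideal.span {x}))
      ((A ⧸ (R ⊔ Ideal.span {x})) ⊗[A] G) := Module.finitePresentation_of_finite _ _
  have hproj : Module.Projective (A ⧸ (R ⊔ Ideal.span {x}))
      ((A ⧸ (R ⊔ Ideal.span {x})) ⊗[A] G) := Module.Flat.projective_of_finitePresentation
  obtain ⟨σ, hσ⟩ := Module.projective_def'.mp hproj
  have hσinj : Function.Injective σ := by
    intro a b hab
    have := congrArg (Finsupp.linearCombination (A ⧸ (R ⊔ Ideal.span {x})) id) hab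
    rwa [← LinearMap.comp_apply, ← LinearMap.comp_apply, hσ] at this
  -- torsion of powers of `x` dies
  have hpow : ∀ P' ∈ 𝒮, ∀ (i : ℕ) (t : G), x ^ i • t = 0 → ∃ s : A, s ∉ P' ∧ s • t = 0 := by
    intro P' hP' i
    have hprime := h𝒮 P' hP'
    induction i with
    | zero =>
      intro t ht
      rw [pow_zero, one_smul] at ht
      exact ⟨1, fun h1 => hprime.ne_top ((Ideal.eq_top_iff_one _).mpr h1), by rw [ht, smul_zero]⟩
    | succ i ih =>
      intro t ht
      rw [pow_succ', mul_smul] at ht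
      obtain ⟨s₁, hs₁, hs₁t⟩ := hTD P' hP' _ ht
      rw [smul_comm] at hs₁t
      obtain ⟨s₂, hs₂, hs₂t⟩ := ih _ hs₁t
      refine ⟨s₂ * s₁, fun hmem => ?_, by rw [mul_smul]; exact hs₂t⟩
      rcases hprime.mem_or_mem hmem with h | h
      · exact hs₂ h
      · exact hs₁ h
  have hsmul : (R ⊔ Ideal.span {x}) • (⊤ : Submodule A G) = x • (⊤ : Submodule A G) := by
    rw [Submodule.sup_smul, hG, bot_sup_eq, Submodule.ideal_span_singleton_smul]
  -- the key step
  have key : ∀ (i : ℕ) (t : G), x ^ i • t = 0 → t ∈ x • (⊤ : Submodule A G) := by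
    intro i t ht
    by_contra hnot
    have hu : ((1 : A ⧸ (R ⊔ Ideal.span {x})) ⊗ₜ[A] t) ≠ 0 := by
      intro h0
      rw [one_tmul_eq_zero_iff, hsmul] at h0
      exact hnot h0
    have hσu : σ ((1 : A ⧸ (R ⊔ Ideal.span {x})) ⊗ₜ[A] t) ≠ 0 := by
      intro h0
      exact hu (hσinj (by rw [h0, map_zero]))
    obtain ⟨g₀, hg₀⟩ := DFunLike.ne_iff.mp hσu
    rw [Finsupp.zero_apply] at hg₀
    obtain ⟨P, hPass, hPle⟩ := exists_le_isAssociatedPrime_of_isNoetherianRing A _ hg₀
    obtain ⟨P', hP'𝒮, hPP'⟩ := hcov P hPass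
    obtain ⟨s, hsP', hst⟩ := hpow P' hP'𝒮 i t ht
    apply hsP'
    apply hPP'
    apply hPle
    rw [Submodule.mem_colon_singleton, Submodule.mem_bot]
    have h1' : (Ideal.Quotient.mk (R ⊔ Ideal.span {x}) s) •
        ((1 : A ⧸ (R ⊔ Ideal.span {x})) ⊗ₜ[A] t) = 0 := by
      rw [TensorProduct.smul_tmul', smul_eq_mul, mul_one]
      have : (Ideal.Quotient.mk (R ⊔ Ideal.span {x}) s) = s • (1 : A ⧸ (R ⊔ Ideal.span {x})) := by
        rw [Algebra.smul_def, mul_one]; rfl
      rw [this, TensorProduct.smul_tmul, hst, tmul_zero]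
    have h2' := congrArg (fun z => σ z g₀) h1'
    simp only [map_smul, Finsupp.smul_apply, map_zero, Finsupp.zero_apply, smul_eq_mul] at h2'
    rw [Algebra.smul_def]
    exact h2'
  -- Krull
  have hmem : ∀ (n i : ℕ) (t : G), x ^ i • t = 0 →
      t ∈ (Ideal.span {x}) ^ n • (⊤ : Submodule A G) := by
    intro n
    induction n with
    | zero =>
      intro i t _
      rw [pow_zero, Ideal.one_eq_top, Submodule.top_smul]
      exact Submodule.mem_top
    | succ n ih =>
      intro i t ht
      have h1 := key i t ht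
      rw [Submodule.mem_smul_pointwise_iff_exists] at h1
      obtain ⟨t', -, rfl⟩ := h1
      have ht' : x ^ (i + 1) • t' = 0 := by
        rw [pow_succ, mul_smul]; exact ht
      have h2 := ih (i + 1) t' ht'
      rw [pow_succ', mul_smul]
      exact Submodule.smul_mem_smul (Ideal.mem_span_singleton_self x) h2
  rw [isSMulRegular_iff_right_eq_zero_of_smul]
  intro t ht
  have hkrull : (⨅ n : ℕ, (Ideal.span {x}) ^ n • ⊤ : Submodule A G) = ⊥ :=
    Ideal.iInf_pow_smul_eq_bot_of_le_jacobson (Ideal.span {x})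
      ((Ideal.span_singleton_le_iff_mem _).mpr hxJ)
  have : t ∈ (⨅ n : ℕ, (Ideal.span {x}) ^ n • ⊤ : Submodule A G) := by
    rw [Submodule.mem_iInf]
    intro n
    exact hmem n 1 t (by rw [pow_one]; exact ht)
  rw [hkrull] at this
  exact (Submodule.mem_bot A).mp this

/-- **Flatness from the associated primes.** A finite module `G` over `A/R` such that `G/(rs)G` is
flat over `A/(R+(rs))` and `rs` is weakly regular on `G_P` (in the elementwise form `TD`) for the
associated primes `P` of `A/(R+(rs))` is flat over `A/R`. -/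
theorem flatQ_of_TD : ∀ (rs : List A) (R : Ideal A) (G : Type u)
    [AddCommGroup G] [Module A G] [Module.Finite A G],
    R • (⊤ : Submodule A G) = ⊥ → (∀ r ∈ rs, r ∈ (⊥ : Ideal A).jacobson) →
    IsWeaklyRegular (A ⧸ R) rs → FlatQ (R ⊔ Ideal.ofList rs) G →
    (∀ P ∈ associatedPrimes A (A ⧸ (R ⊔ Ideal.ofList rs)), TD G rs P) → FlatQ R G
  | [], R, G, _, _, _, _, _, _, h, _ => by rwa [Ideal.ofList_nil, sup_bot_eq] at h
  | x :: rest, R, G, _, _, _, hG, hJ, hreg, h, hTD => by
    rw [isWeaklyRegular_cons_iff] at hreg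
    obtain ⟨hx, hrest⟩ := hreg
    have hrest' : IsWeaklyRegular (A ⧸ (R ⊔ Ideal.span {x})) rest :=
      ((quotSMulTopQuotientEquiv R x).isWeaklyRegular_congr rest).mp hrest
    have hG' := smul_top_quotSMulTop_eq_bot R G hG x
    have hxJ : x ∈ (⊥ : Ideal A).jacobson := hJ x List.mem_cons_self
    have hJ' : ∀ r ∈ rest, r ∈ (⊥ : Ideal A).jacobson :=
      fun r hr => hJ r (List.mem_cons_of_mem _ hr)
    have hQ : R ⊔ Ideal.ofList (x :: rest) = R ⊔ Ideal.span {x} ⊔ Ideal.ofList rest := by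
      rw [Ideal.ofList_cons, sup_assoc]
    rw [hQ] at h hTD
    have hker : ∀ I : Ideal A, x ∈ I →
        LinearMap.ker (Submodule.mkQ (x • (⊤ : Submodule A G))) ≤ I • (⊤ : Submodule A G) := by
      intro I hxI
      rw [Submodule.ker_mkQ]
      intro y hy
      rw [Submodule.mem_smul_pointwise_iff_exists] at hy
      obtain ⟨g, -, rfl⟩ := hy
      exact Submodule.smul_mem_smul hxI Submodule.mem_top
    have hxR' : x ∈ R ⊔ Ideal.span {x} := Ideal.mem_sup_right (Ideal.mem_span_singleton_self x)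
    have e1 : FlatQ (R ⊔ Ideal.span {x}) G ↔ FlatQ (R ⊔ Ideal.span {x}) (QuotSMulTop x G) :=
      flatQ_of_surjective _ (Submodule.mkQ (x • (⊤ : Submodule A G)))
        (Submodule.mkQ_surjective _) (hker _ hxR')
    have e2 : FlatQ (R ⊔ Ideal.span {x} ⊔ Ideal.ofList rest) G ↔
        FlatQ (R ⊔ Ideal.span {x} ⊔ Ideal.ofList rest) (QuotSMulTop x G) :=
      flatQ_of_surjective _ (Submodule.mkQ (x • (⊤ : Submodule A G)))
        (Submodule.mkQ_surjective _) (hker _ (Ideal.mem_sup_left hxR'))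
    have ih := flatQ_of_TD rest (R ⊔ Ideal.span {x}) (QuotSMulTop x G) hG' hJ' hrest'
      (e2.mp h) (fun P hP => (hTD P hP).tail)
    have h1 : FlatQ (R ⊔ Ideal.span {x}) G := e1.mpr ih
    have hxG : IsSMulRegular G x := by
      refine isSMulRegular_of_flatQ_sup_span R G hG hxJ h1
        (associatedPrimes A (A ⧸ (R ⊔ Ideal.span {x} ⊔ Ideal.ofList rest)))
        (fun P hP => hP.isPrime) (fun P hP => ?_) (fun P' hP' t ht => (hTD P' hP').head t ht)
      obtain ⟨P', hP', hle⟩ := exists_le_mem_associatedPrimes_quot_ofList rest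
        (A ⧸ (R ⊔ Ideal.span {x})) hJ' hrest' P hP
      refine ⟨P', ?_, hle⟩
      rw [← LinearEquiv.AssociatedPrimes.eq
        (quotQuotSMulTopEquiv (R ⊔ Ideal.span {x}) (Ideal.ofList rest))]
      exact hP'
    exact flatQ_of_flatQ_sup_span R G hG hxJ hxG h1

end AssTrick

end Groth.Agent.Lib.Helper89.HironakaConv
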