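import Groth.Agent.Lib.Helper89.HironakaConvA

/-!
# Converse of Hironaka's criterion: localizations (helper89)

* `TD_of_flat_localization`: flatness of the localization `G_p` over `(A/R)_p` gives the elementwise
  property `TD G rs P` for the preimage `P` of `p`.
* `exists_map_mk_mem_associatedPrimes`: associated primes of `A/Q` over `A` and over `A/R`.
-/

set_option autoImplicit false
universe u
open TensorProduct Pointwise RingTheory.Sequence

namespace Groth.Agent.Lib.Helper89.HironakaConv

section Loc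

variable {C : Type u} [CommRing C]

/-- If `t/1` lies in `J G_S` then `s t ∈ J G` for some `s ∈ S`. -/
theorem exists_smul_mem_of_mk_mem (S : Submonoid C) (J : Ideal C) (G : Type u) [AddCommGroup G]
    [Module C G] (t : G)
    (h : LocalizedModule.mk t (1 : S) ∈ J • (⊤ : Submodule C (LocalizedModule S G))) :
    ∃ s ∈ S, s • t ∈ J • (⊤ : Submodule C G) := by
  have key : ∀ z ∈ J • (⊤ : Submodule C (LocalizedModule S G)),
      ∃ g ∈ J • (⊤ : Submodule C G), ∃ s : S, z = LocalizedModule.mk g s := by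
    intro z hz
    induction hz using Submodule.smul_induction_on' with
    | smul a ha z _ =>
      induction z using LocalizedModule.induction_on with
      | _ g' s' =>
        exact ⟨a • g', Submodule.smul_mem_smul ha Submodule.mem_top, s',
          LocalizedModule.smul'_mk a g' s'⟩
    | add z₁ _ z₂ _ h₁ h₂ =>
      obtain ⟨g₁, hg₁, s₁, rfl⟩ := h₁
      obtain ⟨g₂, hg₂, s₂, rfl⟩ := h₂
      refine ⟨(s₂ : C) • g₁ + (s₁ : C) • g₂, ?_, s₁ * s₂, LocalizedModule.mk_add_mk⟩
      exact Submodule.add_mem _ (Submodule.smul_mem _ _ hg₁) (Submodule.smul_mem _ _ hg₂)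
  obtain ⟨g, hg, s, hs⟩ := key _ h
  obtain ⟨u, hu⟩ := LocalizedModule.mk_eq.mp hs
  refine ⟨u * s, (u * s).2, ?_⟩
  have : ((u : C) * (s : C)) • t = (u : C) • g := by
    have h1 : u • s • t = u • (1 : S) • g := hu
    rw [one_smul] at h1
    rw [mul_smul]
    exact h1
  show ((u : C) * (s : C)) • t ∈ _
  rw [this]
  exact Submodule.smul_mem _ _ hg

end Loc

section Main

variable {A : Type u} [CommRing A]

/-- Flatness of `G_p` over `(A/R)_p` gives `TD G rs P` for the preimage `P` of `p`. -/
theorem TD_of_flat_localization (R : Ideal A) (rs : List A)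
    (hreg : IsWeaklyRegular (A ⧸ R) rs) (G : Type u) [AddCommGroup G] [Module A G]
    [Module (A ⧸ R) G] [IsScalarTower A (A ⧸ R) G] (p : Ideal (A ⧸ R)) [p.IsPrime]
    (hflat : Module.Flat (Localization.AtPrime p) (LocalizedModule p.primeCompl G)) :
    TD G rs (p.comap (Ideal.Quotient.mk R)) := by
  have h1 : IsWeaklyRegular (A ⧸ R) (rs.map (algebraMap A (A ⧸ R))) :=
    (isWeaklyRegular_map_algebraMap_iff (A ⧸ R) (A ⧸ R) rs).mpr hreg
  have h2 : IsWeaklyRegular (Localization.AtPrime p ⊗[A ⧸ R] (A ⧸ R))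
      (rs.map (algebraMap A (A ⧸ R))) := h1.isWeaklyRegular_lTensor
  have h3 : IsWeaklyRegular (Localization.AtPrime p) (rs.map (algebraMap A (A ⧸ R))) :=
    ((TensorProduct.rid (A ⧸ R) (Localization.AtPrime p)).isWeaklyRegular_congr _).mp h2
  have h4 : IsWeaklyRegular (Localization.AtPrime p)
      ((rs.map (algebraMap A (A ⧸ R))).map (algebraMap (A ⧸ R) (Localization.AtPrime p))) :=
    (isWeaklyRegular_map_algebraMap_iff (Localization.AtPrime p) (Localization.AtPrime p) _).mpr h3
  have h5 : IsWeaklyRegular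
      (LocalizedModule p.primeCompl G ⊗[Localization.AtPrime p] (Localization.AtPrime p))
      ((rs.map (algebraMap A (A ⧸ R))).map (algebraMap (A ⧸ R) (Localization.AtPrime p))) :=
    h4.isWeaklyRegular_lTensor
  have h6 : IsWeaklyRegular (LocalizedModule p.primeCompl G)
      ((rs.map (algebraMap A (A ⧸ R))).map (algebraMap (A ⧸ R) (Localization.AtPrime p))) :=
    ((TensorProduct.rid (Localization.AtPrime p)
      (LocalizedModule p.primeCompl G)).isWeaklyRegular_congr _).mp h5
  have h7 : IsWeaklyRegular (LocalizedModule p.primeCompl G) (rs.map (algebraMap A (A ⧸ R))) :=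
    (isWeaklyRegular_map_algebraMap_iff (Localization.AtPrime p)
      (LocalizedModule p.primeCompl G) _).mp h6
  intro init y tail hsplit t ht
  rw [hsplit, List.map_append, List.map_cons] at h7
  have h8 := ((isWeaklyRegular_append_iff _ _ _).mp h7).2
  rw [isWeaklyRegular_cons_iff] at h8
  have hyreg := h8.1
  -- the image of `y • t`
  have himg : ∀ g ∈ Ideal.ofList init • (⊤ : Submodule A G),
      LocalizedModule.mkLinearMap p.primeCompl G g ∈
        Ideal.ofList (init.map (algebraMap A (A ⧸ R))) •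
          (⊤ : Submodule (A ⧸ R) (LocalizedModule p.primeCompl G)) := by
    intro g hg
    induction hg using Submodule.smul_induction_on' with
    | smul a ha g' _ =>
      rw [← algebraMap_smul (A ⧸ R) a g', map_smul]
      refine Submodule.smul_mem_smul ?_ Submodule.mem_top
      rw [← Ideal.map_ofList]
      exact Ideal.mem_map_of_mem _ ha
    | add g₁ _ g₂ _ h₁ h₂ =>
      rw [map_add]
      exact Submodule.add_mem _ h₁ h₂
  have hτ : (algebraMap A (A ⧸ R) y) • LocalizedModule.mkLinearMap p.primeCompl G t ∈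
      Ideal.ofList (init.map (algebraMap A (A ⧸ R))) •
          (⊤ : Submodule (A ⧸ R) (LocalizedModule p.primeCompl G)) := by
    rw [← map_smul, algebraMap_smul]
    exact himg _ ht
  have hτ' := mem_of_isSMulRegular_quotient_of_smul_mem hyreg hτ
  rw [LocalizedModule.mkLinearMap_apply] at hτ'
  obtain ⟨sbar, hsbar, hst⟩ := exists_smul_mem_of_mk_mem p.primeCompl _ G t hτ'
  obtain ⟨s, rfl⟩ := Ideal.Quotient.mk_surjective sbar
  refine ⟨s, fun hs => hsbar (Ideal.mem_comap.mp hs), ?_⟩
  have hrs := Ideal.smul_restrictScalars (R := A) (S := A ⧸ R) (Ideal.ofList init)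
    (⊤ : Submodule (A ⧸ R) G)
  rw [Submodule.restrictScalars_top, Ideal.map_ofList] at hrs
  rw [← hrs, Submodule.restrictScalars_mem, ← algebraMap_smul (A ⧸ R) s t]
  exact hst

variable [IsNoetherianRing A]

/-- An associated prime of `A/Q` over `A` gives an associated prime of `(A/R)/Q(A/R)` over `A/R`
(for `R ≤ Q`). -/
theorem exists_map_mk_mem_associatedPrimes (R Q : Ideal A) (hRQ : R ≤ Q) (P : Ideal A)
    (hP : P ∈ associatedPrimes A (A ⧸ Q)) :
    ∃ (p : Ideal (A ⧸ R)) (_ : p.IsPrime),
      p ∈ associatedPrimes (A ⧸ R) ((A ⧸ R) ⧸ Q.map (Ideal.Quotient.mk R)) ∧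
        p.comap (Ideal.Quotient.mk R) = P := by
  obtain ⟨hprime, a', ha'⟩ := isAssociatedPrime_iff.mp hP
  obtain ⟨a, rfl⟩ := Ideal.Quotient.mk_surjective a'
  have hmemP : ∀ c : A, c ∈ P ↔ c * a ∈ Q := by
    intro c
    rw [ha', Submodule.mem_colon_singleton, Submodule.mem_bot, ← Ideal.Quotient.eq_zero_iff_mem,
      map_mul]
    rfl
  have hQP : Q ≤ P := fun q hq => (hmemP q).mpr (Q.mul_mem_right _ hq)
  have hRP : R ≤ P := hRQ.trans hQP
  have hpprime : (P.map (Ideal.Quotient.mk R)).IsPrime :=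
    Ideal.map_isPrime_of_surjective Ideal.Quotient.mk_surjective (by rw [Ideal.mk_ker]; exact hRP)
  refine ⟨P.map (Ideal.Quotient.mk R), hpprime, ?_, ?_⟩
  · refine isAssociatedPrime_iff.mpr ⟨hpprime,
      Ideal.Quotient.mk (Q.map (Ideal.Quotient.mk R)) (Ideal.Quotient.mk R a), ?_⟩
    ext cbar
    obtain ⟨c, rfl⟩ := Ideal.Quotient.mk_surjective cbar
    rw [Ideal.mem_quotient_iff_mem hRP, hmemP, Submodule.mem_colon_singleton, Submodule.mem_bot,
      Algebra.smul_def, Ideal.Quotient.algebraMap_eq, ← map_mul, ← map_mul,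
      Ideal.Quotient.eq_zero_iff_mem, Ideal.mem_quotient_iff_mem hRQ]
  · rw [Ideal.comap_map_of_surjective _ Ideal.Quotient.mk_surjective, ← RingHom.ker_eq_comap_bot,
      Ideal.mk_ker, sup_eq_left]
    exact hRP

end Main

end Groth.Agent.Lib.Helper89.HironakaConv
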