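import Groth.Agent.Lib.Helper89.HironakaConvB

/-!
# Converse of Hironaka's criterion: the main induction (helper89)

`isNormallyFlat_of_sup`: normal flatness along `Q = R + (rs)` together with flatness of the
localized graded pieces of `gr_R M` at the associated primes of `A/Q` gives normal flatness
along `R`.
-/

set_option autoImplicit false
universe u
open TensorProduct Pointwise RingTheory.Sequence

namespace Groth.Agent.Lib.Helper89.HironakaConv

open Groth.Agent.Lib.Helper29 Groth.Agent.Lib.Helper89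

section StepA

variable {A : Type u} [CommRing A] (R : Ideal A) (M : Type u) [AddCommGroup M] [Module A M]

omit M in
/-- `(R + I)^n ≤ R^n + I`. -/
theorem sup_pow_le (I : Ideal A) (n : ℕ) : (R ⊔ I) ^ n ≤ R ^ n ⊔ I := by
  induction n with
  | zero => rw [pow_zero, pow_zero]; exact le_sup_left
  | succ n ih =>
    rw [pow_succ]
    calc (R ⊔ I) ^ n * (R ⊔ I) ≤ (R ^ n ⊔ I) * (R ⊔ I) := Ideal.mul_mono_left ih
      _ ≤ R ^ (n + 1) ⊔ I := by
        rw [Ideal.sup_mul, Ideal.mul_sup, Ideal.mul_sup, pow_succ]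
        exact sup_le (sup_le le_sup_left (le_sup_of_le_right Ideal.mul_le_right))
          (sup_le (le_sup_of_le_right Ideal.mul_le_left) (le_sup_of_le_right Ideal.mul_le_left))

/-- The chain of intersections. -/
theorem inf_sup_smul_le (rs : List A) (k : ℕ)
    (hwr : ∀ j < k, IsWeaklyRegular (↥(R ^ j • (⊤ : Submodule A M)) ⧸
      (R • (⊤ : Submodule A ↥(R ^ j • (⊤ : Submodule A M))))) rs) :
    ∀ j ≤ k, R ^ k • (⊤ : Submodule A M) ⊓
      (R ^ (k + 1) • (⊤ : Submodule A M) ⊔ Ideal.ofList rs • (⊤ : Submodule A M)) ≤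
      R ^ (k + 1) • (⊤ : Submodule A M) ⊔ Ideal.ofList rs • (R ^ j • (⊤ : Submodule A M)) := by
  intro j
  induction j with
  | zero =>
    intro _
    rw [pow_zero, Ideal.one_eq_top, Submodule.top_smul]
    exact inf_le_right
  | succ j ih =>
    intro hj z hz
    have hz1 : z ∈ R ^ k • (⊤ : Submodule A M) := hz.1
    have h1 := ih (Nat.le_of_succ_le hj) hz
    rw [Submodule.mem_sup] at h1
    obtain ⟨a, ha, w, hw, rfl⟩ := h1
    refine Submodule.add_mem_sup ha ?_
    have hle1 : R ^ k • (⊤ : Submodule A M) ≤ R ^ (j + 1) • (⊤ : Submodule A M) :=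
      Submodule.smul_mono_left (Ideal.pow_le_pow_right hj)
    have hle2 : R ^ (k + 1) • (⊤ : Submodule A M) ≤ R ^ (j + 1) • (⊤ : Submodule A M) :=
      Submodule.smul_mono_left (Ideal.pow_le_pow_right (Nat.le_succ_of_le hj))
    have hwj1 : w ∈ R ^ (j + 1) • (⊤ : Submodule A M) := by
      have : w = (a + w) - a := by abel
      rw [this]
      exact Submodule.sub_mem _ (hle1 hz1) (hle2 ha)
    have hwX : w ∈ R ^ j • (⊤ : Submodule A M) :=
      Submodule.smul_le_right hw
    have hmemY : (⟨w, hwX⟩ : ↥(R ^ j • (⊤ : Submodule A M))) ∈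
        R • (⊤ : Submodule A ↥(R ^ j • (⊤ : Submodule A M))) := by
      rw [HironakaTrans.mem_smul_top_subtype_iff, ← HironakaTrans.pow_succ_smul_top]
      exact hwj1
    have hmemI : (⟨w, hwX⟩ : ↥(R ^ j • (⊤ : Submodule A M))) ∈
        Ideal.ofList rs • (⊤ : Submodule A ↥(R ^ j • (⊤ : Submodule A M))) := by
      rw [HironakaTrans.mem_smul_top_subtype_iff]
      exact hw
    have h2 := inf_smul_top_le_smul _ rs (hwr j (Nat.lt_of_succ_le hj)) ⟨hmemY, hmemI⟩
    have h3 : (R ^ j • (⊤ : Submodule A M)).subtype ⟨w, hwX⟩ ∈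
        Submodule.map (R ^ j • (⊤ : Submodule A M)).subtype
          (Ideal.ofList rs • (R • (⊤ : Submodule A ↥(R ^ j • (⊤ : Submodule A M))))) :=
      Submodule.mem_map_of_mem h2
    rw [Submodule.map_smul'', Submodule.map_smul'', Submodule.map_subtype_top,
      ← HironakaTrans.pow_succ_smul_top] at h3
    exact h3

/-- `R^k M ∩ Q^{k+1} M ⊆ Q R^k M`, when `rs` is weakly regular on the lower graded pieces. -/
theorem inf_pow_succ_le (rs : List A) (k : ℕ)
    (hwr : ∀ j < k, IsWeaklyRegular (↥(R ^ j • (⊤ : Submodule A M)) ⧸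
      (R • (⊤ : Submodule A ↥(R ^ j • (⊤ : Submodule A M))))) rs) :
    R ^ k • (⊤ : Submodule A M) ⊓ (R ⊔ Ideal.ofList rs) ^ (k + 1) • (⊤ : Submodule A M) ≤
      (R ⊔ Ideal.ofList rs) • (R ^ k • (⊤ : Submodule A M)) := by
  intro z hz
  have hz2 : z ∈ R ^ (k + 1) • (⊤ : Submodule A M) ⊔ Ideal.ofList rs • (⊤ : Submodule A M) := by
    rw [← Submodule.sup_smul]
    exact Submodule.smul_mono_left (sup_pow_le R (Ideal.ofList rs) (k + 1)) hz.2
  have h1 := inf_sup_smul_le R M rs k hwr k le_rfl ⟨hz.1, hz2⟩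
  rw [Submodule.sup_smul, ← HironakaTrans.pow_succ_smul_top]
  exact h1

/-- The restriction of the quotient map to `I M`. -/
noncomputable def quotSmulMap (N : Submodule A M) (I : Ideal A) :
    ↥(I • (⊤ : Submodule A M)) →ₗ[A] ↥(I • (⊤ : Submodule A (M ⧸ N))) :=
  (LinearEquiv.ofEq _ _ (by
    rw [Submodule.map_smul'', Submodule.map_top, Submodule.range_mkQ])).toLinearMap ∘ₗ
    (N.mkQ.submoduleMap (I • (⊤ : Submodule A M)))

theorem coe_quotSmulMap (N : Submodule A M) (I : Ideal A) (x : ↥(I • (⊤ : Submodule A M))) :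
    ((quotSmulMap M N I x : ↥(I • (⊤ : Submodule A (M ⧸ N)))) : M ⧸ N) = N.mkQ (x : M) := rfl

theorem quotSmulMap_surjective (N : Submodule A M) (I : Ideal A) :
    Function.Surjective (quotSmulMap M N I) := by
  unfold quotSmulMap
  rw [LinearMap.coe_comp]
  exact (LinearEquiv.surjective _).comp (LinearMap.submoduleMap_surjective _ _)

theorem quotSmulMap_eq_zero_iff (N : Submodule A M) (I : Ideal A)
    (x : ↥(I • (⊤ : Submodule A M))) : quotSmulMap M N I x = 0 ↔ (x : M) ∈ N := by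
  rw [← Submodule.coe_eq_zero, coe_quotSmulMap, Submodule.mkQ_apply, Submodule.Quotient.mk_eq_zero]

/-- The quotient `M/R^k M` is normally flat along `R` when the first `k` graded pieces are flat. -/
theorem isNormallyFlat_quotient_pow (k : ℕ)
    (h : ∀ j < k, Module.Flat (A ⧸ R) (↥(R ^ j • (⊤ : Submodule A M)) ⧸
      (R • (⊤ : Submodule A ↥(R ^ j • (⊤ : Submodule A M)))))) :
    EGA4.IsNormallyFlat R (M ⧸ (R ^ k • (⊤ : Submodule A M))) := by
  intro j
  by_cases hj : j < k
  · rw [← flatQ_iff_quotient]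
    refine (flatQ_of_surjective R (quotSmulMap M (R ^ k • (⊤ : Submodule A M)) (R ^ j))
      (quotSmulMap_surjective M _ _) ?_).mp ((flatQ_iff_quotient R _).mpr (h j hj))
    intro x hx
    rw [LinearMap.mem_ker, quotSmulMap_eq_zero_iff] at hx
    rw [HironakaTrans.mem_smul_top_subtype_iff, ← HironakaTrans.pow_succ_smul_top]
    exact Submodule.smul_mono_left (Ideal.pow_le_pow_right hj) hx
  · have hbot : R ^ j • (⊤ : Submodule A (M ⧸ (R ^ k • (⊤ : Submodule A M)))) = ⊥ := by
      have h1 : Submodule.map (R ^ k • (⊤ : Submodule A M)).mkQ (R ^ j • (⊤ : Submodule A M)) =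
          R ^ j • (⊤ : Submodule A (M ⧸ (R ^ k • (⊤ : Submodule A M)))) := by
        rw [Submodule.map_smul'', Submodule.map_top, Submodule.range_mkQ]
      rw [← h1, ← LinearMap.le_ker_iff_map, Submodule.ker_mkQ]
      exact Submodule.smul_mono_left (Ideal.pow_le_pow_right (not_lt.mp hj))
    have hsub : Subsingleton ↥(R ^ j • (⊤ : Submodule A (M ⧸ (R ^ k • (⊤ : Submodule A M))))) :=
      Submodule.subsingleton_iff_eq_bot.mpr hbot
    have : Subsingleton (↥(R ^ j • (⊤ : Submodule A (M ⧸ (R ^ k • (⊤ : Submodule A M))))) ⧸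
        (R • (⊤ : Submodule A ↥(R ^ j • (⊤ : Submodule A (M ⧸ (R ^ k • (⊤ : Submodule A M)))))))) :=
      ⟨fun a b => by
        obtain ⟨a', rfl⟩ := Submodule.Quotient.mk_surjective _ a
        obtain ⟨b', rfl⟩ := Submodule.Quotient.mk_surjective _ b
        rw [Subsingleton.elim a' b']⟩
    infer_instance

/-- Kernel of a surjection between `FlatQ` modules. -/
theorem flatQ_of_exact (Q : Ideal A) {N X X' : Type u} [AddCommGroup N] [Module A N]
    [AddCommGroup X] [Module A X] [AddCommGroup X'] [Module A X']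
    (i : N →ₗ[A] X) (π : X →ₗ[A] X') (hex : Function.Exact i π) (hπ : Function.Surjective π)
    (hi : ∀ n : N, i n ∈ Q • (⊤ : Submodule A X) → n ∈ Q • (⊤ : Submodule A N))
    (hX : FlatQ Q X) (hX' : FlatQ Q X') : FlatQ Q N := by
  unfold FlatQ at *
  have hsurj : Function.Surjective (π.baseChange (A ⧸ Q)) := by
    rw [LinearMap.baseChange_eq_ltensor]
    exact LinearMap.lTensor_surjective _ hπ
  have hexact : Function.Exact (i.baseChange (A ⧸ Q)) (π.baseChange (A ⧸ Q)) := by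
    rw [LinearMap.baseChange_eq_ltensor, LinearMap.baseChange_eq_ltensor]
    exact lTensor_exact (A ⧸ Q) hex hπ
  have hinj : Function.Injective (i.baseChange (A ⧸ Q)) := by
    rw [injective_iff_map_eq_zero]
    intro z hz
    obtain ⟨n, rfl⟩ := TensorProduct.mk_surjective A N (A ⧸ Q) Ideal.Quotient.mk_surjective z
    rw [TensorProduct.mk_apply, LinearMap.baseChange_tmul, one_tmul_eq_zero_iff] at hz
    rw [TensorProduct.mk_apply, one_tmul_eq_zero_iff]
    exact hi n hz
  exact flat_of_exact_of_flat (A ⧸ Q) _ _ _ (i.baseChange (A ⧸ Q)) (π.baseChange (A ⧸ Q))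
    hinj hsurj hexact

/-- **Step A**: `R^k M / Q R^k M` is flat over `A/Q`. -/
theorem flatQ_pow_smul_top (rs : List A) (k : ℕ)
    (hreg : IsWeaklyRegular (A ⧸ R) rs)
    (hflat : ∀ j < k, Module.Flat (A ⧸ R) (↥(R ^ j • (⊤ : Submodule A M)) ⧸
      (R • (⊤ : Submodule A ↥(R ^ j • (⊤ : Submodule A M))))))
    (hwr : ∀ j < k, IsWeaklyRegular (↥(R ^ j • (⊤ : Submodule A M)) ⧸
      (R • (⊤ : Submodule A ↥(R ^ j • (⊤ : Submodule A M))))) rs)
    (hQ : EGA4.IsNormallyFlat (R ⊔ Ideal.ofList rs) M) :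
    FlatQ (R ⊔ Ideal.ofList rs) ↥(R ^ k • (⊤ : Submodule A M)) := by
  have hM' : EGA4.IsNormallyFlat R (M ⧸ (R ^ k • (⊤ : Submodule A M))) :=
    isNormallyFlat_quotient_pow R M k hflat
  have hM'Q : EGA4.IsNormallyFlat (R ⊔ Ideal.ofList rs) (M ⧸ (R ^ k • (⊤ : Submodule A M))) :=
    HironakaTrans.isNormallyFlat_sup_ofList _ rs R hreg hM'
  have hX : FlatQ (R ⊔ Ideal.ofList rs) ↥((R ⊔ Ideal.ofList rs) ^ k • (⊤ : Submodule A M)) :=
    (flatQ_iff_quotient _ _).mpr (hQ k)
  have hX' : FlatQ (R ⊔ Ideal.ofList rs)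
      ↥((R ⊔ Ideal.ofList rs) ^ k • (⊤ : Submodule A (M ⧸ (R ^ k • (⊤ : Submodule A M))))) :=
    (flatQ_iff_quotient _ _).mpr (hM'Q k)
  have hle : R ^ k • (⊤ : Submodule A M) ≤ (R ⊔ Ideal.ofList rs) ^ k • (⊤ : Submodule A M) :=
    Submodule.smul_mono_left (Ideal.pow_right_mono le_sup_left k)
  refine flatQ_of_exact (R ⊔ Ideal.ofList rs) (Submodule.inclusion hle)
    (quotSmulMap M (R ^ k • (⊤ : Submodule A M)) ((R ⊔ Ideal.ofList rs) ^ k)) ?_
    (quotSmulMap_surjective M _ _) ?_ hX hX'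
  · intro x
    rw [quotSmulMap_eq_zero_iff]
    constructor
    · intro hx
      exact ⟨⟨x, hx⟩, Subtype.ext rfl⟩
    · rintro ⟨n, rfl⟩
      exact n.2
  · intro n hn
    rw [HironakaTrans.mem_smul_top_subtype_iff, ← HironakaTrans.pow_succ_smul_top] at hn
    rw [HironakaTrans.mem_smul_top_subtype_iff]
    exact inf_pow_succ_le R M rs k hwr ⟨n.2, hn⟩

end StepA

section Main

variable {A : Type u} [CommRing A] [IsNoetherianRing A]

/-- **Converse of Hironaka's criterion.** -/
theorem isNormallyFlat_of_sup (R : Ideal A) (rs : List A)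
    (hJ : ∀ r ∈ rs, r ∈ (⊥ : Ideal A).jacobson)
    (hreg : IsWeaklyRegular (A ⧸ R) rs)
    (M : Type u) [AddCommGroup M] [Module A M] [Module.Finite A M]
    (hQ : EGA4.IsNormallyFlat (R ⊔ Ideal.ofList rs) M)
    (hloc : ∀ (p : Ideal (A ⧸ R)) [p.IsPrime],
      p ∈ associatedPrimes (A ⧸ R)
        ((A ⧸ R) ⧸ Ideal.map (Ideal.Quotient.mk R) (R ⊔ Ideal.ofList rs)) →
      ∀ k : ℕ, Module.Flat (Localization.AtPrime p) (LocalizedModule p.primeCompl
        (↥(R ^ k • (⊤ : Submodule A M)) ⧸ (R • (⊤ : Submodule A ↥(R ^ k • (⊤ : Submodule A M))))))) :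
    EGA4.IsNormallyFlat R M := by
  intro k
  induction k using Nat.strong_induction_on with
  | _ k ih =>
    have hwr : ∀ j < k, IsWeaklyRegular (↥(R ^ j • (⊤ : Submodule A M)) ⧸
        (R • (⊤ : Submodule A ↥(R ^ j • (⊤ : Submodule A M))))) rs := fun j hj =>
      ((flat_quotient_iff_of_isWeaklyRegular R rs hJ hreg
        ↥(R ^ j • (⊤ : Submodule A M))).mp (ih j hj)).2
    have hN := flatQ_pow_smul_top R M rs k hreg ih hwr hQ
    have hGk : FlatQ (R ⊔ Ideal.ofList rs) (↥(R ^ k • (⊤ : Submodule A M)) ⧸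
        (R • (⊤ : Submodule A ↥(R ^ k • (⊤ : Submodule A M))))) := by
      refine (flatQ_of_surjective _ (Submodule.mkQ _) (Submodule.mkQ_surjective _) ?_).mp hN
      rw [Submodule.ker_mkQ]
      exact Submodule.smul_mono_left le_sup_left
    have hTD : ∀ P ∈ associatedPrimes A (A ⧸ (R ⊔ Ideal.ofList rs)),
        TD (↥(R ^ k • (⊤ : Submodule A M)) ⧸
          (R • (⊤ : Submodule A ↥(R ^ k • (⊤ : Submodule A M))))) rs P := by
      intro P hP
      obtain ⟨p, hp, hpass, rfl⟩ :=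
        exists_map_mk_mem_associatedPrimes R (R ⊔ Ideal.ofList rs) le_sup_left P hP
      exact TD_of_flat_localization R rs hreg _ p (hloc p hpass k)
    have hfinal := flatQ_of_TD rs R _ (smul_top_quotient_smul_top_eq_bot R _) hJ hreg hGk hTD
    exact HironakaTrans.flat_of_flatQ R _ hfinal

end Main

end Groth.Agent.Lib.Helper89.HironakaConv
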