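import Groth.Agent.Lib.Helper89.SerreGP7

/-!
# Local Horrocks theorem, embedded form

Let `R` be a local ring and `P` a projective `R[X]`-submodule of `R[X]^n` containing `f^N R[X]^n`
for a monic polynomial `f`.  Then `P` is free.  The proof is the elementary lattice argument
(cohomology of bundles on the projective line in disguise).
-/

namespace Groth.Agent.Lib.Helper89.Horrocks

universe u

open Polynomial

variable {R : Type u} [CommRing R] [IsLocalRing R]

local notation "𝔪" => IsLocalRing.maximalIdeal R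
local notation "𝕜" => IsLocalRing.ResidueField R
local notation "res" => IsLocalRing.residue R

omit [IsLocalRing R] in
lemma degreeLT_fg (d : ℕ) : (degreeLT R d).FG := by
  classical
  rw [degreeLT_eq_span_X_pow]
  exact Submodule.fg_span (Finset.finite_toSet _)

/-- A polynomial of degree `< d` with coefficients in `𝔪` lies in `𝔪 • degreeLT d`. -/
lemma mem_smul_degreeLT {q : R[X]} {d : ℕ} (hq : q.map res = 0) (hd : q.degree < d) :
    q ∈ 𝔪 • (degreeLT R d) := by
  rw [q.as_sum_support_C_mul_X_pow]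
  refine Submodule.sum_mem _ fun l hl => ?_
  rw [← smul_eq_C_mul]
  refine Submodule.smul_mem_smul ?_ ?_
  · have := congrArg (fun p => p.coeff l) hq
    simp only [coeff_map, coeff_zero] at this
    exact (IsLocalRing.residue_eq_zero_iff _).mp this
  · rw [mem_degreeLT]
    refine lt_of_le_of_lt (degree_X_pow_le l) ?_
    exact lt_of_le_of_lt (le_degree_of_mem_supp l hl) hd

variable (R) in
/-- Vectors of polynomials of degree `< d`. -/
noncomputable def degLT (n d : ℕ) : Submodule R (Fin n → R[X]) :=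
  Submodule.pi Set.univ fun _ => degreeLT R d

omit [IsLocalRing R] in
lemma mem_degLT {n d : ℕ} {v : Fin n → R[X]} : v ∈ degLT R n d ↔ ∀ j, (v j).degree < d := by
  simp [degLT, Submodule.mem_pi, mem_degreeLT]

omit [IsLocalRing R] in
lemma degLT_fg (n d : ℕ) : (degLT R n d).FG :=
  Submodule.fg_pi fun _ => degreeLT_fg d

lemma mem_smul_degLT {n d : ℕ} {v : Fin n → R[X]} (hv : ∀ j, (v j).map res = 0)
    (hd : ∀ j, (v j).degree < d) : v ∈ 𝔪 • degLT R n d := by
  classical
  rw [← Finset.univ_sum_single v]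
  refine Submodule.sum_mem _ fun j _ => ?_
  have h1 : v j ∈ 𝔪 • (degreeLT R d) := mem_smul_degreeLT (hv j) (hd j)
  have h2 : (𝔪 • (degreeLT R d)).map (LinearMap.single R (fun _ : Fin n => R[X]) j) ≤
      𝔪 • degLT R n d := by
    rw [Submodule.map_smul'']
    refine Submodule.smul_mono le_rfl ?_
    rintro _ ⟨q, hq, rfl⟩
    rw [mem_degLT]
    intro j'
    by_cases h : j' = j
    · subst h
      simpa using mem_degreeLT.mp hq
    · simp only [LinearMap.coe_single, Pi.single_apply, h, if_false, degree_zero]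
      exact WithBot.bot_lt_coe d
  exact h2 ⟨v j, h1, rfl⟩

/-- Reduction of vectors modulo the maximal ideal. -/
noncomputable def red (n : ℕ) (v : Fin n → R[X]) : Fin n → 𝕜[X] := fun j => (v j).map res

@[simp] lemma red_apply {n : ℕ} (v : Fin n → R[X]) (j : Fin n) : red n v j = (v j).map res := rfl

lemma red_add {n : ℕ} (v w : Fin n → R[X]) : red n (v + w) = red n v + red n w := by
  ext j : 1; simp

lemma red_sub {n : ℕ} (v w : Fin n → R[X]) : red n (v - w) = red n v - red n w := by
  ext j : 1; simp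

lemma red_zero {n : ℕ} : red n (0 : Fin n → R[X]) = 0 := by
  ext j : 1; simp

lemma red_smul {n : ℕ} (b : R[X]) (v : Fin n → R[X]) : red n (b • v) = b.map res • red n v := by
  ext j : 1; simp

lemma red_surjective (n : ℕ) : Function.Surjective (red (R := R) n) := by
  intro w
  choose v hv using fun j => Polynomial.map_surjective res IsLocalRing.residue_surjective (w j)
  exact ⟨v, funext hv⟩

lemma exists_degree_lt_lift {q : 𝕜[X]} {d : ℕ} (hq : q.degree < d) :
    ∃ p : R[X], p.map res = q ∧ p.degree < d := by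
  obtain ⟨p, hp, hdeg⟩ := Polynomial.exists_degree_eq_of_mem_lifts
    ((Polynomial.mem_lifts q).mpr (Polynomial.map_surjective res IsLocalRing.residue_surjective q))
  exact ⟨p, hp, hdeg ▸ hq⟩

/-- The image of a submodule under reduction. -/
def redImage {n : ℕ} (P : Submodule R[X] (Fin n → R[X])) : Submodule 𝕜[X] (Fin n → 𝕜[X]) where
  carrier := {w | ∃ v ∈ P, red n v = w}
  add_mem' := by
    rintro _ _ ⟨v, hv, rfl⟩ ⟨v', hv', rfl⟩
    exact ⟨v + v', P.add_mem hv hv', red_add _ _⟩
  zero_mem' := ⟨0, P.zero_mem, red_zero⟩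
  smul_mem' := by
    rintro c _ ⟨v, hv, rfl⟩
    obtain ⟨b, rfl⟩ := Polynomial.map_surjective res IsLocalRing.residue_surjective c
    exact ⟨b • v, P.smul_mem b hv, red_smul _ _⟩

lemma mem_redImage {n : ℕ} {P : Submodule R[X] (Fin n → R[X])} {w : Fin n → 𝕜[X]} :
    w ∈ redImage P ↔ ∃ v ∈ P, red n v = w := Iff.rfl

/-- `G = P + G_{<i}` over `R`. -/
def Aint {n : ℕ} (P : Submodule R[X] (Fin n → R[X])) (i : ℕ) : Prop :=
  ∀ u : Fin n → R[X], ∃ v ∈ P, ∀ j, (u j - v j).degree < i

/-- `G = P + G_{<i}` over the residue field. -/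
def Abar {n : ℕ} (P : Submodule R[X] (Fin n → R[X])) (i : ℕ) : Prop :=
  ∀ w : Fin n → 𝕜[X], ∃ v ∈ P, ∀ j, (w j - (v j).map res).degree < i

lemma Abar_of_Aint {n : ℕ} {P : Submodule R[X] (Fin n → R[X])} {i : ℕ} (h : Aint P i) :
    Abar P i := by
  intro w
  obtain ⟨u, rfl⟩ := red_surjective n w
  obtain ⟨v, hv, hd⟩ := h u
  refine ⟨v, hv, fun j => ?_⟩
  have : red n u j - (v j).map res = (u j - v j).map res := by simp
  rw [this]
  exact lt_of_le_of_lt degree_map_le (hd j)

lemma Aint_base {n : ℕ} {P : Submodule R[X] (Fin n → R[X])} {f : R[X]} (hf : f.Monic) (N : ℕ)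
    (hN : ∀ v : Fin n → R[X], f ^ N • v ∈ P) : Aint P (N * f.natDegree) := by
  intro u
  refine ⟨f ^ N • (fun j => u j /ₘ f ^ N), hN _, fun j => ?_⟩
  have hmon : (f ^ N).Monic := hf.pow N
  have : u j - (f ^ N • fun j => u j /ₘ f ^ N) j = u j %ₘ f ^ N := by
    simp only [Pi.smul_apply, smul_eq_mul]
    nth_rewrite 1 [← modByMonic_add_div (u j) (f ^ N)]
    ring
  rw [this]
  refine lt_of_lt_of_le (degree_modByMonic_lt _ hmon) ?_
  rw [degree_eq_natDegree hmon.ne_zero, hf.natDegree_pow]

omit [IsLocalRing R] in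
lemma Aint_mono {n : ℕ} {P : Submodule R[X] (Fin n → R[X])} {i i' : ℕ} (hii : i ≤ i')
    (h : Aint P i) : Aint P i' := by
  intro u
  obtain ⟨v, hv, hd⟩ := h u
  exact ⟨v, hv, fun j => lt_of_lt_of_le (hd j) (by exact_mod_cast hii)⟩

/-- Nakayama: the residual statement implies the integral one. -/
lemma Aint_of_Abar {n : ℕ} {P : Submodule R[X] (Fin n → R[X])} {f : R[X]} (hf : f.Monic) (N : ℕ)
    (hN : ∀ v : Fin n → R[X], f ^ N • v ∈ P) {i : ℕ} (h : Abar P i) : Aint P i := by
  set D := N * f.natDegree with hD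
  have hmon : (f ^ N).Monic := hf.pow N
  have hdegmon : (f ^ N).degree = (D : WithBot ℕ) := by
    rw [degree_eq_natDegree hmon.ne_zero, hf.natDegree_pow]
  have key : degLT R n D ≤ (P.restrictScalars R ⊔ degLT R n i) := by
    refine Submodule.le_of_le_smul_of_le_jacobson_bot (I := 𝔪) (degLT_fg n D)
      (IsLocalRing.maximalIdeal_le_jacobson ⊥) ?_
    intro u hu
    obtain ⟨v, hv, hd⟩ := h (red n u)
    choose t ht htd using fun j => exists_degree_lt_lift (R := R) (hd j)
    -- z = u - v - t has coefficients in 𝔪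
    set z : Fin n → R[X] := u - v - t with hz
    have hzred : ∀ j, (z j).map res = 0 := by
      intro j
      simp only [hz, Pi.sub_apply, Polynomial.map_sub, ht j, red_apply]
      ring
    set z₂ : Fin n → R[X] := fun j => z j %ₘ f ^ N with hz₂
    have hz₂red : ∀ j, (z₂ j).map res = 0 := by
      intro j
      simp only [hz₂]
      rw [map_modByMonic _ hmon, hzred j, zero_modByMonic]
    have hz₂deg : ∀ j, (z₂ j).degree < D := by
      intro j
      rw [← hdegmon]
      exact degree_modByMonic_lt _ hmon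
    have hz₂mem : z₂ ∈ 𝔪 • degLT R n D := mem_smul_degLT hz₂red hz₂deg
    obtain ⟨q, hq⟩ : ∃ q : Fin n → R[X], q = fun j => z j /ₘ f ^ N := ⟨_, rfl⟩
    have hzdecomp : z = f ^ N • q + z₂ := by
      ext j : 1
      simp only [Pi.add_apply, Pi.smul_apply, smul_eq_mul, hz₂, hq]
      rw [add_comm, modByMonic_add_div]
    have hu_eq : u = (v + f ^ N • q) + t + z₂ := by
      have : u = v + t + z := by simp [hz]
      rw [this]
      nth_rewrite 1 [hzdecomp]
      abel
    rw [hu_eq]
    refine Submodule.add_mem _ (Submodule.mem_sup_left (Submodule.add_mem _ ?_ ?_))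
      (Submodule.mem_sup_right hz₂mem)
    · exact Submodule.mem_sup_left (P.add_mem hv (hN _))
    · exact Submodule.mem_sup_right (mem_degLT.mpr htd)
  intro u
  have hu₂ : (fun j => u j %ₘ f ^ N) ∈ degLT R n D := by
    rw [mem_degLT]
    intro j
    rw [← hdegmon]
    exact degree_modByMonic_lt _ hmon
  obtain ⟨v', hv', t, ht, hvt⟩ := Submodule.mem_sup.mp (key hu₂)
  refine ⟨f ^ N • (fun j => u j /ₘ f ^ N) + v', P.add_mem (hN _) hv', fun j => ?_⟩
  have : u j - (f ^ N • (fun j => u j /ₘ f ^ N) + v') j = t j := by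
    have h1 := congrFun hvt j
    simp only [Pi.add_apply] at h1
    simp only [Pi.add_apply, Pi.smul_apply, smul_eq_mul]
    have h2 := modByMonic_add_div (u j) (f ^ N)
    linear_combination h2.symm + h1.symm
  rw [this]
  exact mem_degLT.mp ht j

/-- In a submodule of a finite free module over a PID, an element is either unimodular or
divisible by a non-unit. -/
lemma exists_functional_or_factor {K : Type u} [CommRing K] [IsDomain K] [IsPrincipalIdealRing K]
    {n : ℕ} (Q : Submodule K (Fin n → K)) (p : Fin n → K) (hp : p ∈ Q) :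
    (∃ ψ : Q →ₗ[K] K, ψ ⟨p, hp⟩ = 1) ∨ (∃ h : K, ¬ IsUnit h ∧ ∃ p' ∈ Q, h • p' = p) := by
  obtain ⟨m, ⟨b⟩⟩ := Submodule.nonempty_basis_of_pid (Pi.basisFun K (Fin n)) Q
  set c := b.repr ⟨p, hp⟩ with hc
  set I : Ideal K := Ideal.span (Set.range c) with hI
  set h := Submodule.IsPrincipal.generator I with hh
  have hmem : h ∈ I := Submodule.IsPrincipal.generator_mem I
  obtain ⟨a, ha⟩ := (Ideal.mem_span_range_iff_exists_fun).mp hmem
  have hdvd : ∀ l, h ∣ c l := fun l =>
    (Submodule.IsPrincipal.mem_iff_generator_dvd I).mp (Ideal.subset_span ⟨l, rfl⟩)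
  choose c' hc' using hdvd
  by_cases hu : IsUnit h
  · left
    obtain ⟨hinv, hhinv⟩ := hu.exists_left_inv
    refine ⟨∑ l, (hinv * a l) • b.coord l, ?_⟩
    simp only [LinearMap.sum_apply, LinearMap.smul_apply, Module.Basis.coord_apply, smul_eq_mul]
    calc ∑ l, hinv * a l * (b.repr ⟨p, hp⟩) l = hinv * ∑ l, a l * c l := by
          rw [Finset.mul_sum]; exact Finset.sum_congr rfl fun l _ => by rw [hc]; ring
      _ = 1 := by rw [ha, hhinv]
  · right
    refine ⟨h, hu, ((∑ l, c' l • b l : Q) : Fin n → K), (∑ l, c' l • b l : Q).2, ?_⟩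
    have : h • (∑ l, c' l • b l : Q) = ⟨p, hp⟩ := by
      rw [Finset.smul_sum]
      conv_rhs => rw [← b.sum_repr ⟨p, hp⟩]
      refine Finset.sum_congr rfl fun l _ => ?_
      rw [smul_smul, ← hc' l]
    simpa using congrArg (Subtype.val) this


/-- The key element modulo the maximal ideal. -/
lemma exists_unimodular_red {n : ℕ} (P : Submodule R[X] (Fin n → R[X])) (i : ℕ)
    (hA : Abar P (i + 1)) (hnA : ¬ Abar P i) :
    ∃ v₁, ∃ hv₁ : v₁ ∈ P, (∀ j, ((v₁ j).map res).degree < (i + 2 : ℕ)) ∧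
      (∃ j₀, ((v₁ j₀).map res).coeff (i + 1) ≠ 0) ∧
      ∃ ψ : redImage P →ₗ[𝕜[X]] 𝕜[X], ψ ⟨red n v₁, ⟨v₁, hv₁, rfl⟩⟩ = 1 := by
  -- Step 1: the vector `w`
  simp only [Abar, not_forall, not_exists] at hnA
  obtain ⟨w₀, hw₀⟩ := hnA
  obtain ⟨v₀, hv₀, hd₀⟩ := hA w₀
  set w : Fin n → 𝕜 := fun j => (w₀ j - (v₀ j).map res).coeff i with hw
  have hstar : ∀ v ∈ P, ∃ j, ¬ (C (w j) * X ^ i - (v j).map res).degree < (i : WithBot ℕ) := by
    intro v hv
    by_contra hcon
    push Not at hcon
    obtain ⟨j, hj⟩ : ∃ j, ¬ (w₀ j - ((v₀ + v) j).map res).degree < (i : WithBot ℕ) := by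
      have := hw₀ (v₀ + v)
      by_contra hc
      push Not at hc
      exact this ⟨P.add_mem hv₀ hv, hc⟩
    apply hj
    have h1 : w₀ j - ((v₀ + v) j).map res =
        ((w₀ j - (v₀ j).map res) - C (w j) * X ^ i) + (C (w j) * X ^ i - (v j).map res) := by
      simp only [Pi.add_apply, Polynomial.map_add]; ring
    rw [h1]
    refine lt_of_le_of_lt (degree_add_le _ _) (max_lt ?_ (hcon j))
    rw [degree_lt_iff_coeff_zero]
    intro m hm
    rcases Nat.lt_or_ge i m with hlt | hge
    · have : (w₀ j - (v₀ j).map res).coeff m = 0 :=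
        coeff_eq_zero_of_degree_lt (lt_of_lt_of_le (hd₀ j) (by exact_mod_cast hlt))
      simp [coeff_sub, this, coeff_C_mul, coeff_X_pow, (Nat.ne_of_gt hlt)]
    · have : m = i := le_antisymm hge hm
      subst this
      rw [coeff_sub, coeff_C_mul, coeff_X_pow, if_pos rfl, mul_one, hw]
      simp
  -- Step 2: the element `v₁`
  obtain ⟨v₁, hv₁, hd₁⟩ := hA (fun j => C (w j) * X ^ (i + 1))
  have hcoeff : ∀ j, ((v₁ j).map res).coeff (i + 1) = w j := by
    intro j
    have := coeff_eq_zero_of_degree_lt (hd₁ j)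
    simp only [coeff_sub, coeff_C_mul, coeff_X_pow, if_true, mul_one] at this
    exact (sub_eq_zero.mp this).symm
  have hdeg : ∀ j, ((v₁ j).map res).degree < (i + 2 : ℕ) := by
    intro j
    have h1 : (v₁ j).map res = C (w j) * X ^ (i + 1) - (C (w j) * X ^ (i + 1) - (v₁ j).map res) := by
      ring
    rw [h1]
    refine lt_of_le_of_lt (degree_sub_le _ _) (max_lt ?_ ?_)
    · refine lt_of_le_of_lt (degree_C_mul_X_pow_le _ _) ?_
      exact_mod_cast Nat.lt_succ_self (i + 1)
    · exact lt_trans (hd₁ j) (by exact_mod_cast Nat.lt_succ_self (i + 1))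
  obtain ⟨j₀, hj₀⟩ : ∃ j₀, w j₀ ≠ 0 := by
    obtain ⟨j, hj⟩ := hstar 0 P.zero_mem
    refine ⟨j, fun h0 => hj ?_⟩
    simp [h0]
  refine ⟨v₁, hv₁, hdeg, ⟨j₀, by rw [hcoeff]; exact hj₀⟩, ?_⟩
  -- Step 3: unimodularity
  rcases exists_functional_or_factor (redImage P) (red n v₁) ⟨v₁, hv₁, rfl⟩ with hψ | hfac
  · exact hψ
  · exfalso
    obtain ⟨h, hu, p', ⟨v', hv', rfl⟩, hp'⟩ := hfac
    have hcoord : ∀ j, h * (v' j).map res = (v₁ j).map res := fun j => by
      have := congrFun hp' j
      simpa using this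
    have hh0 : h ≠ 0 := by
      rintro rfl
      have := hcoord j₀
      rw [zero_mul] at this
      rw [← hcoeff, ← this] at hj₀
      simp at hj₀
    set δ := h.natDegree with hδ
    have hδpos : 0 < δ := by
      rw [hδ, natDegree_pos_iff_degree_pos]
      exact degree_pos_of_ne_zero_of_nonunit hh0 hu
    -- degree bounds on `p'`
    have hnat₁ : ∀ j, ((v₁ j).map res).natDegree ≤ i + 1 := by
      intro j
      by_cases h0 : (v₁ j).map res = 0
      · simp [h0]
      · have := hdeg j
        rw [degree_eq_natDegree h0] at this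
        have : ((v₁ j).map res).natDegree < i + 2 := by exact_mod_cast this
        omega
    have hδle : δ ≤ i + 1 := by
      have h1 := hcoord j₀
      have hne : (v' j₀).map res ≠ 0 := by
        intro h0
        rw [h0, mul_zero] at h1
        rw [← hcoeff, ← h1] at hj₀
        simp at hj₀
      have := hnat₁ j₀
      rw [← h1, natDegree_mul hh0 hne] at this
      omega
    have hnat' : ∀ j, ((v' j).map res).natDegree ≤ i + 1 - δ := by
      intro j
      by_cases h0 : (v' j).map res = 0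
      · simp [h0]
      · have := hnat₁ j
        rw [← hcoord j, natDegree_mul hh0 h0] at this
        omega
    have hw' : ∀ j, w j = h.leadingCoeff * ((v' j).map res).coeff (i + 1 - δ) := by
      intro j
      rw [← hcoeff j, ← hcoord j]
      have := coeff_mul_add_eq_of_natDegree_le (f := h) (g := (v' j).map res) (df := δ)
        (dg := i + 1 - δ) le_rfl (hnat' j)
      rw [show δ + (i + 1 - δ) = i + 1 by omega] at this
      rw [this]; rfl
    obtain ⟨lam, hlam⟩ := IsLocalRing.residue_surjective (R := R) h.leadingCoeff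
    obtain ⟨j, hj⟩ := hstar ((C lam * X ^ (δ - 1)) • v') (P.smul_mem _ hv')
    apply hj
    simp only [Pi.smul_apply, smul_eq_mul, Polynomial.map_mul, Polynomial.map_pow, map_X, map_C,
      hlam]
    rw [degree_lt_iff_coeff_zero]
    intro m hm
    rcases Nat.lt_or_ge i m with hlt | hge
    · have h2 : (C h.leadingCoeff * X ^ (δ - 1) * (v' j).map res).coeff m = 0 := by
        apply coeff_eq_zero_of_natDegree_lt
        refine lt_of_le_of_lt (natDegree_mul_le) ?_
        have h3 : (C h.leadingCoeff * X ^ (δ - 1) : 𝕜[X]).natDegree ≤ δ - 1 :=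
          natDegree_C_mul_X_pow_le _ _
        have := hnat' j
        omega
      simp [coeff_sub, h2, coeff_C_mul, coeff_X_pow, (Nat.ne_of_gt hlt)]
    · have hmi : m = i := le_antisymm hge hm
      subst hmi
      have h2 : (C h.leadingCoeff * X ^ (δ - 1) * (v' j).map res).coeff m =
          h.leadingCoeff * ((v' j).map res).coeff (m + 1 - δ) := by
        rw [mul_assoc, coeff_C_mul, show m = (m + 1 - δ) + (δ - 1) by omega, coeff_X_pow_mul]
        congr 3
        omega
      rw [coeff_sub, h2, ← hw' j]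
      simp


lemma red_sum {n : ℕ} {ι : Type*} (s : Finset ι) (g : ι → Fin n → R[X]) :
    red n (∑ i ∈ s, g i) = ∑ i ∈ s, red n (g i) := by
  ext j : 1
  simp [Finset.sum_apply, Polynomial.map_sum]

lemma ker_red {n : ℕ} {z : Fin n → R[X]} (hz : red n z = 0) :
    z ∈ 𝔪 • (⊤ : Submodule R (Fin n → R[X])) := by
  set d := (Finset.univ.sup fun j => (z j).natDegree) + 1 with hd
  have h1 : z ∈ 𝔪 • degLT R n d := by
    refine mem_smul_degLT (fun j => by simpa using congrFun hz j) fun j => ?_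
    refine lt_of_le_of_lt degree_le_natDegree ?_
    have : (z j).natDegree ≤ Finset.univ.sup fun j => (z j).natDegree :=
      Finset.le_sup (f := fun j => (z j).natDegree) (Finset.mem_univ j)
    exact_mod_cast Nat.lt_succ_of_le this
  exact Submodule.smul_mono le_rfl le_top h1

lemma lift_m {n : ℕ} {P : Submodule R[X] (Fin n → R[X])} {i' : ℕ} (hA : Aint P i')
    (z : Fin n → R[X]) (hz : red n z = 0) :
    ∃ y ∈ P, red n y = 0 ∧ z - y ∈ degLT R n i' := by
  have hz' := ker_red hz
  refine Submodule.smul_induction_on hz' ?_ ?_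
  · intro c hc g _
    obtain ⟨y', hy', hd⟩ := hA g
    refine ⟨C c • y', P.smul_mem _ hy', ?_, ?_⟩
    · rw [red_smul]
      have : res c = 0 := (IsLocalRing.residue_eq_zero_iff _).mpr hc
      simp [this]
    · have : c • g - C c • y' = c • (g - y') := by
        ext j : 1
        simp [smul_eq_C_mul, mul_sub]
      rw [this]
      exact Submodule.smul_mem _ _ (mem_degLT.mpr hd)
  · rintro z₁ z₂ ⟨y₁, hy₁, hr₁, hd₁⟩ ⟨y₂, hy₂, hr₂, hd₂⟩
    refine ⟨y₁ + y₂, P.add_mem hy₁ hy₂, by rw [red_add, hr₁, hr₂, add_zero], ?_⟩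
    have : z₁ + z₂ - (y₁ + y₂) = (z₁ - y₁) + (z₂ - y₂) := by abel
    rw [this]
    exact Submodule.add_mem _ hd₁ hd₂

lemma exists_lift {n : ℕ} {P : Submodule R[X] (Fin n → R[X])} {i : ℕ} (hA : Aint P (i + 1))
    (v₁ : Fin n → R[X]) (hv₁ : v₁ ∈ P)
    (hdeg : ∀ j, ((v₁ j).map res).degree < (i + 2 : ℕ)) :
    ∃ e ∈ P, red n e = red n v₁ ∧ ∀ j, (e j).degree < (i + 2 : ℕ) := by
  have hmon : (X ^ (i + 2) : R[X]).Monic := monic_X_pow _
  set u₀ : Fin n → R[X] := fun j => v₁ j %ₘ X ^ (i + 2) with hu₀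
  have hz : red n (v₁ - u₀) = 0 := by
    ext j : 1
    simp only [red_apply, Pi.sub_apply, Polynomial.map_sub, hu₀, Pi.zero_apply]
    rw [map_modByMonic _ hmon, sub_eq_zero, eq_comm, Polynomial.map_pow, map_X,
      modByMonic_eq_self_iff (monic_X_pow _), degree_X_pow]
    exact hdeg j
  obtain ⟨y, hy, hry, hdy⟩ := lift_m hA _ hz
  refine ⟨v₁ - y, P.sub_mem hv₁ hy, by rw [red_sub, hry, sub_zero], fun j => ?_⟩
  have h1 : (v₁ - y) j = u₀ j + ((v₁ - u₀ - y) j) := by
    simp only [Pi.sub_apply]; ring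
  rw [h1]
  refine lt_of_le_of_lt (degree_add_le _ _) (max_lt ?_ ?_)
  · have := degree_modByMonic_lt (v₁ j) hmon
    rw [degree_X_pow] at this
    exact this
  · exact lt_trans (mem_degLT.mp hdy j) (by exact_mod_cast Nat.lt_succ_self (i + 1))

/-- Nakayama for ideals of `R[X]` containing a polynomial with unit leading coefficient. -/
lemma exists_mul_add_mul_eq_one {a₀ c : R[X]} {d : ℕ} (ha₀ : a₀.map res = 1)
    (hcdeg : c.degree < (d + 1 : ℕ)) (hcu : IsUnit (c.coeff d)) :
    ∃ a b : R[X], a * a₀ + b * c = 1 := by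
  obtain ⟨υ, hυ⟩ := hcu
  have hc0 : c ≠ 0 := by
    rintro rfl
    simp at hυ
  have hnat : c.natDegree = d := by
    apply le_antisymm
    · rw [degree_eq_natDegree hc0] at hcdeg
      have : c.natDegree < d + 1 := by exact_mod_cast hcdeg
      omega
    · exact le_natDegree_of_ne_zero (by rw [← hυ]; exact υ.ne_zero)
  have hlc : c.leadingCoeff = υ := by rw [leadingCoeff, hnat, hυ]
  set c' : R[X] := C (↑υ⁻¹ : R) * c with hc'
  have hmon : c'.Monic := monic_C_mul_of_mul_leadingCoeff_eq_one (by rw [hlc]; simp)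
  have hnat' : c'.natDegree = d := by
    rw [hc', natDegree_C_mul_eq_of_mul_eq_one (ai := (υ : R)) (by simp), hnat]
  set I : Ideal R[X] := Ideal.span {a₀, c} with hI
  have key : degreeLT R (d + 1) ≤ I.restrictScalars R := by
    refine Submodule.le_of_le_smul_of_le_jacobson_bot (I := 𝔪) (degreeLT_fg (d + 1))
      (IsLocalRing.maximalIdeal_le_jacobson ⊥) ?_
    intro u hu
    set z := u * (1 - a₀) with hz
    have hzred : z.map res = 0 := by simp [hz, ha₀]
    have h1 : u = (u * a₀ + c' * (z /ₘ c')) + z %ₘ c' := by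
      have := modByMonic_add_div z c'
      linear_combination (-1 : R[X]) * this
    rw [h1]
    refine Submodule.add_mem _ (Submodule.mem_sup_left ?_) (Submodule.mem_sup_right ?_)
    · show _ ∈ I
      refine I.add_mem (I.mul_mem_left _ (Ideal.subset_span (by simp))) ?_
      rw [hc', mul_assoc, mul_comm c, ← mul_assoc]
      exact I.mul_mem_left _ (Ideal.subset_span (by simp))
    · refine mem_smul_degreeLT ?_ ?_
      · rw [map_modByMonic _ hmon, hzred, zero_modByMonic]
      · have := degree_modByMonic_lt z hmon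
        rw [degree_eq_natDegree hmon.ne_zero, hnat'] at this
        exact lt_trans this (by exact_mod_cast Nat.lt_succ_self d)
  have h1 : (1 : R[X]) ∈ I := by
    apply key
    rw [mem_degreeLT, degree_one]
    exact_mod_cast Nat.succ_pos d
  exact Ideal.mem_span_pair.mp h1

lemma exists_functional {n : ℕ} (P : Submodule R[X] (Fin n → R[X])) [Module.Projective R[X] P]
    {i : ℕ} (e : Fin n → R[X]) (he : e ∈ P)
    (ψ : redImage P →ₗ[𝕜[X]] 𝕜[X]) (hψ : ψ ⟨red n e, ⟨e, he, rfl⟩⟩ = 1)
    (j₀ : Fin n) (hdeg : (e j₀).degree < (i + 2 : ℕ)) (hu : IsUnit ((e j₀).coeff (i + 1))) :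
    ∃ φ : P →ₗ[R[X]] R[X], φ ⟨e, he⟩ = 1 := by
  classical
  obtain ⟨s, hs⟩ := (Module.projective_def (R := R[X]) (P := P)).mp inferInstance
  choose L hL using fun q : P =>
    Polynomial.map_surjective res IsLocalRing.residue_surjective (ψ ⟨red n q, ⟨q, q.2, rfl⟩⟩)
  set φ₀ : P →ₗ[R[X]] R[X] := (Finsupp.linearCombination R[X] L) ∘ₗ s with hφ₀
  have hφ₀e : (φ₀ ⟨e, he⟩).map res = 1 := by
    have hx : (⟨e, he⟩ : P) = Finsupp.linearCombination R[X] id (s ⟨e, he⟩) := (hs _).symm
    simp only [hφ₀, LinearMap.comp_apply, Finsupp.linearCombination_apply, Finsupp.sum,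
      Polynomial.map_sum, smul_eq_mul, Polynomial.map_mul, hL]
    rw [← hψ]
    have h2 : (⟨red n e, ⟨e, he, rfl⟩⟩ : redImage P) =
        ∑ q ∈ (s ⟨e, he⟩).support, ((s ⟨e, he⟩) q).map res •
          (⟨red n q, ⟨q, q.2, rfl⟩⟩ : redImage P) := by
      apply Subtype.ext
      have h3 : e = ∑ q ∈ (s ⟨e, he⟩).support, (s ⟨e, he⟩) q • (q : Fin n → R[X]) := by
        have := congrArg (Subtype.val) hx
        simpa [Finsupp.linearCombination_apply, Finsupp.sum] using this
      simp only [Submodule.coe_sum, Submodule.coe_smul]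
      conv_lhs => rw [h3]
      rw [red_sum]
      exact Finset.sum_congr rfl fun q _ => red_smul _ _
    rw [h2, map_sum]
    exact Finset.sum_congr rfl fun q _ => by rw [map_smul, smul_eq_mul]
  have hdeg' : (e j₀).degree < ((i + 1) + 1 : ℕ) := hdeg
  obtain ⟨a, b, hab⟩ := exists_mul_add_mul_eq_one hφ₀e hdeg' hu
  refine ⟨a • φ₀ + b • ((LinearMap.proj j₀) ∘ₗ P.subtype), ?_⟩
  simpa using hab



omit [IsLocalRing R] in
/-- A polynomial with unit top coefficient is a nonzerodivisor. -/
lemma eq_zero_of_mul_eq_zero_of_unit {c x : R[X]} {d : ℕ} (hcdeg : c.degree < (d + 1 : ℕ))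
    (hcu : IsUnit (c.coeff d)) (h : c * x = 0) : x = 0 := by
  nontriviality R
  obtain ⟨υ, hυ⟩ := hcu
  have hc0 : c ≠ 0 := by
    rintro rfl
    simp at hυ
  have hnat : c.natDegree = d := by
    apply le_antisymm
    · rw [degree_eq_natDegree hc0] at hcdeg
      have : c.natDegree < d + 1 := by exact_mod_cast hcdeg
      omega
    · exact le_natDegree_of_ne_zero (by rw [← hυ]; exact υ.ne_zero)
  have hlc : c.leadingCoeff = υ := by rw [leadingCoeff, hnat, hυ]
  have hmon : (C (↑υ⁻¹ : R) * c).Monic :=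
    monic_C_mul_of_mul_leadingCoeff_eq_one (by rw [hlc]; simp)
  have : C (↑υ⁻¹ : R) * c * x = 0 := by rw [mul_assoc, h, mul_zero]
  exact (hmon.mul_right_eq_zero_iff).mp this

/-- The induction step: splitting off the unimodular element `e`. -/
lemma free_step {n' : ℕ} (P : Submodule R[X] (Fin (n' + 1) → R[X])) [Module.Projective R[X] P]
    {f : R[X]} (hf : f.Monic) (N : ℕ) (hN : ∀ v : Fin (n' + 1) → R[X], f ^ N • v ∈ P)
    (e : Fin (n' + 1) → R[X]) (he : e ∈ P) (φ : P →ₗ[R[X]] R[X]) (hφ : φ ⟨e, he⟩ = 1)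
    (j₀ : Fin (n' + 1)) {d : ℕ} (hcdeg : (e j₀).degree < (d + 1 : ℕ))
    (hcu : IsUnit ((e j₀).coeff d))
    (IH : ∀ (P' : Submodule R[X] (Fin n' → R[X])) [Module.Projective R[X] P'] (f' : R[X]),
      f'.Monic → ∀ N' : ℕ, (∀ v : Fin n' → R[X], f' ^ N' • v ∈ P') → Module.Free R[X] P') :
    Module.Free R[X] P := by
  set c := e j₀ with hc
  obtain ⟨υ, hυ⟩ := id hcu
  have hc0 : c ≠ 0 := by
    intro h0
    rw [h0] at hυ
    simp at hυ
  have hnat : c.natDegree = d := by
    apply le_antisymm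
    · rw [degree_eq_natDegree hc0] at hcdeg
      have : c.natDegree < d + 1 := by exact_mod_cast hcdeg
      omega
    · exact le_natDegree_of_ne_zero (by rw [← hυ]; exact υ.ne_zero)
  have hlc : c.leadingCoeff = υ := by rw [leadingCoeff, hnat, hυ]
  have hmon : (C (↑υ⁻¹ : R) * c).Monic :=
    monic_C_mul_of_mul_leadingCoeff_eq_one (by rw [hlc]; simp)
  -- the map `Θ`
  let Θ : (Fin (n' + 1) → R[X]) →ₗ[R[X]] (Fin n' → R[X]) :=
    { toFun := fun x l => c * x (j₀.succAbove l) - x j₀ * e (j₀.succAbove l)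
      map_add' := fun x y => by ext l; simp only [Pi.add_apply]; ring_nf
      map_smul' := fun b x => by
        ext l; simp only [Pi.smul_apply, smul_eq_mul, RingHom.id_apply]; ring_nf }
  have hΘe : Θ e = 0 := by
    ext l
    simp only [Θ, LinearMap.coe_mk, AddHom.coe_mk, Pi.zero_apply, hc]
    ring_nf
  set K := LinearMap.ker φ with hK
  let θ : K →ₗ[R[X]] (Fin n' → R[X]) := Θ ∘ₗ P.subtype ∘ₗ K.subtype
  have hinj : Function.Injective θ := by
    rw [injective_iff_map_eq_zero]
    intro x hx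
    have hx0 : φ (x : P) = 0 := LinearMap.mem_ker.mp x.2
    have hcoord : ∀ j, c * ((x : P) : Fin (n' + 1) → R[X]) j =
        ((x : P) : Fin (n' + 1) → R[X]) j₀ * e j := by
      intro j
      rcases Fin.eq_self_or_eq_succAbove j₀ j with rfl | ⟨l, rfl⟩
      · rw [mul_comm]
      · have := congrFun hx l
        simp only [θ, Θ, LinearMap.comp_apply, LinearMap.coe_mk, AddHom.coe_mk,
          Submodule.subtype_apply, Pi.zero_apply] at this
        exact sub_eq_zero.mp this
    have hvec : c • (x : P) = (((x : P) : Fin (n' + 1) → R[X]) j₀) • (⟨e, he⟩ : P) := by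
      apply Subtype.ext
      ext j : 1
      simpa using hcoord j
    have h1 := congrArg φ hvec
    rw [map_smul, map_smul, hx0, hφ, smul_zero, smul_eq_mul, mul_one] at h1
    have hzero : ∀ j, ((x : P) : Fin (n' + 1) → R[X]) j = 0 := by
      intro j
      have := hcoord j
      rw [← h1, zero_mul] at this
      exact eq_zero_of_mul_eq_zero_of_unit hcdeg hcu this
    apply Subtype.ext
    apply Subtype.ext
    ext j : 1
    simpa using hzero j
  set P'' := LinearMap.range θ with hP''
  let eqv : K ≃ₗ[R[X]] P'' := LinearEquiv.ofInjective θ hinj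
  have : Module.Projective R[X] K := SerreGP.projective_ker φ ⟨e, he⟩ hφ
  have : Module.Projective R[X] P'' := Module.Projective.of_equiv eqv
  have hmem : ∀ y : Fin n' → R[X], (f ^ N * c) • y ∈ P'' := by
    intro y
    set y' : Fin (n' + 1) → R[X] := j₀.insertNth 0 y with hy'
    refine ⟨SerreGP.projKer φ ⟨e, he⟩ hφ ⟨f ^ N • y', hN y'⟩, ?_⟩
    have h1 : ((SerreGP.projKer φ ⟨e, he⟩ hφ ⟨f ^ N • y', hN y'⟩ : K) : P) =
        ⟨f ^ N • y', hN y'⟩ - φ ⟨f ^ N • y', hN y'⟩ • ⟨e, he⟩ :=
      SerreGP.projKer_apply φ ⟨e, he⟩ hφ _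
    have h2 : θ (SerreGP.projKer φ ⟨e, he⟩ hφ ⟨f ^ N • y', hN y'⟩) =
        Θ (f ^ N • y') - φ ⟨f ^ N • y', hN y'⟩ • Θ e := by
      simp only [θ, LinearMap.comp_apply, Submodule.subtype_apply, h1]
      rw [← map_smul, ← map_sub]
      rfl
    rw [h2, hΘe, smul_zero, sub_zero, map_smul]
    ext l
    simp only [Θ, LinearMap.coe_mk, AddHom.coe_mk, Pi.smul_apply, smul_eq_mul, hy',
      Fin.insertNth_apply_succAbove, Fin.insertNth_apply_same]
    ring_nf
  have hmem' : ∀ y : Fin n' → R[X], (f * (C (↑υ⁻¹ : R) * c)) ^ (N + 1) • y ∈ P'' := by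
    intro y
    have : (f * (C (↑υ⁻¹ : R) * c)) ^ (N + 1) • y =
        (f ^ N * c) • ((f * C (↑υ⁻¹ : R) ^ (N + 1) * c ^ N) • y) := by
      rw [smul_smul]
      congr 1
      ring
    rw [this]
    exact hmem _
  have : Module.Free R[X] P'' := IH P'' _ (hf.mul hmon) (N + 1) hmem'
  have : Module.Free R[X] K := Module.Free.of_equiv eqv.symm
  exact Module.Free.of_equiv (SerreGP.splitEquiv φ ⟨e, he⟩ hφ).symm

/-- **Local Horrocks theorem, embedded form.** -/
theorem free_of_monic_pow_smul_mem : ∀ (n : ℕ) (P : Submodule R[X] (Fin n → R[X]))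
    [Module.Projective R[X] P] (f : R[X]), f.Monic → ∀ N : ℕ,
    (∀ v : Fin n → R[X], f ^ N • v ∈ P) → Module.Free R[X] P := by
  intro n
  induction n with
  | zero =>
    intro P _ f _ N _
    have : Subsingleton P := inferInstance
    exact Module.Free.of_subsingleton _ _
  | succ n' IH =>
    intro P _ f hf N hN
    classical
    have hbase : Abar P (N * f.natDegree) := Abar_of_Aint (Aint_base hf N hN)
    have hex : ∃ i, Abar P i := ⟨_, hbase⟩
    rcases h₁ : Nat.find hex with _ | i
    · -- `P = ⊤`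
      have h0 : Abar P 0 := h₁ ▸ Nat.find_spec hex
      have hA0 : Aint P 0 := Aint_of_Abar hf N hN h0
      have htop : P = ⊤ := by
        rw [eq_top_iff]
        intro u _
        obtain ⟨v, hv, hd⟩ := hA0 u
        have : u = v := by
          ext j : 1
          have := hd j
          rw [Nat.cast_zero, Nat.WithBot.lt_zero_iff, degree_eq_bot] at this
          exact sub_eq_zero.mp this
        rw [this]; exact hv
      exact Module.Free.of_equiv (LinearEquiv.ofTop P htop).symm
    · have hA : Abar P (i + 1) := h₁ ▸ Nat.find_spec hex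
      have hnA : ¬ Abar P i := Nat.find_min hex (by rw [h₁]; exact Nat.lt_succ_self i)
      obtain ⟨v₁, hv₁, hdeg, ⟨j₀, hj₀⟩, ψ, hψ⟩ := exists_unimodular_red P i hA hnA
      have hAint : Aint P (i + 1) := Aint_of_Abar hf N hN hA
      obtain ⟨e, he, hred, hedeg⟩ := exists_lift hAint v₁ hv₁ hdeg
      have hψ' : ψ ⟨red (n' + 1) e, ⟨e, he, rfl⟩⟩ = 1 := by
        rw [← hψ]
        congr 1
        exact Subtype.ext hred
      have hu : IsUnit ((e j₀).coeff (i + 1)) := by
        rw [← IsLocalRing.residue_ne_zero_iff_isUnit]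
        have : ((e j₀).map res).coeff (i + 1) = ((v₁ j₀).map res).coeff (i + 1) := by
          have := congrFun hred j₀
          simp only [red_apply] at this
          rw [this]
        rw [coeff_map] at this
        rw [this]
        exact hj₀
      obtain ⟨φ, hφ⟩ := exists_functional P e he ψ hψ' j₀ (hedeg j₀) hu
      exact free_step P hf N hN e he φ hφ j₀ (d := i + 1) (hedeg j₀) hu
        (fun P' _ f' hf' N' hN' => IH P' f' hf' N' hN')

end Groth.Agent.Lib.Helper89.Horrocks
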