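import Groth.Agent.Lib.Helper89.QPatch3

/-!
# Quillen patching, part 4: the local-global principle (matrix form)
-/

set_option linter.unusedSectionVars false
set_option linter.unusedVariables false

namespace Groth.Agent.Lib.Helper89.QPatch

open Polynomial Matrix

/-- `j : S →+* S'` behaves like the localization at the submonoid `M`. -/
structure LocLikeM {S S' : Type*} [CommRing S] [CommRing S'] (M : Submonoid S) (j : S →+* S') :
    Prop where
  surj : ∀ x : S', ∃ s ∈ M, ∃ y : S, j y = j s * x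
  ker : ∀ y : S, j y = 0 → ∃ s ∈ M, s * y = 0

section LocLikeM

variable {S S' : Type*} [CommRing S] [CommRing S'] {M : Submonoid S} {j : S →+* S'}

lemma LocLikeM.of_isLocalization (M : Submonoid S) [Algebra S S'] [IsLocalization M S'] :
    LocLikeM M (algebraMap S S') where
  surj x := by
    obtain ⟨⟨y, s⟩, hy⟩ := IsLocalization.surj M x
    exact ⟨s, s.2, y, by rw [← hy, mul_comm]⟩
  ker y hy := by
    rw [← (algebraMap S S').map_zero] at hy
    obtain ⟨s, hs⟩ := (IsLocalization.eq_iff_exists M S').mp hy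
    exact ⟨s, s.2, by simpa using hs⟩

lemma LocLikeM.surj_finset (h : LocLikeM M j) {ι : Type*} (t : Finset ι) (x : ι → S') :
    ∃ s ∈ M, ∀ i ∈ t, ∃ y : S, j y = j s * x i := by
  classical
  induction t using Finset.induction_on with
  | empty => exact ⟨1, M.one_mem, by simp⟩
  | insert i t hi IH =>
    obtain ⟨s, hs, hst⟩ := IH
    obtain ⟨s', hs', y', hy'⟩ := h.surj (x i)
    refine ⟨s * s', M.mul_mem hs hs', fun i' hi' => ?_⟩
    rcases Finset.mem_insert.mp hi' with rfl | hi'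
    · exact ⟨s * y', by rw [map_mul, hy', map_mul]; ring⟩
    · obtain ⟨y, hy⟩ := hst i' hi'
      exact ⟨s' * y, by rw [map_mul, hy, map_mul]; ring⟩

lemma LocLikeM.ker_finset (h : LocLikeM M j) {ι : Type*} (t : Finset ι) (y : ι → S)
    (hy : ∀ i ∈ t, j (y i) = 0) : ∃ s ∈ M, ∀ i ∈ t, s * y i = 0 := by
  classical
  induction t using Finset.induction_on with
  | empty => exact ⟨1, M.one_mem, by simp⟩
  | insert i t hi IH =>
    obtain ⟨s, hs, hst⟩ := IH (fun i' hi' => hy i' (Finset.mem_insert_of_mem hi'))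
    obtain ⟨s', hs', hy'⟩ := h.ker (y i) (hy i (Finset.mem_insert_self _ _))
    refine ⟨s * s', M.mul_mem hs hs', fun i' hi' => ?_⟩
    rcases Finset.mem_insert.mp hi' with rfl | hi'
    · rw [mul_assoc, hy', mul_zero]
    · rw [mul_comm s, mul_assoc, hst i' hi', mul_zero]

/-- `LocLikeM` passes to polynomial rings. -/
lemma LocLikeM.polynomial (h : LocLikeM M j) : LocLikeM (M.map (C : S →+* S[X])) (mapRingHom j) where
  surj x := by
    induction x using Polynomial.induction_on' with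
    | add p q hp hq =>
      obtain ⟨_, ⟨sp, hsp, rfl⟩, yp, hyp⟩ := hp
      obtain ⟨_, ⟨sq, hsq, rfl⟩, yq, hyq⟩ := hq
      refine ⟨C (sp * sq), ⟨_, M.mul_mem hsp hsq, rfl⟩, C sq * yp + C sp * yq, ?_⟩
      rw [map_add, map_mul, map_mul, hyp, hyq]
      simp only [coe_mapRingHom, map_C, map_mul]
      ring
    | monomial n x =>
      obtain ⟨s, hs, y, hy⟩ := h.surj x
      refine ⟨C s, ⟨s, hs, rfl⟩, monomial n y, ?_⟩
      simp only [coe_mapRingHom, map_monomial, hy, map_C]
      rw [C_mul_monomial]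
  ker y hy := by
    have h0 : ∀ n ∈ y.support, j (y.coeff n) = 0 := fun n _ => by
      have := congrArg (fun p => p.coeff n) hy
      simpa using this
    obtain ⟨s, hs, hsy⟩ := h.ker_finset y.support (fun n => y.coeff n) h0
    refine ⟨C s, ⟨s, hs, rfl⟩, ?_⟩
    ext n
    rw [coeff_C_mul, coeff_zero]
    by_cases hn : n ∈ y.support
    · exact hsy n hn
    · rw [notMem_support_iff.mp hn, mul_zero]

lemma LocLikeM.matrix_surj (h : LocLikeM M j) {m n : Type*} [Finite m] [Finite n]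
    (A : Matrix m n S') : ∃ s ∈ M, ∃ A' : Matrix m n S, A'.map j = j s • A := by
  classical
  cases nonempty_fintype m
  cases nonempty_fintype n
  obtain ⟨s, hs, hst⟩ := h.surj_finset (Finset.univ : Finset (m × n)) (fun p => A p.1 p.2)
  choose y hy using fun p : m × n => hst p (Finset.mem_univ p)
  exact ⟨s, hs, Matrix.of fun i i' => y (i, i'), by ext i i'; simpa using hy (i, i')⟩

lemma LocLikeM.matrix_ker (h : LocLikeM M j) {m n : Type*} [Finite m] [Finite n]
    (A : Matrix m n S) (hA : A.map j = 0) : ∃ s ∈ M, s • A = 0 := by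
  classical
  cases nonempty_fintype m
  cases nonempty_fintype n
  obtain ⟨s, hs, hst⟩ := h.ker_finset (Finset.univ : Finset (m × n)) (fun p => A p.1 p.2)
    (fun p _ => by simpa using congrFun (congrFun hA p.1) p.2)
  exact ⟨s, hs, by ext i i'; simpa using hst (i, i') (Finset.mem_univ _)⟩

end LocLikeM

section CoverAway

variable {R : Type*} [CommRing R]

/-- The standard two-element cover by localizations. -/
lemma cover_away (a₀ a₁ : R) (h : ∃ c₀ c₁ : R, c₀ * a₀ + c₁ * a₁ = 1) :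
    Cover a₀ a₁ (algebraMap R (Localization.Away a₀)) (algebraMap R (Localization.Away a₁))
      (IsLocalization.Away.awayToAwayRight (S := Localization.Away a₀)
        (P := Localization.Away (a₀ * a₁)) a₀ a₁)
      (IsLocalization.Away.awayToAwayLeft (S := Localization.Away a₁)
        (P := Localization.Away (a₀ * a₁)) a₁ a₀) where
  comm := by
    ext x
    simp only [RingHom.comp_apply]
    rw [IsLocalization.Away.awayToAwayRight_eq, IsLocalization.Away.awayToAwayLeft_eq]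
  loc₀ := LocLike.of_away a₀
  loc₁ := LocLike.of_away a₁
  loc₀₁ := by
    have : (IsLocalization.Away.awayToAwayRight (S := Localization.Away a₀)
        (P := Localization.Away (a₀ * a₁)) a₀ a₁).comp (algebraMap R (Localization.Away a₀)) =
        algebraMap R (Localization.Away (a₀ * a₁)) := by
      ext x
      simp only [RingHom.comp_apply]
      rw [IsLocalization.Away.awayToAwayRight_eq]
    rw [this]
    exact LocLike.of_away (a₀ * a₁)
  unit₀ := IsLocalization.Away.algebraMap_isUnit a₀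
  unit₁ := IsLocalization.Away.algebraMap_isUnit a₁
  comax := h

end CoverAway

-- QUILLEN

section Quillen

variable {A : Type*} [CommRing A] {n : Type*} [Fintype n] [DecidableEq n]

lemma IsExt.of_comp {B B' : Type*} [CommRing B] [CommRing B'] {f : A →+* B} (g : B →+* B')
    {p : Matrix n n A[X]} (h : IsExt (p.map (mapRingHom f))) :
    IsExt (p.map (mapRingHom (g.comp f))) := by
  have := h.map g
  rwa [map_map_ringHom, mapRingHom_comp] at this

lemma IsExt.of_eq_comp {B B' : Type*} [CommRing B] [CommRing B'] {f : A →+* B} (g : B →+* B')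
    {f' : A →+* B'} (hf : g.comp f = f')
    {p : Matrix n n A[X]} (h : IsExt (p.map (mapRingHom f))) :
    IsExt (p.map (mapRingHom f')) := hf ▸ h.of_comp g

lemma isExt_of_subsingleton {B : Type*} [CommRing B] [Subsingleton B] (p : Matrix n n B[X]) :
    IsExt p :=
  ⟨0, 0, ⟨Subsingleton.elim _ _, Subsingleton.elim _ _, Subsingleton.elim _ _,
    Subsingleton.elim _ _, Subsingleton.elim _ _, Subsingleton.elim _ _⟩⟩

/-- The Quillen set of `p`: those `a` such that `p` is extended over `A[1/a]`. -/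
def QSet (p : Matrix n n A[X]) : Set A :=
  {a | IsExt (p.map (mapRingHom (algebraMap A (Localization.Away a))))}

lemma zero_mem_QSet (p : Matrix n n A[X]) : (0 : A) ∈ QSet p := by
  have : Subsingleton (Localization.Away (0 : A)) :=
    IsLocalization.subsingleton (M := Submonoid.powers (0 : A)) ⟨1, pow_one 0⟩
  exact isExt_of_subsingleton _

lemma mul_mem_QSet {p : Matrix n n A[X]} {a : A} (ha : a ∈ QSet p) (b : A) : b * a ∈ QSet p := by
  have hu : IsUnit (algebraMap A (Localization.Away (b * a)) a) := by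
    have := IsLocalization.Away.algebraMap_isUnit (S := Localization.Away (b * a)) (b * a)
    rw [map_mul] at this
    exact isUnit_of_mul_isUnit_right this
  exact IsExt.of_eq_comp (IsLocalization.Away.lift a hu) (IsLocalization.Away.lift_comp a hu) ha

lemma add_mem_QSet {p : Matrix n n A[X]} {a₀ a₁ : A} (h₀ : a₀ ∈ QSet p) (h₁ : a₁ ∈ QSet p) :
    a₀ + a₁ ∈ QSet p := by
  set R := Localization.Away (a₀ + a₁) with hR
  set f := algebraMap A R with hf
  have hunit : IsUnit (f (a₀ + a₁)) := IsLocalization.Away.algebraMap_isUnit (a₀ + a₁)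
  obtain ⟨u, hu⟩ := hunit
  have hcomax : ∃ c₀ c₁ : R, c₀ * f a₀ + c₁ * f a₁ = 1 :=
    ⟨↑u⁻¹, ↑u⁻¹, by rw [← mul_add, ← map_add, ← hu]; simp⟩
  have hcov := cover_away (f a₀) (f a₁) hcomax
  refine IsExt.of_cover hcov _ ?_ ?_
  · rw [map_map_ringHom, mapRingHom_comp]
    have hu₀ : IsUnit (((algebraMap R (Localization.Away (f a₀))).comp f) a₀) :=
      IsLocalization.Away.algebraMap_isUnit (f a₀)
    exact IsExt.of_eq_comp (IsLocalization.Away.lift a₀ hu₀)
      (IsLocalization.Away.lift_comp a₀ hu₀) h₀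
  · rw [map_map_ringHom, mapRingHom_comp]
    have hu₁ : IsUnit (((algebraMap R (Localization.Away (f a₁))).comp f) a₁) :=
      IsLocalization.Away.algebraMap_isUnit (f a₁)
    exact IsExt.of_eq_comp (IsLocalization.Away.lift a₁ hu₁)
      (IsLocalization.Away.lift_comp a₁ hu₁) h₁

/-- The Quillen ideal. -/
def QIdeal (p : Matrix n n A[X]) : Ideal A where
  carrier := QSet p
  add_mem' := add_mem_QSet
  zero_mem' := zero_mem_QSet p
  smul_mem' := fun b _ ha => mul_mem_QSet ha b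

lemma map_eq_zero_of_smul_eq_zero {B : Type*} [CommRing B] (f : A →+* B) {t : A}
    (ht : IsUnit (f t)) {m m' : Type*} {E : Matrix m m' A[X]} (h : (C t : A[X]) • E = 0) :
    E.map (mapRingHom f) = 0 := by
  refine Matrix.ext fun i i' => ?_
  have h1 := congrFun (congrFun h i) i'
  simp only [Matrix.smul_apply, smul_eq_mul, Matrix.zero_apply] at h1
  have h2 : C (f t) * (E i i').map f = 0 := by
    have := congrArg (Polynomial.map f) h1
    simpa using this
  obtain ⟨v, hv⟩ := ht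
  simp only [Matrix.map_apply, coe_mapRingHom, Matrix.zero_apply]
  calc (E i i').map f = C (↑v⁻¹ : B) * (C (f t) * (E i i').map f) := by
        rw [← mul_assoc, ← C_mul, ← hv]; simp
    _ = 0 := by rw [h2, mul_zero]

end Quillen

-- SPREAD

section Spread

variable {A : Type*} [CommRing A] {n : Type*} [Fintype n] [DecidableEq n]

/-- Spreading out: extendedness over `A_𝔪` implies extendedness over `A[1/a]` for some `a ∉ 𝔪`. -/
lemma exists_mem_QSet_notMem (p : Matrix n n A[X]) (m : Ideal A) [m.IsPrime]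
    (h : IsExt (p.map (mapRingHom (algebraMap A (Localization.AtPrime m))))) :
    ∃ a, a ∉ m ∧ a ∈ QSet p := by
  obtain ⟨U, V, hd⟩ := h
  set ι := algebraMap A (Localization.AtPrime m) with hι
  set J := mapRingHom ι with hJ
  have hL : LocLikeM (m.primeCompl.map (C : A →+* A[X])) J :=
    (LocLikeM.of_isLocalization (S' := Localization.AtPrime m) m.primeCompl).polynomial
  obtain ⟨_, ⟨s₁, hs₁, rfl⟩, U', hU'⟩ := hL.matrix_surj U
  obtain ⟨_, ⟨s₂, hs₂, rfl⟩, V', hV'⟩ := hL.matrix_surj V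
  set P0 := p.map (const0 A) with hP0
  have hP0J : P0.map J = (p.map J).map (const0 _) := map_const0_map ι p
  have hzero : ∀ f : A[X] →+* (Localization.AtPrime m)[X],
      (0 : Matrix n n A[X]).map f = 0 := fun f => by
    refine Matrix.ext fun i i' => ?_
    simp
  -- the six equations, with denominators cleared
  have E1 : (P0 * U' - U').map J = 0 := by
    rw [Matrix.map_sub _ (map_sub J), Matrix.map_mul, hU', hP0J, Matrix.mul_smul, hd.pU, sub_self]
  have E2 : (U' * p - U').map J = 0 := by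
    rw [Matrix.map_sub _ (map_sub J), Matrix.map_mul, hU', Matrix.smul_mul, hd.Up, sub_self]
  have E3 : (p * V' - V').map J = 0 := by
    rw [Matrix.map_sub _ (map_sub J), Matrix.map_mul, hV', Matrix.mul_smul, hd.pV, sub_self]
  have E4 : (V' * P0 - V').map J = 0 := by
    rw [Matrix.map_sub _ (map_sub J), Matrix.map_mul, hV', hP0J, Matrix.smul_mul, hd.Vp, sub_self]
  have E5 : (U' * V' - (C (s₁ * s₂) : A[X]) • P0).map J = 0 := by
    rw [Matrix.map_sub _ (map_sub J), Matrix.map_mul, hU', hV', Matrix.smul_mul, Matrix.mul_smul,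
      hd.UV, Matrix.map_smul' _ _ _ (map_mul J), hP0J, smul_smul, ← map_mul, ← C_mul, sub_self]
  have E6 : (V' * U' - (C (s₁ * s₂) : A[X]) • p).map J = 0 := by
    rw [Matrix.map_sub _ (map_sub J), Matrix.map_mul, hU', hV', Matrix.smul_mul, Matrix.mul_smul,
      hd.VU, Matrix.map_smul' _ _ _ (map_mul J), smul_smul, ← map_mul, ← C_mul, mul_comm s₂,
      sub_self]
  obtain ⟨_, ⟨t₁, ht₁, rfl⟩, hE1⟩ := hL.matrix_ker _ E1
  obtain ⟨_, ⟨t₂, ht₂, rfl⟩, hE2⟩ := hL.matrix_ker _ E2
  obtain ⟨_, ⟨t₃, ht₃, rfl⟩, hE3⟩ := hL.matrix_ker _ E3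
  obtain ⟨_, ⟨t₄, ht₄, rfl⟩, hE4⟩ := hL.matrix_ker _ E4
  obtain ⟨_, ⟨t₅, ht₅, rfl⟩, hE5⟩ := hL.matrix_ker _ E5
  obtain ⟨_, ⟨t₆, ht₆, rfl⟩, hE6⟩ := hL.matrix_ker _ E6
  set a := s₁ * s₂ * (t₁ * t₂ * t₃ * t₄ * t₅ * t₆) with ha
  have ham : a ∉ m := by
    have : a ∈ m.primeCompl :=
      mul_mem (mul_mem hs₁ hs₂) (mul_mem (mul_mem (mul_mem (mul_mem (mul_mem ht₁ ht₂) ht₃) ht₄) ht₅)
        ht₆)
    exact this
  refine ⟨a, ham, ?_⟩
  set f := algebraMap A (Localization.Away a) with hf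
  set Jf := mapRingHom f with hJf
  have hua : IsUnit (f a) := IsLocalization.Away.algebraMap_isUnit a
  have hdvd : ∀ t : A, t ∣ a → IsUnit (f t) := fun t ht => by
    obtain ⟨c, hc⟩ := ht
    have h3 : f a = f t * f c := (congrArg f hc).trans (map_mul f t c)
    rw [h3] at hua
    exact isUnit_of_mul_isUnit_left hua
  have hus₁ : IsUnit (f s₁) := hdvd _ ⟨s₂ * (t₁ * t₂ * t₃ * t₄ * t₅ * t₆), by rw [ha]; ring⟩
  have hus₂ : IsUnit (f s₂) := hdvd _ ⟨s₁ * (t₁ * t₂ * t₃ * t₄ * t₅ * t₆), by rw [ha]; ring⟩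
  have hut₁ : IsUnit (f t₁) := hdvd _ ⟨s₁ * s₂ * (t₂ * t₃ * t₄ * t₅ * t₆), by rw [ha]; ring⟩
  have hut₂ : IsUnit (f t₂) := hdvd _ ⟨s₁ * s₂ * (t₁ * t₃ * t₄ * t₅ * t₆), by rw [ha]; ring⟩
  have hut₃ : IsUnit (f t₃) := hdvd _ ⟨s₁ * s₂ * (t₁ * t₂ * t₄ * t₅ * t₆), by rw [ha]; ring⟩
  have hut₄ : IsUnit (f t₄) := hdvd _ ⟨s₁ * s₂ * (t₁ * t₂ * t₃ * t₅ * t₆), by rw [ha]; ring⟩
  have hut₅ : IsUnit (f t₅) := hdvd _ ⟨s₁ * s₂ * (t₁ * t₂ * t₃ * t₄ * t₆), by rw [ha]; ring⟩
  have hut₆ : IsUnit (f t₆) := hdvd _ ⟨s₁ * s₂ * (t₁ * t₂ * t₃ * t₄ * t₅), by rw [ha]; ring⟩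
  have F1 := map_eq_zero_of_smul_eq_zero f hut₁ hE1
  have F2 := map_eq_zero_of_smul_eq_zero f hut₂ hE2
  have F3 := map_eq_zero_of_smul_eq_zero f hut₃ hE3
  have F4 := map_eq_zero_of_smul_eq_zero f hut₄ hE4
  have F5 := map_eq_zero_of_smul_eq_zero f hut₅ hE5
  have F6 := map_eq_zero_of_smul_eq_zero f hut₆ hE6
  rw [Matrix.map_sub _ (map_sub Jf), sub_eq_zero, Matrix.map_mul] at F1 F2 F3 F4 F5 F6
  have hP0Jf : P0.map Jf = (p.map Jf).map (const0 _) := map_const0_map f p
  rw [hP0Jf] at F1 F4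
  rw [Matrix.map_smul' _ _ _ (map_mul Jf)] at F5 F6
  rw [hP0Jf] at F5
  obtain ⟨v₁, hv₁⟩ := hus₁
  obtain ⟨v₂, hv₂⟩ := hus₂
  have hJfC : Jf (C (s₁ * s₂)) = C (↑v₁ * ↑v₂ : Localization.Away a) := by
    rw [hJf, coe_mapRingHom, map_C, map_mul, hv₁, hv₂]
  rw [hJfC] at F5 F6
  have hcc : (C (↑v₁⁻¹ * ↑v₂⁻¹ : Localization.Away a) : (Localization.Away a)[X]) *
      C (↑v₁ * ↑v₂ : Localization.Away a) = 1 := by
    rw [← C_mul]
    have : (↑v₁⁻¹ * ↑v₂⁻¹ : Localization.Away a) * (↑v₁ * ↑v₂) = 1 := by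
      calc (↑v₁⁻¹ * ↑v₂⁻¹ : Localization.Away a) * (↑v₁ * ↑v₂)
          = (↑v₁⁻¹ * ↑v₁) * (↑v₂⁻¹ * ↑v₂) := by ring
        _ = 1 := by simp
    rw [this, C_1]
  refine ⟨(C (↑v₁⁻¹ : Localization.Away a) : (Localization.Away a)[X]) • U'.map Jf,
    (C (↑v₂⁻¹ : Localization.Away a) : (Localization.Away a)[X]) • V'.map Jf,
    ⟨?_, ?_, ?_, ?_, ?_, ?_⟩⟩
  · rw [Matrix.mul_smul, F1]
  · rw [Matrix.smul_mul, F2]
  · rw [Matrix.mul_smul, F3]
  · rw [Matrix.smul_mul, F4]
  · rw [Matrix.smul_mul, Matrix.mul_smul, F5, smul_smul, smul_smul, ← C_mul, hcc, one_smul]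
  · rw [Matrix.smul_mul, Matrix.mul_smul, F6, smul_smul, smul_smul, ← C_mul, mul_comm (↑v₂⁻¹ : Localization.Away a),
      hcc, one_smul]

/-- **Quillen patching** (matrix form): a locally extended idempotent is extended. -/
theorem IsExt.of_forall_isMaximal (p : Matrix n n A[X])
    (h : ∀ (m : Ideal A) (_ : m.IsMaximal),
      IsExt (p.map (mapRingHom (algebraMap A (Localization.AtPrime m))))) : IsExt p := by
  have h1 : (1 : A) ∈ QIdeal p := by
    rw [← Ideal.eq_top_iff_one]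
    by_contra hne
    obtain ⟨m, hm, hle⟩ := Ideal.exists_le_maximal _ hne
    obtain ⟨a, ham, haQ⟩ := exists_mem_QSet_notMem p m (h m hm)
    exact ham (hle haQ)
  have h2 : IsExt (p.map (mapRingHom (algebraMap A (Localization.Away (1 : A))))) := h1
  have hu : IsUnit ((RingHom.id A) 1) := by simp
  have := IsExt.of_eq_comp (IsLocalization.Away.lift (1 : A) hu)
    (IsLocalization.Away.lift_comp (1 : A) hu) h2
  have hid : p.map (mapRingHom (RingHom.id A)) = p := by
    refine Matrix.ext fun i i' => ?_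
    simp
  rwa [hid] at this

end Spread

end Groth.Agent.Lib.Helper89.QPatch
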