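import Groth.Agent.Lib.Helper89.Horrocks1
import Groth.Agent.Lib.Helper89.QPatch4

/-!
# Local Horrocks theorem in matrix form
-/

set_option linter.unusedSectionVars false
set_option linter.unusedVariables false

namespace Groth.Agent.Lib.Helper89.Horrocks

open Polynomial Matrix QPatch

section Factor

variable {T : Type*} [CommRing T] {ι κ : Type*} [Fintype ι] [DecidableEq ι] [Fintype κ]
  [DecidableEq κ]

/-- An idempotent which factors through a free module is extended. -/
lemma isExt_of_factor {p : Matrix ι ι T[X]} (Y₁ : Matrix ι κ T[X]) (W₁ : Matrix κ ι T[X])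
    (h1 : Y₁ * W₁ = p) (h2 : W₁ * Y₁ = 1) : IsExt p := by
  have h1' : Y₁.map (const0 T) * W₁.map (const0 T) = p.map (const0 T) := by
    rw [← Matrix.map_mul, h1]
  have h2' : W₁.map (const0 T) * Y₁.map (const0 T) = 1 := by
    rw [← Matrix.map_mul, h2, map_one_ringHom]
  refine ⟨Y₁.map (const0 T) * W₁, Y₁ * W₁.map (const0 T), ⟨?_, ?_, ?_, ?_, ?_, ?_⟩⟩
  · rw [← h1', Matrix.mul_assoc, ← Matrix.mul_assoc (W₁.map (const0 T)), h2', Matrix.one_mul]
  · rw [← h1, Matrix.mul_assoc, ← Matrix.mul_assoc W₁, h2, Matrix.one_mul]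
  · rw [← h1, Matrix.mul_assoc, ← Matrix.mul_assoc W₁, h2, Matrix.one_mul]
  · rw [← h1', Matrix.mul_assoc, ← Matrix.mul_assoc (W₁.map (const0 T)), h2', Matrix.one_mul]
  · rw [Matrix.mul_assoc, ← Matrix.mul_assoc W₁, h2, Matrix.one_mul, h1']
  · rw [Matrix.mul_assoc, ← Matrix.mul_assoc (W₁.map (const0 T)), h2', Matrix.one_mul, h1]

lemma mulVecLin_idem {p : Matrix ι ι T} (hp : p * p = p) (x : ι → T)
    (hx : x ∈ LinearMap.range p.mulVecLin) : p.mulVec x = x := by
  obtain ⟨y, rfl⟩ := hx
  rw [Matrix.mulVecLin_apply, Matrix.mulVec_mulVec, hp]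

/-- The image of an idempotent matrix is projective. -/
lemma projective_range_of_idem {p : Matrix ι ι T} (hp : p * p = p) :
    Module.Projective T (LinearMap.range p.mulVecLin) := by
  refine Module.Projective.of_split (LinearMap.range p.mulVecLin).subtype
    p.mulVecLin.rangeRestrict ?_
  refine LinearMap.ext fun x => Subtype.ext ?_
  exact mulVecLin_idem hp x.1 x.2

/-- An idempotent matrix with free image factors through a free module. -/
lemma exists_factor_of_free {p : Matrix ι ι T} (hp : p * p = p)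
    [Module.Free T (LinearMap.range p.mulVecLin)] :
    ∃ (r : ℕ) (Y₁ : Matrix ι (Fin r) T) (W₁ : Matrix (Fin r) ι T), Y₁ * W₁ = p ∧ W₁ * Y₁ = 1 := by
  rcases subsingleton_or_nontrivial T with hT | hT
  · exact ⟨0, 0, 0, Subsingleton.elim _ _, Subsingleton.elim _ _⟩
  set M := LinearMap.range p.mulVecLin with hM
  have : Module.Finite T M := Module.Finite.range p.mulVecLin
  let b := Module.finBasis T M
  let g : (Fin (Module.finrank T M) → T) →ₗ[T] (ι → T) := M.subtype ∘ₗ b.equivFun.symm.toLinearMap
  let h : (ι → T) →ₗ[T] (Fin (Module.finrank T M) → T) :=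
    b.equivFun.toLinearMap ∘ₗ p.mulVecLin.rangeRestrict
  refine ⟨Module.finrank T M, LinearMap.toMatrix' g, LinearMap.toMatrix' h, ?_, ?_⟩
  · rw [← LinearMap.toMatrix'_comp]
    have : g ∘ₗ h = p.mulVecLin := by
      refine LinearMap.ext fun x => ?_
      simp only [g, h, LinearMap.comp_apply, LinearEquiv.coe_coe, LinearEquiv.symm_apply_apply,
        Submodule.subtype_apply]
      rfl
    rw [this, ← Matrix.toLin'_apply', LinearMap.toMatrix'_toLin']
  · rw [← LinearMap.toMatrix'_comp]
    have : h ∘ₗ g = LinearMap.id := by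
      refine LinearMap.ext fun x => ?_
      simp only [g, h, LinearMap.comp_apply, LinearEquiv.coe_coe, Submodule.subtype_apply,
        LinearMap.id_apply]
      have h1 : p.mulVecLin.rangeRestrict ((b.equivFun.symm x : M) : ι → T) = b.equivFun.symm x := by
        apply Subtype.ext
        exact mulVecLin_idem hp _ (b.equivFun.symm x).2
      rw [h1, LinearEquiv.apply_symm_apply]
    rw [this, LinearMap.toMatrix'_id]

end Factor

section Local

universe u

variable {R : Type u} [CommRing R] [IsLocalRing R] {ι : Type*} [Fintype ι] [DecidableEq ι]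

/-- **Local Horrocks theorem**, matrix form. -/
theorem isExt_of_local (p : Matrix ι ι R[X]) {r : ℕ} (Y : Matrix ι (Fin r) R[X])
    (W : Matrix (Fin r) ι R[X]) (f : R[X]) (hf : f.Monic) (N : ℕ)
    (hpY : p * Y = Y) (hWp : W * p = W) (hWY : W * Y = f ^ N • (1 : Matrix (Fin r) (Fin r) R[X]))
    (hYW : Y * W = f ^ N • p) : IsExt p := by
  have hreg : ∀ x : R[X], f ^ N * x = 0 → x = 0 := fun x hx =>
    ((hf.pow N).mul_right_eq_zero_iff).mp hx
  have hp : p * p = p := by
    have h1 : f ^ N • (p * p) = f ^ N • p := by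
      calc f ^ N • (p * p) = p * (f ^ N • p) := by rw [Matrix.mul_smul]
        _ = p * Y * W := by rw [← hYW, Matrix.mul_assoc]
        _ = f ^ N • p := by rw [hpY, hYW]
    refine Matrix.ext fun i j => ?_
    have := congrFun (congrFun h1 i) j
    simp only [Matrix.smul_apply, smul_eq_mul] at this
    have h2 : f ^ N * ((p * p) i j - p i j) = 0 := by rw [mul_sub, this, sub_self]
    exact sub_eq_zero.mp (hreg _ h2)
  set M := LinearMap.range p.mulVecLin with hM
  have : Module.Projective R[X] M := projective_range_of_idem hp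
  let g : M →ₗ[R[X]] (Fin r → R[X]) := W.mulVecLin ∘ₗ M.subtype
  have hginj : Function.Injective g := by
    rw [injective_iff_map_eq_zero]
    intro x hx
    have h1 : Y.mulVec (W.mulVec (x : ι → R[X])) = 0 := by
      have : W.mulVec (x : ι → R[X]) = 0 := hx
      rw [this, Matrix.mulVec_zero]
    rw [Matrix.mulVec_mulVec, hYW, Matrix.smul_mulVec, mulVecLin_idem hp _ x.2] at h1
    apply Subtype.ext
    funext i
    have := congrFun h1 i
    simp only [Pi.smul_apply, smul_eq_mul, Pi.zero_apply] at this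
    exact hreg _ this
  set P := LinearMap.range g with hP
  let eqv : M ≃ₗ[R[X]] P := LinearEquiv.ofInjective g hginj
  have : Module.Projective R[X] P := Module.Projective.of_equiv eqv
  have hmem : ∀ v : Fin r → R[X], f ^ N • v ∈ P := by
    intro v
    have hYv : Y.mulVec v ∈ M := ⟨Y.mulVec v, by
      rw [Matrix.mulVecLin_apply, Matrix.mulVec_mulVec, hpY]⟩
    refine ⟨⟨Y.mulVec v, hYv⟩, ?_⟩
    simp only [g, LinearMap.comp_apply, Submodule.subtype_apply, Matrix.mulVecLin_apply]
    rw [Matrix.mulVec_mulVec, hWY, Matrix.smul_mulVec, Matrix.one_mulVec]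
  have hfreeP : Module.Free R[X] P := free_of_monic_pow_smul_mem r P f hf N hmem
  have : Module.Free R[X] (LinearMap.range p.mulVecLin) := Module.Free.of_equiv eqv.symm
  obtain ⟨r', Y₁, W₁, h1, h2⟩ := exists_factor_of_free hp
  exact isExt_of_factor Y₁ W₁ h1 h2

end Local

end Groth.Agent.Lib.Helper89.Horrocks
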