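import Groth.Agent.Lib.Helper89.Horrocks2

/-!
# Affine Horrocks theorem (matrix form) and trivialization near the zero section
-/

set_option linter.unusedSectionVars false
set_option linter.unusedVariables false

namespace Groth.Agent.Lib.Helper89.Horrocks

open Polynomial Matrix QPatch

section Triv

variable {T : Type*} [CommRing T] {κ : Type*} [Fintype κ] [DecidableEq κ]

lemma map_C_map_eval0 {m n : Type*} (M : Matrix m n T) :
    (M.map (C : T →+* T[X])).map (evalRingHom (0 : T)) = M := by
  refine Matrix.ext fun i j => ?_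
  simp

/-- A projective module over `T[X]` whose reduction mod `X` is free becomes free after inverting
a polynomial `h` with `h(0) = 1` (matrix form). -/
lemma exists_trivialization {r : ℕ} (q : Matrix κ κ T[X]) (hq : q * q = q)
    (J₀ : Matrix κ (Fin r) T) (K₀ : Matrix (Fin r) κ T)
    (h1 : J₀ * K₀ = q.map (evalRingHom 0)) (h2 : K₀ * J₀ = 1) :
    ∃ (h : T[X]) (J : Matrix κ (Fin r) T[X]) (K : Matrix (Fin r) κ T[X]),
      h.eval 0 = 1 ∧ q * J = J ∧ K * q = K ∧ K * J = h • (1 : Matrix (Fin r) (Fin r) T[X]) ∧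
      J * K = h • q := by
  set E0 := evalRingHom (0 : T) with hE0
  set π' := q.map E0 with hπ'
  have hevC1 : (J₀.map (C : T →+* T[X])).map E0 = J₀ := map_C_map_eval0 J₀
  have hevC2 : (K₀.map (C : T →+* T[X])).map E0 = K₀ := map_C_map_eval0 K₀
  set J := q * J₀.map C with hJ
  set K := K₀.map C * q with hK
  have hqJ : q * J = J := by rw [hJ, ← Matrix.mul_assoc, hq]
  have hKq : K * q = K := by rw [hK, Matrix.mul_assoc, hq]
  have hJ0 : J.map E0 = J₀ := by
    rw [hJ, Matrix.map_mul, hevC1, ← hπ', ← h1, Matrix.mul_assoc, h2, Matrix.mul_one]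
  have hK0 : K.map E0 = K₀ := by
    rw [hK, Matrix.map_mul, hevC2, ← hπ', ← h1, ← Matrix.mul_assoc, h2, Matrix.one_mul]
  set Δ := K * J with hΔ
  have hΔ0 : Δ.map E0 = 1 := by rw [hΔ, Matrix.map_mul, hJ0, hK0, h2]
  set g := Δ.det with hg
  have hg0 : g.eval 0 = 1 := by
    have : E0 g = (E0.mapMatrix Δ).det := RingHom.map_det E0 Δ
    rw [RingHom.mapMatrix_apply, hΔ0, Matrix.det_one] at this
    exact this
  set J' := J * Δ.adjugate with hJ'
  have hKJ' : K * J' = g • (1 : Matrix (Fin r) (Fin r) T[X]) := by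
    rw [hJ', ← Matrix.mul_assoc, ← hΔ, Matrix.mul_adjugate]
  have hqJ' : q * J' = J' := by rw [hJ', ← Matrix.mul_assoc, hqJ]
  have hJ'0 : J'.map E0 = J₀ := by
    have : Δ.adjugate.map E0 = 1 := by
      have := (RingHom.map_adjugate E0 Δ).symm
      rw [RingHom.mapMatrix_apply, RingHom.mapMatrix_apply, hΔ0, Matrix.adjugate_one] at this
      exact this.symm
    rw [hJ', Matrix.map_mul, hJ0, this, Matrix.mul_one]
  set e' := g • q - J' * K with he'
  have he'e' : e' * e' = g • e' := by
    have a1 : q * (J' * K) = J' * K := by rw [← Matrix.mul_assoc, hqJ']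
    have a2 : J' * K * q = J' * K := by rw [Matrix.mul_assoc, hKq]
    have a3 : J' * K * (J' * K) = g • (J' * K) := by
      rw [Matrix.mul_assoc, ← Matrix.mul_assoc K, hKJ', Matrix.smul_mul, Matrix.one_mul,
        Matrix.mul_smul]
    rw [he', Matrix.sub_mul, Matrix.mul_sub, Matrix.mul_sub, Matrix.smul_mul, Matrix.smul_mul,
      Matrix.mul_smul, Matrix.mul_smul, hq, a1, a2, a3, smul_sub, smul_smul]
    abel
  have he'0 : e'.map E0 = 0 := by
    rw [he', Matrix.map_sub _ (map_sub E0), Matrix.map_mul, hJ'0, hK0, h1]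
    refine Matrix.ext fun i j => ?_
    simp [hE0, hπ', hg0]
  set D := g • (1 : Matrix κ κ T[X]) - e' with hD
  set g' := D.det with hg'
  have hg'0 : g'.eval 0 = 1 := by
    have : E0 g' = (E0.mapMatrix D).det := RingHom.map_det E0 D
    have hD0 : D.map E0 = 1 := by
      rw [hD, Matrix.map_sub _ (map_sub E0), he'0, sub_zero]
      refine Matrix.ext fun i j => ?_
      by_cases hij : i = j
      · subst hij; simp [hE0, hg0]
      · simp [hE0, hij]
    rw [RingHom.mapMatrix_apply, hD0, Matrix.det_one] at this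
    exact this
  have hDe' : D * e' = 0 := by
    rw [hD, Matrix.sub_mul, Matrix.smul_mul, Matrix.one_mul, he'e', sub_self]
  have hg'e' : g' • e' = 0 := by
    calc g' • e' = (D.adjugate * D) * e' := by rw [Matrix.adjugate_mul, Matrix.smul_mul,
          Matrix.one_mul]
      _ = 0 := by rw [Matrix.mul_assoc, hDe', Matrix.mul_zero]
  refine ⟨g' * g, g' • J', K, by rw [eval_mul, hg'0, hg0, one_mul], ?_, hKq, ?_, ?_⟩
  · rw [Matrix.mul_smul, hqJ']
  · rw [Matrix.mul_smul, hKJ', smul_smul]
  · rw [Matrix.smul_mul]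
    have : J' * K = g • q - e' := by rw [he']; abel
    rw [this, smul_sub, hg'e', sub_zero, smul_smul]

end Triv

section Affine

universe u

variable {A : Type u} [CommRing A] {ι κ : Type*} [Fintype ι] [DecidableEq ι] [Fintype κ]
  [DecidableEq κ]

lemma map_C_map_mapRingHom {T T' : Type*} [CommRing T] [CommRing T'] (φ : T →+* T')
    {m n : Type*} (M : Matrix m n T) :
    (M.map (C : T →+* T[X])).map (mapRingHom φ) = (M.map φ).map C := by
  refine Matrix.ext fun i j => ?_
  simp

lemma map_smul_ringHom {T T' : Type*} [CommRing T] [CommRing T'] (φ : T →+* T')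
    {m n : Type*} (c : T) (M : Matrix m n T) :
    (c • M).map φ = φ c • M.map φ := by
  refine Matrix.ext fun i j => ?_
  simp

/-- Over a local ring, an idempotent matrix factors through a free module. -/
lemma exists_factor_of_isLocalRing {R : Type*} [CommRing R] [IsLocalRing R]
    {π' : Matrix κ κ R} (hπ' : π' * π' = π') :
    ∃ (r : ℕ) (J₀ : Matrix κ (Fin r) R) (K₀ : Matrix (Fin r) κ R), J₀ * K₀ = π' ∧ K₀ * J₀ = 1 := by
  have : Module.Projective R (LinearMap.range π'.mulVecLin) := projective_range_of_idem hπ'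
  have : Module.Finite R (LinearMap.range π'.mulVecLin) := Module.Finite.range π'.mulVecLin
  have : Module.Free R (LinearMap.range π'.mulVecLin) := Module.free_of_flat_of_isLocalRing
  exact exists_factor_of_free hπ'

/-- **Affine Horrocks theorem**, matrix form: if the module defined by `p` becomes extended
after inverting a monic polynomial, then it is extended. -/
theorem isExt_of_monic_localization (p : Matrix ι ι A[X]) (π' : Matrix κ κ A)
    (hπ' : π' * π' = π') (f : A[X]) (hf : f.Monic) (N : ℕ)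
    (U : Matrix κ ι A[X]) (V : Matrix ι κ A[X])
    (h2 : U * p = U) (h3 : p * V = V) (h4 : V * π'.map C = V)
    (h5 : U * V = f ^ N • π'.map C) (h6 : V * U = f ^ N • p) : IsExt p := by
  refine IsExt.of_forall_isMaximal p fun m hm => ?_
  set R := Localization.AtPrime m with hR
  set φ : A →+* R := algebraMap A R with hφ
  obtain ⟨r, J₀, K₀, hJK, hKJ⟩ := exists_factor_of_isLocalRing
    (π' := π'.map φ) (by rw [← Matrix.map_mul, hπ'])
  set Φ := mapRingHom φ with hΦ
  have hJKC : J₀.map (C : R →+* R[X]) * K₀.map C = (π'.map C).map Φ := by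
    rw [← Matrix.map_mul, hJK, map_C_map_mapRingHom]
  have hKJC : K₀.map (C : R →+* R[X]) * J₀.map C = 1 := by
    rw [← Matrix.map_mul, hKJ, map_one_ringHom]
  have hfN : Φ (f ^ N) = (f.map φ) ^ N := by simp [hΦ]
  refine isExt_of_local (p.map Φ) (V.map Φ * J₀.map C) (K₀.map C * U.map Φ) (f.map φ)
    (hf.map φ) N ?_ ?_ ?_ ?_
  · rw [← Matrix.mul_assoc, ← Matrix.map_mul, h3]
  · rw [Matrix.mul_assoc, ← Matrix.map_mul, h2]
  · calc K₀.map C * U.map Φ * (V.map Φ * J₀.map C)
        = K₀.map C * ((U * V).map Φ) * J₀.map C := by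
          rw [Matrix.map_mul]; simp only [Matrix.mul_assoc]
      _ = f.map φ ^ N • ((K₀.map C * J₀.map C) * (K₀.map C * J₀.map C)) := by
          rw [h5, map_smul_ringHom, hfN, ← hJKC, Matrix.mul_smul, Matrix.smul_mul]
          simp only [Matrix.mul_assoc]
      _ = f.map φ ^ N • 1 := by rw [hKJC, Matrix.one_mul]
  · rw [Matrix.mul_assoc, ← Matrix.mul_assoc (J₀.map C), hJKC, ← Matrix.mul_assoc,
      ← Matrix.map_mul, h4, ← Matrix.map_mul, h6, map_smul_ringHom, hfN]

end Affine

end Groth.Agent.Lib.Helper89.Horrocks
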