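import Groth.Agent.Lib.Helper89.Horrocks3

/-!
# Horrocks: a projective module over `A[X]` extending to the projective line is extended
(matrix form)
-/

set_option linter.unusedSectionVars false
set_option linter.unusedVariables false

namespace Groth.Agent.Lib.Helper89.Horrocks

open Polynomial LaurentPolynomial Matrix QPatch

section Laurent

variable {T T' : Type*} [CommRing T] [CommRing T']

/-- The involution `T ↦ T⁻¹` as a ring homomorphism. -/
noncomputable def invR (T : Type*) [CommRing T] : T[T;T⁻¹] →+* T[T;T⁻¹] :=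
  (LaurentPolynomial.invert (R := T)).toRingEquiv.toRingHom

@[simp] lemma invR_apply (x : T[T;T⁻¹]) : invR T x = invert x := rfl

lemma invR_invR (x : T[T;T⁻¹]) : invR T (invR T x) = x := involutive_invert x

/-- `X ↦ T⁻¹`. -/
noncomputable def toLinv (T : Type*) [CommRing T] : T[X] →+* T[T;T⁻¹] :=
  (invR T).comp toLaurent

@[simp] lemma toLinv_apply (f : T[X]) : toLinv T f = invert (toLaurent f) := rfl

/-- Base change of Laurent polynomial rings. -/
noncomputable def lmap (φ : T →+* T') : T[T;T⁻¹] →+* T'[T;T⁻¹] :=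
  AddMonoidAlgebra.mapRingHom ℤ φ

lemma lmap_invert (φ : T →+* T') (x : T[T;T⁻¹]) : lmap φ (invert x) = invert (lmap φ x) := by
  ext n
  simp [lmap]

lemma lmap_comp_toLaurent (φ : T →+* T') :
    (lmap φ).comp (toLaurent : T[X] →+* T[T;T⁻¹]) = toLaurent.comp (mapRingHom φ) := by
  refine Polynomial.ringHom_ext (fun a => ?_) ?_
  · simp only [RingHom.comp_apply, toLaurent_C, coe_mapRingHom, Polynomial.map_C]
    rw [← single_eq_C, ← single_eq_C, lmap, AddMonoidAlgebra.mapRingHom_single]
  · simp only [RingHom.comp_apply, toLaurent_X, coe_mapRingHom, Polynomial.map_X]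
    rw [LaurentPolynomial.T, LaurentPolynomial.T, lmap, AddMonoidAlgebra.mapRingHom_single,
      map_one]

lemma lmap_toLaurent (φ : T →+* T') (f : T[X]) :
    lmap φ (toLaurent f) = toLaurent (f.map φ) :=
  RingHom.congr_fun (lmap_comp_toLaurent φ) f

lemma lmap_toLinv (φ : T →+* T') (f : T[X]) :
    lmap φ (toLinv T f) = toLinv T' (f.map φ) := by
  simp only [toLinv_apply, lmap_invert, lmap_toLaurent]

lemma locLike_toLaurent : LocLike (X : T[X]) (toLaurent : T[X] →+* T[T;T⁻¹]) :=
  LocLike.of_away (S' := T[T;T⁻¹]) (X : T[X])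

end Laurent

section P1

universe u

variable {ι κ : Type*} [Fintype ι] [DecidableEq ι] [Fintype κ] [DecidableEq κ]

lemma map_smul_one_ringHom {α β : Type*} [CommRing α] [CommRing β] (f : α →+* β) {n : Type*}
    [DecidableEq n] (c : α) : (c • (1 : Matrix n n α)).map f = f c • (1 : Matrix n n β) := by
  rw [map_smul_ringHom, map_one_ringHom]

/-- Local case: a projective module over `R[X]` (`R` local) extending to `ℙ¹_R` is extended. -/
theorem isExt_of_P1_local {R : Type u} [CommRing R] [IsLocalRing R] (p : Matrix ι ι R[X])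
    (q : Matrix κ κ R[X]) (hq : q * q = q)
    (U : Matrix κ ι R[T;T⁻¹]) (V : Matrix ι κ R[T;T⁻¹])
    (h2 : U * p.map toLaurent = U) (h3 : p.map toLaurent * V = V)
    (h4 : V * q.map (toLinv R) = V)
    (h5 : U * V = q.map (toLinv R)) (h6 : V * U = p.map toLaurent) : IsExt p := by
  obtain ⟨r, J₀, K₀, hJK, hKJ⟩ := exists_factor_of_isLocalRing
    (π' := q.map (evalRingHom (0 : R))) (by rw [← Matrix.map_mul, hq])
  obtain ⟨h, J, K, hh0, hqJ, hKq, hKJ', hJK'⟩ := exists_trivialization q hq J₀ K₀ hJK hKJ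
  set τ := toLinv R with hτ
  set tL : R[X] →+* R[T;T⁻¹] := toLaurent with htL
  have e1 : q.map τ * J.map τ = J.map τ := by rw [← Matrix.map_mul, hqJ]
  have e2 : K.map τ * q.map τ = K.map τ := by rw [← Matrix.map_mul, hKq]
  have e3 : K.map τ * J.map τ = τ h • (1 : Matrix (Fin r) (Fin r) R[T;T⁻¹]) := by
    rw [← Matrix.map_mul, hKJ', map_smul_one_ringHom]
  have e4 : J.map τ * K.map τ = τ h • q.map τ := by
    rw [← Matrix.map_mul, hJK', map_smul_ringHom]
  -- the monic polynomial
  set f := h.reverse with hf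
  have hfm : f.Monic := by
    have h0 : h.coeff 0 = 1 := by rw [Polynomial.coeff_zero_eq_eval_zero, hh0]
    have hne : h.coeff 0 ≠ 0 := by rw [h0]; exact one_ne_zero
    have htr : h.natTrailingDegree = 0 := by
      have := Polynomial.natTrailingDegree_le_of_ne_zero hne
      omega
    rw [Polynomial.Monic, hf, Polynomial.reverse_leadingCoeff, Polynomial.trailingCoeff, htr, h0]
  set t : R[T;T⁻¹] := T (h.natDegree : ℤ) with ht
  have hft : tL f = t * τ h := by
    rw [htL, hf, toLaurent_reverse, mul_comm]; rfl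
  set Y' := t • (V * J.map τ) with hY'
  set W' := K.map τ * U with hW'
  have a1 : p.map tL * Y' = Y' := by
    rw [hY', Matrix.mul_smul, ← Matrix.mul_assoc, h3]
  have a2 : W' * p.map tL = W' := by
    rw [hW', Matrix.mul_assoc, h2]
  have a3 : W' * Y' = tL f • (1 : Matrix (Fin r) (Fin r) R[T;T⁻¹]) := by
    calc W' * Y' = t • (K.map τ * (U * V) * J.map τ) := by
          rw [hW', hY', Matrix.mul_smul]; simp only [Matrix.mul_assoc]
      _ = t • (K.map τ * J.map τ) := by rw [h5, e2]
      _ = tL f • 1 := by rw [e3, smul_smul, hft]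
  have a4 : Y' * W' = tL f • p.map tL := by
    calc Y' * W' = t • (V * (J.map τ * K.map τ) * U) := by
          rw [hW', hY', Matrix.smul_mul]; simp only [Matrix.mul_assoc]
      _ = t • (τ h • (V * q.map τ * U)) := by
          rw [e4, Matrix.mul_smul, Matrix.smul_mul]
      _ = tL f • p.map tL := by rw [h4, h6, smul_smul, hft]
  -- clear denominators
  have hloc : LocLike (X : R[X]) tL := locLike_toLaurent
  obtain ⟨k₁, hk₁⟩ := hloc.matrix_surj Y'
  obtain ⟨k₂, hk₂⟩ := hloc.matrix_surj W'
  set k := max k₁ k₂ with hk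
  obtain ⟨Y, hY⟩ := hk₁ k (le_max_left _ _)
  obtain ⟨W, hW⟩ := hk₂ k (le_max_right _ _)
  have hinj : Function.Injective (tL : R[X] → R[T;T⁻¹]) := Polynomial.toLaurent_injective
  set F := X ^ k * X ^ k * f with hF
  have hFm : F.Monic := ((Polynomial.monic_X_pow k).mul (Polynomial.monic_X_pow k)).mul hfm
  have hFt : tL F = tL X ^ k * tL X ^ k * tL f := by
    rw [hF, map_mul, map_mul, map_pow]
  refine isExt_of_local p Y W F hFm 1 ?_ ?_ ?_ ?_
  · apply Matrix.map_injective hinj
    beta_reduce
    rw [Matrix.map_mul, hY, Matrix.mul_smul, a1]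
  · apply Matrix.map_injective hinj
    beta_reduce
    rw [Matrix.map_mul, hW, Matrix.smul_mul, a2]
  · apply Matrix.map_injective hinj
    beta_reduce
    rw [Matrix.map_mul, hY, hW, Matrix.smul_mul, Matrix.mul_smul, a3, pow_one,
      map_smul_one_ringHom, hFt, smul_smul, smul_smul]
  · apply Matrix.map_injective hinj
    beta_reduce
    rw [Matrix.map_mul, hY, hW, Matrix.smul_mul, Matrix.mul_smul, a4, pow_one,
      map_smul_ringHom, hFt, smul_smul, smul_smul]

/-- **Horrocks' theorem on `ℙ¹`**, matrix form: a projective module over `A[X]` (image of `p`)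
which glues over `A[T;T⁻¹]` with a projective module over `A[T⁻¹]` (image of `q`) is extended. -/
theorem isExt_of_P1 {A : Type u} [CommRing A] (p : Matrix ι ι A[X])
    (q : Matrix κ κ A[X]) (hq : q * q = q)
    (U : Matrix κ ι A[T;T⁻¹]) (V : Matrix ι κ A[T;T⁻¹])
    (h2 : U * p.map toLaurent = U) (h3 : p.map toLaurent * V = V)
    (h4 : V * q.map (toLinv A) = V)
    (h5 : U * V = q.map (toLinv A)) (h6 : V * U = p.map toLaurent) : IsExt p := by
  refine IsExt.of_forall_isMaximal p fun m hm => ?_
  set R := Localization.AtPrime m with hR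
  set φ : A →+* R := algebraMap A R with hφ
  have c1 : (p.map (mapRingHom φ)).map (toLaurent : R[X] →+* R[T;T⁻¹]) =
      (p.map (toLaurent : A[X] →+* A[T;T⁻¹])).map (lmap φ) := by
    refine Matrix.ext fun i j => ?_
    simp [lmap_toLaurent]
  have c2 : (q.map (mapRingHom φ)).map (toLinv R) = (q.map (toLinv A)).map (lmap φ) := by
    refine Matrix.ext fun i j => ?_
    simp only [Matrix.map_apply, lmap_toLinv, coe_mapRingHom]
  refine isExt_of_P1_local (p.map (mapRingHom φ)) (q.map (mapRingHom φ))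
    (by rw [← Matrix.map_mul, hq]) (U.map (lmap φ)) (V.map (lmap φ)) ?_ ?_ ?_ ?_ ?_
  · rw [c1, ← Matrix.map_mul, h2]
  · rw [c1, ← Matrix.map_mul, h3]
  · rw [c2, ← Matrix.map_mul, h4]
  · rw [c2, ← Matrix.map_mul, h5]
  · rw [c1, ← Matrix.map_mul, h6]

end P1

end Groth.Agent.Lib.Helper89.Horrocks
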