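import Groth.Agent.Lib.Helper89.Horrocks4

/-!
# Conversion between finitely generated projective modules and idempotent matrices
-/

set_option linter.unusedSectionVars false
set_option linter.unusedVariables false

namespace Groth.Agent.Lib.Helper89.Horrocks

open Polynomial LaurentPolynomial Matrix QPatch TensorProduct

/-- A presentation of `M` as the image of the idempotent matrix `p`. -/
structure Pres (B : Type*) [CommRing B] (M : Type*) [AddCommGroup M] [Module B M]
    {n : Type*} [Fintype n] [DecidableEq n] (p : Matrix n n B) where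
  i : M →ₗ[B] (n → B)
  π : (n → B) →ₗ[B] M
  πi : ∀ x, π (i x) = x
  iπ : ∀ v, i (π v) = p.mulVec v

namespace Pres

variable {B : Type*} [CommRing B] {M : Type*} [AddCommGroup M] [Module B M]
  {M' : Type*} [AddCommGroup M'] [Module B M']
  {n : Type*} [Fintype n] [DecidableEq n] {p : Matrix n n B}
  {n' : Type*} [Fintype n'] [DecidableEq n'] {p' : Matrix n' n' B}

lemma idem (h : Pres B M p) : p * p = p := by
  apply Matrix.toLin'.injective
  refine LinearMap.ext fun v => ?_
  rw [Matrix.toLin'_mul, LinearMap.comp_apply, Matrix.toLin'_apply, Matrix.toLin'_apply,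
    ← h.iπ, ← h.iπ, h.πi]

/-- The tautological presentation of the image of an idempotent. -/
def ofRange (hp : p * p = p) : Pres B (LinearMap.range p.mulVecLin) p where
  i := Submodule.subtype _
  π := p.mulVecLin.rangeRestrict
  πi x := Subtype.ext (mulVecLin_idem hp x.1 x.2)
  iπ v := rfl

/-- The free module. -/
def one : Pres B (n → B) (1 : Matrix n n B) where
  i := LinearMap.id
  π := LinearMap.id
  πi _ := rfl
  iπ v := (Matrix.one_mulVec v).symm

/-- Base change of a presentation. -/
noncomputable def baseChange (B' : Type*) [CommRing B'] [Algebra B B'] (h : Pres B M p) :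
    Pres B' (B' ⊗[B] M) (p.map (algebraMap B B')) where
  i := (TensorProduct.piScalarRight B B' B' n).toLinearMap ∘ₗ h.i.baseChange B'
  π := h.π.baseChange B' ∘ₗ (TensorProduct.piScalarRight B B' B' n).symm.toLinearMap
  πi x := by
    simp only [LinearMap.comp_apply, LinearEquiv.coe_coe, LinearEquiv.symm_apply_apply]
    induction x using TensorProduct.induction_on with
    | zero => simp
    | tmul b m => simp [h.πi]
    | add x y hx hy => simp only [map_add, hx, hy]
  iπ v := by
    have key : ((TensorProduct.piScalarRight B B' B' n).toLinearMap ∘ₗ h.i.baseChange B') ∘ₗ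
        (h.π.baseChange B' ∘ₗ (TensorProduct.piScalarRight B B' B' n).symm.toLinearMap) =
        (p.map (algebraMap B B')).mulVecLin := by
      refine LinearMap.pi_ext' fun j => LinearMap.ext_ring ?_
      funext k
      simp only [LinearMap.comp_apply, LinearMap.coe_single, LinearEquiv.coe_coe,
        TensorProduct.piScalarRight_symm_single, LinearMap.baseChange_tmul, h.iπ,
        TensorProduct.piScalarRight_apply, TensorProduct.piScalarRightHom_tmul,
        Matrix.mulVecLin_apply, Matrix.mulVec_single_one, Matrix.col_apply, Matrix.map_apply,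
        Algebra.algebraMap_eq_smul_one]
    exact LinearMap.congr_fun key v

/-- Two presentations linked by matrices `U, V` give isomorphic modules. -/
def equiv (h : Pres B M p) (h' : Pres B M' p') (U : Matrix n' n B) (V : Matrix n n' B)
    (Up : U * p = U) (Vp' : V * p' = V) (UV : U * V = p') (VU : V * U = p) : M ≃ₗ[B] M' :=
  LinearEquiv.ofLinearMap (h'.π ∘ₗ U.mulVecLin ∘ₗ h.i) (h.π ∘ₗ V.mulVecLin ∘ₗ h'.i)
    (by
      refine LinearMap.ext fun x => ?_
      simp only [LinearMap.comp_apply, LinearMap.id_apply, Matrix.mulVecLin_apply, h.iπ,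
        Matrix.mulVec_mulVec]
      rw [← Matrix.mul_assoc, Up, UV, ← h'.iπ, h'.πi, h'.πi])
    (by
      refine LinearMap.ext fun x => ?_
      simp only [LinearMap.comp_apply, LinearMap.id_apply, Matrix.mulVecLin_apply, h'.iπ,
        Matrix.mulVec_mulVec]
      rw [← Matrix.mul_assoc, Vp', VU, ← h.iπ, h.πi, h.πi])

end Pres

/-- Every finitely generated projective module is the image of an idempotent matrix. -/
lemma exists_pres (B : Type*) [CommRing B] (M : Type*) [AddCommGroup M] [Module B M]
    [Module.Finite B M] [Module.Projective B M] :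
    ∃ (n : ℕ) (p : Matrix (Fin n) (Fin n) B), Nonempty (Pres B M p) := by
  obtain ⟨n, f, g, -, -, hfg⟩ := Module.Finite.exists_comp_eq_id_of_projective B M
  refine ⟨n, LinearMap.toMatrix' (g ∘ₗ f), ⟨⟨g, f, fun x => LinearMap.congr_fun hfg x, fun v => ?_⟩⟩⟩
  rw [← Matrix.toLin'_apply, Matrix.toLin'_toMatrix', LinearMap.comp_apply]

section Ext

universe u

variable {A : Type u} [CommRing A]

/-- The `A`-module from which the image of an extended idempotent is extended. -/
noncomputable abbrev P0 {n : Type*} [Fintype n] [DecidableEq n] (p : Matrix n n A[X]) : Submodule A (n → A) :=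
  LinearMap.range (p.map (evalRingHom (0 : A))).mulVecLin

theorem Pres.equiv_of_isExt {M : Type*} [AddCommGroup M] [Module A[X] M]
    {n : Type*} [Fintype n] [DecidableEq n] {p : Matrix n n A[X]}
    (h : Pres A[X] M p) (hext : IsExt p) : Nonempty (M ≃ₗ[A[X]] A[X] ⊗[A] P0 p) := by
  obtain ⟨U, V, hUV⟩ := hext
  have hp0 : p.map (evalRingHom (0 : A)) * p.map (evalRingHom (0 : A)) =
      p.map (evalRingHom (0 : A)) := by rw [← Matrix.map_mul, h.idem]
  have h0 : Pres A[X] (A[X] ⊗[A] P0 p) ((p.map (evalRingHom (0 : A))).map (algebraMap A A[X])) :=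
    (Pres.ofRange hp0).baseChange A[X]
  have hc : (p.map (evalRingHom (0 : A))).map (algebraMap A A[X]) = p.map (const0 A) :=
    (map_const0_eq p).symm
  rw [hc] at h0
  exact ⟨h.equiv h0 U V hUV.Up hUV.Vp hUV.UV hUV.VU⟩

/-- **Horrocks on `ℙ¹`**, module form with presentations. -/
theorem isExt_of_semilinear {M N : Type*} [AddCommGroup M] [Module A[X] M]
    [AddCommGroup N] [Module A[X] N]
    {n k : Type*} [Fintype n] [DecidableEq n] [Fintype k] [DecidableEq k]
    {p : Matrix n n A[X]} {q : Matrix k k A[X]}
    (hM : Pres A[X] M p) (hN : Pres A[X] N q)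
    (e : A[T;T⁻¹] ⊗[A[X]] M → A[T;T⁻¹] ⊗[A[X]] N)
    (e' : A[T;T⁻¹] ⊗[A[X]] N → A[T;T⁻¹] ⊗[A[X]] M)
    (hadd : ∀ x y, e (x + y) = e x + e y)
    (hsmul : ∀ (a : A[T;T⁻¹]) x, e (a • x) = invert a • e x)
    (h1 : ∀ x, e' (e x) = x) (h2 : ∀ y, e (e' y) = y) : IsExt p := by
  classical
  let hM' := hM.baseChange A[T;T⁻¹]
  let hN' := hN.baseChange A[T;T⁻¹]
  have hadd' : ∀ x y, e' (x + y) = e' x + e' y := fun x y => by
    have := hadd (e' x) (e' y)
    rw [h2, h2] at this
    rw [← this, h1]
  have hsmul' : ∀ (a : A[T;T⁻¹]) y, e' (a • y) = invert a • e' y := fun a y => by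
    have := hsmul (invert a) (e' y)
    rw [h2, involutive_invert a] at this
    rw [← this, h1]
  let F : (n → A[T;T⁻¹]) →ₗ[A[T;T⁻¹]] (k → A[T;T⁻¹]) :=
    { toFun := fun v j => invert (hN'.i (e (hM'.π v)) j)
      map_add' := fun v w => by
        funext j
        simp only [map_add, hadd, Pi.add_apply]
      map_smul' := fun a v => by
        funext j
        simp only [map_smul, hsmul, Pi.smul_apply, smul_eq_mul, map_mul, involutive_invert a,
          RingHom.id_apply] }
  let G : (k → A[T;T⁻¹]) →ₗ[A[T;T⁻¹]] (n → A[T;T⁻¹]) :=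
    { toFun := fun w => hM'.i (e' (hN'.π (fun j => invert (w j))))
      map_add' := fun v w => by
        have : (fun j => invert ((v + w) j)) = (fun j => invert (v j)) + (fun j => invert (w j)) := by
          funext j; simp
        rw [this, map_add, hadd', map_add]
      map_smul' := fun a v => by
        have : (fun j => invert ((a • v) j)) = invert a • (fun j => invert (v j)) := by
          funext j; simp
        rw [this, map_smul, hsmul', involutive_invert a, map_smul, RingHom.id_apply] }
  have hFv : ∀ v, F v = fun j => invert (hN'.i (e (hM'.π v)) j) := fun v => rfl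
  have hGw : ∀ w, G w = hM'.i (e' (hN'.π (fun j => invert (w j)))) := fun w => rfl
  have hp' : ∀ v, (p.map (toLaurent : A[X] →+* A[T;T⁻¹])).mulVec v = hM'.i (hM'.π v) :=
    fun v => (hM'.iπ v).symm
  have hq' : ∀ w, (q.map (toLinv A)).mulVec w =
      fun j => invert (hN'.i (hN'.π (fun j => invert (w j))) j) := fun w => by
    funext j
    rw [hN'.iπ]
    have := RingHom.map_mulVec (invR A) (q.map (algebraMap A[X] A[T;T⁻¹])) (fun j => invert (w j)) j
    rw [invR_apply] at this
    rw [this]
    congr 1
    funext j'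
    simp only [Function.comp_apply, invR_apply, involutive_invert (w j')]
  have hinvinv : ∀ w : k → A[T;T⁻¹], (fun j => invert ((fun j => invert (w j)) j)) = w := fun w => by
    funext j; exact involutive_invert (w j)
  refine isExt_of_P1 p q hN.idem (LinearMap.toMatrix' F) (LinearMap.toMatrix' G) ?_ ?_ ?_ ?_ ?_
  · apply Matrix.toLin'.injective
    refine LinearMap.ext fun v => ?_
    rw [Matrix.toLin'_mul, LinearMap.comp_apply, Matrix.toLin'_toMatrix', Matrix.toLin'_apply,
      hp', hFv, hFv, hM'.πi]
  · apply Matrix.toLin'.injective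
    refine LinearMap.ext fun v => ?_
    rw [Matrix.toLin'_mul, LinearMap.comp_apply, Matrix.toLin'_toMatrix', Matrix.toLin'_apply,
      hp', hGw, hM'.πi]
  · apply Matrix.toLin'.injective
    refine LinearMap.ext fun v => ?_
    rw [Matrix.toLin'_mul, LinearMap.comp_apply, Matrix.toLin'_toMatrix', Matrix.toLin'_apply,
      hq', hGw, hGw, hinvinv, hN'.πi]
  · apply Matrix.toLin'.injective
    refine LinearMap.ext fun v => ?_
    rw [Matrix.toLin'_mul, LinearMap.comp_apply, Matrix.toLin'_toMatrix', Matrix.toLin'_toMatrix',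
      Matrix.toLin'_apply, hq', hGw, hFv, hM'.πi, h2]
  · apply Matrix.toLin'.injective
    refine LinearMap.ext fun v => ?_
    rw [Matrix.toLin'_mul, LinearMap.comp_apply, Matrix.toLin'_toMatrix', Matrix.toLin'_toMatrix',
      Matrix.toLin'_apply, hp', hGw, hFv, hinvinv, hN'.πi, h1]

end Ext

end Groth.Agent.Lib.Helper89.Horrocks
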