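import Groth.Agent.Lib.Helper89.HorrocksMain

/-!
# Extended projective modules over `R[X]` are free over a cover `D(g_i)` of `Spec R`
-/

set_option linter.unusedSectionVars false
set_option linter.unusedVariables false

namespace Groth.Agent.Lib.Helper89.Horrocks

open Polynomial Matrix QPatch TensorProduct

universe u

/-- Over a local ring, the image of an extended idempotent is free. -/
theorem free_of_isExt_local {R : Type*} [CommRing R] [IsLocalRing R] {M : Type*} [AddCommGroup M]
    [Module R[X] M] {n : Type*} [Fintype n] [DecidableEq n] {p : Matrix n n R[X]}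
    (h : Pres R[X] M p) (hext : IsExt p) : Module.Free R[X] M := by
  obtain ⟨U, V, hUV⟩ := hext
  obtain ⟨r, J₀, K₀, hJK, hKJ⟩ := exists_factor_of_isLocalRing
    (π' := p.map (evalRingHom (0 : R))) (by rw [← Matrix.map_mul, h.idem])
  have hJKC : J₀.map (C : R →+* R[X]) * K₀.map C = p.map (const0 R) := by
    rw [← Matrix.map_mul, hJK, map_const0_eq]
  have hKJC : K₀.map (C : R →+* R[X]) * J₀.map C = 1 := by
    rw [← Matrix.map_mul, hKJ, map_one_ringHom]
  have eqv : M ≃ₗ[R[X]] (Fin r → R[X]) :=
    h.equiv Pres.one (K₀.map C * U) (V * J₀.map C)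
      (by rw [Matrix.mul_assoc, hUV.Up]) (Matrix.mul_one _)
      (by
        calc K₀.map C * U * (V * J₀.map C) = K₀.map C * (U * V) * J₀.map C := by
              simp only [Matrix.mul_assoc]
          _ = (K₀.map C * J₀.map C) * (K₀.map C * J₀.map C) := by
              rw [hUV.UV, ← hJKC]; simp only [Matrix.mul_assoc]
          _ = 1 := by rw [hKJC, Matrix.one_mul])
      (by
        calc V * J₀.map C * (K₀.map C * U) = V * (J₀.map C * K₀.map C) * U := by
              simp only [Matrix.mul_assoc]
          _ = p := by rw [hJKC, hUV.Vp, hUV.VU])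
  exact Module.Free.of_equiv eqv.symm

attribute [local instance] Polynomial.algebra in
/-- If `P` is the image of an extended idempotent over `R[X]`, then for every prime `m` of `R`
there is `g ∉ m` such that `P` becomes free after inverting `g`. -/
theorem exists_notMem_free {R : Type u} [CommRing R] {P : Type u} [AddCommGroup P]
    [Module R[X] P] [Module.Finite R[X] P] [Module.Projective R[X] P]
    {n : Type*} [Fintype n] [DecidableEq n] {p : Matrix n n R[X]}
    (h : Pres R[X] P p) (hext : IsExt p) (m : Ideal R) [m.IsPrime] :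
    ∃ g : R, g ∉ m ∧ Module.Free (Localization.Away (C g : R[X]))
      (LocalizedModule (Submonoid.powers (C g : R[X])) P) := by
  set Rm := Localization.AtPrime m with hRm
  set S : Submonoid R[X] := m.primeCompl.map (C : R →+* R[X]) with hS
  have : IsLocalization S Rm[X] := Polynomial.isLocalization m.primeCompl Rm
  let f : P →ₗ[R[X]] Rm[X] ⊗[R[X]] P := TensorProduct.mk R[X] Rm[X] P 1
  have : IsLocalizedModule S f :=
    (isLocalizedModule_iff_isBaseChange S Rm[X] f).mpr (TensorProduct.isBaseChange R[X] P Rm[X])
  have hext' : IsExt (p.map (algebraMap R[X] Rm[X])) := hext.map (algebraMap R Rm)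
  have : Module.Free Rm[X] (Rm[X] ⊗[R[X]] P) := free_of_isExt_local (h.baseChange Rm[X]) hext'
  have : Module.FinitePresentation R[X] P := Module.finitePresentation_of_projective _ _
  obtain ⟨r, hr, hfree, -⟩ :=
    Module.FinitePresentation.exists_free_localizedModule_powers (M' := Rm[X] ⊗[R[X]] P) S f Rm[X]
  obtain ⟨g, hg, rfl⟩ := hr
  exact ⟨g, hg, hfree⟩

/-- If `P` is the image of an extended idempotent over `R[X]`, then `Spec R` is covered by
finitely many `D(g_i)` over which `P` becomes free. -/
theorem exists_cover_free {R : Type u} [CommRing R] {P : Type u} [AddCommGroup P]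
    [Module R[X] P] [Module.Finite R[X] P] [Module.Projective R[X] P]
    {n : Type*} [Fintype n] [DecidableEq n] {p : Matrix n n R[X]}
    (h : Pres R[X] P p) (hext : IsExt p) :
    ∃ (k : ℕ) (g : Fin k → R), Ideal.span (Set.range g) = ⊤ ∧
      ∀ i, Module.Free (Localization.Away (Polynomial.C (g i) : R[X]))
        (LocalizedModule (Submonoid.powers (Polynomial.C (g i) : R[X])) P) := by
  set G : Set R := {g | Module.Free (Localization.Away (C g : R[X]))
      (LocalizedModule (Submonoid.powers (C g : R[X])) P)} with hG
  have htop : Ideal.span G = ⊤ := by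
    by_contra hne
    obtain ⟨m, hm, hle⟩ := Ideal.exists_le_maximal _ hne
    obtain ⟨g, hgm, hg⟩ := exists_notMem_free h hext m
    exact hgm (hle (Ideal.subset_span hg))
  obtain ⟨s, hsG, hs⟩ := (Ideal.span_eq_top_iff_finite G).mp htop
  refine ⟨s.card, fun i => (s.equivFin.symm i : R), ?_, fun i => ?_⟩
  · have : Set.range (fun i => ((s.equivFin.symm i : s) : R)) = (s : Set R) := by
      ext x
      constructor
      · rintro ⟨i, rfl⟩
        exact (s.equivFin.symm i).2
      · intro hx
        exact ⟨s.equivFin ⟨x, hx⟩, by simp⟩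
    rw [this, hs]
  · exact hsG (s.equivFin.symm i).2

end Groth.Agent.Lib.Helper89.Horrocks
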