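import Groth.Agent.Lib.Helper89.HorrocksConv

/-!
# Horrocks: module-level statements
-/

set_option linter.unusedSectionVars false
set_option linter.unusedVariables false

namespace Groth.Agent.Lib.Helper89.Horrocks

open Polynomial LaurentPolynomial Matrix QPatch TensorProduct

universe u

section

variable (A : Type u) [CommRing A]

instance isScalarTower_laurent : IsScalarTower A A[X] A[T;T⁻¹] :=
  IsScalarTower.of_algebraMap_eq fun a => by
    rw [← LaurentPolynomial.C_eq_algebraMap, LaurentPolynomial.algebraMap_eq_toLaurent,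
      ← Polynomial.C_eq_algebraMap, Polynomial.toLaurent_C]

variable {A}

/-- The `invert`-semilinear involution of `A[T;T⁻¹] ⊗[A] P`. -/
noncomputable def sInv (P : Type*) [AddCommGroup P] [Module A P] :
    A[T;T⁻¹] ⊗[A] P →ₗ[A] A[T;T⁻¹] ⊗[A] P :=
  TensorProduct.map (LaurentPolynomial.invert (R := A)).toLinearMap LinearMap.id

lemma sInv_tmul (P : Type*) [AddCommGroup P] [Module A P] (b : A[T;T⁻¹]) (x : P) :
    sInv P (b ⊗ₜ[A] x) = invert b ⊗ₜ[A] x := rfl

lemma sInv_sInv (P : Type*) [AddCommGroup P] [Module A P] (y : A[T;T⁻¹] ⊗[A] P) :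
    sInv P (sInv P y) = y := by
  induction y using TensorProduct.induction_on with
  | zero => simp
  | tmul b x => rw [sInv_tmul, sInv_tmul, involutive_invert b]
  | add x y hx hy => rw [map_add, map_add, hx, hy]

lemma sInv_smul (P : Type*) [AddCommGroup P] [Module A P] (a : A[T;T⁻¹])
    (y : A[T;T⁻¹] ⊗[A] P) : sInv P (a • y) = invert a • sInv P y := by
  induction y using TensorProduct.induction_on with
  | zero => simp
  | tmul b x =>
    rw [TensorProduct.smul_tmul', sInv_tmul, sInv_tmul, TensorProduct.smul_tmul', smul_eq_mul,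
      smul_eq_mul, map_mul]
  | add x y hx hy => rw [smul_add, map_add, map_add, hx, hy, smul_add]

/-- An extended module extends to the projective line. -/
theorem exists_semilinear_of_extended (M : Type*) [AddCommGroup M] [Module A[X] M]
    (P : Type*) [AddCommGroup P] [Module A P] (eqv : M ≃ₗ[A[X]] A[X] ⊗[A] P) :
    ∃ e : (A[T;T⁻¹] ⊗[A[X]] M) →ₛₗ[(LaurentPolynomial.invert (R := A)).toRingEquiv.toRingHom]
      (A[T;T⁻¹] ⊗[A[X]] M), Function.Bijective e := by
  let e1 : A[T;T⁻¹] ⊗[A[X]] M ≃ₗ[A[T;T⁻¹]] A[T;T⁻¹] ⊗[A[X]] (A[X] ⊗[A] P) :=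
    TensorProduct.AlgebraTensorModule.congr (LinearEquiv.refl A[T;T⁻¹] A[T;T⁻¹]) eqv
  let e2 : A[T;T⁻¹] ⊗[A[X]] (A[X] ⊗[A] P) ≃ₗ[A[T;T⁻¹]] A[T;T⁻¹] ⊗[A] P :=
    TensorProduct.AlgebraTensorModule.cancelBaseChange A A[X] A[T;T⁻¹] A[T;T⁻¹] P
  let e3 := e1.trans e2
  refine ⟨{ toFun := fun x => e3.symm (sInv P (e3 x))
            map_add' := fun x y => by simp only [map_add]
            map_smul' := fun a x => by
              rw [map_smul, sInv_smul, map_smul]
              rfl }, ?_⟩
  refine Function.Involutive.bijective fun x => ?_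
  show e3.symm (sInv P (e3 (e3.symm (sInv P (e3 x))))) = x
  rw [LinearEquiv.apply_symm_apply, sInv_sInv, LinearEquiv.symm_apply_apply]

end

end Groth.Agent.Lib.Helper89.Horrocks
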