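import Groth.Agent.Lib.Helper89.HorrocksStar

/-!
# Projective modules which become isomorphic over `A[X]` localized at monic polynomials
-/

set_option linter.unusedSectionVars false
set_option linter.unusedVariables false

namespace Groth.Agent.Lib.Helper89.Horrocks

open Polynomial LaurentPolynomial Matrix QPatch

universe u

section PresMat

variable {B : Type*} [CommRing B] {M : Type*} [AddCommGroup M] [Module B M]
  {M' : Type*} [AddCommGroup M'] [Module B M']
  {n : Type*} [Fintype n] [DecidableEq n] {p : Matrix n n B}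
  {n' : Type*} [Fintype n'] [DecidableEq n'] {p' : Matrix n' n' B}

lemma Pres.toLin'_eq (h : Pres B M p) : Matrix.toLin' p = h.i ∘ₗ h.π := by
  refine LinearMap.ext fun v => ?_
  rw [Matrix.toLin'_apply, LinearMap.comp_apply, h.iπ]

/-- Matrices from an isomorphism of presented modules. -/
lemma Pres.exists_matrices (h : Pres B M p) (h' : Pres B M' p') (eqv : M ≃ₗ[B] M') :
    ∃ (U : Matrix n' n B) (V : Matrix n n' B), p' * U = U ∧ U * p = U ∧ p * V = V ∧
      V * p' = V ∧ U * V = p' ∧ V * U = p := by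
  refine ⟨LinearMap.toMatrix' (h'.i ∘ₗ eqv.toLinearMap ∘ₗ h.π),
    LinearMap.toMatrix' (h.i ∘ₗ eqv.symm.toLinearMap ∘ₗ h'.π), ?_, ?_, ?_, ?_, ?_, ?_⟩ <;>
  · apply Matrix.toLin'.injective
    refine LinearMap.ext fun v => ?_
    simp only [Matrix.toLin'_mul, Matrix.toLin'_toMatrix', h.toLin'_eq, h'.toLin'_eq,
      LinearMap.comp_apply, LinearEquiv.coe_coe, h.πi, h'.πi, LinearEquiv.symm_apply_apply,
      LinearEquiv.apply_symm_apply]

lemma normalize_conj {U₀ : Matrix n' n B} {V₀ : Matrix n n' B}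
    (hUV : U₀ * V₀ = p') (hVU : V₀ * U₀ = p) (hp : p * p = p) (hp' : p' * p' = p') :
    ∃ (U : Matrix n' n B) (V : Matrix n n' B), U * p = U ∧ V * p' = V ∧ U * V = p' ∧
      V * U = p := by
  refine ⟨U₀ * p, V₀ * p', ?_, ?_, ?_, ?_⟩
  · rw [Matrix.mul_assoc, hp]
  · rw [Matrix.mul_assoc, hp']
  · calc U₀ * p * (V₀ * p') = U₀ * (V₀ * U₀) * V₀ * (U₀ * V₀) := by
          rw [hUV, hVU]; simp only [Matrix.mul_assoc]
      _ = (U₀ * V₀) * (U₀ * V₀) * (U₀ * V₀) := by simp only [Matrix.mul_assoc]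
      _ = p' := by rw [hUV, hp', hp']
  · calc V₀ * p' * (U₀ * p) = V₀ * (U₀ * V₀) * U₀ * (V₀ * U₀) := by
          rw [hUV, hVU]; simp only [Matrix.mul_assoc]
      _ = (V₀ * U₀) * (V₀ * U₀) * (V₀ * U₀) := by simp only [Matrix.mul_assoc]
      _ = p := by rw [hVU, hp, hp]

end PresMat

section Reflect

variable {A : Type*} [CommRing A]

lemma exists_toLaurent_eq_invert_mul_T (D : ℕ) (p : A[X]) (hp : p.natDegree ≤ D) :
    ∃ p' : A[X], toLaurent p' = T (D : ℤ) * toLinv A p := by
  refine ⟨p.reverse * X ^ (D - p.natDegree), ?_⟩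
  rw [map_mul, toLaurent_reverse, toLaurent_X_pow, mul_T_assoc, toLinv_apply, mul_comm]
  congr 2
  push_cast [Nat.cast_sub hp]
  ring

lemma exists_matrix_reflect {m n : Type*} [Finite m] [Finite n] (D : ℕ) (W : Matrix m n A[X])
    (hW : ∀ i j, (W i j).natDegree ≤ D) :
    ∃ W' : Matrix m n A[X], W'.map (toLaurent : A[X] →+* A[T;T⁻¹]) =
      (T (D : ℤ) : A[T;T⁻¹]) • W.map (toLinv A) := by
  choose w hw using fun i j => exists_toLaurent_eq_invert_mul_T D (W i j) (hW i j)
  refine ⟨Matrix.of w, Matrix.ext fun i j => ?_⟩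
  rw [Matrix.map_apply, Matrix.of_apply, hw i j, Matrix.smul_apply, Matrix.map_apply, smul_eq_mul]

lemma exists_natDegree_bound {m n : Type*} [Finite m] [Finite n] (W : Matrix m n A[X]) :
    ∃ D : ℕ, ∀ i j, (W i j).natDegree ≤ D := by
  classical
  cases nonempty_fintype m
  cases nonempty_fintype n
  refine ⟨Finset.univ.sup fun p : m × n => (W p.1 p.2).natDegree, fun i j => ?_⟩
  exact Finset.le_sup (f := fun p : m × n => (W p.1 p.2).natDegree) (Finset.mem_univ (i, j))

lemma toLinv_C (c : A) : toLinv A (C c) = toLaurent (C c) := by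
  rw [toLinv_apply, toLaurent_C, invert_C]

lemma map_C_map_toLinv {m n : Type*} (W : Matrix m n A) :
    (W.map (C : A →+* A[X])).map (toLinv A) = (W.map (C : A →+* A[X])).map toLaurent := by
  refine Matrix.ext fun i j => ?_
  simp only [Matrix.map_apply, toLinv_C]

end Reflect

section MonicLoc

variable {A : Type u} [CommRing A] {S : Type*} [CommRing S] {j : A[X] →+* S} {M : Submonoid A[X]}

lemma matrix_injective_of_monic (hj : LocLikeM M j) (hM : ∀ f ∈ M, f.Monic)
    {m n : Type*} [Finite m] [Finite n] (W W' : Matrix m n A[X]) (h : W.map j = W'.map j) :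
    W = W' := by
  have h0 : (W - W').map j = 0 := by
    rw [Matrix.map_sub _ (map_sub j), h, sub_self]
  obtain ⟨s, hs, hs0⟩ := hj.matrix_ker _ h0
  refine Matrix.ext fun i i' => ?_
  have := congrFun (congrFun hs0 i) i'
  simp only [Matrix.smul_apply, Matrix.sub_apply, smul_eq_mul, Matrix.zero_apply] at this
  exact sub_eq_zero.mp (((hM s hs).mul_right_eq_zero_iff).mp this)

lemma isCoprime_X_pow_of_coeff_zero (g : A[X]) (hg : g.coeff 0 = 1) (k : ℕ) :
    IsCoprime ((X : A[X]) ^ k) (g * g) := by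
  have h1 : IsCoprime (X : A[X]) g := by
    obtain ⟨h, hh⟩ := Polynomial.X_dvd_sub_C (p := g)
    rw [hg, map_one] at hh
    exact ⟨-h, 1, by rw [one_mul, neg_mul, mul_comm h X, ← hh]; ring⟩
  exact (h1.mul_right h1).pow_left

variable {ι ι' : Type*} [Fintype ι] [DecidableEq ι] [Fintype ι'] [DecidableEq ι']

/-- Idempotents over `A` which become equivalent over a localization of `A[X]` at monic
polynomials are equivalent. -/
theorem conj_of_monic_localization (hj : LocLikeM M j) (hM : ∀ f ∈ M, f.Monic)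
    (π : Matrix ι ι A) (π' : Matrix ι' ι' A) (hπ : π * π = π) (hπ' : π' * π' = π')
    (U : Matrix ι' ι S) (V : Matrix ι ι' S)
    (h1 : (π'.map Polynomial.C).map j * U = U) (h2 : U * (π.map Polynomial.C).map j = U)
    (h3 : (π.map Polynomial.C).map j * V = V) (h4 : V * (π'.map Polynomial.C).map j = V)
    (h5 : U * V = (π'.map Polynomial.C).map j) (h6 : V * U = (π.map Polynomial.C).map j) :
    ∃ (U₀ : Matrix ι' ι A) (V₀ : Matrix ι ι' A), U₀ * V₀ = π' ∧ V₀ * U₀ = π := by
  set P : Matrix ι ι A[X] := π.map (C : A →+* A[X]) with hP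
  set P' : Matrix ι' ι' A[X] := π'.map (C : A →+* A[X]) with hP'
  obtain ⟨f₁, hf₁, U₂, hU₂⟩ := hj.matrix_surj U
  obtain ⟨f₂, hf₂, V₂, hV₂⟩ := hj.matrix_surj V
  set f := f₁ * f₂ with hf
  have hfm : f.Monic := (hM f₁ hf₁).mul (hM f₂ hf₂)
  set U₃ := f₂ • U₂ with hU₃
  set V₃ := f₁ • V₂ with hV₃
  have hU₃j : U₃.map j = j f • U := by
    rw [hU₃, map_smul_ringHom, hU₂, smul_smul, hf, map_mul, mul_comm]
  have hV₃j : V₃.map j = j f • V := by
    rw [hV₃, map_smul_ringHom, hV₂, smul_smul, hf, map_mul]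
  clear_value f U₃ V₃
  have R1 : P' * U₃ = U₃ := by
    apply matrix_injective_of_monic hj hM
    rw [Matrix.map_mul, hU₃j, Matrix.mul_smul, h1]
  have R2 : U₃ * P = U₃ := by
    apply matrix_injective_of_monic hj hM
    rw [Matrix.map_mul, hU₃j, Matrix.smul_mul, h2]
  have R3 : P * V₃ = V₃ := by
    apply matrix_injective_of_monic hj hM
    rw [Matrix.map_mul, hV₃j, Matrix.mul_smul, h3]
  have R4 : V₃ * P' = V₃ := by
    apply matrix_injective_of_monic hj hM
    rw [Matrix.map_mul, hV₃j, Matrix.smul_mul, h4]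
  have R5 : U₃ * V₃ = (f * f) • P' := by
    apply matrix_injective_of_monic hj hM
    rw [Matrix.map_mul, hU₃j, hV₃j, Matrix.smul_mul, Matrix.mul_smul, h5, smul_smul,
      map_smul_ringHom, map_mul]
  have R6 : V₃ * U₃ = (f * f) • P := by
    apply matrix_injective_of_monic hj hM
    rw [Matrix.map_mul, hU₃j, hV₃j, Matrix.smul_mul, Matrix.mul_smul, h6, smul_smul,
      map_smul_ringHom, map_mul]
  -- reflect
  obtain ⟨DU, hDU⟩ := exists_natDegree_bound U₃
  obtain ⟨DV, hDV⟩ := exists_natDegree_bound V₃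
  set d := f.natDegree with hd
  set D := max (max DU DV) (d + 1) with hD
  have hDd : d + 1 ≤ D := le_max_right _ _
  obtain ⟨U₁, hU₁⟩ := exists_matrix_reflect D U₃
    (fun i i' => (hDU i i').trans ((le_max_left _ _).trans (le_max_left _ _)))
  obtain ⟨V₁, hV₁⟩ := exists_matrix_reflect D V₃
    (fun i i' => (hDV i i').trans ((le_max_right _ _).trans (le_max_left _ _)))
  set tL : A[X] →+* A[T;T⁻¹] := toLaurent with htL
  set τ := toLinv A with hτ
  set g := f.reverse with hg
  have hg0 : g.coeff 0 = 1 := by rw [hg, Polynomial.coeff_zero_reverse, hfm.leadingCoeff]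
  set k := 2 * (D - d) with hk
  have hk1 : 1 ≤ k := by omega
  have htLg : tL g = τ f * T (d : ℤ) := by
    rw [htL, hg, toLaurent_reverse]; rfl
  have hscal : (T (D : ℤ) : A[T;T⁻¹]) * T (D : ℤ) * (τ f * τ f) = tL (X ^ k * (g * g)) := by
    rw [map_mul, map_mul, htLg, htL, toLaurent_X_pow]
    have : (T (D : ℤ) : A[T;T⁻¹]) * T (D : ℤ) = T (k : ℤ) * T (d : ℤ) * T (d : ℤ) := by
      rw [← T_add, ← T_add, ← T_add]
      congr 1
      rw [hk]
      push_cast [Nat.cast_sub (by omega : d ≤ D)]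
      ring
    rw [this]
    ring
  have hPτ : P.map τ = P.map tL := map_C_map_toLinv π
  have hP'τ : P'.map τ = P'.map tL := map_C_map_toLinv π'
  have hinj : Function.Injective (tL : A[X] → A[T;T⁻¹]) := Polynomial.toLaurent_injective
  have Q1 : P' * U₁ = U₁ := by
    apply Matrix.map_injective hinj
    beta_reduce
    rw [Matrix.map_mul, hU₁, Matrix.mul_smul, ← hP'τ, ← Matrix.map_mul, R1]
  have Q2 : U₁ * P = U₁ := by
    apply Matrix.map_injective hinj
    beta_reduce
    rw [Matrix.map_mul, hU₁, Matrix.smul_mul, ← hPτ, ← Matrix.map_mul, R2]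
  have Q3 : P * V₁ = V₁ := by
    apply Matrix.map_injective hinj
    beta_reduce
    rw [Matrix.map_mul, hV₁, Matrix.mul_smul, ← hPτ, ← Matrix.map_mul, R3]
  have Q4 : V₁ * P' = V₁ := by
    apply Matrix.map_injective hinj
    beta_reduce
    rw [Matrix.map_mul, hV₁, Matrix.smul_mul, ← hP'τ, ← Matrix.map_mul, R4]
  have Q5 : U₁ * V₁ = (X ^ k * (g * g)) • P' := by
    apply Matrix.map_injective hinj
    beta_reduce
    rw [Matrix.map_mul, hU₁, hV₁, Matrix.smul_mul, Matrix.mul_smul, ← Matrix.map_mul, R5,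
      map_smul_ringHom, smul_smul, smul_smul, map_mul, hscal, map_smul_ringHom, hP'τ]
  have Q6 : V₁ * U₁ = (X ^ k * (g * g)) • P := by
    apply Matrix.map_injective hinj
    beta_reduce
    rw [Matrix.map_mul, hU₁, hV₁, Matrix.smul_mul, Matrix.mul_smul, ← Matrix.map_mul, R6,
      map_smul_ringHom, smul_smul, smul_smul, map_mul, hscal, map_smul_ringHom, hPτ]
  obtain ⟨α, β, hαβ⟩ := isCoprime_X_pow_of_coeff_zero g hg0 k
  exact conj_of_glue π π' hπ hπ' k hk1 α β (g * g) hαβ U₁ V₁ Q1 Q2 Q3 Q4 Q5 Q6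

/-- Finitely generated projective `A`-modules which become isomorphic over the localization of
`A[X]` at (some) monic polynomials are isomorphic. -/
theorem nonempty_equiv_of_monic_localization (M : Submonoid A[X]) (hM : ∀ f ∈ M, f.Monic)
    (At : Type*) [CommRing At] [Algebra A[X] At] [IsLocalization M At] [Algebra A At]
    [IsScalarTower A A[X] At]
    (P P' : Type*) [AddCommGroup P] [Module A P] [Module.Finite A P] [Module.Projective A P]
    [AddCommGroup P'] [Module A P'] [Module.Finite A P'] [Module.Projective A P']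
    (e : TensorProduct A At P ≃ₗ[At] TensorProduct A At P') : Nonempty (P ≃ₗ[A] P') := by
  obtain ⟨n, π, ⟨hP⟩⟩ := exists_pres A P
  obtain ⟨n', π', ⟨hP'⟩⟩ := exists_pres A P'
  obtain ⟨U, V, h1, h2, h3, h4, h5, h6⟩ :=
    (hP.baseChange At).exists_matrices (hP'.baseChange At) e
  have hmap : ∀ {m : Type} (W : Matrix m m A), W.map (algebraMap A At) =
      (W.map (Polynomial.C : A →+* A[X])).map (algebraMap A[X] At) := fun W => by
    refine Matrix.ext fun i i' => ?_
    simp only [Matrix.map_apply]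
    rw [IsScalarTower.algebraMap_apply A A[X] At, Polynomial.algebraMap_apply,
      Algebra.algebraMap_self_apply]
  rw [hmap π, hmap π'] at *
  obtain ⟨U₀, V₀, hUV, hVU⟩ := conj_of_monic_localization
    (LocLikeM.of_isLocalization (S' := At) M) hM π π' hP.idem hP'.idem U V h1 h2 h3 h4 h5 h6
  obtain ⟨U', V', a, b, c, d⟩ := normalize_conj hUV hVU hP.idem hP'.idem
  exact ⟨hP.equiv hP' U' V' a b c d⟩

end MonicLoc

end Groth.Agent.Lib.Helper89.Horrocks
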