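import Groth.Agent.Lib.Helper89.HorrocksMonic

/-!
# Projective modules which become isomorphic over Laurent series are isomorphic
-/

set_option linter.unusedSectionVars false
set_option linter.unusedVariables false

namespace Groth.Agent.Lib.Helper89.Horrocks

open Polynomial Matrix QPatch

universe u

section Series

variable {R : Type u} [CommRing R]

/-- The coercion from polynomials to power series as a ring homomorphism. -/
noncomputable abbrev ιP (R : Type*) [CommRing R] : R[X] →+* PowerSeries R :=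
  Polynomial.coeToPowerSeries.ringHom

lemma ιP_apply (p : R[X]) : ιP R p = (p : PowerSeries R) := rfl

lemma ιP_injective : Function.Injective (ιP R) := Polynomial.coe_injective R

lemma isCoprime_X_pow_of_coeff_zero' (G : R[X]) (hG : G.coeff 0 = 1) (k : ℕ) :
    IsCoprime ((X : R[X]) ^ k) G := by
  have h1 : IsCoprime (X : R[X]) G := by
    obtain ⟨h, hh⟩ := Polynomial.X_dvd_sub_C (p := G)
    rw [hG, map_one] at hh
    exact ⟨-h, 1, by rw [one_mul, neg_mul, mul_comm h X, ← hh]; ring⟩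
  exact h1.pow_left

lemma exists_matrix_trunc {m n : Type*} (N : ℕ) (W : Matrix m n (PowerSeries R)) :
    ∃ (W' : Matrix m n R[X]) (E : Matrix m n (PowerSeries R)),
      W = (PowerSeries.X : PowerSeries R) ^ N • E + W'.map (ιP R) := by
  refine ⟨W.map (PowerSeries.trunc N), Matrix.of fun i j =>
    PowerSeries.mk fun a => PowerSeries.coeff (a + N) (W i j), Matrix.ext fun i j => ?_⟩
  simp only [Matrix.add_apply, Matrix.smul_apply, Matrix.of_apply, Matrix.map_apply, smul_eq_mul,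
    ιP_apply]
  exact PowerSeries.eq_X_pow_mul_shift_add_trunc N (W i j)

lemma matrix_X_pow_dvd {m n : Type*} (N : ℕ) (Z : Matrix m n R[X])
    (W : Matrix m n (PowerSeries R))
    (h : Z.map (ιP R) = (PowerSeries.X : PowerSeries R) ^ N • W) :
    ∃ W' : Matrix m n R[X], Z = (X : R[X]) ^ N • W' := by
  have hdvd : ∀ i j, (X : R[X]) ^ N ∣ Z i j := fun i j => by
    rw [Polynomial.X_pow_dvd_iff]
    intro a ha
    have h1 := congrFun (congrFun h i) j
    simp only [Matrix.map_apply, Matrix.smul_apply, smul_eq_mul, ιP_apply] at h1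
    have h2 := congrArg (PowerSeries.coeff a) h1
    rw [Polynomial.coeff_coe, PowerSeries.coeff_X_pow_mul', if_neg (by omega)] at h2
    exact h2
  choose w hw using hdvd
  exact ⟨Matrix.of w, Matrix.ext fun i j => by
    rw [Matrix.smul_apply, Matrix.of_apply, smul_eq_mul, ← hw i j]⟩

lemma det_one_add_X_smul_coeff_zero {n : Type*} [Fintype n] [DecidableEq n]
    (W : Matrix n n R[X]) : ((1 + (X : R[X]) • W).det).coeff 0 = 1 := by
  rw [Polynomial.coeff_zero_eq_eval_zero]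
  have h := RingHom.map_det (evalRingHom (0 : R)) (1 + (X : R[X]) • W)
  rw [RingHom.mapMatrix_apply] at h
  have h1 : (1 + (X : R[X]) • W).map (evalRingHom (0 : R)) = 1 := by
    rw [Matrix.map_add _ (map_add _), map_one_ringHom, map_smul_ringHom]
    simp
  rw [h1, Matrix.det_one] at h
  exact h

variable {ι ι' : Type*} [Fintype ι] [DecidableEq ι] [Fintype ι'] [DecidableEq ι']

lemma map_C_map_ιP {m n : Type*} (W : Matrix m n R) :
    (W.map (Polynomial.C : R →+* R[X])).map (ιP R) = W.map (PowerSeries.C : R →+* PowerSeries R) := by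
  refine Matrix.ext fun i j => ?_
  simp only [Matrix.map_apply, ιP_apply, Polynomial.coe_C]

/-- Idempotents over `R` which become equivalent over `R⟦X⟧[1/X]` are equivalent
(power series form, denominators cleared). -/
theorem conj_of_powerSeries (π : Matrix ι ι R) (π' : Matrix ι' ι' R) (hπ : π * π = π)
    (hπ' : π' * π' = π') (d : ℕ) (hd : 1 ≤ d)
    (U : Matrix ι' ι (PowerSeries R)) (V : Matrix ι ι' (PowerSeries R))
    (h1 : π'.map PowerSeries.C * U = U) (h2 : U * π.map PowerSeries.C = U)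
    (h3 : π.map PowerSeries.C * V = V) (h4 : V * π'.map PowerSeries.C = V)
    (h5 : U * V = (PowerSeries.X : PowerSeries R) ^ d • π'.map PowerSeries.C)
    (h6 : V * U = (PowerSeries.X : PowerSeries R) ^ d • π.map PowerSeries.C) :
    ∃ (U₀ : Matrix ι' ι R) (V₀ : Matrix ι ι' R), U₀ * V₀ = π' ∧ V₀ * U₀ = π := by
  set P : Matrix ι ι R[X] := π.map (Polynomial.C : R →+* R[X]) with hP
  set P' : Matrix ι' ι' R[X] := π'.map (Polynomial.C : R →+* R[X]) with hP'
  set PC : Matrix ι ι (PowerSeries R) := π.map (PowerSeries.C : R →+* PowerSeries R) with hPC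
  set PC' : Matrix ι' ι' (PowerSeries R) := π'.map (PowerSeries.C : R →+* PowerSeries R) with hPC'
  have hPP : P * P = P := by rw [hP, ← Matrix.map_mul, hπ]
  have hPP' : P' * P' = P' := by rw [hP', ← Matrix.map_mul, hπ']
  have hPι : P.map (ιP R) = PC := map_C_map_ιP π
  have hP'ι : P'.map (ιP R) = PC' := map_C_map_ιP π'
  set N := d + 1 with hN
  set x : PowerSeries R := PowerSeries.X with hx
  obtain ⟨U0, EU, hU0⟩ := exists_matrix_trunc N U
  obtain ⟨V0, EV, hV0⟩ := exists_matrix_trunc N V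
  obtain ⟨Ut, hUt⟩ : ∃ Ut : Matrix ι' ι R[X], Ut = P' * U0 * P := ⟨_, rfl⟩
  obtain ⟨Vt, hVt⟩ : ∃ Vt : Matrix ι ι' R[X], Vt = P * V0 * P' := ⟨_, rfl⟩
  have a1 : P' * Ut = Ut := by rw [hUt, ← Matrix.mul_assoc, ← Matrix.mul_assoc, hPP']
  have a2 : Ut * P = Ut := by rw [hUt, Matrix.mul_assoc, hPP]
  have a3 : P * Vt = Vt := by rw [hVt, ← Matrix.mul_assoc, ← Matrix.mul_assoc, hPP]
  have a4 : Vt * P' = Vt := by rw [hVt, Matrix.mul_assoc, hPP']
  have hU0' : U0.map (ιP R) = U - x ^ N • EU := by rw [hU0]; abel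
  have hV0' : V0.map (ιP R) = V - x ^ N • EV := by rw [hV0]; abel
  have hUtι : Ut.map (ιP R) = U - x ^ N • (PC' * EU * PC) := by
    rw [hUt, Matrix.map_mul, Matrix.map_mul, hPι, hP'ι, hU0', Matrix.mul_sub, Matrix.sub_mul,
      h1, h2, Matrix.mul_smul, Matrix.smul_mul]
  have hVtι : Vt.map (ιP R) = V - x ^ N • (PC * EV * PC') := by
    rw [hVt, Matrix.map_mul, Matrix.map_mul, hPι, hP'ι, hV0', Matrix.mul_sub, Matrix.sub_mul,
      h3, h4, Matrix.mul_smul, Matrix.smul_mul]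
  obtain ⟨EU', hEU'⟩ : ∃ EU', EU' = PC' * EU * PC := ⟨_, rfl⟩
  rw [← hEU'] at hUtι
  obtain ⟨EV', hEV'⟩ : ∃ EV', EV' = PC * EV * PC' := ⟨_, rfl⟩
  rw [← hEV'] at hVtι
  -- the products
  obtain ⟨W₁, hW₁⟩ : ∃ W₁ : Matrix ι' ι' R[X], Ut * Vt - (X : R[X]) ^ d • P' = (X : R[X]) ^ N • W₁ := by
    apply matrix_X_pow_dvd N _ (-(EU' * V) - U * EV' + x ^ N • (EU' * EV'))
    rw [Matrix.map_sub _ (map_sub _), Matrix.map_mul, hUtι, hVtι, map_smul_ringHom, hP'ι,
      Matrix.sub_mul, Matrix.mul_sub, Matrix.mul_sub, h5, Matrix.smul_mul, Matrix.mul_smul,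
      Matrix.smul_mul, Matrix.mul_smul]
    have : (ιP R) (X ^ d) = x ^ d := by simp [hx]
    rw [this, smul_add, smul_sub, smul_neg, smul_smul]
    abel
  obtain ⟨W₂, hW₂⟩ : ∃ W₂ : Matrix ι ι R[X], Vt * Ut - (X : R[X]) ^ d • P = (X : R[X]) ^ N • W₂ := by
    apply matrix_X_pow_dvd N _ (-(EV' * U) - V * EU' + x ^ N • (EV' * EU'))
    rw [Matrix.map_sub _ (map_sub _), Matrix.map_mul, hUtι, hVtι, map_smul_ringHom, hPι,
      Matrix.sub_mul, Matrix.mul_sub, Matrix.mul_sub, h6, Matrix.smul_mul, Matrix.mul_smul,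
      Matrix.smul_mul, Matrix.mul_smul]
    have : (ιP R) (X ^ d) = x ^ d := by simp [hx]
    rw [this, smul_add, smul_sub, smul_neg, smul_smul]
    abel
  have b1 : Ut * Vt = (X : R[X]) ^ d • (P' * (1 + (X : R[X]) • W₁)) := by
    have e : Ut * Vt = (X : R[X]) ^ d • P' + (X : R[X]) ^ N • W₁ := by rw [← hW₁]; abel
    calc Ut * Vt = P' * (Ut * Vt) := by rw [← Matrix.mul_assoc, a1]
      _ = (X : R[X]) ^ d • (P' * (1 + (X : R[X]) • W₁)) := by
          rw [e, Matrix.mul_add, Matrix.mul_add, Matrix.mul_smul, Matrix.mul_smul, hPP',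
            Matrix.mul_one, Matrix.mul_smul, smul_add, smul_smul, hN, pow_succ]
  have b2 : Vt * Ut = (X : R[X]) ^ d • ((1 + (X : R[X]) • W₂) * P) := by
    have e : Vt * Ut = (X : R[X]) ^ d • P + (X : R[X]) ^ N • W₂ := by rw [← hW₂]; abel
    calc Vt * Ut = (Vt * Ut) * P := by rw [Matrix.mul_assoc, a2]
      _ = (X : R[X]) ^ d • ((1 + (X : R[X]) • W₂) * P) := by
          rw [e, Matrix.add_mul, Matrix.add_mul, Matrix.smul_mul, Matrix.smul_mul, hPP,
            Matrix.one_mul, Matrix.smul_mul, smul_add, smul_smul, hN, pow_succ]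
  obtain ⟨Δ', hΔ'⟩ : ∃ Δ', Δ' = 1 + (X : R[X]) • W₁ := ⟨_, rfl⟩
  rw [← hΔ'] at b1
  obtain ⟨Δ, hΔ⟩ : ∃ Δ, Δ = 1 + (X : R[X]) • W₂ := ⟨_, rfl⟩
  rw [← hΔ] at b2
  obtain ⟨g₁, hg₁⟩ : ∃ g₁, g₁ = Δ'.det := ⟨_, rfl⟩
  obtain ⟨g₂, hg₂⟩ : ∃ g₂, g₂ = Δ.det := ⟨_, rfl⟩
  have hg₁0 : g₁.coeff 0 = 1 := by rw [hg₁, hΔ']; exact det_one_add_X_smul_coeff_zero W₁
  have hg₂0 : g₂.coeff 0 = 1 := by rw [hg₂, hΔ]; exact det_one_add_X_smul_coeff_zero W₂
  obtain ⟨R₁, hR₁⟩ : ∃ R₁, R₁ = Vt * Δ'.adjugate := ⟨_, rfl⟩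
  obtain ⟨L₁, hL₁⟩ : ∃ L₁, L₁ = Δ.adjugate * Vt := ⟨_, rfl⟩
  obtain ⟨c₁, hc₁⟩ : ∃ c₁, c₁ = (X : R[X]) ^ d * g₁ := ⟨_, rfl⟩
  obtain ⟨c₂, hc₂⟩ : ∃ c₂, c₂ = (X : R[X]) ^ d * g₂ := ⟨_, rfl⟩
  have d1 : Ut * R₁ = c₁ • P' := by
    rw [hR₁, ← Matrix.mul_assoc, b1, Matrix.smul_mul, Matrix.mul_assoc, Matrix.mul_adjugate,
      Matrix.mul_smul, Matrix.mul_one, smul_smul, ← hg₁, hc₁]
  have d2 : L₁ * Ut = c₂ • P := by
    rw [hL₁, Matrix.mul_assoc, b2, Matrix.mul_smul, ← Matrix.mul_assoc, Matrix.adjugate_mul,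
      Matrix.smul_mul, Matrix.one_mul, smul_smul, ← hg₂, hc₂]
  obtain ⟨V₁, hV₁⟩ : ∃ V₁, V₁ = L₁ * Ut * R₁ := ⟨_, rfl⟩
  have f1 : V₁ = c₂ • (P * R₁) := by rw [hV₁, d2, Matrix.smul_mul]
  have f2 : V₁ = c₁ • (L₁ * P') := by rw [hV₁, Matrix.mul_assoc, d1, Matrix.mul_smul]
  have q3 : P * V₁ = V₁ := by
    rw [f1, Matrix.mul_smul, ← Matrix.mul_assoc, hPP]
  have q4 : V₁ * P' = V₁ := by
    rw [f2, Matrix.smul_mul, Matrix.mul_assoc, hPP']
  have q5 : Ut * V₁ = ((X : R[X]) ^ (d + d) * (g₁ * g₂)) • P' := by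
    rw [f1, Matrix.mul_smul, ← Matrix.mul_assoc, a2, d1, smul_smul, hc₁, hc₂]
    congr 1
    ring
  have q6 : V₁ * Ut = ((X : R[X]) ^ (d + d) * (g₁ * g₂)) • P := by
    rw [f2, Matrix.smul_mul, Matrix.mul_assoc, a1, d2, smul_smul, hc₁, hc₂]
    congr 1
    ring
  have hG0 : (g₁ * g₂).coeff 0 = 1 := by rw [Polynomial.mul_coeff_zero, hg₁0, hg₂0, mul_one]
  obtain ⟨α, β, hαβ⟩ := isCoprime_X_pow_of_coeff_zero' (g₁ * g₂) hG0 (d + d)
  exact conj_of_glue π π' hπ hπ' (d + d) (by omega) α β (g₁ * g₂) hαβ Ut V₁ a1 a2 q3 q4 q5 q6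

lemma map_C_map_laurentSeries {m n : Type*} (W : Matrix m n R) :
    (W.map (PowerSeries.C : R →+* PowerSeries R)).map
      (algebraMap (PowerSeries R) (LaurentSeries R)) =
        W.map (algebraMap R (LaurentSeries R)) := by
  refine Matrix.ext fun i i' => ?_
  simp only [Matrix.map_apply, LaurentSeries.coe_algebraMap]
  rw [HahnSeries.algebraMap_apply', PowerSeries.algebraMap_apply, Algebra.algebraMap_self_apply]

/-- Idempotents over `R` which become equivalent over `R⸨X⸩` are equivalent. -/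
theorem conj_of_laurentSeries (π : Matrix ι ι R) (π' : Matrix ι' ι' R) (hπ : π * π = π)
    (hπ' : π' * π' = π')
    (U : Matrix ι' ι (LaurentSeries R)) (V : Matrix ι ι' (LaurentSeries R))
    (h1 : π'.map (algebraMap R (LaurentSeries R)) * U = U)
    (h2 : U * π.map (algebraMap R (LaurentSeries R)) = U)
    (h3 : π.map (algebraMap R (LaurentSeries R)) * V = V)
    (h4 : V * π'.map (algebraMap R (LaurentSeries R)) = V)
    (h5 : U * V = π'.map (algebraMap R (LaurentSeries R)))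
    (h6 : V * U = π.map (algebraMap R (LaurentSeries R))) :
    ∃ (U₀ : Matrix ι' ι R) (V₀ : Matrix ι ι' R), U₀ * V₀ = π' ∧ V₀ * U₀ = π := by
  set jK : PowerSeries R →+* LaurentSeries R := algebraMap (PowerSeries R) (LaurentSeries R)
    with hjK
  have hloc : LocLike (PowerSeries.X : PowerSeries R) jK :=
    LocLike.of_away (S' := LaurentSeries R) (PowerSeries.X : PowerSeries R)
  have hinj : Function.Injective (jK : PowerSeries R → LaurentSeries R) :=
    HahnSeries.ofPowerSeries_injective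
  have hmapC : (π.map (PowerSeries.C : R →+* PowerSeries R)).map jK =
        π.map (algebraMap R (LaurentSeries R)) := map_C_map_laurentSeries π
  have hmapC' : (π'.map (PowerSeries.C : R →+* PowerSeries R)).map jK =
        π'.map (algebraMap R (LaurentSeries R)) := map_C_map_laurentSeries π'
  obtain ⟨k₁, hk₁⟩ := hloc.matrix_surj U
  obtain ⟨k₂, hk₂⟩ := hloc.matrix_surj V
  obtain ⟨k, hk⟩ : ∃ k, k = max (max k₁ k₂) 1 := ⟨_, rfl⟩
  have hk1 : 1 ≤ k := by rw [hk]; exact le_max_right _ _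
  obtain ⟨U', hU'⟩ := hk₁ k (by rw [hk]; exact (le_max_left _ _).trans (le_max_left _ _))
  obtain ⟨V', hV'⟩ := hk₂ k (by rw [hk]; exact (le_max_right _ _).trans (le_max_left _ _))
  obtain ⟨t, ht⟩ : ∃ t, t = jK PowerSeries.X ^ k := ⟨_, rfl⟩
  rw [← ht] at hU' hV'
  have htt : jK ((PowerSeries.X : PowerSeries R) ^ (k + k)) = t * t := by
    rw [map_pow, pow_add, ← ht]
  refine conj_of_powerSeries π π' hπ hπ' (k + k) (by omega) U' V' ?_ ?_ ?_ ?_ ?_ ?_
  · apply Matrix.map_injective hinj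
    beta_reduce
    rw [Matrix.map_mul, hmapC', hU', Matrix.mul_smul, h1]
  · apply Matrix.map_injective hinj
    beta_reduce
    rw [Matrix.map_mul, hmapC, hU', Matrix.smul_mul, h2]
  · apply Matrix.map_injective hinj
    beta_reduce
    rw [Matrix.map_mul, hmapC, hV', Matrix.mul_smul, h3]
  · apply Matrix.map_injective hinj
    beta_reduce
    rw [Matrix.map_mul, hmapC', hV', Matrix.smul_mul, h4]
  · apply Matrix.map_injective hinj
    beta_reduce
    rw [Matrix.map_mul, hU', hV', Matrix.smul_mul, Matrix.mul_smul, h5, smul_smul,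
      map_smul_ringHom, hmapC', htt]
  · apply Matrix.map_injective hinj
    beta_reduce
    rw [Matrix.map_mul, hU', hV', Matrix.smul_mul, Matrix.mul_smul, h6, smul_smul,
      map_smul_ringHom, hmapC, htt]

/-- Finitely generated projective `R`-modules which become isomorphic over (a copy of)
`R⸨X⸩` are isomorphic. -/
theorem nonempty_equiv_of_laurentSeries (L : Type*) [CommRing L] [Algebra R L]
    (eL : L ≃ₐ[R] LaurentSeries R)
    (M N : Type*) [AddCommGroup M] [Module R M] [Module.Finite R M] [Module.Projective R M]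
    [AddCommGroup N] [Module R N] [Module.Finite R N] [Module.Projective R N]
    (e : TensorProduct R L M ≃ₗ[L] TensorProduct R L N) : Nonempty (M ≃ₗ[R] N) := by
  obtain ⟨n, π, ⟨hM⟩⟩ := exists_pres R M
  obtain ⟨n', π', ⟨hN⟩⟩ := exists_pres R N
  obtain ⟨U, V, h1, h2, h3, h4, h5, h6⟩ :=
    (hM.baseChange L).exists_matrices (hN.baseChange L) e
  set φ : L →+* LaurentSeries R := (eL : L →+* LaurentSeries R) with hφ
  have hmap : ∀ {m : Type} (W : Matrix m m R), (W.map (algebraMap R L)).map φ =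
      W.map (algebraMap R (LaurentSeries R)) := fun W => by
    refine Matrix.ext fun i i' => ?_
    simp only [Matrix.map_apply, hφ]
    exact eL.commutes _
  obtain ⟨U₀, V₀, hUV, hVU⟩ := conj_of_laurentSeries π π' hM.idem hN.idem (U.map φ) (V.map φ)
    (by rw [← hmap, ← Matrix.map_mul, h1]) (by rw [← hmap, ← Matrix.map_mul, h2])
    (by rw [← hmap, ← Matrix.map_mul, h3]) (by rw [← hmap, ← Matrix.map_mul, h4])
    (by rw [← hmap, ← Matrix.map_mul, h5]) (by rw [← hmap, ← Matrix.map_mul, h6])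
  obtain ⟨U', V', a, b, c, d⟩ := normalize_conj hUV hVU hM.idem hN.idem
  exact ⟨hM.equiv hN U' V' a b c d⟩

end Series

end Groth.Agent.Lib.Helper89.Horrocks
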