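import Groth.Agent.Lib.Helper89.HorrocksMain

/-!
# Gluing a constant bundle near `0` with a constant bundle away from `0` on the affine line

If two idempotent matrices `π`, `π'` over `A` become equivalent over `A[X]_{X·G}` where `G` is
comaximal with `X`, then they are equivalent over `A`.  The proof builds an explicit idempotent
`ρ` over `A[X]` (gluing by a partition of unity), which is extended by the affine Horrocks
theorem, and compares its fibres at `0` and `1`.
-/

set_option linter.unusedSectionVars false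
set_option linter.unusedVariables false

namespace Groth.Agent.Lib.Helper89.Horrocks

open Polynomial Matrix QPatch

universe u

section Star

variable {A : Type u} [CommRing A] {ι ι' : Type*} [Fintype ι] [DecidableEq ι] [Fintype ι']
  [DecidableEq ι']

theorem conj_of_glue (π : Matrix ι ι A) (π' : Matrix ι' ι' A) (hπ : π * π = π)
    (hπ' : π' * π' = π') (k : ℕ) (hk : 1 ≤ k) (α β G : A[X]) (hαβ : α * X ^ k + β * G = 1)
    (U₁ : Matrix ι' ι A[X]) (V₁ : Matrix ι ι' A[X])
    (h1 : π'.map C * U₁ = U₁) (h2 : U₁ * π.map C = U₁) (h3 : π.map C * V₁ = V₁)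
    (h4 : V₁ * π'.map C = V₁)
    (h5 : U₁ * V₁ = (X ^ k * G) • π'.map C) (h6 : V₁ * U₁ = (X ^ k * G) • π.map C) :
    ∃ (U₀ : Matrix ι' ι A) (V₀ : Matrix ι ι' A), U₀ * V₀ = π' ∧ V₀ * U₀ = π := by
  set P : Matrix ι ι A[X] := π.map (C : A →+* A[X]) with hP
  set P' : Matrix ι' ι' A[X] := π'.map (C : A →+* A[X]) with hP'
  have hPP : P * P = P := by rw [hP, ← Matrix.map_mul, hπ]
  have hPP' : P' * P' = P' := by rw [hP', ← Matrix.map_mul, hπ']
  set a : A[X] := α * X ^ k with ha
  set b : A[X] := β * G with hb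
  have hab : a + b = 1 := hαβ
  set ρ : Matrix (ι ⊕ ι') (ι ⊕ ι') A[X] :=
    Matrix.fromBlocks (a • P) (β • V₁) (α • U₁) (b • P') with hρ
  set U' : Matrix ι (ι ⊕ ι') A[X] := Matrix.fromCols (a • P) (β • V₁) with hU'
  set V' : Matrix (ι ⊕ ι') ι A[X] := Matrix.fromRows ((X : A[X]) ^ k • P) U₁ with hV'
  -- scalar identities
  have s1 : a * a + β * α * (X ^ k * G) = a := by
    have : a * a + β * α * (X ^ k * G) = a * (a + b) := by rw [ha, hb]; ring
    rw [this, hab, mul_one]
  have s2 : a * β + β * b = β := by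
    have : a * β + β * b = β * (a + b) := by ring
    rw [this, hab, mul_one]
  have s3 : α * a + b * α = α := by
    have : α * a + b * α = α * (a + b) := by ring
    rw [this, hab, mul_one]
  have s4 : α * β * (X ^ k * G) + b * b = b := by
    have : α * β * (X ^ k * G) + b * b = b * (a + b) := by rw [ha, hb]; ring
    rw [this, hab, mul_one]
  have s5 : a * X ^ k + β * (X ^ k * G) = X ^ k := by
    have : a * X ^ k + β * (X ^ k * G) = X ^ k * (a + b) := by rw [hb]; ring
    rw [this, hab, mul_one]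
  have s6 : α * X ^ k + b = 1 := hab
  -- relations
  have r1 : U' * ρ = U' := by
    rw [hU', hρ, Matrix.fromCols_mul_fromBlocks]
    congr 1
    · rw [Matrix.smul_mul, Matrix.mul_smul, hPP, Matrix.smul_mul, Matrix.mul_smul, h6, smul_smul,
        smul_smul, smul_smul, ← add_smul, s1]
    · rw [Matrix.smul_mul, Matrix.mul_smul, h3, Matrix.smul_mul, Matrix.mul_smul, h4, smul_smul,
        smul_smul, ← add_smul, s2]
  have r2 : ρ * V' = V' := by
    rw [hV', hρ, Matrix.fromBlocks_mul_fromRows]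
    congr 1
    · rw [Matrix.smul_mul, Matrix.mul_smul, hPP, Matrix.smul_mul, h6, smul_smul, smul_smul,
        ← add_smul, s5]
    · rw [Matrix.smul_mul, Matrix.mul_smul, h2, Matrix.smul_mul, h1, smul_smul, ← add_smul,
        s6, one_smul]
  have r3 : V' * P = V' := by
    rw [hV', Matrix.fromRows_mul, Matrix.smul_mul, hPP, h2]
  have r4 : U' * V' = (X : A[X]) ^ k • P := by
    rw [hU', hV', Matrix.fromCols_mul_fromRows, Matrix.smul_mul, Matrix.mul_smul, hPP,
      Matrix.smul_mul, h6, smul_smul, smul_smul, ← add_smul, s5]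
  have r5 : V' * U' = (X : A[X]) ^ k • ρ := by
    rw [hU', hV', hρ, Matrix.fromRows_mul_fromCols, Matrix.fromBlocks_smul]
    congr 1
    · rw [Matrix.smul_mul, Matrix.mul_smul, hPP, smul_smul]
    · rw [Matrix.smul_mul, Matrix.mul_smul, h3, smul_smul]
    · rw [Matrix.mul_smul, h2, smul_smul, ha]
      congr 1
      ring
    · rw [Matrix.mul_smul, h5, smul_smul, smul_smul, hb]
      congr 1
      ring
  have hext : IsExt ρ := isExt_of_monic_localization ρ π hπ X monic_X k U' V' r1 r2 r3 r4 r5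
  obtain ⟨Ue, Ve, hE⟩ := hext
  -- evaluations
  set E0 : A[X] →+* A := evalRingHom 0 with hE0
  set E1 : A[X] →+* A := evalRingHom 1 with hE1
  have hc01 : (ρ.map (const0 A)).map E1 = ρ.map E0 := by
    refine Matrix.ext fun i j => ?_
    simp [hE0, hE1]
  have hPE0 : P.map E0 = π := map_C_map_eval0 π
  have hPE1 : P.map E1 = π := by
    refine Matrix.ext fun i j => ?_
    simp [hP, hE1]
  have hP'E0 : P'.map E0 = π' := map_C_map_eval0 π'
  have e1 : Ue.map E1 * Ve.map E1 = ρ.map E0 := by rw [← Matrix.map_mul, hE.UV, hc01]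
  have e2 : Ve.map E1 * Ue.map E1 = ρ.map E1 := by rw [← Matrix.map_mul, hE.VU]
  have e3 : U'.map E1 * V'.map E1 = π := by
    rw [← Matrix.map_mul, r4, map_smul_ringHom, hPE1]
    simp [hE1]
  have e4 : V'.map E1 * U'.map E1 = ρ.map E1 := by
    rw [← Matrix.map_mul, r5, map_smul_ringHom]
    simp [hE1]
  -- fibre at 0
  have hX0 : E0 (X ^ k) = 0 := by
    simp only [hE0, coe_evalRingHom, eval_pow, eval_X]
    exact zero_pow (by omega)
  have hβG0 : E0 β * E0 G = 1 := by
    have := congrArg E0 hαβ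
    rw [map_add, map_mul, map_mul, hX0, mul_zero, zero_add, map_one] at this
    exact this
  have hUV0 : U₁.map E0 * V₁.map E0 = 0 := by
    rw [← Matrix.map_mul, h5, map_smul_ringHom, map_mul, hX0, zero_mul, zero_smul]
  have hVU0 : V₁.map E0 * U₁.map E0 = 0 := by
    rw [← Matrix.map_mul, h6, map_smul_ringHom, map_mul, hX0, zero_mul, zero_smul]
  have h10 : π' * U₁.map E0 = U₁.map E0 := by rw [← hP'E0, ← Matrix.map_mul, h1]
  have h40 : V₁.map E0 * π' = V₁.map E0 := by rw [← hP'E0, ← Matrix.map_mul, h4]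
  have hρ0 : ρ.map E0 = Matrix.fromBlocks 0 (E0 β • V₁.map E0) (E0 α • U₁.map E0) π' := by
    rw [hρ, Matrix.fromBlocks_map]
    congr 1
    · rw [map_smul_ringHom, ha, map_mul, hX0, mul_zero, zero_smul]
    · rw [map_smul_ringHom]
    · rw [map_smul_ringHom]
    · rw [map_smul_ringHom, hb, map_mul, hβG0, one_smul, hP'E0]
  set A0 : Matrix (ι ⊕ ι') ι' A := Matrix.fromRows (E0 β • V₁.map E0) π' with hA0
  set B0 : Matrix ι' (ι ⊕ ι') A := Matrix.fromCols (E0 α • U₁.map E0) π' with hB0
  have e5 : B0 * A0 = π' := by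
    rw [hA0, hB0, Matrix.fromCols_mul_fromRows, Matrix.smul_mul, Matrix.mul_smul, hUV0, smul_zero,
      smul_zero, zero_add, hπ']
  have e6 : A0 * B0 = ρ.map E0 := by
    rw [hA0, hB0, hρ0, Matrix.fromRows_mul_fromCols]
    congr 1
    · rw [Matrix.smul_mul, Matrix.mul_smul, hVU0, smul_zero, smul_zero]
    · rw [Matrix.smul_mul, h40]
    · rw [Matrix.mul_smul, h10]
  refine ⟨B0 * Ue.map E1 * V'.map E1, U'.map E1 * Ve.map E1 * A0, ?_, ?_⟩
  · calc B0 * Ue.map E1 * V'.map E1 * (U'.map E1 * Ve.map E1 * A0)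
        = B0 * (Ue.map E1 * (V'.map E1 * U'.map E1) * Ve.map E1) * A0 := by
          simp only [Matrix.mul_assoc]
      _ = B0 * ((Ue.map E1 * Ve.map E1) * (Ue.map E1 * Ve.map E1)) * A0 := by
          rw [e4, ← e2]; simp only [Matrix.mul_assoc]
      _ = (B0 * A0) * (B0 * A0) * (B0 * A0) := by
          rw [e1, ← e6]; simp only [Matrix.mul_assoc]
      _ = π' := by rw [e5, hπ', hπ']
  · calc U'.map E1 * Ve.map E1 * A0 * (B0 * Ue.map E1 * V'.map E1)
        = U'.map E1 * (Ve.map E1 * (A0 * B0) * Ue.map E1) * V'.map E1 := by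
          simp only [Matrix.mul_assoc]
      _ = U'.map E1 * ((Ve.map E1 * Ue.map E1) * (Ve.map E1 * Ue.map E1)) * V'.map E1 := by
          rw [e6, ← e1]; simp only [Matrix.mul_assoc]
      _ = (U'.map E1 * V'.map E1) * (U'.map E1 * V'.map E1) * (U'.map E1 * V'.map E1) := by
          rw [e2, ← e4]; simp only [Matrix.mul_assoc]
      _ = π := by rw [e3, hπ, hπ]

end Star

end Groth.Agent.Lib.Helper89.Horrocks
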