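import Mathlib

/-!
# Complement of a locally idempotent localization (Helper89)

Let `A → C` be a ring map and `I ⊆ A` a finitely generated ideal such that for every `f ∈ I` the
map `A_f → C_f` is the localization at an idempotent.  We construct an ideal `K ⊆ A` such that
`A_f → (C × A/K)_f` is bijective for every `f ∈ I`.

Everything is done elementwise in `A` and `C`; localizations only appear in two boundary layers.
-/

set_option autoImplicit false
universe u

namespace Groth.Agent.Lib.Helper89.IdemCompl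

section Core

variable (A : Type u) [CommRing A] (C : Type u) [CommRing C] [Algebra A C]

/-- Elementwise form of "`A_f → C_f` is the localization at the idempotent `u / f ^ k`". -/
structure Datum (f u : A) (k : ℕ) : Prop where
  one : ∃ N : ℕ, algebraMap A C (f ^ N * (u - f ^ k)) = 0
  surj : ∀ c : C, ∃ (a : A) (n N : ℕ),
    algebraMap A C (f ^ N) * (algebraMap A C a - algebraMap A C (f ^ n) * c) = 0
  ker : ∀ a : A, algebraMap A C a = 0 → ∃ N : ℕ, f ^ N * (u * a) = 0

variable {A C}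

/-- Half of the uniqueness of the idempotents on overlaps. -/
theorem Datum.overlap {f u : A} {k : ℕ} (hf : Datum A C f u k) {g v : A} {l : ℕ}
    (hg : Datum A C g v l) : ∃ N : ℕ, (f * g) ^ N * (u * (g ^ l - v)) = 0 := by
  obtain ⟨N, hN⟩ := hg.one
  have h0 : algebraMap A C (g ^ N * (g ^ l - v)) = 0 := by
    have : g ^ N * (g ^ l - v) = -(g ^ N * (v - g ^ l)) := by ring
    rw [this, map_neg, hN, neg_zero]
  obtain ⟨N', hN'⟩ := hf.ker _ h0
  refine ⟨N + N', ?_⟩
  linear_combination (f ^ N * g ^ N') * hN'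

variable (A C) in
/-- The ideal cutting out the complement. -/
def K (I : Ideal A) : Ideal A where
  carrier := {a | ∀ g ∈ I, ∀ (u : A) (k : ℕ), Datum A C g u k →
    ∃ N : ℕ, g ^ N * ((g ^ k - u) * a) = 0}
  add_mem' := by
    intro a b ha hb g hg u k hd
    obtain ⟨N, hN⟩ := ha g hg u k hd
    obtain ⟨M, hM⟩ := hb g hg u k hd
    refine ⟨N + M, ?_⟩
    linear_combination g ^ M * hN + g ^ N * hM
  zero_mem' := by
    intro g hg u k hd
    exact ⟨0, by simp⟩
  smul_mem' := by
    intro c a ha g hg u k hd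
    obtain ⟨N, hN⟩ := ha g hg u k hd
    refine ⟨N, ?_⟩
    rw [smul_eq_mul]
    linear_combination c * hN

theorem mem_K {I : Ideal A} {a : A} : a ∈ K A C I ↔ ∀ g ∈ I, ∀ (u : A) (k : ℕ), Datum A C g u k →
    ∃ N : ℕ, g ^ N * ((g ^ k - u) * a) = 0 := Iff.rfl

/-- A covering lemma in terms of radicals. -/
theorem mem_radical_of_cover (J : Ideal A) (s : Set A) (g : A) (hg : g ∈ Ideal.span s)
    (h : ∀ x ∈ s, x * g ∈ J.radical) : g ∈ J.radical := by
  have key : ∀ y ∈ Ideal.span s, y * g ∈ J.radical := by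
    intro y hy
    induction hy using Submodule.span_induction with
    | mem x hx => exact h x hx
    | zero => rw [zero_mul]; exact Ideal.zero_mem _
    | add x y _ _ hx hy => rw [add_mul]; exact Ideal.add_mem _ hx hy
    | smul a x _ hx => rw [smul_eq_mul, mul_assoc]; exact Ideal.mul_mem_left _ _ hx
  obtain ⟨n, hn⟩ := key g hg
  refine ⟨2 * n, ?_⟩
  rw [pow_mul, sq]
  exact hn

theorem exists_uniform {ι : Type*} (S : Finset ι) (P : ι → ℕ → Prop)
    (mono : ∀ i m n, m ≤ n → P i m → P i n) (h : ∀ i ∈ S, ∃ n, P i n) :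
    ∃ n, ∀ i ∈ S, P i n := by
  classical
  induction S using Finset.induction_on with
  | empty => exact ⟨0, by simp⟩
  | insert i S hi ih =>
    obtain ⟨n, hn⟩ := ih (fun j hj => h j (Finset.mem_insert_of_mem hj))
    obtain ⟨m, hm⟩ := h i (Finset.mem_insert_self i S)
    refine ⟨max n m, ?_⟩
    intro j hj
    rcases Finset.mem_insert.mp hj with rfl | hj
    · exact mono _ _ _ (le_max_right _ _) hm
    · exact mono _ _ _ (le_max_left _ _) (hn j hj)

/-- Uniformity: membership in `K` after multiplying by a power of `f` can be checked on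
generators of `I`. -/
theorem exists_pow_mul_mem_K (I : Ideal A) (S : Finset A) (hS : Ideal.span (S : Set A) = I)
    (U : A → A) (L : A → ℕ) (hD : ∀ x ∈ S, Datum A C x (U x) (L x)) (f a : A)
    (h : ∀ x ∈ S, ∃ N : ℕ, (f * x) ^ N * ((x ^ L x - U x) * a) = 0) :
    ∃ N : ℕ, f ^ N * a ∈ K A C I := by
  obtain ⟨N, hN⟩ := exists_uniform S (fun x N => (f * x) ^ N * ((x ^ L x - U x) * a) = 0)
    (by
      intro x m n hmn hm
      obtain ⟨d, rfl⟩ := Nat.exists_eq_add_of_le hmn
      rw [pow_add]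
      linear_combination (f * x) ^ d * hm) h
  refine ⟨N, ?_⟩
  intro g hg v l hgd
  set z : A := (g ^ l - v) * (f ^ N * a) with hz
  let J : Ideal A := (Submodule.span A {z}).annihilator
  have hJ : ∀ r : A, r ∈ J ↔ r * z = 0 := fun r => by
    rw [Submodule.mem_annihilator_span_singleton, smul_eq_mul]
  have hgJ : g ∈ J.radical := by
    apply mem_radical_of_cover J (S : Set A) g (by rw [hS]; exact hg)
    intro x hx
    obtain ⟨M, hM⟩ := (hD x hx).overlap hgd
    have h1 := hN x hx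
    refine ⟨M + N + L x, ?_⟩
    rw [hJ, hz]
    linear_combination (g ^ (N + L x) * x ^ N * f ^ N * a) * hM +
      (g ^ (N + L x) * (x * g) ^ M * (g ^ l - v)) * h1
  obtain ⟨n, hn⟩ := hgJ
  rw [hJ] at hn
  exact ⟨n, hn⟩

/-- Elementwise injectivity. -/
theorem elementwise_injective (I : Ideal A) {f u : A} {k : ℕ} (hfI : f ∈ I) (hf : Datum A C f u k)
    (a : A) (N : ℕ) (h1 : algebraMap A C (f ^ N * a) = 0) (h2 : f ^ N * a ∈ K A C I) :
    ∃ N' : ℕ, f ^ N' * a = 0 := by
  obtain ⟨N1, hN1⟩ := hf.ker _ h1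
  obtain ⟨N2, hN2⟩ := h2 f hfI u k hf
  refine ⟨N1 + N2 + N + k, ?_⟩
  linear_combination f ^ N2 * hN1 + f ^ N1 * hN2

/-- Elementwise surjectivity. -/
theorem elementwise_surjective (I : Ideal A) (S : Finset A) (hS : Ideal.span (S : Set A) = I)
    (U : A → A) (L : A → ℕ) (hD : ∀ x ∈ S, Datum A C x (U x) (L x))
    {f u : A} {k : ℕ} (hf : Datum A C f u k) (c : C) (b : A) :
    ∃ (a : A) (n N : ℕ),
      algebraMap A C (f ^ N) * (algebraMap A C a - algebraMap A C (f ^ n) * c) = 0 ∧
        f ^ N * (a - f ^ n * b) ∈ K A C I := by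
  obtain ⟨a0, n0, N0, h0⟩ := hf.surj c
  obtain ⟨N1, h1⟩ := hf.one
  obtain ⟨N2, h2⟩ := exists_pow_mul_mem_K (C := C) I S hS U L hD f u (by
    intro x hx
    obtain ⟨M, hM⟩ := hf.overlap (hD x hx)
    exact ⟨M, by linear_combination hM⟩)
  refine ⟨a0 * u + f ^ n0 * b * (f ^ k - u), n0 + k, N0 + N1 + N2, ?_, ?_⟩
  · simp only [map_mul, map_add, map_sub, map_pow] at h0 h1 ⊢
    linear_combination
      (algebraMap A C f ^ (N1 + N2) * algebraMap A C u) * h0 +
      (algebraMap A C f ^ (N0 + N2) * algebraMap A C f ^ n0 * (c - algebraMap A C b)) * h1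
  · have : f ^ (N0 + N1 + N2) * (a0 * u + f ^ n0 * b * (f ^ k - u) - f ^ (n0 + k) * b) =
        (f ^ (N0 + N1) * (a0 - f ^ n0 * b)) * (f ^ N2 * u) := by ring
    rw [this]
    exact Ideal.mul_mem_left _ _ h2

end Core

section Boundary

open IsLocalization

variable {A : Type u} [CommRing A] {C : Type u} [CommRing C] [Algebra A C] (f : A)
  {Af : Type u} [CommRing Af] [Algebra A Af] [IsLocalization.Away f Af]
  {Cf : Type u} [CommRing Cf] [Algebra C Cf]
  [IsLocalization (Algebra.algebraMapSubmonoid C (Submonoid.powers f)) Cf]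
  [Algebra Af Cf] [Algebra A Cf] [IsScalarTower A Af Cf] [IsScalarTower A C Cf]

theorem exists_pow_of_mem_algebraMapSubmonoid {s : C}
    (hs : s ∈ Algebra.algebraMapSubmonoid C (Submonoid.powers f)) :
    ∃ N : ℕ, s = algebraMap A C (f ^ N) := by
  obtain ⟨_, ⟨N, rfl⟩, rfl⟩ := hs
  exact ⟨N, rfl⟩

theorem pow_mem_algebraMapSubmonoid (N : ℕ) :
    algebraMap A C (f ^ N) ∈ Algebra.algebraMapSubmonoid C (Submonoid.powers f) :=
  Algebra.mem_algebraMapSubmonoid_of_mem (⟨f ^ N, N, rfl⟩ : Submonoid.powers f)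

/-- Boundary layer 1: from a localization at an idempotent to elementwise data. -/
theorem datum_of_away (e : Af) (he : IsIdempotentElem e) [IsLocalization.Away e Cf] :
    ∃ (u : A) (k : ℕ), Datum A C f u k := by
  obtain ⟨u, ⟨_, k, rfl⟩, rfl⟩ := IsLocalization.exists_mk'_eq (Submonoid.powers f) e
  set e : Af := IsLocalization.mk' Af u (⟨f ^ k, k, rfl⟩ : Submonoid.powers f) with he_def
  have hφe : algebraMap Af Cf e = 1 :=
    (IsIdempotentElem.iff_eq_one_of_isUnit (IsLocalization.Away.algebraMap_isUnit e)).mp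
      (he.map (algebraMap Af Cf))
  refine ⟨u, k, ?_, ?_, ?_⟩
  · -- one
    rw [he_def, IsLocalization.algebraMap_mk' C Af Cf, IsLocalization.mk'_eq_iff_eq_mul,
      one_mul, IsLocalization.eq_iff_exists (Algebra.algebraMapSubmonoid C (Submonoid.powers f))]
      at hφe
    obtain ⟨⟨s, hs⟩, hc⟩ := hφe
    obtain ⟨N, rfl⟩ := exists_pow_of_mem_algebraMapSubmonoid f hs
    refine ⟨N, ?_⟩
    rw [map_mul, map_sub, mul_sub, hc, sub_self]
  · -- surj
    intro c
    obtain ⟨x, ⟨_, m, rfl⟩, hx⟩ := IsLocalization.exists_mk'_eq (Submonoid.powers e)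
      (algebraMap C Cf c)
    rw [IsLocalization.mk'_eq_iff_eq_mul] at hx
    change algebraMap Af Cf x = algebraMap C Cf c * algebraMap Af Cf (e ^ m) at hx
    rw [map_pow, hφe, one_pow, mul_one] at hx
    obtain ⟨a, ⟨_, n, rfl⟩, rfl⟩ := IsLocalization.exists_mk'_eq (Submonoid.powers f) x
    rw [IsLocalization.algebraMap_mk' C Af Cf, IsLocalization.mk'_eq_iff_eq_mul, ← map_mul,
      IsLocalization.eq_iff_exists (Algebra.algebraMapSubmonoid C (Submonoid.powers f))] at hx
    obtain ⟨⟨s, hs⟩, hc⟩ := hx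
    obtain ⟨N, rfl⟩ := exists_pow_of_mem_algebraMapSubmonoid f hs
    refine ⟨a, n, N, ?_⟩
    rw [mul_sub, hc]
    ring
  · -- ker
    intro a ha
    have h0 : algebraMap Af Cf (algebraMap A Af a) = 0 := by
      rw [← IsScalarTower.algebraMap_apply, IsScalarTower.algebraMap_apply A C Cf, ha, map_zero]
    rw [IsLocalization.map_eq_zero_iff (Submonoid.powers e)] at h0
    obtain ⟨⟨_, m, rfl⟩, hm⟩ := h0
    change e ^ m * algebraMap A Af a = 0 at hm
    have hex : e * algebraMap A Af a = 0 := by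
      rcases Nat.eq_zero_or_pos m with rfl | hmpos
      · rw [pow_zero, one_mul] at hm
        rw [hm, mul_zero]
      · rwa [he.pow_eq hmpos.ne'] at hm
    rw [he_def, mul_comm, IsLocalization.mul_mk'_eq_mk'_of_mul,
      IsLocalization.mk'_eq_zero_iff] at hex
    obtain ⟨⟨_, N, rfl⟩, hN⟩ := hex
    change f ^ N * (a * u) = 0 at hN
    exact ⟨N, by linear_combination hN⟩

/-- Boundary layer 2: bijectivity of the map of localizations from elementwise statements. -/
theorem bijective_of_elementwise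
    (hinj : ∀ a : A, (∃ N : ℕ, algebraMap A C (f ^ N * a) = 0) → ∃ N : ℕ, f ^ N * a = 0)
    (hsurj : ∀ d : C, ∃ (a : A) (n N : ℕ),
      algebraMap A C (f ^ N) * (algebraMap A C a - algebraMap A C (f ^ n) * d) = 0) :
    Function.Bijective (algebraMap Af Cf) := by
  constructor
  · rw [injective_iff_map_eq_zero]
    intro x hx
    obtain ⟨a, ⟨_, n, rfl⟩, rfl⟩ := IsLocalization.exists_mk'_eq (Submonoid.powers f) x
    rw [IsLocalization.algebraMap_mk' C Af Cf, IsLocalization.mk'_eq_zero_iff] at hx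
    obtain ⟨⟨s, hs⟩, hc⟩ := hx
    obtain ⟨N, rfl⟩ := exists_pow_of_mem_algebraMapSubmonoid f hs
    rw [← map_mul] at hc
    obtain ⟨N', hN'⟩ := hinj a ⟨N, hc⟩
    rw [IsLocalization.mk'_eq_zero_iff]
    exact ⟨⟨f ^ N', N', rfl⟩, hN'⟩
  · intro y
    obtain ⟨d, ⟨s, hs⟩, rfl⟩ := IsLocalization.exists_mk'_eq
      (Algebra.algebraMapSubmonoid C (Submonoid.powers f)) y
    obtain ⟨m, rfl⟩ := exists_pow_of_mem_algebraMapSubmonoid f hs
    obtain ⟨a, n, N, h⟩ := hsurj d
    refine ⟨IsLocalization.mk' Af a (⟨f ^ (n + m), n + m, rfl⟩ : Submonoid.powers f), ?_⟩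
    rw [IsLocalization.algebraMap_mk' C Af Cf, IsLocalization.mk'_eq_iff_eq,
      IsLocalization.eq_iff_exists (Algebra.algebraMapSubmonoid C (Submonoid.powers f))]
    refine ⟨⟨algebraMap A C (f ^ N), pow_mem_algebraMapSubmonoid f N⟩, ?_⟩
    simp only [map_pow] at h ⊢
    linear_combination (algebraMap A C f ^ m) * h

end Boundary

end Groth.Agent.Lib.Helper89.IdemCompl
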