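import Groth.Agent.Lib.Helper89.ImperfTower

/-!
# Imperfection modules in a tower of extensions: the rank identity (helper89)
-/

set_option autoImplicit false
universe u₁ u₂ u₃ u₄ u₅ u₆

namespace Groth.Agent.Lib.Helper89

namespace ImperfTower

open TensorProduct KaehlerDifferential

section Rank2

variable {F : Type u₁} [Field F] {V W : Type u₂} [AddCommGroup V] [Module F V]
  [AddCommGroup W] [Module F W]

/-- Rank–nullity for a linear map restricted to a subspace and corestricted to its image. -/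
theorem rank_eq_add_of_surj (b : V →ₗ[F] W) (S : Submodule F V) (T : Submodule F W)
    (h1 : ∀ z ∈ S, b z ∈ T) (h2 : ∀ w ∈ T, ∃ z ∈ S, b z = w) :
    Module.rank F ↥S = Module.rank F ↥T + Module.rank F ↥(S ⊓ LinearMap.ker b) := by
  let f : ↥S →ₗ[F] W := b.domRestrict S
  have hf : ∀ x : ↥S, f x = b (x : V) := fun x => rfl
  have hrange : LinearMap.range f = T := by
    ext w
    constructor
    · rintro ⟨⟨z, hz⟩, rfl⟩
      exact h1 z hz
    · intro hw
      obtain ⟨z, hzS, rfl⟩ := h2 w hw
      exact ⟨⟨z, hzS⟩, rfl⟩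
  have hmem : ∀ x : ↥(LinearMap.ker f), ((x : ↥S) : V) ∈ S ⊓ LinearMap.ker b :=
    fun x => ⟨x.1.2, x.2⟩
  let φ : ↥(LinearMap.ker f) →ₗ[F] ↥(S ⊓ LinearMap.ker b) :=
    LinearMap.codRestrict _ (S.subtype ∘ₗ (LinearMap.ker f).subtype) hmem
  have hφ : Function.Bijective φ := by
    constructor
    · intro x y hxy
      have h1 : ((x : ↥S) : V) = ((y : ↥S) : V) :=
        congrArg (fun t : ↥(S ⊓ LinearMap.ker b) => (t : V)) hxy
      exact Subtype.ext (Subtype.ext h1)
    · intro y
      exact ⟨⟨⟨(y : V), y.2.1⟩, y.2.2⟩, Subtype.ext rfl⟩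
  rw [← LinearMap.rank_range_add_rank_ker f, hrange, (LinearEquiv.ofBijective φ hφ).rank_eq]

end Rank2

section FlatRank

variable {L : Type u₁} {M : Type u₂} [Field L] [Field M] [Algebra L M]
  {V X Y : Type u₂} [AddCommGroup V] [Module L V] [AddCommGroup X] [Module L X]
  [AddCommGroup Y] [Module L Y]

theorem prodRight_lTensor_prod (f₁ : V →ₗ[L] X) (f₂ : V →ₗ[L] Y) (x : M ⊗[L] V) :
    TensorProduct.prodRight L M M X Y
        (TensorProduct.AlgebraTensorModule.lTensor M M (f₁.prod f₂) x) =
      (f₁.baseChange M x, f₂.baseChange M x) := by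
  induction x using TensorProduct.induction_on with
  | zero => simp only [map_zero]; rfl
  | add x y hx hy => rw [map_add, map_add, map_add, map_add, hx, hy, Prod.mk_add_mk]
  | tmul m v =>
    rw [TensorProduct.AlgebraTensorModule.lTensor_tmul, TensorProduct.prodRight_tmul,
      LinearMap.baseChange_tmul, LinearMap.baseChange_tmul]
    rfl

/-- Flat base change for the rank of a common kernel. -/
theorem rank_ker_baseChange_inf (f₁ : V →ₗ[L] X) (f₂ : V →ₗ[L] Y) :
    Module.rank M ↥(LinearMap.ker (f₁.baseChange M) ⊓ LinearMap.ker (f₂.baseChange M)) =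
      Module.rank L ↥(LinearMap.ker f₁ ⊓ LinearMap.ker f₂) := by
  have key : LinearMap.ker (TensorProduct.AlgebraTensorModule.lTensor M M (f₁.prod f₂)) =
      LinearMap.ker (f₁.baseChange M) ⊓ LinearMap.ker (f₂.baseChange M) := by
    ext x
    rw [LinearMap.mem_ker, Submodule.mem_inf, LinearMap.mem_ker, LinearMap.mem_ker,
      ← (TensorProduct.prodRight L M M X Y).map_eq_zero_iff, prodRight_lTensor_prod,
      Prod.mk_eq_zero]
  rw [← key, ← (LinearMap.tensorKerEquiv M M (f₁.prod f₂)).rank_eq, Module.rank_baseChange,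
    Cardinal.lift_id, LinearMap.ker_prod]

end FlatRank

section TmTm

variable {Λ : Type u₁} {A : Type u₂} {B : Type u₃} {E : Type u₄} {C : Type u₅}
  [CommRing Λ] [CommRing A] [CommRing B] [CommRing E] [CommRing C]
  [Algebra Λ A] [Algebra Λ B] [Algebra Λ E] [Algebra A B] [Algebra A E] [Algebra B E]
  [IsScalarTower Λ A B] [IsScalarTower Λ A E] [IsScalarTower Λ B E] [IsScalarTower A B E]
  [Algebra A C] [Algebra B C] [Algebra E C] [IsScalarTower A B C] [IsScalarTower A E C]
  [IsScalarTower B E C]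

theorem tm_tm (z : C ⊗[A] Ω[A⁄Λ]) :
    tm Λ B E C (tm Λ A B C z) = tm Λ A E C z := by
  induction z using TensorProduct.induction_on with
  | zero => simp
  | add x y hx hy => rw [map_add, map_add, map_add, hx, hy]
  | tmul c ω => rw [tm_tmul, tm_tmul, tm_tmul, map_map]

end TmTm

section TmBase

variable {Λ : Type u₁} {Λ' : Type u₂} {A : Type u₃} {B : Type u₄} {C : Type u₅}
  [CommRing Λ] [CommRing Λ'] [CommRing A] [CommRing B] [CommRing C]
  [Algebra Λ Λ'] [Algebra Λ A] [Algebra Λ' A] [IsScalarTower Λ Λ' A]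
  [Algebra Λ B] [Algebra Λ' B] [IsScalarTower Λ Λ' B]
  [Algebra A B] [IsScalarTower Λ A B] [IsScalarTower Λ' A B]
  [Algebra B C] [Algebra A C] [IsScalarTower A B C]

/-- Changing the base ring commutes with `tm`. -/
theorem baseChange_map_tm_comm (z : C ⊗[A] Ω[A⁄Λ]) :
    (KaehlerDifferential.map Λ Λ' B B).baseChange C (tm Λ A B C z) =
      tm Λ' A B C ((KaehlerDifferential.map Λ Λ' A A).baseChange C z) := by
  induction z using TensorProduct.induction_on with
  | zero => simp
  | add x y hx hy => rw [map_add, map_add, map_add, map_add, hx, hy]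
  | tmul c ω =>
    rw [tm_tmul, LinearMap.baseChange_tmul, LinearMap.baseChange_tmul, tm_tmul, map_map, map_map]

end TmBase

section BCBC

variable {k₀ : Type u₁} {k : Type u₂} {K : Type u₃} {L : Type u₄} {M : Type u₅}
  [CommRing k₀] [CommRing k] [CommRing K] [CommRing L] [CommRing M] [Algebra k₀ k]
  [Algebra k₀ K] [Algebra k K] [IsScalarTower k₀ k K]
  [Algebra K L] [Algebra K M] [Algebra L M] [IsScalarTower K L M]

theorem baseChange_baseChange_symm_eq_zero_iff (y : M ⊗[K] Ω[K⁄k₀]) :
    (((KaehlerDifferential.map k₀ k K K).baseChange L).baseChange M)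
        ((TensorProduct.AlgebraTensorModule.cancelBaseChange K L M M Ω[K⁄k₀]).symm y) = 0 ↔
      (KaehlerDifferential.map k₀ k K K).baseChange M y = 0 := by
  rw [LinearMap.baseChange_baseChange, LinearMap.comp_apply, LinearMap.comp_apply,
    LinearEquiv.coe_coe, LinearEquiv.coe_coe, LinearEquiv.apply_symm_apply,
    LinearEquiv.map_eq_zero_iff]

end BCBC

section Main

variable {k₀ : Type u₁} {k : Type u₂} {K L M : Type u₃}
  [Field k₀] [Field k] [Field K] [Field L] [Field M] [Algebra k₀ k]
  [Algebra k₀ K] [Algebra k K] [IsScalarTower k₀ k K] [Algebra k₀ L] [Algebra k L]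
  [IsScalarTower k₀ k L]
  [Algebra K L] [Algebra K M] [Algebra L M] [IsScalarTower K L M]
  [Algebra k₀ M] [Algebra k M] [IsScalarTower k₀ K L] [IsScalarTower k K L]
  [IsScalarTower k₀ K M] [IsScalarTower k K M] [IsScalarTower k₀ L M] [IsScalarTower k L M]

/-- The rank identity `d(M/K, k/k₀) = d(M/L, k/k₀) + d(L/K, k/k₀)`. -/
theorem rank_delta_tower :
    Module.rank M ↥(EGA41.imperfection k₀ K M ⊓
          LinearMap.ker ((KaehlerDifferential.map k₀ k K K).baseChange M)) =
      Module.rank M ↥(EGA41.imperfection k₀ L M ⊓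
            LinearMap.ker ((KaehlerDifferential.map k₀ k L L).baseChange M)) +
        Module.rank L ↥(EGA41.imperfection k₀ K L ⊓
            LinearMap.ker ((KaehlerDifferential.map k₀ k K K).baseChange L)) := by
  have : IsScalarTower k₀ k M := IsScalarTower.of_algebraMap_eq fun x => by
    rw [IsScalarTower.algebraMap_apply k₀ K M, IsScalarTower.algebraMap_apply k₀ k K,
      ← IsScalarTower.algebraMap_apply k K M]
  have h1 : ∀ z ∈ EGA41.imperfection k₀ K M ⊓
      LinearMap.ker ((KaehlerDifferential.map k₀ k K K).baseChange M),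
      tm k₀ K L M z ∈ EGA41.imperfection k₀ L M ⊓
        LinearMap.ker ((KaehlerDifferential.map k₀ k L L).baseChange M) := by
    rintro z ⟨hz1, hz2⟩
    constructor
    · change KaehlerDifferential.mapBaseChange k₀ L M (tm k₀ K L M z) = 0
      rw [mapBaseChange_tm]
      exact hz1
    · change (KaehlerDifferential.map k₀ k L L).baseChange M (tm k₀ K L M z) = 0
      have hz2' : (KaehlerDifferential.map k₀ k K K).baseChange M z = 0 := hz2
      rw [baseChange_map_tm_comm, hz2', map_zero]
  have h2 : ∀ w ∈ EGA41.imperfection k₀ L M ⊓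
      LinearMap.ker ((KaehlerDifferential.map k₀ k L L).baseChange M),
      ∃ z ∈ EGA41.imperfection k₀ K M ⊓
        LinearMap.ker ((KaehlerDifferential.map k₀ k K K).baseChange M),
        tm k₀ K L M z = w := by
    rintro w ⟨hw1, hw2⟩
    have hw2' : (KaehlerDifferential.map k₀ k L L).baseChange M w = 0 := hw2
    have hw1' : KaehlerDifferential.mapBaseChange k₀ L M w = 0 := hw1
    obtain ⟨β, hβ⟩ := exists_tm_eq (Λ := k₀) (A := k) (B := L) (C := M) w hw2'
    have hb : tm k₀ K L M (tm k₀ k K M β) = w := by rw [tm_tm, hβ]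
    refine ⟨tm k₀ k K M β, ⟨?_, ?_⟩, hb⟩
    · change KaehlerDifferential.mapBaseChange k₀ K M (tm k₀ k K M β) = 0
      rw [← mapBaseChange_tm (Λ := k₀) (A := K) (B := L) (C := M), hb, hw1']
    · change (KaehlerDifferential.map k₀ k K K).baseChange M (tm k₀ k K M β) = 0
      exact baseChange_map_tm _
  rw [rank_eq_add_of_surj (tm k₀ K L M) _ _ h1 h2]
  congr 1
  have hmap : (EGA41.imperfection k₀ K M ⊓
        LinearMap.ker ((KaehlerDifferential.map k₀ k K K).baseChange M)) ⊓
        LinearMap.ker (tm k₀ K L M) =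
      Submodule.map
        (TensorProduct.AlgebraTensorModule.cancelBaseChange K L M M Ω[K⁄k₀]).toLinearMap
        (LinearMap.ker ((KaehlerDifferential.mapBaseChange k₀ K L).baseChange M) ⊓
          LinearMap.ker (((KaehlerDifferential.map k₀ k K K).baseChange L).baseChange M)) := by
    ext y
    rw [Submodule.mem_map_equiv, Submodule.mem_inf, Submodule.mem_inf, Submodule.mem_inf,
      LinearMap.mem_ker, LinearMap.mem_ker, LinearMap.mem_ker, LinearMap.mem_ker,
      baseChange_baseChange_symm_eq_zero_iff, baseChange_cancelBaseChange_symm]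
    constructor
    · rintro ⟨⟨-, h3⟩, h4⟩
      exact ⟨h4, h3⟩
    · rintro ⟨h4, h3⟩
      refine ⟨⟨?_, h3⟩, h4⟩
      change KaehlerDifferential.mapBaseChange k₀ K M y = 0
      rw [← mapBaseChange_tm (Λ := k₀) (A := K) (B := L) (C := M), h4, map_zero]
  rw [hmap, ← ((TensorProduct.AlgebraTensorModule.cancelBaseChange K L M M
    Ω[K⁄k₀]).submoduleMap _).rank_eq, rank_ker_baseChange_inf]
  rfl

end Main

end ImperfTower

end Groth.Agent.Lib.Helper89
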