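import Mathlib
import Groth.Agent.Lib.Helper50.GenSmoothAlg

/-!
# Kähler differentials of field extensions of perfect fields and of local rings (helper89)
-/

set_option autoImplicit false
set_option linter.style.haveILetI false

namespace Groth.Agent.Lib.Helper89.KaehlerGen

open KaehlerDifferential TensorProduct

universe u

/-- For a finitely generated field extension `L` of a perfect field `k`, the dimension of the
Kähler differentials is the transcendence degree. -/
theorem rank_kaehler_eq_trdeg_of_perfectField (k L : Type u) [Field k] [Field L] [Algebra k L]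
    [PerfectField k] [Algebra.EssFiniteType k L] :
    Module.rank L Ω[L⁄k] = Algebra.trdeg k L := by
  classical
  obtain ⟨s, hs, hsep⟩ := exists_isTranscendenceBasis_and_isSeparable_of_perfectField k L
  have hind : AlgebraicIndependent k ((↑) : s → L) := hs.1
  have hinj : Function.Injective (MvPolynomial.aeval ((↑) : s → L) : MvPolynomial s k →ₐ[k] L) :=
    algebraicIndependent_iff_injective_aeval.1 hind
  set P := MvPolynomial s k with hP
  letI algPL : Algebra P L := (MvPolynomial.aeval ((↑) : s → L) : P →ₐ[k] L).toRingHom.toAlgebra
  haveI : IsScalarTower k P L := IsScalarTower.of_algebraMap_eq fun r =>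
    ((MvPolynomial.aeval ((↑) : s → L) : P →ₐ[k] L).commutes r).symm
  haveI : FaithfulSMul P L := (faithfulSMul_iff_algebraMap_injective P L).mpr hinj
  set F := FractionRing P with hF
  letI algFL : Algebra F L := FractionRing.liftAlgebra P L
  haveI : IsScalarTower P F L := FractionRing.isScalarTower_liftAlgebra P L
  haveI : Algebra.FormallyEtale P F := Algebra.FormallyEtale.of_isLocalization (nonZeroDivisors P)
  have hrange : Set.range ((↑) : s → L) = (s : Set L) := by
    ext x; simp
  haveI hsep' : Algebra.IsSeparable (IntermediateField.adjoin k (Set.range ((↑) : s → L))) L := by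
    rw [hrange]; exact hsep
  haveI : Algebra.IsSeparable F L := by
    refine Algebra.IsSeparable.of_equiv_equiv
      (A₁ := IntermediateField.adjoin k (Set.range ((↑) : s → L))) (B₁ := L)
      (hind.aevalEquivField.symm : _ ≃+* F) (RingEquiv.refl L) ?_
    ext x
    obtain ⟨y, rfl⟩ := hind.aevalEquivField.surjective x
    simp only [RingHom.coe_comp, Function.comp_apply, RingHom.coe_coe]
    erw [AlgEquiv.symm_apply_apply]
    rfl
  haveI : Algebra.FormallyEtale F L := Algebra.FormallyEtale.of_isSeparable F L
  haveI : Algebra.FormallyEtale P L := Algebra.FormallyEtale.comp P F L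
  haveI : Module.Free P Ω[P⁄k] := Module.Free.of_basis (KaehlerDifferential.mvPolynomialBasis k s)
  rw [Groth.Agent.Lib.Helper50.rank_kaehler_of_formallyEtale k P L,
    ← (KaehlerDifferential.mvPolynomialBasis k s).mk_eq_rank'', hs.cardinalMk_eq_trdeg]

open IsLocalRing in
/-- For a Noetherian local `k`-algebra `L`, essentially of finite type, with residue field `κ`:
`dim_κ (κ ⊗ Ω_{L/k}) ≤ dim_κ (𝔪/𝔪²) + dim_κ Ω_{κ/k}`. -/
theorem finrank_residueField_tensor_kaehler_le (k L : Type u) [Field k] [CommRing L]
    [IsLocalRing L] [IsNoetherianRing L] [Algebra k L] [Algebra.EssFiniteType k L] :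
    Module.finrank (ResidueField L) (ResidueField L ⊗[L] Ω[L⁄k]) ≤
      Module.finrank (ResidueField L) (CotangentSpace L) +
        Module.finrank (ResidueField L) Ω[ResidueField L⁄k] := by
  classical
  have hsurj : Function.Surjective (algebraMap L (ResidueField L)) := residue_surjective
  have hex := KaehlerDifferential.exact_kerCotangentToTensor_mapBaseChange k L (ResidueField L) hsurj
  have hkerm : RingHom.ker (algebraMap L (ResidueField L)) = maximalIdeal L := ker_residue
  obtain ⟨s, hscard, hsspan⟩ :=
    Submodule.FG.exists_span_finset_card_eq_spanFinrank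
      (p := maximalIdeal L) (maximalIdeal L).fg_of_isNoetherianRing
  rw [spanFinrank_maximalIdeal_eq_finrank_cotangentSpace] at hscard
  let T : Finset ((ResidueField L) ⊗[L] Ω[L⁄k]) := s.image (fun x => (1 : (ResidueField L)) ⊗ₜ[L] D k L x)
  have hmem : ∀ y ∈ Submodule.span L (s : Set L),
      (1 : (ResidueField L)) ⊗ₜ[L] D k L y ∈ Submodule.span (ResidueField L) (T : Set ((ResidueField L) ⊗[L] Ω[L⁄k])) := by
    intro y hy
    induction hy using Submodule.span_induction with
    | mem x hx =>
      exact Submodule.subset_span (by simp only [T, Finset.coe_image]; exact ⟨x, hx, rfl⟩)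
    | zero => simp
    | add x y _ _ hx hy => rw [map_add, tmul_add]; exact add_mem hx hy
    | smul a x hx ih =>
      have hxm : x ∈ maximalIdeal L := by rw [← hsspan]; exact hx
      have hx0 : algebraMap L (ResidueField L) x = 0 := by
        rw [← RingHom.mem_ker, hkerm]; exact hxm
      rw [smul_eq_mul, Derivation.leibniz, tmul_add, tmul_smul, tmul_smul]
      refine add_mem ?_ ?_
      · rw [← algebraMap_smul (ResidueField L) a]
        exact Submodule.smul_mem _ _ ih
      · rw [TensorProduct.smul_tmul', Algebra.smul_def, mul_one, hx0, zero_tmul]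
        exact zero_mem _
  have hker : LinearMap.ker (mapBaseChange k L (ResidueField L)) ≤
      Submodule.span (ResidueField L) (T : Set ((ResidueField L) ⊗[L] Ω[L⁄k])) := by
    intro z hz
    obtain ⟨c, rfl⟩ := (hex z).mp hz
    obtain ⟨⟨y, hy⟩, rfl⟩ := Ideal.toCotangent_surjective _ c
    rw [kerCotangentToTensor_toCotangent]
    apply hmem
    rw [hsspan, ← hkerm]
    exact hy
  haveI : Algebra.FiniteType L (ResidueField L) := Algebra.FiniteType.of_surjective (Algebra.ofId L (ResidueField L)) hsurj
  haveI : Algebra.EssFiniteType k (ResidueField L) := Algebra.EssFiniteType.comp k L (ResidueField L)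
  have h1 := LinearMap.finrank_range_add_finrank_ker (mapBaseChange k L (ResidueField L))
  have h2 : Module.finrank (ResidueField L) (LinearMap.range (mapBaseChange k L (ResidueField L))) ≤
      Module.finrank (ResidueField L) Ω[(ResidueField L)⁄k] := Submodule.finrank_le _
  have h3 : Module.finrank (ResidueField L) (LinearMap.ker (mapBaseChange k L (ResidueField L))) ≤ s.card := by
    calc Module.finrank (ResidueField L) (LinearMap.ker (mapBaseChange k L (ResidueField L)))
        ≤ Module.finrank (ResidueField L) (Submodule.span (ResidueField L) (T : Set ((ResidueField L) ⊗[L] Ω[L⁄k]))) :=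
          Submodule.finrank_mono hker
      _ ≤ T.card := finrank_span_finset_le_card T
      _ ≤ s.card := Finset.card_image_le
  omega

end Groth.Agent.Lib.Helper89.KaehlerGen
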