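import Mathlib
import Groth.Agent.Lib.Helper55.LocalDim
import Groth.Agent.Lib.Helper89.KaehlerGenA

set_option autoImplicit false

namespace Groth.Agent.Lib.Helper89.KaehlerGen

open KaehlerDifferential TensorProduct

universe u
open Groth.Agent.Lib.Helper55

/-- Over a finitely generated algebra `B` over a field, the fibre of `Ω_{B/k}` at a prime `q`
is the fibre of `Ω_{B_q/k}` at the closed point. -/
theorem finrank_residueField_tensor_kaehler_eq (k B : Type u) [Field k] [CommRing B] [Algebra k B]
    (q : Ideal B) [q.IsPrime] :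
    Module.finrank q.ResidueField (q.ResidueField ⊗[B] Ω[B⁄k]) =
      Module.finrank q.ResidueField
        (q.ResidueField ⊗[Localization.AtPrime q] Ω[Localization.AtPrime q⁄k]) := by
  have e1 : q.ResidueField ⊗[Localization.AtPrime q] (Localization.AtPrime q ⊗[B] Ω[B⁄k])
      ≃ₗ[q.ResidueField] q.ResidueField ⊗[B] Ω[B⁄k] :=
    AlgebraTensorModule.cancelBaseChange B (Localization.AtPrime q) q.ResidueField
      q.ResidueField Ω[B⁄k]
  have e2 : q.ResidueField ⊗[Localization.AtPrime q] (Localization.AtPrime q ⊗[B] Ω[B⁄k])
      ≃ₗ[q.ResidueField]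
      q.ResidueField ⊗[Localization.AtPrime q] Ω[Localization.AtPrime q⁄k] :=
    AlgebraTensorModule.congr (LinearEquiv.refl q.ResidueField q.ResidueField)
      (tensorKaehlerEquivOfFormallyEtale k B (Localization.AtPrime q))
  rw [← e1.finrank_eq, e2.finrank_eq]

/-- **Fibre bound**. `B` a finitely generated domain of dimension `d` over a perfect field `k`,
`q` a prime at which the embedding dimension is at most `ht q + 1`. Then the fibre of
`Ω_{B/k}` at `q` has dimension at most `d + 1`. -/
theorem finrank_residueField_tensor_kaehler_le_of_hypersurface (k B : Type u) [Field k]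
    [PerfectField k] [CommRing B] [IsDomain B] [Algebra k B] [Algebra.FiniteType k B]
    (d : ℕ) (hd : ringKrullDim B = d) (q : Ideal B) [q.IsPrime]
    (hq : (Module.finrank (IsLocalRing.ResidueField (Localization.AtPrime q))
          (IsLocalRing.CotangentSpace (Localization.AtPrime q)) : ℕ∞) ≤ q.height + 1) :
    Module.finrank q.ResidueField (q.ResidueField ⊗[B] Ω[B⁄k]) ≤ d + 1 := by
  have : IsNoetherianRing B := Algebra.FiniteType.isNoetherianRing k B
  rw [finrank_residueField_tensor_kaehler_eq]
  have hess : Algebra.EssFiniteType k q.ResidueField := Algebra.EssFiniteType.comp k B _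
  have h1 : Module.finrank q.ResidueField
      (q.ResidueField ⊗[Localization.AtPrime q] Ω[Localization.AtPrime q⁄k]) ≤
      Module.finrank q.ResidueField (IsLocalRing.CotangentSpace (Localization.AtPrime q)) +
        Module.finrank q.ResidueField Ω[q.ResidueField⁄k] :=
    finrank_residueField_tensor_kaehler_le k (Localization.AtPrime q)
  obtain ⟨s, hs1, hs2⟩ := exists_ringKrullDim_quotient_eq_and_trdeg_residueField_eq k B q
  obtain ⟨𝔮, h𝔮min, -, h𝔮⟩ := exists_minimalPrimes_ringKrullDim_quotient_eq k B q
  have h𝔮bot : 𝔮 = ⊥ := by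
    rw [IsDomain.minimalPrimes_eq_singleton_bot] at h𝔮min
    exact h𝔮min
  subst h𝔮bot
  rw [ringKrullDim_eq_of_ringEquiv (RingEquiv.quotientBot B), hd, hs1] at h𝔮
  -- the height is finite
  have hht : q.height ≠ ⊤ := Ideal.height_ne_top_of_isPrime
  obtain ⟨h, hh⟩ := ENat.ne_top_iff_exists.mp hht
  rw [← hh] at h𝔮 hq
  have hds : d = s + h := by exact_mod_cast h𝔮
  have hq' : Module.finrank q.ResidueField
          (IsLocalRing.CotangentSpace (Localization.AtPrime q)) ≤ h + 1 := by exact_mod_cast hq
  -- the rank of the differentials of the residue field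
  have h2 : Module.finrank q.ResidueField Ω[q.ResidueField⁄k] = s := by
    have := rank_kaehler_eq_trdeg_of_perfectField k q.ResidueField
    rw [hs2] at this
    exact Module.finrank_eq_of_rank_eq this
  rw [h2] at h1
  omega

end Groth.Agent.Lib.Helper89.KaehlerGen
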