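import Mathlib

/-!
# Fibre ranks, Nakayama for localized modules, integrality of base change (helper89)
-/


set_option autoImplicit false

namespace Groth.Agent.Lib.Helper89.KaehlerGen

open KaehlerDifferential TensorProduct

universe u

/-- The dimension of the fibre of a module at a field-valued point does not change under
extension of the field. -/
theorem finrank_tensor_field_ext (A M F₁ F₂ : Type*) [CommRing A] [AddCommGroup M] [Module A M]
    [Field F₁] [Field F₂] [Algebra A F₁] [Algebra A F₂] [Algebra F₁ F₂] [IsScalarTower A F₁ F₂] :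
    Module.finrank F₂ (F₂ ⊗[A] M) = Module.finrank F₁ (F₁ ⊗[A] M) := by
  have e : F₂ ⊗[F₁] (F₁ ⊗[A] M) ≃ₗ[F₂] F₂ ⊗[A] M :=
    AlgebraTensorModule.cancelBaseChange A F₁ F₂ F₂ M
  rw [← e.finrank_eq, Module.finrank_baseChange]

/-- **Nakayama**: if the fibre of a finite module `M` at a prime `p` has dimension at most `n`,
then `M_p` is generated by at most `n` elements. -/
theorem exists_finset_span_localizedModule (A M : Type*) [CommRing A] [AddCommGroup M] [Module A M]
    [Module.Finite A M] (p : Ideal A) [p.IsPrime] (n : ℕ)
    (h : Module.finrank p.ResidueField (p.ResidueField ⊗[A] M) ≤ n) :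
    ∃ s : Finset (LocalizedModule p.primeCompl M), s.card ≤ n ∧
      Submodule.span (Localization.AtPrime p) (s : Set (LocalizedModule p.primeCompl M)) = ⊤ := by
  have hfin : Module.Finite (Localization.AtPrime p) (LocalizedModule p.primeCompl M) :=
    Module.Finite.of_isLocalizedModule p.primeCompl (LocalizedModule.mkLinearMap p.primeCompl M)
  have fg : (⊤ : Submodule (Localization.AtPrime p) (LocalizedModule p.primeCompl M)).FG :=
    Module.Finite.fg_top
  obtain ⟨s, hs1, hs2⟩ := Submodule.FG.exists_span_finset_card_eq_spanFinrank fg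
  refine ⟨s, ?_, hs2⟩
  rw [hs1, ← TensorProduct.spanFinrank_top_eq_of_residueField _ fg,
    ← Module.finrank_eq_spanFinrank_of_free]
  refine le_trans (le_of_eq ?_) h
  have e0 : Localization.AtPrime p ⊗[A] M ≃ₗ[Localization.AtPrime p]
      LocalizedModule p.primeCompl M :=
    (IsLocalizedModule.isBaseChange p.primeCompl (Localization.AtPrime p)
      (LocalizedModule.mkLinearMap p.primeCompl M)).equiv
  have e1 : p.ResidueField ⊗[Localization.AtPrime p]
      (⊤ : Submodule (Localization.AtPrime p) (LocalizedModule p.primeCompl M)) ≃ₗ[p.ResidueField]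
      p.ResidueField ⊗[Localization.AtPrime p] (Localization.AtPrime p ⊗[A] M) :=
    AlgebraTensorModule.congr (LinearEquiv.refl p.ResidueField p.ResidueField)
      (Submodule.topEquiv.trans e0.symm)
  have e2 : p.ResidueField ⊗[Localization.AtPrime p] (Localization.AtPrime p ⊗[A] M)
      ≃ₗ[p.ResidueField] p.ResidueField ⊗[A] M :=
    AlgebraTensorModule.cancelBaseChange A (Localization.AtPrime p) p.ResidueField
      p.ResidueField M
  exact (e1.trans e2).finrank_eq

section
attribute [local instance] Algebra.TensorProduct.rightAlgebra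

/-- `B ⊗[R] A` is integral over `A` when `B` is integral over `R`. -/
theorem isIntegral_rightAlgebra (R A B : Type*) [CommRing R] [CommRing A] [CommRing B]
    [Algebra R A] [Algebra R B] [Algebra.IsIntegral R B] :
    Algebra.IsIntegral A (B ⊗[R] A) where
  isIntegral z := by
    induction z using TensorProduct.induction_on with
    | zero => exact isIntegral_zero
    | add x y hx hy => exact hx.add hy
    | tmul x a =>
      have h1 : IsIntegral A ((1 : B) ⊗ₜ[R] a) := isIntegral_algebraMap (x := a)
      have h2 : IsIntegral A (x ⊗ₜ[R] (1 : A)) :=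
        ((Algebra.IsIntegral.isIntegral (R := R) x).map
          (Algebra.TensorProduct.includeLeft : B →ₐ[R] B ⊗[R] A)).tower_top
      have h3 : x ⊗ₜ[R] a = ((1 : B) ⊗ₜ[R] a) * (x ⊗ₜ[R] (1 : A)) := by
        rw [Algebra.TensorProduct.tmul_mul_tmul, one_mul, mul_one]
      rw [h3]
      exact h1.mul h2

end

end Groth.Agent.Lib.Helper89.KaehlerGen
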