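import Groth.Agent.Lib.Helper89.MonicLoc
import Groth.Agent.Lib.Helper3.QFSplit

/-!
# Ideals of `R⟨s⟩` avoiding the special fibre, `R` Henselian local
-/

set_option linter.unusedSectionVars false
set_option linter.unusedVariables false
set_option linter.style.haveILetI false

namespace Groth.Agent.Lib.Helper89.MonicLoc

open Polynomial Groth.Agent.Lib.Helper89.Approx IsLocalRing

universe u

section Part2

variable {R : Type u} [CommRing R] [HenselianLocalRing R] {L : Type u} [CommRing L]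
  [Algebra R[X] L] [IsLocalization (MX R) L] [Algebra R L] [IsScalarTower R R[X] L]
  (ψ : R[X] →ₐ[R] L) (hψ : ψ X * algebraMap R[X] L X = 1)

include hψ

theorem part2 (J : Ideal L) (hJ : J ⊔ (maximalIdeal R).map (algebraMap R L) = ⊤) :
    (J.comap ψ.toRingHom).map ψ.toRingHom = J ∧
    J.comap ψ.toRingHom ⊔ (maximalIdeal R).map (algebraMap R R[X]) = ⊤ := by
  refine ⟨map_comap_eq ψ hψ J, ?_⟩
  obtain ⟨I, hI⟩ : ∃ I, I = J.comap ψ.toRingHom := ⟨_, rfl⟩
  rw [← hI]
  obtain ⟨m, hm⟩ : ∃ m, m = (maximalIdeal R).map (algebraMap R R[X]) := ⟨_, rfl⟩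
  rw [← hm]
  have h3 : ψ.toRingHom.comp (algebraMap R R[X]) = algebraMap R L := by
    ext a; exact ψ.commutes a
  have hmL : (maximalIdeal R).map (algebraMap R L) = m.map ψ.toRingHom := by
    rw [hm, Ideal.map_map, h3]
  -- Step 1: a polynomial in `I` with a unit coefficient
  have h1 : (1 : L) ∈ J ⊔ m.map ψ.toRingHom := by rw [← hmL, hJ]; trivial
  obtain ⟨j, hj, μ, hμ, hjμ⟩ := Submodule.mem_sup.mp h1
  obtain ⟨ν, hν, h, hh, e⟩ := exists_of_mem_map ψ hψ hμ
  have hgI : h - ν ∈ I := by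
    rw [hI, Ideal.mem_comap]
    change ψ (h - ν) ∈ J
    have : ψ (h - ν) = j * ψ h := by rw [map_sub, ← e]; linear_combination (ψ h) * hjμ.symm
    rw [this]; exact J.mul_mem_right _ hj
  have hcoeff : IsUnit ((h - ν).coeff h.natDegree) := by
    rw [coeff_sub, hh.coeff_natDegree]
    have hνm : ν.coeff h.natDegree ∈ maximalIdeal R := by
      rw [hm] at hν
      exact Ideal.mem_map_C_iff.mp hν _
    exact IsLocalRing.isUnit_one_sub_self_of_mem_nonunits _ hνm
  haveI : Algebra.QuasiFinite R (R[X] ⧸ I) := quasiFinite_quotient_of_isUnit_coeff hgI hcoeff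
  obtain ⟨e₀, he₀, hfin, hq⟩ :=
    Groth.Agent.Lib.Helper3.exists_idempotent_split_of_quasiFinite R (R[X] ⧸ I)
  -- Step 2: the map to `L ⧸ J`
  obtain ⟨θ, hθ⟩ : ∃ θ : (R[X] ⧸ I) →+* L ⧸ J,
      θ = Ideal.quotientMap J ψ.toRingHom (le_of_eq hI) := ⟨_, rfl⟩
  have hθinj : Function.Injective θ := by
    rw [hθ]; exact Ideal.quotientMap_injective' (le_of_eq hI.symm)
  have hθmk : ∀ p : R[X], θ (Ideal.Quotient.mk I p) = Ideal.Quotient.mk J (ψ p) := by
    intro p; rw [hθ, Ideal.quotientMap_mk]; rfl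
  -- integrality on the finite part
  obtain ⟨h', hh', hh'0⟩ := IsIntegral.of_finite R
    (Ideal.Quotient.mk (Ideal.span ({1 - e₀} : Set (R[X] ⧸ I))) (Ideal.Quotient.mk I X))
  have hh'mem : Ideal.Quotient.mk I h' ∈ Ideal.span ({1 - e₀} : Set (R[X] ⧸ I)) := by
    rw [← Ideal.Quotient.eq_zero_iff_mem]
    have := aeval_algHom_apply
      ((Ideal.Quotient.mkₐ R (Ideal.span ({1 - e₀} : Set (R[X] ⧸ I)))).comp
        (Ideal.Quotient.mkₐ R I)) X h'
    rw [aeval_X_left_apply] at this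
    rw [← aeval_def] at hh'0
    exact this.symm.trans hh'0
  obtain ⟨c, hc⟩ := Ideal.mem_span_singleton'.mp hh'mem
  have hunit : IsUnit (θ (Ideal.Quotient.mk I h')) := by
    rw [hθmk]
    exact (isUnit_psi_of_monic ψ hψ hh').map (Ideal.Quotient.mk J)
  rw [← hc, map_mul] at hunit
  have hunit2 : IsUnit (θ (1 - e₀)) := isUnit_of_mul_isUnit_right hunit
  have hzero : θ e₀ * θ (1 - e₀) = 0 := by
    rw [← map_mul, mul_sub, mul_one, he₀.eq, sub_self, map_zero]
  have he0 : e₀ = 0 := by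
    apply hθinj
    rw [map_zero]
    exact (hunit2.mul_left_eq_zero).mp hzero
  -- Step 3: conclude
  obtain ⟨φ, hφ⟩ : ∃ φ : R[X] →+* (R[X] ⧸ I) ⧸ Ideal.span ({e₀} : Set (R[X] ⧸ I)),
      φ = (Ideal.Quotient.mk _).comp (Ideal.Quotient.mk I) := ⟨_, rfl⟩
  have hφsurj : Function.Surjective φ := by
    rw [hφ]
    exact Ideal.Quotient.mk_surjective.comp Ideal.Quotient.mk_surjective
  have halg : algebraMap R ((R[X] ⧸ I) ⧸ Ideal.span ({e₀} : Set (R[X] ⧸ I))) =
      φ.comp (algebraMap R R[X]) := by rw [hφ]; rfl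
  rw [halg, ← Ideal.map_map, ← hm] at hq
  have h4 := Ideal.comap_map_of_surjective φ hφsurj m
  rw [hq, Ideal.comap_top] at h4
  rw [eq_top_iff, h4, sup_comm]
  refine sup_le_sup_right ?_ _
  intro p hp
  rw [Ideal.mem_comap, Ideal.mem_bot, hφ, RingHom.comp_apply, Ideal.Quotient.eq_zero_iff_mem, he0,
    Ideal.span_singleton_zero, Ideal.mem_bot, Ideal.Quotient.eq_zero_iff_mem] at hp
  exact hp

end Part2

end Groth.Agent.Lib.Helper89.MonicLoc
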