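import Groth.Prelude.Def_W4c5qllcourbesmultMultCrv
import Mathlib.Tactic

/-!
# Helper lemmas on modules over `R[X]/(X^n)` (MultCrv block), by helper89
-/

set_option autoImplicit false
universe u v

namespace Groth.Agent.Lib.Helper89

open MultCrv Polynomial

variable (R : Type u) [CommRing R] (n : ℕ)

theorem multCrv_z_pow_n : (MultCrv.z R n) ^ n = 0 := by
  rw [← map_pow]
  exact Ideal.Quotient.eq_zero_iff_mem.2 (Ideal.mem_span_singleton_self _)

theorem multCrv_z_pow_eq_zero_of_le {k : ℕ} (h : n ≤ k) : (MultCrv.z R n) ^ k = 0 := by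
  obtain ⟨m, rfl⟩ := Nat.exists_eq_add_of_le h
  rw [pow_add, multCrv_z_pow_n, zero_mul]

variable {M : Type v} [AddCommGroup M] [Module (MultCrv.Rn R n) M]

theorem multCrv_mem_filt2_iff (i : ℕ) (u : M) :
    u ∈ MultCrv.filt2 R n M i ↔ (MultCrv.z R n) ^ i • u = 0 := by
  unfold MultCrv.filt2
  exact Submodule.mem_torsionBy_iff _ _

theorem multCrv_mem_filt_iff (i : ℕ) (u : M) :
    u ∈ MultCrv.filt R n M i ↔ ∃ w : M, (MultCrv.z R n) ^ i • w = u := by
  unfold MultCrv.filt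
  simp [LinearMap.mem_range]

/-- For a nonzero `u`, there is a top exponent `k` with `z^k u ≠ 0` and `z^(k+1) u = 0`. -/
theorem multCrv_exists_top_pow (u : M) (hu : u ≠ 0) :
    ∃ k : ℕ, (MultCrv.z R n) ^ k • u ≠ 0 ∧ (MultCrv.z R n) ^ (k + 1) • u = 0 := by
  classical
  have hex : ∃ k : ℕ, (MultCrv.z R n) ^ (k + 1) • u = 0 :=
    ⟨n, by rw [multCrv_z_pow_eq_zero_of_le R n (Nat.le_succ n)]; exact zero_smul (MultCrv.Rn R n) u⟩
  refine ⟨Nat.find hex, ?_, Nat.find_spec hex⟩
  rcases Nat.eq_zero_or_pos (Nat.find hex) with h0 | h0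
  · rw [h0, pow_zero, one_smul]; exact hu
  · have := Nat.find_min hex (m := Nat.find hex - 1) (by omega)
    rwa [show Nat.find hex - 1 + 1 = Nat.find hex by omega] at this

end Groth.Agent.Lib.Helper89
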