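import Groth.Agent.Lib.Helper89.MultCrvFrob
import Groth.Agent.Lib.Helper89.ExtTools
import Mathlib.LinearAlgebra.FreeModule.PID
import Mathlib.Algebra.Exact.Basic
import Mathlib.Algebra.Module.Projective
import Mathlib.Algebra.Module.Torsion.Pi
import Mathlib.RingTheory.Polynomial.Basic
import Mathlib.RingTheory.DiscreteValuationRing.Basic

/-!
# `Ext` groups over `A = R[X]/(X^n)` (MultCrv block), by helper89
-/

set_option autoImplicit false
universe u

namespace Groth.Agent.Lib.Helper89

open MultCrv CategoryTheory Abelian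

section Extension

variable (R : Type u) [CommRing R] [IsDomain R] [IsPrincipalIdealRing R] (n : ℕ)

/-- The core of the exactness of the `A`-dual on `R`-torsion-free modules: forms extend. -/
theorem multCrv_exists_extension (hn : 1 ≤ n)
    {M' M M'' : Type u} [AddCommGroup M'] [Module (MultCrv.Rn R n) M'] [Module R M']
    [IsScalarTower R (MultCrv.Rn R n) M']
    [AddCommGroup M] [Module (MultCrv.Rn R n) M] [Module R M] [IsScalarTower R (MultCrv.Rn R n) M]
    [AddCommGroup M''] [Module (MultCrv.Rn R n) M''] [Module R M'']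
    [IsScalarTower R (MultCrv.Rn R n) M''] [Module.Finite R M''] [Module.IsTorsionFree R M'']
    (f : M' →ₗ[MultCrv.Rn R n] M) (g : M →ₗ[MultCrv.Rn R n] M'') (hf : Function.Injective f)
    (hg : Function.Surjective g) (hfg : Function.Exact f g)
    (φ : M' →ₗ[MultCrv.Rn R n] MultCrv.Rn R n) :
    ∃ ψ : M →ₗ[MultCrv.Rn R n] MultCrv.Rn R n, ψ ∘ₗ f = φ := by
  classical
  refine (multCrv_dualMap_surjective_iff R n hn f).2 ?_ φ
  intro μ'
  have hfree : Module.Free R M'' := Module.free_of_finite_type_torsion_free'
  have hex : Function.Exact (f.restrictScalars R) (g.restrictScalars R) := hfg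
  obtain ⟨s, hs⟩ := Module.projective_lifting_property (g.restrictScalars R) LinearMap.id hg
  have hf' : Function.Injective (f.restrictScalars R) := hf
  obtain ⟨-, l, hl⟩ := ((hex.split_tfae').out 0 1 rfl rfl).mp ⟨hf', s, hs⟩
  refine ⟨μ' ∘ₗ l, ?_⟩
  rw [LinearMap.comp_assoc, hl, LinearMap.comp_id]

end Extension

section Kernel

variable (R : Type u) [CommRing R] [IsDomain R] (n : ℕ)

instance multCrv_isTorsionFree_Rn : Module.IsTorsionFree R (MultCrv.Rn R n) :=
  haveI := multCrv_free_Rn R n
  inferInstance

theorem multCrv_isTorsionFree_submodule_pi (r : ℕ)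
    (K : Submodule (MultCrv.Rn R n) (Fin r → MultCrv.Rn R n)) : Module.IsTorsionFree R ↥K :=
  Function.Injective.moduleIsTorsionFree K.subtype K.injective_subtype (fun _ _ => rfl)

theorem multCrv_finite_submodule_pi [IsNoetherianRing R] (r : ℕ)
    (K : Submodule (MultCrv.Rn R n) (Fin r → MultCrv.Rn R n)) :
    Module.Finite (MultCrv.Rn R n) ↥K := by
  haveI : IsNoetherianRing (MultCrv.Rn R n) := inferInstance
  infer_instance

end Kernel

section Vanishing

variable (R : Type u) [CommRing R] [IsDomain R] [IsDiscreteValuationRing R] (n : ℕ)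

/-- `Ext^i_A(M, A) = 0` for `i ≥ 1` and `M` finitely generated, `R`-torsion-free. -/
theorem multCrv_ext_self_subsingleton_succ (hn : 1 ≤ n) (i : ℕ) :
    ∀ (M : Type u) [AddCommGroup M] [Module (MultCrv.Rn R n) M] [Module R M]
      [IsScalarTower R (MultCrv.Rn R n) M] [Module.Finite (MultCrv.Rn R n) M]
      [Module.IsTorsionFree R M],
      Subsingleton (Ext.{u} (ModuleCat.of (MultCrv.Rn R n) M)
        (ModuleCat.of (MultCrv.Rn R n) (MultCrv.Rn R n)) (i + 1)) := by
  induction i with
  | zero =>
    intro M _ _ _ _ _ _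
    obtain ⟨r, π, hπ⟩ := Module.Finite.exists_fin' (MultCrv.Rn R n) M
    have hS := LinearMap.shortExact_shortComplexKer hπ
    have hfin : Module.Finite R M := multCrv_finite_over_base R n M
    haveI : Projective (π.shortComplexKer).X₂ :=
      ModuleCat.projective_of_categoryTheory_projective _
    refine (ext_one_subsingleton_iff hS _).2 ?_
    intro φ
    obtain ⟨ψ, hψ⟩ := multCrv_exists_extension R n hn (LinearMap.ker π).subtype π
      (LinearMap.ker π).injective_subtype hπ (LinearMap.exact_subtype_ker_map π) φ.hom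
    refine ⟨ModuleCat.ofHom ψ, ?_⟩
    ext x
    exact LinearMap.congr_fun hψ x
  | succ i ih =>
    intro M _ _ _ _ _ _
    obtain ⟨r, π, hπ⟩ := Module.Finite.exists_fin' (MultCrv.Rn R n) M
    have hS := LinearMap.shortExact_shortComplexKer hπ
    haveI : Projective (π.shortComplexKer).X₂ :=
      ModuleCat.projective_of_categoryTheory_projective _
    haveI := multCrv_isTorsionFree_submodule_pi R n r (LinearMap.ker π)
    haveI := multCrv_finite_submodule_pi R n r (LinearMap.ker π)
    exact ext_subsingleton_succ_of_shortExact hS _ (i + 1) (ih ↥(LinearMap.ker π))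

end Vanishing

end Groth.Agent.Lib.Helper89
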