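import Groth.Agent.Lib.Helper89.MultCrvExt
import Mathlib.LinearAlgebra.Dual.Lemmas
import Mathlib.LinearAlgebra.FreeModule.Finite.Basic

/-!
# More on `Ext` groups and duals over `A = R[X]/(X^n)` (MultCrv block), by helper89
-/

set_option autoImplicit false
universe u

namespace Groth.Agent.Lib.Helper89

open MultCrv CategoryTheory Abelian

section Factor

variable (R : Type u) [CommRing R] [IsDomain R] [IsPrincipalIdealRing R] (n : ℕ)

/-- For `M` finitely generated and `R`-torsion-free, multiplication by `z^(n-1)` on `M` factors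
through a finitely generated free `A`-module. -/
theorem multCrv_zpow_factors (M : Type u) [AddCommGroup M] [Module (MultCrv.Rn R n) M] [Module R M]
    [IsScalarTower R (MultCrv.Rn R n) M] [Module.Finite R M] [Module.IsTorsionFree R M] :
    ∃ (ι : Type u) (_ : Fintype ι) (α : M →ₗ[MultCrv.Rn R n] (ι → MultCrv.Rn R n))
      (β : (ι → MultCrv.Rn R n) →ₗ[MultCrv.Rn R n] M),
      ∀ m, β (α m) = (MultCrv.z R n) ^ (n - 1) • m := by
  classical
  rcases Nat.eq_zero_or_pos n with h0 | hpos
  · subst h0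
    refine ⟨PEmpty, inferInstance, 0, 0, fun m => ?_⟩
    have : (MultCrv.z R 0) ^ (0 - 1) = 0 := by
      have h1 := multCrv_z_pow_n R 0
      rw [pow_zero] at h1
      rw [← mul_one (MultCrv.z R 0 ^ (0 - 1)), h1, mul_zero]
    rw [this]
    exact (zero_smul (MultCrv.Rn R 0) m).symm
  set T : M →ₗ[R] M :=
    (((MultCrv.z R n) ^ (n - 1)) • (LinearMap.id : M →ₗ[MultCrv.Rn R n] M)).restrictScalars R with hT
  have hTapp : ∀ m, T m = (MultCrv.z R n) ^ (n - 1) • m := fun m => rfl
  set W : Submodule R M := LinearMap.range T with hW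
  have hWfin : Module.Finite R ↥W := inferInstance
  have hWfree : Module.Free R ↥W := Module.free_of_finite_type_torsion_free'
  let ι := Module.Free.ChooseBasisIndex R ↥W
  let b : Module.Basis ι R ↥W := Module.Free.chooseBasis R ↥W
  have hfinι : Fintype ι := inferInstance
  let τ : M →ₗ[R] ↥W := T.rangeRestrict
  have hτ : ∀ m, ((τ m : ↥W) : M) = (MultCrv.z R n) ^ (n - 1) • m := fun m => rfl
  have hτz : ∀ m, τ ((MultCrv.z R n) • m) = 0 := by
    intro m
    apply Subtype.ext
    rw [hτ, smul_smul, ← pow_succ, show n - 1 + 1 = n by omega, multCrv_z_pow_n]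
    exact zero_smul (MultCrv.Rn R n) m
  have hlift : ∀ j : ι, ∃ m : M, (MultCrv.z R n) ^ (n - 1) • m = ((b j : ↥W) : M) := by
    intro j
    obtain ⟨m, hm⟩ := (b j).2
    exact ⟨m, hm⟩
  choose mj hmj using hlift
  let α₀ : M →ₗ[R] (ι → MultCrv.Rn R n) :=
    LinearMap.pi fun j =>
      (LinearMap.toSpanSingleton R (MultCrv.Rn R n) ((MultCrv.z R n) ^ (n - 1))) ∘ₗ (b.coord j) ∘ₗ τ
  have hα₀ : ∀ m j, α₀ m j = (b.repr (τ m) j) • (MultCrv.z R n) ^ (n - 1) := fun m j => rfl
  have hcomm : ∀ m, α₀ ((MultCrv.z R n) • m) = (MultCrv.z R n) • α₀ m := by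
    intro m
    ext j
    rw [hα₀, hτz, map_zero, Finsupp.zero_apply, zero_smul, Pi.smul_apply, hα₀, smul_comm,
      smul_eq_mul, ← pow_succ', show n - 1 + 1 = n by omega, multCrv_z_pow_n, smul_zero]
  let α : M →ₗ[MultCrv.Rn R n] (ι → MultCrv.Rn R n) :=
    { toFun := fun m => α₀ m
      map_add' := fun _ _ => map_add _ _ _
      map_smul' := fun a m => multCrv_map_smul_of_commutes_z R n α₀ hcomm a m }
  refine ⟨ι, hfinι, α, Fintype.linearCombination (MultCrv.Rn R n) mj, fun m => ?_⟩
  rw [Fintype.linearCombination_apply]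
  have h1 : ∀ j, (α m j) • mj j = (b.repr (τ m) j) • ((b j : ↥W) : M) := by
    intro j
    change (α₀ m j) • mj j = _
    rw [hα₀, smul_assoc, hmj]
  rw [Finset.sum_congr rfl fun j _ => h1 j, ← hτ]
  conv_rhs => rw [← b.sum_repr (τ m)]
  rw [Submodule.coe_sum]
  rfl

end Factor

section Kill

variable (R : Type u) [CommRing R] [IsDomain R] [IsDiscreteValuationRing R] (n : ℕ)

/-- `z^(n-1)` kills `Ext^i_A(M, N)` for `i ≥ 1` when `M` is finitely generated, `R`-torsion-free. -/
theorem multCrv_zpow_smul_ext_eq_zero (M N : Type u) [AddCommGroup M]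
    [Module (MultCrv.Rn R n) M] [Module R M] [IsScalarTower R (MultCrv.Rn R n) M]
    [Module.Finite (MultCrv.Rn R n) M] [Module.IsTorsionFree R M]
    [AddCommGroup N] [Module (MultCrv.Rn R n) N] {i : ℕ}
    (x : Ext.{u} (ModuleCat.of (MultCrv.Rn R n) M) (ModuleCat.of (MultCrv.Rn R n) N) (i + 1)) :
    (MultCrv.z R n ^ (n - 1)) • x = 0 := by
  have hfin : Module.Finite R M := multCrv_finite_over_base R n M
  obtain ⟨ι, _, α, β, hαβ⟩ := multCrv_zpow_factors R n M
  have : Projective (ModuleCat.of (MultCrv.Rn R n) (ι → MultCrv.Rn R n)) :=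
    ModuleCat.projective_of_categoryTheory_projective _
  refine ext_smul_eq_zero_of_factors (MultCrv.z R n ^ (n - 1)) (ModuleCat.ofHom α)
    (ModuleCat.ofHom β) ?_ x
  ext m
  exact hαβ m

/-- `z^(n-1)` kills `Ext^i_A(M, N)` for `i ≥ 2` and `M` finitely generated. -/
theorem multCrv_zpow_smul_ext_eq_zero_of_two_le (M N : Type u) [AddCommGroup M]
    [Module (MultCrv.Rn R n) M] [Module.Finite (MultCrv.Rn R n) M]
    [AddCommGroup N] [Module (MultCrv.Rn R n) N] {i : ℕ}
    (x : Ext.{u} (ModuleCat.of (MultCrv.Rn R n) M) (ModuleCat.of (MultCrv.Rn R n) N) (i + 1 + 1)) :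
    (MultCrv.z R n ^ (n - 1)) • x = 0 := by
  obtain ⟨r, π, hπ⟩ := Module.Finite.exists_fin' (MultCrv.Rn R n) M
  have hS := LinearMap.shortExact_shortComplexKer hπ
  have : Projective (π.shortComplexKer).X₂ :=
    ModuleCat.projective_of_categoryTheory_projective _
  have := multCrv_isTorsionFree_submodule_pi R n r (LinearMap.ker π)
  have := multCrv_finite_submodule_pi R n r (LinearMap.ker π)
  obtain ⟨y, rfl⟩ := precomp_extClass_surjective_of_projective_X₂
    (ModuleCat.of (MultCrv.Rn R n) N) hS (i + 1) x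
  change (MultCrv.z R n ^ (n - 1)) • hS.extClass.comp y (add_comm 1 (i + 1)) = 0
  rw [← Ext.comp_smul, multCrv_zpow_smul_ext_eq_zero R n ↥(LinearMap.ker π) N y, Ext.comp_zero]

end Kill

end Groth.Agent.Lib.Helper89
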