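import Groth.Agent.Lib.Helper89.MultCrvExt2

/-!
# Torsion-freeness from `Ext^1` vanishing, and reflexivity over `A = R[X]/(X^n)`, by helper89
-/

set_option autoImplicit false
universe u

namespace Groth.Agent.Lib.Helper89

open MultCrv CategoryTheory Abelian

section Converse

variable (R : Type u) [CommRing R] [IsDomain R] [IsDiscreteValuationRing R] (n : ℕ)

/-- If every `R`-linear form on `K ⊆ F` extends to `F` (with `K` finite free), then `F/K`-type
quotients are torsion-free: stated for a surjection `π : F → M` with kernel `K`. -/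
theorem multCrv_isTorsionFree_of_forms_extend {F M : Type u} [AddCommGroup F] [Module R F]
    [Module.IsTorsionFree R F] [AddCommGroup M] [Module R M] (π : F →ₗ[R] M)
    (hπ : Function.Surjective π) [Module.Finite R ↥(LinearMap.ker π)]
    (h : ∀ μ' : ↥(LinearMap.ker π) →ₗ[R] R, ∃ μ : F →ₗ[R] R,
      μ ∘ₗ (LinearMap.ker π).subtype = μ') : Module.IsTorsionFree R M := by
  classical
  have hKfree : Module.Free R ↥(LinearMap.ker π) := Module.free_of_finite_type_torsion_free'
  let ι := Module.Free.ChooseBasisIndex R ↥(LinearMap.ker π)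
  let b : Module.Basis ι R ↥(LinearMap.ker π) := Module.Free.chooseBasis R ↥(LinearMap.ker π)
  have hfinι : Fintype ι := inferInstance
  choose lam hlam using fun j : ι => h (b.coord j)
  let ρ : F →ₗ[R] ↥(LinearMap.ker π) := ∑ j, (lam j).smulRight (b j)
  have hρ : ∀ k : ↥(LinearMap.ker π), ρ (k : F) = k := by
    intro k
    change (∑ j, (lam j).smulRight (b j)) (k : F) = k
    rw [LinearMap.sum_apply]
    conv_rhs => rw [← b.sum_repr k]
    refine Finset.sum_congr rfl fun j _ => ?_
    rw [LinearMap.smulRight_apply]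
    congr 1
    exact LinearMap.congr_fun (hlam j) k
  rw [Module.isTorsionFree_iff_smul_eq_zero]
  intro r m hrm
  by_cases hr : r = 0
  · exact Or.inl hr
  right
  obtain ⟨x, rfl⟩ := hπ m
  have hx : r • x ∈ LinearMap.ker π := by
    rw [LinearMap.mem_ker, map_smul]; exact hrm
  have h1 : ((ρ (r • x) : ↥(LinearMap.ker π)) : F) = r • x := by
    have := hρ ⟨r • x, hx⟩
    exact congrArg Subtype.val this
  rw [map_smul, Submodule.coe_smul] at h1
  have h2 : r • (((ρ x : ↥(LinearMap.ker π)) : F) - x) = 0 := by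
    rw [smul_sub, h1, sub_self]
  rcases smul_eq_zero.1 h2 with h3 | h3
  · exact absurd h3 hr
  · have : x = ((ρ x : ↥(LinearMap.ker π)) : F) := (sub_eq_zero.1 h3).symm
    have hxk : x ∈ LinearMap.ker π := this ▸ (ρ x).2
    exact hxk

/-- `Ext^1_A(M, A) = 0` forces `M` to be `R`-torsion-free. -/
theorem multCrv_isTorsionFree_of_ext_one (hn : 1 ≤ n) (M : Type u) [AddCommGroup M]
    [Module (MultCrv.Rn R n) M] [Module R M] [IsScalarTower R (MultCrv.Rn R n) M]
    [Module.Finite (MultCrv.Rn R n) M]
    (h : Subsingleton (Ext.{u} (ModuleCat.of (MultCrv.Rn R n) M)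
      (ModuleCat.of (MultCrv.Rn R n) (MultCrv.Rn R n)) 1)) : Module.IsTorsionFree R M := by
  obtain ⟨r, π, hπ⟩ := Module.Finite.exists_fin' (MultCrv.Rn R n) M
  have hS := LinearMap.shortExact_shortComplexKer hπ
  have : Projective (π.shortComplexKer).X₂ :=
    ModuleCat.projective_of_categoryTheory_projective _
  have hext := (ext_one_subsingleton_iff hS (ModuleCat.of (MultCrv.Rn R n) (MultCrv.Rn R n))).1 h
  have hA : ∀ φ : ↥(LinearMap.ker π) →ₗ[MultCrv.Rn R n] MultCrv.Rn R n,
      ∃ ψ : (Fin r → MultCrv.Rn R n) →ₗ[MultCrv.Rn R n] MultCrv.Rn R n,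
        ψ ∘ₗ (LinearMap.ker π).subtype = φ := by
    intro φ
    obtain ⟨ψ, hψ⟩ := hext (ModuleCat.ofHom φ)
    refine ⟨ψ.hom, ?_⟩
    have := congrArg ModuleCat.Hom.hom hψ
    exact this
  have hR := (multCrv_dualMap_surjective_iff R n hn (LinearMap.ker π).subtype).1 hA
  have := multCrv_finite_submodule_pi R n r (LinearMap.ker π)
  have hKfin : Module.Finite R ↥(LinearMap.ker π) :=
    multCrv_finite_over_base R n ↥(LinearMap.ker π)
  have hKfin' : Module.Finite R ↥(LinearMap.ker (π.restrictScalars R)) := hKfin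
  exact multCrv_isTorsionFree_of_forms_extend R (π.restrictScalars R) hπ hR

end Converse

end Groth.Agent.Lib.Helper89
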