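import Groth.Agent.Lib.Helper89.MultCrvRank
import Mathlib.LinearAlgebra.FreeModule.PID

/-!
# Torsion-freeness / freeness helpers (MultCrv block), by helper89
-/

set_option autoImplicit false
universe u v w

namespace Groth.Agent.Lib.Helper89

/-- Quotient of a module by a "saturated" submodule is torsion-free. -/
theorem quot_torsionFree_of_saturated (R : Type u) (A : Type v) (M : Type w) [CommRing R] [IsDomain R]
    [CommRing A] [AddCommGroup M] [Module A M] [Module R M] [SMul R A] [IsScalarTower R A M]
    (q : Submodule A M) (h : ∀ (r : R) (u : M), r ≠ 0 → r • u ∈ q → u ∈ q) :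
    Module.IsTorsionFree R (M ⧸ q) := by
  rw [Module.isTorsionFree_iff_smul_eq_zero]
  intro r x hrx
  by_cases hr : r = 0
  · left; exact hr
  right
  obtain ⟨u, rfl⟩ := Submodule.mkQ_surjective _ x
  rw [Submodule.mkQ_apply] at hrx ⊢
  rw [← Submodule.Quotient.mk_smul, Submodule.Quotient.mk_eq_zero] at hrx
  rw [Submodule.Quotient.mk_eq_zero]
  exact h r u hr hrx

/-- Submodule of a Noetherian module is finite (scalars restricted). -/
theorem sub_finite_restrict (R : Type u) (A : Type v) (M : Type w) [CommRing R]
    [CommRing A] [AddCommGroup M] [Module A M] [Module R M] [SMul R A] [IsScalarTower R A M]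
    [IsNoetherian R M] (p : Submodule A M) : Module.Finite R ↥p :=
  Module.Finite.of_injective (p.subtype.restrictScalars R) p.injective_subtype

end Groth.Agent.Lib.Helper89
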