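import Groth.Agent.Lib.Helper89.MultCrvRank

/-!
# The Frobenius structure of `A = R[X]/(X^n)` over `R` (MultCrv block), by helper89

`multCrvEps : A →ₗ[R] R` is the coefficient of `z^(n-1)`; `multCrvFrob μ : M →ₗ[A] A` is the
`A`-linear form attached to an `R`-linear form `μ : M →ₗ[R] R`; they set up
`Hom_A(M, A) ≃ Hom_R(M, R)`.
-/

set_option autoImplicit false
universe u v w

namespace Groth.Agent.Lib.Helper89

open MultCrv Polynomial

section
variable (R : Type u) [CommRing R] (n : ℕ)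

/-- The coefficient of `z^(n-1)`, an `R`-linear form on `R[X]/(X^n)`. -/
noncomputable def multCrvEps : MultCrv.Rn R n →ₗ[R] R :=
  (Polynomial.lcoeff R (n - 1)) ∘ₗ
    (AdjoinRoot.modByMonicHom (Polynomial.monic_X_pow n) : MultCrv.Rn R n →ₗ[R] R[X])

theorem multCrvEps_mk (hn : 1 ≤ n) (p : R[X]) :
    multCrvEps R n (Ideal.Quotient.mk (Ideal.span {(X : R[X]) ^ n}) p) = p.coeff (n - 1) := by
  have h1 : multCrvEps R n (Ideal.Quotient.mk (Ideal.span {(X : R[X]) ^ n}) p) =
      (p %ₘ (X ^ n)).coeff (n - 1) := rfl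
  rw [h1]
  conv_rhs => rw [← Polynomial.modByMonic_add_div p (X ^ n : R[X])]
  rw [Polynomial.coeff_add, Polynomial.coeff_X_pow_mul', if_neg (by omega), add_zero]

theorem multCrv_mk_X_pow (k : ℕ) :
    Ideal.Quotient.mk (Ideal.span {(X : R[X]) ^ n}) (X ^ k) = (MultCrv.z R n) ^ k := by
  rw [map_pow]

theorem multCrv_smul_z_pow (r : R) (k : ℕ) :
    r • (MultCrv.z R n) ^ k =
      Ideal.Quotient.mk (Ideal.span {(X : R[X]) ^ n}) (Polynomial.monomial k r) := by
  rw [← Polynomial.C_mul_X_pow_eq_monomial, map_mul, map_pow]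
  exact Algebra.smul_def r ((MultCrv.z R n) ^ k)

theorem multCrvEps_z_pow (hn : 1 ≤ n) (k : ℕ) :
    multCrvEps R n ((MultCrv.z R n) ^ k) = if k = n - 1 then 1 else 0 := by
  rw [← multCrv_mk_X_pow, multCrvEps_mk R n hn, Polynomial.coeff_X_pow]
  simp only [eq_comm]

/-- Every element of `R[X]/(X^n)` is recovered from the values of `ε` on its `z`-multiples. -/
theorem multCrv_sum_eps (hn : 1 ≤ n) (a : MultCrv.Rn R n) :
    ∑ k ∈ Finset.range n, (multCrvEps R n ((MultCrv.z R n) ^ (n - 1 - k) * a)) • (MultCrv.z R n) ^ k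
      = a := by
  rcases subsingleton_or_nontrivial R with hR | hR
  · have : Subsingleton (MultCrv.Rn R n) := by
      have : (1 : MultCrv.Rn R n) = 0 := by
        have h1 : (1 : R) = 0 := Subsingleton.elim _ _
        have : (1 : MultCrv.Rn R n) = algebraMap R (MultCrv.Rn R n) 1 := (map_one _).symm
        rw [this, h1, map_zero]
      exact subsingleton_of_zero_eq_one this.symm
    exact Subsingleton.elim _ _
  have hg : (X ^ n : R[X]).Monic := Polynomial.monic_X_pow n
  set p : R[X] := (AdjoinRoot.modByMonicHom hg : MultCrv.Rn R n →ₗ[R] R[X]) a with hp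
  have hpa : Ideal.Quotient.mk (Ideal.span {(X : R[X]) ^ n}) p = a :=
    AdjoinRoot.mk_leftInverse hg a
  have hdeg : p.natDegree < n := by
    have hp' : p = (p %ₘ (X ^ n)) := by
      conv_lhs => rw [hp, ← hpa]
      rfl
    have h2 := Polynomial.natDegree_modByMonic_lt p hg (by
      intro h
      have := congrArg Polynomial.natDegree h
      rw [Polynomial.natDegree_X_pow, Polynomial.natDegree_one] at this
      omega)
    rw [Polynomial.natDegree_X_pow] at h2
    rw [hp']; exact h2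
  rw [← hpa]
  have key : ∀ k ∈ Finset.range n,
      (multCrvEps R n ((MultCrv.z R n) ^ (n - 1 - k) *
        Ideal.Quotient.mk (Ideal.span {(X : R[X]) ^ n}) p)) • (MultCrv.z R n) ^ k =
      Ideal.Quotient.mk (Ideal.span {(X : R[X]) ^ n}) (Polynomial.monomial k (p.coeff k)) := by
    intro k hk
    rw [Finset.mem_range] at hk
    rw [← multCrv_mk_X_pow, ← map_mul, multCrvEps_mk R n hn, Polynomial.coeff_X_pow_mul',
      if_pos (by omega), multCrv_smul_z_pow]
    congr 3
    omega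
  rw [Finset.sum_congr rfl key, ← map_sum, ← Polynomial.as_sum_range' p n hdeg]

end

section
variable (R : Type u) [CommRing R] (n : ℕ)
variable {M : Type v} [AddCommGroup M] [Module (MultCrv.Rn R n) M] [Module R M]
  [IsScalarTower R (MultCrv.Rn R n) M]
variable {N : Type w} [AddCommGroup N] [Module (MultCrv.Rn R n) N] [Module R N]
  [IsScalarTower R (MultCrv.Rn R n) N]

/-- An `R`-linear map commuting with `z` is `R[X]/(X^n)`-linear. -/
theorem multCrv_map_smul_of_commutes_z (ψ : M →ₗ[R] N)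
    (h : ∀ m, ψ ((MultCrv.z R n) • m) = (MultCrv.z R n) • ψ m) (a : MultCrv.Rn R n) (m : M) :
    ψ (a • m) = a • ψ m := by
  have hpow : ∀ (k : ℕ) (m : M), ψ ((MultCrv.z R n) ^ k • m) = (MultCrv.z R n) ^ k • ψ m := by
    intro k
    induction k with
    | zero => intro m; simp
    | succ k ih =>
      intro m
      rw [pow_succ, mul_smul, ih, h, mul_smul]
  obtain ⟨p, rfl⟩ := Ideal.Quotient.mk_surjective a
  induction p using Polynomial.induction_on' with
  | add p q hp hq => rw [map_add, add_smul, add_smul, map_add, hp, hq]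
  | monomial k r =>
    rw [← multCrv_smul_z_pow, smul_assoc, smul_assoc, map_smul, hpow]

/-- The `R[X]/(X^n)`-linear form attached to an `R`-linear form. -/
noncomputable def multCrvFrobAux (μ : M →ₗ[R] R) : M →ₗ[R] MultCrv.Rn R n where
  toFun m := ∑ k ∈ Finset.range n, (μ ((MultCrv.z R n) ^ (n - 1 - k) • m)) • (MultCrv.z R n) ^ k
  map_add' m m' := by
    simp only [smul_add, map_add, add_smul, Finset.sum_add_distrib]
  map_smul' r m := by
    simp only [RingHom.id_apply, Finset.smul_sum]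
    refine Finset.sum_congr rfl fun k _ => ?_
    rw [smul_comm _ r m, map_smul, smul_assoc]

theorem multCrvFrobAux_commutes (μ : M →ₗ[R] R) (m : M) :
    multCrvFrobAux R n μ ((MultCrv.z R n) • m) = (MultCrv.z R n) • multCrvFrobAux R n μ m := by
  rcases Nat.eq_zero_or_pos n with h0 | hpos
  · subst h0
    simp [multCrvFrobAux]
  change ∑ k ∈ Finset.range n, (μ ((MultCrv.z R n) ^ (n - 1 - k) • (MultCrv.z R n) • m)) •
      (MultCrv.z R n) ^ k =
    (MultCrv.z R n) • ∑ k ∈ Finset.range n, (μ ((MultCrv.z R n) ^ (n - 1 - k) • m)) •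
      (MultCrv.z R n) ^ k
  obtain ⟨d, rfl⟩ : ∃ d, n = d + 1 := ⟨n - 1, by omega⟩
  rw [Finset.sum_range_succ', Finset.smul_sum, Finset.sum_range_succ]
  have h1 : (MultCrv.z R (d + 1)) ^ (d + 1 - 1 - 0) • (MultCrv.z R (d + 1)) • m = 0 := by
    rw [smul_smul, ← pow_succ, show d + 1 - 1 - 0 + 1 = d + 1 by omega, multCrv_z_pow_n]
    exact zero_smul (MultCrv.Rn R (d + 1)) m
  rw [h1, map_zero, zero_smul, add_zero]
  have h2 : (MultCrv.z R (d + 1)) • (μ ((MultCrv.z R (d + 1)) ^ (d + 1 - 1 - d) • m)) •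
      (MultCrv.z R (d + 1)) ^ d = 0 := by
    rw [smul_comm, smul_eq_mul, ← pow_succ', multCrv_z_pow_n, smul_zero]
  rw [h2, add_zero]
  refine Finset.sum_congr rfl fun k hk => ?_
  rw [Finset.mem_range] at hk
  rw [smul_smul, ← pow_succ, show d + 1 - 1 - (k + 1) + 1 = d + 1 - 1 - k by omega,
    smul_comm (MultCrv.z R (d + 1)), smul_eq_mul, ← pow_succ']

/-- The `R[X]/(X^n)`-linear form attached to an `R`-linear form. -/
noncomputable def multCrvFrob (μ : M →ₗ[R] R) : M →ₗ[MultCrv.Rn R n] MultCrv.Rn R n where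
  toFun m := multCrvFrobAux R n μ m
  map_add' _ _ := map_add _ _ _
  map_smul' a m := multCrv_map_smul_of_commutes_z R n (multCrvFrobAux R n μ)
    (multCrvFrobAux_commutes R n μ) a m

theorem multCrvFrob_apply (μ : M →ₗ[R] R) (m : M) :
    multCrvFrob R n μ m =
      ∑ k ∈ Finset.range n, (μ ((MultCrv.z R n) ^ (n - 1 - k) • m)) • (MultCrv.z R n) ^ k := rfl

theorem multCrvEps_frob (hn : 1 ≤ n) (μ : M →ₗ[R] R) (m : M) :
    multCrvEps R n (multCrvFrob R n μ m) = μ m := by
  rw [multCrvFrob_apply, map_sum]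
  simp only [map_smul, multCrvEps_z_pow R n hn, smul_eq_mul, mul_ite, mul_one, mul_zero]
  rw [Finset.sum_ite_eq' (Finset.range n) (n - 1)]
  rw [if_pos (Finset.mem_range.2 (by omega)), Nat.sub_self, pow_zero, one_smul]

theorem multCrvFrob_eps_comp (hn : 1 ≤ n) (φ : M →ₗ[MultCrv.Rn R n] MultCrv.Rn R n) :
    multCrvFrob R n ((multCrvEps R n) ∘ₗ (φ.restrictScalars R)) = φ := by
  ext m
  rw [multCrvFrob_apply]
  simp only [LinearMap.comp_apply, LinearMap.restrictScalars_apply, map_smul, smul_eq_mul]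
  exact multCrv_sum_eps R n hn (φ m)

theorem multCrvFrob_comp {M' : Type w} [AddCommGroup M'] [Module (MultCrv.Rn R n) M'] [Module R M']
    [IsScalarTower R (MultCrv.Rn R n) M'] (μ : M →ₗ[R] R) (f : M' →ₗ[MultCrv.Rn R n] M) :
    multCrvFrob R n (μ ∘ₗ (f.restrictScalars R)) = (multCrvFrob R n μ) ∘ₗ f := by
  ext m
  simp only [multCrvFrob_apply, LinearMap.comp_apply, LinearMap.restrictScalars_apply, map_smul]

theorem multCrvFrob_add (μ μ' : M →ₗ[R] R) :
    multCrvFrob R n (μ + μ') = multCrvFrob R n μ + multCrvFrob R n μ' := by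
  ext m
  simp only [multCrvFrob_apply, LinearMap.add_apply, add_smul, Finset.sum_add_distrib]

theorem multCrvFrob_smul_apply (r : R) (μ : M →ₗ[R] R) (m : M) :
    multCrvFrob R n (r • μ) m = r • multCrvFrob R n μ m := by
  simp only [multCrvFrob_apply, LinearMap.smul_apply, Finset.smul_sum, smul_eq_mul, mul_smul]

/-- Extension of forms along `f` over `A = R[X]/(X^n)` is equivalent to extension over `R`. -/
theorem multCrv_dualMap_surjective_iff (hn : 1 ≤ n)
    {M' : Type w} [AddCommGroup M'] [Module (MultCrv.Rn R n) M'] [Module R M']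
    [IsScalarTower R (MultCrv.Rn R n) M'] (f : M' →ₗ[MultCrv.Rn R n] M) :
    (∀ φ : M' →ₗ[MultCrv.Rn R n] MultCrv.Rn R n, ∃ ψ : M →ₗ[MultCrv.Rn R n] MultCrv.Rn R n,
        ψ ∘ₗ f = φ) ↔
    (∀ μ' : M' →ₗ[R] R, ∃ μ : M →ₗ[R] R, μ ∘ₗ (f.restrictScalars R) = μ') := by
  constructor
  · intro h μ'
    obtain ⟨ψ, hψ⟩ := h (multCrvFrob R n μ')
    refine ⟨(multCrvEps R n) ∘ₗ (ψ.restrictScalars R), ?_⟩
    ext m
    have := LinearMap.congr_fun hψ m
    simp only [LinearMap.comp_apply, LinearMap.restrictScalars_apply] at this ⊢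
    rw [this, multCrvEps_frob R n hn]
  · intro h φ
    obtain ⟨μ, hμ⟩ := h ((multCrvEps R n) ∘ₗ (φ.restrictScalars R))
    refine ⟨multCrvFrob R n μ, ?_⟩
    rw [← multCrvFrob_comp, hμ, multCrvFrob_eps_comp R n hn]

end

end Groth.Agent.Lib.Helper89
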