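import Groth.Agent.Lib.Helper89.MultCrvFrob
import Mathlib.RingTheory.Nilpotent.Basic
import Mathlib.Algebra.Module.Equiv.Basic
import Mathlib.Algebra.Module.Projective

/-!
# Quasi-free modules over `A = R[X]/(X^n)`: kernels of minimal free covers (MultCrv block), helper89
-/

set_option autoImplicit false
universe u v

namespace Groth.Agent.Lib.Helper89

open MultCrv Polynomial

section Ann
variable (R : Type u) [CommRing R] (n : ℕ)

/-- the annihilator of `z^e` in `R[X]/(X^n)` is `(z^(n-e))`. -/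
theorem multCrv_z_pow_mul_eq_zero_iff {e : ℕ} (he : e ≤ n) (a : MultCrv.Rn R n) :
    (MultCrv.z R n) ^ e * a = 0 ↔ a ∈ Ideal.span {(MultCrv.z R n) ^ (n - e)} := by
  constructor
  · intro h
    obtain ⟨p, rfl⟩ := Ideal.Quotient.mk_surjective a
    rw [← multCrv_mk_X_pow, ← map_mul, Ideal.Quotient.eq_zero_iff_mem,
      Ideal.mem_span_singleton] at h
    obtain ⟨q, hq⟩ := h
    have h1 : (X : R[X]) ^ e * p = X ^ e * (X ^ (n - e) * q) := by
      rw [hq, ← mul_assoc, ← pow_add, Nat.add_sub_cancel' he]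
    have h2 : p = X ^ (n - e) * q := (Polynomial.monic_X_pow e).isRegular.left h1
    rw [h2, map_mul, multCrv_mk_X_pow]
    exact Ideal.mul_mem_right _ _ (Ideal.mem_span_singleton_self _)
  · intro h
    obtain ⟨b, rfl⟩ := Ideal.mem_span_singleton'.1 h
    rw [mul_comm b, ← mul_assoc, ← pow_add, Nat.add_sub_cancel' he, multCrv_z_pow_n, zero_mul]

end Ann

section Unipotent
variable (R : Type u) [CommRing R] (n : ℕ)
variable {P : Type v} [AddCommGroup P] [Module (MultCrv.Rn R n) P]

/-- an endomorphism congruent to the identity modulo `z` is bijective. -/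
theorem multCrv_bijective_of_sub_id_mem_filt (u : P →ₗ[MultCrv.Rn R n] P)
    (h : ∀ x, u x - x ∈ MultCrv.filt R n P 1) : Function.Bijective u := by
  set w : Module.End (MultCrv.Rn R n) P := u - 1 with hw
  have hw1 : ∀ x, w x ∈ MultCrv.filt R n P 1 := fun x => h x
  have hwk : ∀ (k : ℕ) (x : P), (w ^ k) x ∈ MultCrv.filt R n P k := by
    intro k
    induction k with
    | zero =>
      intro x
      rw [multCrv_mem_filt_iff]
      exact ⟨x, by rw [pow_zero, one_smul]; rfl⟩
    | succ k ih =>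
      intro x
      rw [pow_succ', Module.End.mul_apply]
      obtain ⟨y, hy⟩ := (multCrv_mem_filt_iff R n k _).1 (ih x)
      rw [← hy, map_smul]
      obtain ⟨y', hy'⟩ := (multCrv_mem_filt_iff R n 1 _).1 (hw1 y)
      rw [multCrv_mem_filt_iff]
      exact ⟨y', by rw [← hy', pow_one, smul_smul, ← pow_succ]⟩
  have hnil : IsNilpotent w := by
    refine ⟨n, ?_⟩
    ext x
    obtain ⟨y, hy⟩ := (multCrv_mem_filt_iff R n n _).1 (hwk n x)
    rw [← hy, multCrv_z_pow_n]
    exact zero_smul (MultCrv.Rn R n) y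
  have hunit : IsUnit (1 + w) := hnil.isUnit_one_add
  have huw : (1 : Module.End (MultCrv.Rn R n) P) + w = u := by rw [hw]; abel
  rw [huw] at hunit
  exact (Module.End.isUnit_iff u).1 hunit

end Unipotent


section Standard
variable (R : Type u) [CommRing R] (n : ℕ) (m : Fin n → ℕ)

/-- the standard cover of the model quasi-free module by a free module. -/
noncomputable def qfCover : ((Σ i : Fin n, Fin (m i)) → MultCrv.Rn R n) →ₗ[MultCrv.Rn R n]
    ((i : Fin n) → (Fin (m i) → MultCrv.Oi R n (i.1 + 1))) :=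
  LinearMap.pi fun i => LinearMap.pi fun j =>
    (Submodule.mkQ (Ideal.span {MultCrv.z R n ^ (i.1 + 1)})) ∘ₗ (LinearMap.proj ⟨i, j⟩)

theorem qfCover_apply (g : (Σ i : Fin n, Fin (m i)) → MultCrv.Rn R n) (i : Fin n) (j : Fin (m i)) :
    qfCover R n m g i j = Ideal.Quotient.mk (Ideal.span {MultCrv.z R n ^ (i.1 + 1)}) (g ⟨i, j⟩) :=
  rfl

theorem qfCover_mem_ker (g : (Σ i : Fin n, Fin (m i)) → MultCrv.Rn R n) :
    g ∈ LinearMap.ker (qfCover R n m) ↔
      ∀ p : (Σ i : Fin n, Fin (m i)), g p ∈ Ideal.span {MultCrv.z R n ^ (p.1.1 + 1)} := by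
  rw [LinearMap.mem_ker]
  constructor
  · intro h p
    have := congrFun (congrFun h p.1) p.2
    rw [qfCover_apply] at this
    exact Ideal.Quotient.eq_zero_iff_mem.1 this
  · intro h
    ext i j
    rw [qfCover_apply]
    exact Ideal.Quotient.eq_zero_iff_mem.2 (h ⟨i, j⟩)

theorem qfCover_surjective : Function.Surjective (qfCover R n m) := by
  intro t
  choose g hg using fun p : (Σ i : Fin n, Fin (m i)) => Ideal.Quotient.mk_surjective (t p.1 p.2)
  refine ⟨g, ?_⟩
  ext i j
  rw [qfCover_apply]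
  exact hg ⟨i, j⟩

/-- the standard cover, with values in the model module. -/
noncomputable def qfCoverM : ((Σ i : Fin n, Fin (m i)) → MultCrv.Rn R n) →ₗ[MultCrv.Rn R n]
    MultCrv.QFModel R n m :=
  (MultCrv.QFModel.equivPi R n m).symm.toLinearMap ∘ₗ qfCover R n m

theorem qfCoverM_ker : LinearMap.ker (qfCoverM R n m) = LinearMap.ker (qfCover R n m) := by
  unfold qfCoverM
  exact LinearEquiv.ker_comp _ _

theorem qfCoverM_surjective : Function.Surjective (qfCoverM R n m) := by
  unfold qfCoverM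
  rw [LinearMap.coe_comp]
  exact (MultCrv.QFModel.equivPi R n m).symm.surjective.comp (qfCover_surjective R n m)

theorem qfCoverM_mem_filt (g : (Σ i : Fin n, Fin (m i)) → MultCrv.Rn R n)
    (h : qfCoverM R n m g ∈ MultCrv.filt R n (MultCrv.QFModel R n m) 1) :
    g ∈ MultCrv.filt R n ((Σ i : Fin n, Fin (m i)) → MultCrv.Rn R n) 1 := by
  obtain ⟨t, ht⟩ := (multCrv_mem_filt_iff R n 1 _).1 h
  obtain ⟨g', rfl⟩ := qfCoverM_surjective R n m t
  have hker : g - (MultCrv.z R n) ^ 1 • g' ∈ LinearMap.ker (qfCoverM R n m) := by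
    rw [LinearMap.mem_ker, map_sub, map_smul, ht, sub_self]
  rw [qfCoverM_ker, qfCover_mem_ker] at hker
  have hc : ∀ p : (Σ i : Fin n, Fin (m i)), ∃ c : MultCrv.Rn R n, (MultCrv.z R n) ^ 1 * c = g p := by
    intro p
    obtain ⟨b, hb⟩ := Ideal.mem_span_singleton'.1 (hker p)
    refine ⟨g' p + (MultCrv.z R n) ^ p.1.1 * b, ?_⟩
    have h1 : g p = (MultCrv.z R n) ^ 1 * g' p + b * (MultCrv.z R n) ^ (p.1.1 + 1) := by
      rw [hb]
      simp only [Pi.sub_apply, Pi.smul_apply, smul_eq_mul]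
      ring
    rw [h1]
    ring
  choose c hc using hc
  rw [multCrv_mem_filt_iff]
  exact ⟨c, funext fun p => by rw [Pi.smul_apply, smul_eq_mul, hc]⟩

theorem revType_eq (k : Fin n) (hk : k.1 + 1 < n) :
    MultCrv.revType n m k = m ⟨n - 2 - k.1, by omega⟩ := by
  unfold MultCrv.revType
  rw [dif_pos hk]

theorem revType_eq_zero (k : Fin n) (hk : ¬ k.1 + 1 < n) : MultCrv.revType n m k = 0 := by
  unfold MultCrv.revType
  rw [dif_neg hk]

theorem revType_rev (i : Fin n) (hi : i.1 + 1 < n) :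
    MultCrv.revType n m ⟨n - 2 - i.1, by omega⟩ = m i := by
  rw [revType_eq n m _ (by simp only; omega)]
  congr 1
  apply Fin.ext
  simp only
  omega

theorem sigma_eq_of {β : Fin n → ℕ} (i i' : Fin n) (e : i' = i) (j : Fin (β i)) (j' : Fin (β i'))
    (hj : j'.1 = j.1) : (⟨i', j'⟩ : Σ i : Fin n, Fin (β i)) = ⟨i, j⟩ := by
  subst e
  congr
  exact Fin.ext hj

/-- the comparison map from the free module on the reversed type onto the kernel of the standard
cover. -/
noncomputable def qfRevMap : ((Σ k : Fin n, Fin (MultCrv.revType n m k)) → MultCrv.Rn R n)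
    →ₗ[MultCrv.Rn R n] ((Σ i : Fin n, Fin (m i)) → MultCrv.Rn R n) :=
  LinearMap.pi fun p =>
    if hi : p.1.1 + 1 < n then
      (MultCrv.z R n ^ (p.1.1 + 1)) •
        (LinearMap.proj (⟨⟨n - 2 - p.1.1, by omega⟩, Fin.cast (revType_rev n m p.1 hi).symm p.2⟩ :
          Σ k : Fin n, Fin (MultCrv.revType n m k)))
    else 0

theorem qfRevMap_apply_pos (h : (Σ k : Fin n, Fin (MultCrv.revType n m k)) → MultCrv.Rn R n)
    (p : Σ i : Fin n, Fin (m i)) (hi : p.1.1 + 1 < n) :
    qfRevMap R n m h p = MultCrv.z R n ^ (p.1.1 + 1) *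
      h ⟨⟨n - 2 - p.1.1, by omega⟩, Fin.cast (revType_rev n m p.1 hi).symm p.2⟩ := by
  unfold qfRevMap
  rw [LinearMap.pi_apply, dif_pos hi]
  rfl

theorem qfRevMap_apply_neg (h : (Σ k : Fin n, Fin (MultCrv.revType n m k)) → MultCrv.Rn R n)
    (p : Σ i : Fin n, Fin (m i)) (hi : ¬ p.1.1 + 1 < n) :
    qfRevMap R n m h p = 0 := by
  unfold qfRevMap
  rw [LinearMap.pi_apply, dif_neg hi]
  rfl


theorem qfRevMap_range :
    LinearMap.range (qfRevMap R n m) = LinearMap.ker (qfCover R n m) := by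
  ext g
  rw [qfCover_mem_ker, LinearMap.mem_range]
  constructor
  · rintro ⟨h, rfl⟩ p
    by_cases hi : p.1.1 + 1 < n
    · rw [qfRevMap_apply_pos R n m h p hi]
      exact Ideal.mul_mem_right _ _ (Ideal.mem_span_singleton_self _)
    · rw [qfRevMap_apply_neg R n m h p hi]
      exact Ideal.zero_mem _
  · intro hg
    have ha : ∀ p : (Σ i : Fin n, Fin (m i)), ∃ a : MultCrv.Rn R n,
        (MultCrv.z R n) ^ (p.1.1 + 1) * a = g p := by
      intro p
      obtain ⟨a, ha⟩ := Ideal.mem_span_singleton'.1 (hg p)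
      exact ⟨a, by rw [mul_comm]; exact ha⟩
    choose a ha using ha
    refine ⟨fun q => if hk : q.1.1 + 1 < n then
      a ⟨⟨n - 2 - q.1.1, by omega⟩, Fin.cast (revType_eq n m q.1 hk) q.2⟩ else 0, ?_⟩
    funext p
    by_cases hi : p.1.1 + 1 < n
    · rw [qfRevMap_apply_pos R n m _ p hi]
      have hk : n - 2 - p.1.1 + 1 < n := by omega
      rw [dif_pos hk, ← ha p]
      congr 2
      obtain ⟨i, j⟩ := p
      apply sigma_eq_of
      · apply Fin.ext
        simp only
        simp only at hi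
        omega
      · rfl
    · rw [qfRevMap_apply_neg R n m _ p hi, ← ha p]
      have : p.1.1 + 1 = n := by have := p.1.2; omega
      rw [this, multCrv_z_pow_n, zero_mul]

theorem qfRevMap_ker :
    LinearMap.ker (qfRevMap R n m) = LinearMap.ker (qfCover R n (MultCrv.revType n m)) := by
  ext h
  rw [qfCover_mem_ker, LinearMap.mem_ker]
  constructor
  · intro h0 q
    by_cases hk : q.1.1 + 1 < n
    · obtain ⟨k, j'⟩ := q
      simp only at hk ⊢
      have hi : n - 2 - k.1 + 1 < n := by omega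
      let i : Fin n := ⟨n - 2 - k.1, by omega⟩
      have h1 := congrFun h0 ⟨i, Fin.cast (revType_eq n m k hk) j'⟩
      rw [qfRevMap_apply_pos R n m h _ hi, Pi.zero_apply,
        multCrv_z_pow_mul_eq_zero_iff R n (by simp only [i]; omega)] at h1
      have hexp : n - (n - 2 - k.1 + 1) = k.1 + 1 := by omega
      simp only [i] at h1
      rw [hexp] at h1
      have hs : (⟨⟨n - 2 - (n - 2 - k.1), by omega⟩,
          Fin.cast (revType_rev n m ⟨n - 2 - k.1, by omega⟩ hi).symm
            (Fin.cast (revType_eq n m k hk) j')⟩ : Σ k : Fin n, Fin (MultCrv.revType n m k)) =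
          ⟨k, j'⟩ := by
        apply sigma_eq_of
        · apply Fin.ext
          simp only
          omega
        · rfl
      rw [hs] at h1
      exact h1
    · exfalso
      have h2 : (q.2 : ℕ) < MultCrv.revType n m q.1 := q.2.2
      have h3 := revType_eq_zero n m q.1 hk
      omega
  · intro hh
    funext p
    rw [Pi.zero_apply]
    by_cases hi : p.1.1 + 1 < n
    · rw [qfRevMap_apply_pos R n m h p hi, multCrv_z_pow_mul_eq_zero_iff R n (by omega)]
      have := hh ⟨⟨n - 2 - p.1.1, by omega⟩, Fin.cast (revType_rev n m p.1 hi).symm p.2⟩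
      simp only at this
      have hexp : n - (p.1.1 + 1) = n - 2 - p.1.1 + 1 := by omega
      rw [hexp]
      exact this
    · exact qfRevMap_apply_neg R n m h p hi

/-- the kernel of the standard cover is the model module of the reversed type. -/
theorem qfKerEquiv :
    Nonempty (↥(LinearMap.ker (qfCover R n m)) ≃ₗ[MultCrv.Rn R n]
      MultCrv.QFModel R n (MultCrv.revType n m)) := by
  have e1 : ↥(LinearMap.ker (qfCover R n m)) ≃ₗ[MultCrv.Rn R n]
      ↥(LinearMap.range (qfRevMap R n m)) :=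
    LinearEquiv.ofEq _ _ (qfRevMap_range R n m).symm
  have e2 : (((Σ k : Fin n, Fin (MultCrv.revType n m k)) → MultCrv.Rn R n) ⧸
      LinearMap.ker (qfRevMap R n m)) ≃ₗ[MultCrv.Rn R n] ↥(LinearMap.range (qfRevMap R n m)) :=
    LinearMap.quotKerEquivRange (qfRevMap R n m)
  have e3 : (((Σ k : Fin n, Fin (MultCrv.revType n m k)) → MultCrv.Rn R n) ⧸
      LinearMap.ker (qfRevMap R n m)) ≃ₗ[MultCrv.Rn R n]
      (((Σ k : Fin n, Fin (MultCrv.revType n m k)) → MultCrv.Rn R n) ⧸
        LinearMap.ker (qfCoverM R n (MultCrv.revType n m))) :=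
    Submodule.quotEquivOfEq _ _
      ((qfRevMap_ker R n m).trans (qfCoverM_ker R n (MultCrv.revType n m)).symm)
  have e4 := (qfCoverM R n (MultCrv.revType n m)).quotKerEquivOfSurjective
      (qfCoverM_surjective R n (MultCrv.revType n m))
  exact ⟨e1.trans (e2.symm.trans (e3.trans e4))⟩

end Standard

section Final
variable (R : Type u) [CommRing R] (n : ℕ) (m : Fin n → ℕ)

/-- the kernel of a minimal free cover of a quasi-free module of type `m` is quasi-free of the
reversed type. -/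
theorem multCrv_isQuasiFree_ker (M : Type u) [AddCommGroup M] [Module (MultCrv.Rn R n) M]
    (hM : MultCrv.IsQuasiFreeOfType R n M m) (r : ℕ)
    (φ : (Fin r → MultCrv.Rn R n) →ₗ[MultCrv.Rn R n] M) (hφ : Function.Surjective φ)
    (hφz : ∀ f : Fin r → MultCrv.Rn R n, φ f ∈ MultCrv.filt R n M 1 →
      f ∈ MultCrv.filt R n (Fin r → MultCrv.Rn R n) 1) :
    MultCrv.IsQuasiFreeOfType R n ↥(LinearMap.ker φ) (MultCrv.revType n m) := by
  obtain ⟨e⟩ := hM
  obtain ⟨φ', hφ'app⟩ : ∃ φ' : (Fin r → MultCrv.Rn R n) →ₗ[MultCrv.Rn R n] MultCrv.QFModel R n m,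
      ∀ x, φ' x = e (φ x) := ⟨e.toLinearMap ∘ₗ φ, fun _ => rfl⟩
  have hφ' : Function.Surjective φ' := by
    intro t
    obtain ⟨x, hx⟩ := hφ (e.symm t)
    exact ⟨x, by rw [hφ'app, hx, LinearEquiv.apply_symm_apply]⟩
  obtain ⟨θ, hθ⟩ := Module.projective_lifting_property (qfCoverM R n m) φ'
    (qfCoverM_surjective R n m)
  obtain ⟨θ', hθ'⟩ := Module.projective_lifting_property φ' (qfCoverM R n m) hφ'
  have hθapp : ∀ x, qfCoverM R n m (θ x) = φ' x := fun x => LinearMap.congr_fun hθ x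
  have hθ'app : ∀ y, φ' (θ' y) = qfCoverM R n m y := fun y => LinearMap.congr_fun hθ' y
  have hu : Function.Bijective (θ' ∘ₗ θ) := by
    apply multCrv_bijective_of_sub_id_mem_filt
    intro x
    apply hφz
    have h1 : φ' ((θ' ∘ₗ θ) x - x) = 0 := by
      have h0 : φ' ((θ' ∘ₗ θ) x - x) = φ' (θ' (θ x)) - φ' x := map_sub φ' _ _
      rw [h0, hθ'app, hθapp, sub_self]
    have h2 : φ ((θ' ∘ₗ θ) x - x) = 0 :=
      e.injective (by rw [map_zero, ← hφ'app]; exact h1)
    rw [h2]
    exact Submodule.zero_mem _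
  have hv : Function.Bijective (θ ∘ₗ θ') := by
    apply multCrv_bijective_of_sub_id_mem_filt
    intro y
    apply qfCoverM_mem_filt
    have h1 : qfCoverM R n m ((θ ∘ₗ θ') y - y) = 0 := by
      have h0 : qfCoverM R n m ((θ ∘ₗ θ') y - y) =
          qfCoverM R n m (θ (θ' y)) - qfCoverM R n m y := map_sub _ _ _
      rw [h0, hθapp, hθ'app, sub_self]
    rw [h1]
    exact Submodule.zero_mem _
  have hθinj : Function.Injective θ := by
    intro x x' hx
    apply hu.1
    rw [LinearMap.comp_apply, LinearMap.comp_apply, hx]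
  have hθsurj : Function.Surjective θ := by
    intro y
    obtain ⟨y', hy'⟩ := hv.2 y
    exact ⟨θ' y', hy'⟩
  let Θ := LinearEquiv.ofBijective θ ⟨hθinj, hθsurj⟩
  have hmap : (LinearMap.ker φ).map (Θ : (Fin r → MultCrv.Rn R n) →ₗ[MultCrv.Rn R n] _) =
      LinearMap.ker (qfCover R n m) := by
    rw [← qfCoverM_ker]
    ext y
    rw [Submodule.mem_map, LinearMap.mem_ker]
    constructor
    · rintro ⟨x, hx, rfl⟩
      rw [LinearMap.mem_ker] at hx
      change qfCoverM R n m (θ x) = 0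
      rw [hθapp, hφ'app, hx, map_zero]
    · intro hy
      obtain ⟨x, rfl⟩ := hθsurj y
      refine ⟨x, ?_, rfl⟩
      rw [LinearMap.mem_ker]
      apply e.injective
      rw [map_zero, ← hφ'app, ← hθapp]
      exact hy
  obtain ⟨e2⟩ := qfKerEquiv R n m
  exact ⟨(Θ.submoduleMap (LinearMap.ker φ)).trans ((LinearEquiv.ofEq _ _ hmap).trans e2)⟩

end Final

end Groth.Agent.Lib.Helper89
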