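import Groth.Agent.Lib.Helper89.MultCrv
import Mathlib.LinearAlgebra.Dimension.RankNullity
import Mathlib.LinearAlgebra.Dimension.Localization
import Mathlib.RingTheory.AdjoinRoot
import Mathlib.RingTheory.PrincipalIdealDomain
import Mathlib.Tactic

/-!
# Rank computations for modules over `R[X]/(X^n)` (MultCrv block), by helper89
-/

set_option autoImplicit false
universe u
open MultCrv Polynomial

namespace Groth.Agent.Lib.Helper89

section
variable (R : Type u) [CommRing R] (n : ℕ)

theorem multCrv_finite_Rn : Module.Finite R (MultCrv.Rn R n) :=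
  (Polynomial.monic_X_pow n).finite_adjoinRoot

theorem multCrv_free_Rn : Module.Free R (MultCrv.Rn R n) :=
  (Polynomial.monic_X_pow n).free_adjoinRoot

theorem multCrv_finite_over_base (M : Type u) [AddCommGroup M] [Module (MultCrv.Rn R n) M] [Module R M]
    [IsScalarTower R (MultCrv.Rn R n) M] [Module.Finite (MultCrv.Rn R n) M] : Module.Finite R M :=
  haveI := multCrv_finite_Rn R n
  Module.Finite.trans (MultCrv.Rn R n) M

/-- rank-nullity for multiplication by `z^j`. -/
theorem multCrv_finrank_filt2_add_filt [IsDomain R]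
    (M : Type u) [AddCommGroup M] [Module (MultCrv.Rn R n) M] [Module R M]
    [IsScalarTower R (MultCrv.Rn R n) M] [Module.Finite (MultCrv.Rn R n) M] (j : ℕ) :
    Module.finrank R ↥(MultCrv.filt2 R n M j) + Module.finrank R ↥(MultCrv.filt R n M j) =
      Module.finrank R M := by
  have : Module.Finite R M := multCrv_finite_over_base R n M
  let f : M →ₗ[R] M := ((MultCrv.z R n ^ j) • (LinearMap.id : M →ₗ[MultCrv.Rn R n] M)).restrictScalars R
  have h1 := (LinearMap.ker f).finrank_quotient_add_finrank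
  rw [LinearEquiv.finrank_eq f.quotKerEquivRange] at h1
  have h2 : Module.finrank R ↥(LinearMap.ker f) = Module.finrank R ↥(MultCrv.filt2 R n M j) := by
    apply LinearEquiv.finrank_eq
    refine LinearEquiv.ofEq _ _ ?_ ≪≫ₗ ((Submodule.restrictScalarsEquiv R (MultCrv.Rn R n) M (MultCrv.filt2 R n M j)).restrictScalars R)
    ext u
    simp [f, multCrv_mem_filt2_iff R n]
  have h3 : Module.finrank R ↥(LinearMap.range f) = Module.finrank R ↥(MultCrv.filt R n M j) := by
    apply LinearEquiv.finrank_eq
    refine LinearEquiv.ofEq _ _ ?_ ≪≫ₗ ((Submodule.restrictScalarsEquiv R (MultCrv.Rn R n) M (MultCrv.filt R n M j)).restrictScalars R)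
    ext u
    simp [f, multCrv_mem_filt_iff R n]
  omega

theorem multCrv_filt2_mono (M : Type u) [AddCommGroup M] [Module (MultCrv.Rn R n) M] {i j : ℕ}
    (h : i ≤ j) : MultCrv.filt2 R n M i ≤ MultCrv.filt2 R n M j := by
  intro u hu
  rw [multCrv_mem_filt2_iff R n] at hu ⊢
  obtain ⟨k, rfl⟩ := Nat.exists_eq_add_of_le h
  rw [add_comm, pow_add, ← smul_smul, hu, smul_zero]

theorem multCrv_filt_anti (M : Type u) [AddCommGroup M] [Module (MultCrv.Rn R n) M] {i j : ℕ}
    (h : i ≤ j) : MultCrv.filt R n M j ≤ MultCrv.filt R n M i := by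
  intro u hu
  rw [multCrv_mem_filt_iff R n] at hu ⊢
  obtain ⟨k, rfl⟩ := Nat.exists_eq_add_of_le h
  obtain ⟨w, hw⟩ := hu
  exact ⟨MultCrv.z R n ^ k • w, by rw [smul_smul, ← pow_add, hw]⟩

end

end Groth.Agent.Lib.Helper89
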