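import Mathlib
import Groth.Prelude.Def_W4c5algebraiztannakaNis

/-!
# Composition of Nisnevich covers of bounded length (helper89)
-/

set_option autoImplicit false
universe u

open Set CategoryTheory AlgebraicGeometry Topology

namespace Groth.Agent.Lib.Helper89.NisComp

open W4c5algebraiztannaka


section Top

variable {X T : Type*} [TopologicalSpace X] [TopologicalSpace T]

/-- Constructible sets are clopen in the constructible topology. -/
theorem isOpen_constructibleTopology_of_isConstructible [CompactSpace X] {s : Set X}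
    (hs : IsConstructible s) :
    IsOpen[constructibleTopology X] s ∧ IsOpen[constructibleTopology X] sᶜ := by
  induction hs using IsConstructible.empty_union_induction with
  | open_retrocompact U hUopen hUcomp =>
    refine ⟨hUcomp.isCompact.isOpen_constructibleTopology_of_isOpen hUopen, ?_⟩
    refine IsCompact.isOpen_constructibleTopology_of_isClosed ?_ hUopen.isClosed_compl
    rw [compl_compl]
    exact hUcomp.isCompact
  | union s hs t ht hs' ht' =>
    refine ⟨@IsOpen.union X s t (constructibleTopology X) hs'.1 ht'.1, ?_⟩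
    rw [compl_union]
    exact @IsOpen.inter X (constructibleTopology X) _ _ hs'.2 ht'.2
  | compl s hs hs' =>
    refine ⟨hs'.2, ?_⟩
    rw [compl_compl]
    exact hs'.1

theorem isOpen_constructibleTopology_of_isOpen [PrespectralSpace X] {U : Set X} (hU : IsOpen U) :
    IsOpen[constructibleTopology X] U := by
  obtain ⟨S, hS, rfl⟩ := PrespectralSpace.isTopologicalBasis.open_eq_sUnion hU
  exact @isOpen_sUnion X (constructibleTopology X) S
    (fun t ht => (hS ht).2.isOpen_constructibleTopology_of_isOpen (hS ht).1)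

/-- In a quasi-compact quasi-separated quasi-sober prespectral space, open constructible sets are
compact. -/
theorem isCompact_of_isConstructible [CompactSpace X] [QuasiSeparatedSpace X]
    [QuasiSober X] [PrespectralSpace X] {s : Set X} (hc : IsConstructible s) :
    IsCompact s := by
  let φ : WithConstructibleTopology X → X := WithTopology.ofTopology
  have hφ : Continuous φ := by
    refine ⟨fun U hU => ?_⟩
    exact isOpen_constructibleTopology_of_isOpen hU
  have hcl : IsClosed (φ ⁻¹' s) := by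
    rw [← isOpen_compl_iff]
    exact (isOpen_constructibleTopology_of_isConstructible hc).2
  have := hcl.isCompact.image hφ
  rwa [Set.image_preimage_eq _ (WithTopology.ofTopology_surjective _)] at this

theorem isClosed_union_image {g : T → X} (hg : IsEmbedding g) {A B : Set X} (hA : IsClosed A)
    (hB : IsClosed B) (hr : Set.range g = B \ A) {E : Set T} (hE : IsClosed E) :
    IsClosed (A ∪ g '' E) := by
  obtain ⟨D, hD, rfl⟩ := hg.isInducing.isClosed_iff.mp hE
  have : A ∪ g '' (g ⁻¹' D) = A ∪ (D ∩ B) := by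
    rw [Set.image_preimage_eq_inter_range, hr]
    ext x
    simp only [Set.mem_union, Set.mem_inter_iff, Set.mem_sdiff]
    tauto
  rw [this]
  exact hA.union (hD.inter hB)

theorem isConstructible_image_of_range_eq_sdiff [CompactSpace X] [QuasiSeparatedSpace X]
    [QuasiSober X] [PrespectralSpace X] {g : T → X} (hg : IsEmbedding g) {A B : Set X}
    (hA : IsClosed A) (hAc : IsConstructible A) (hB : IsClosed B) (hBc : IsConstructible B)
    (hr : Set.range g = B \ A) {E : Set T} (hE : IsConstructible E) :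
    IsConstructible (g '' E) := by
  have hAo : IsOpen Aᶜ := hA.isOpen_compl
  have hAr : IsRetrocompact Aᶜ :=
    (isCompact_of_isConstructible hAc.compl).isRetrocompact hAo
  have hBr : IsRetrocompact Bᶜ :=
    (isCompact_of_isConstructible hBc.compl).isRetrocompact hB.isOpen_compl
  have hmem : ∀ t, g t ∈ Aᶜ := fun t => by
    have : g t ∈ B \ A := hr ▸ Set.mem_range_self t
    exact this.2
  let g' : T → ↥(Aᶜ : Set X) := Set.codRestrict g Aᶜ hmem
  have hg'e : IsEmbedding g' := hg.codRestrict _ hmem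
  have hrange : Set.range g' = Subtype.val ⁻¹' B := by
    ext ⟨x, hx⟩
    simp only [Set.mem_range, Set.mem_preimage]
    constructor
    · rintro ⟨t, ht⟩
      have h1 : g t = x := congrArg Subtype.val ht
      have : g t ∈ B \ A := hr ▸ Set.mem_range_self t
      exact h1 ▸ this.1
    · intro hxB
      have : x ∈ Set.range g := by rw [hr]; exact ⟨hxB, hx⟩
      obtain ⟨t, ht⟩ := this
      exact ⟨t, Subtype.ext ht⟩
  have hg'c : IsClosedEmbedding g' :=
    ⟨hg'e, by rw [hrange]; exact hB.preimage continuous_subtype_val⟩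
  have hopen : IsOpenEmbedding (Subtype.val : ↥(Aᶜ : Set X) → X) := hAo.isOpenEmbedding_subtypeVal
  have hcomp : IsRetrocompact (Set.range g')ᶜ := by
    rw [hrange, ← Set.preimage_compl]
    exact hBr.preimage_of_isOpenEmbedding hopen
  have h1 := (hE.image_of_isClosedEmbedding hg'c hcomp).image_of_isOpenEmbedding hopen
    (by rw [Subtype.range_coe]; exact hAr)
  rw [Set.image_image] at h1
  exact h1

end Top



theorem flag_concat {Y : Type*} (P Q : Set Y → Prop) (m₁ : ℕ) :
    ∀ (m₂ : ℕ) (Z : ℕ → Set Y), (∀ n, Q (Z n)) →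
      (∀ k < m₂, ∃ C : ℕ → Set Y, C 0 = Z k ∧ C m₁ = Z (k + 1) ∧ Monotone C ∧ (∀ j, Q (C j)) ∧
        ∀ j < m₁, P (C (j + 1) \ C j)) →
      ∃ Z' : ℕ → Set Y, Z' 0 = Z 0 ∧ Z' (m₁ * m₂) = Z m₂ ∧ Monotone Z' ∧ (∀ n, Q (Z' n)) ∧
        ∀ n < m₁ * m₂, P (Z' (n + 1) \ Z' n) := by
  intro m₂
  induction m₂ with
  | zero =>
    intro Z hQ _
    exact ⟨fun _ => Z 0, rfl, rfl, monotone_const, fun _ => hQ 0, fun n hn => by omega⟩
  | succ m₂ ih =>
    intro Z hQ hC
    obtain ⟨Z'', h0, hend, hmono, hQ'', hP''⟩ := ih Z hQ (fun k hk => hC k (by omega))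
    obtain ⟨C, hC0, hCm, hCmono, hCQ, hCP⟩ := hC m₂ (by omega)
    have hlink : Z'' (m₁ * m₂) = C 0 := by rw [hend, hC0]
    refine ⟨fun n => if n < m₁ * m₂ then Z'' n else C (n - m₁ * m₂), ?_, ?_, ?_, ?_, ?_⟩
    · by_cases h : 0 < m₁ * m₂
      · simp only [if_pos h]; exact h0
      · have h' : m₁ * m₂ = 0 := by omega
        change (if 0 < m₁ * m₂ then Z'' 0 else C (0 - m₁ * m₂)) = Z 0
        rw [if_neg h, h', Nat.sub_zero, ← hlink, h', h0]
    · have h : ¬ (m₁ * (m₂ + 1) < m₁ * m₂) := by
        rw [Nat.mul_succ]; omega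
      simp only [if_neg h]
      have : m₁ * (m₂ + 1) - m₁ * m₂ = m₁ := by rw [Nat.mul_succ]; omega
      rw [this, hCm]
    · apply monotone_nat_of_le_succ
      intro n
      by_cases h1 : n + 1 < m₁ * m₂
      · have h2 : n < m₁ * m₂ := by omega
        simp only [if_pos h1, if_pos h2]
        exact hmono (Nat.le_succ n)
      · by_cases h2 : n < m₁ * m₂
        · have h3 : n + 1 = m₁ * m₂ := by omega
          simp only [if_neg h1, if_pos h2]
          have : n + 1 - m₁ * m₂ = 0 := by omega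
          rw [this, ← hlink, ← h3]
          exact hmono (Nat.le_succ n)
        · simp only [if_neg h1, if_neg h2]
          exact hCmono (by omega)
    · intro n
      by_cases h : n < m₁ * m₂
      · simp only [if_pos h]; exact hQ'' n
      · simp only [if_neg h]; exact hCQ _
    · intro n hn
      by_cases h1 : n + 1 < m₁ * m₂
      · have h2 : n < m₁ * m₂ := by omega
        simp only [if_pos h1, if_pos h2]
        exact hP'' n h2
      · by_cases h2 : n < m₁ * m₂
        · have h3 : n + 1 = m₁ * m₂ := by omega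
          simp only [if_neg h1, if_pos h2]
          have : n + 1 - m₁ * m₂ = 0 := by omega
          rw [this, ← hlink, ← h3]
          exact hP'' n h2
        · simp only [if_neg h1, if_neg h2]
          have h3 : n + 1 - m₁ * m₂ = (n - m₁ * m₂) + 1 := by omega
          rw [h3]
          apply hCP
          rw [Nat.mul_succ] at hn
          omega




theorem isNisCoverLen_iff_nat {U Y : Scheme.{u}} (f : U ⟶ Y) (m : ℕ) :
    IsNisCoverLen f m ↔ Etale f ∧ ∃ Z : ℕ → Set Y, Z 0 = ∅ ∧ Z m = Set.univ ∧ Monotone Z ∧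
      (∀ n, IsClosed (Z n) ∧ IsConstructible (Z n)) ∧
      ∀ n < m, HasSectOver f (Z (n + 1) \ Z n) := by
  constructor
  · rintro ⟨het, Z, hZ0, hZm, hZmono, hZc, hsect⟩
    refine ⟨het, fun n => Z ⟨min n m, Nat.lt_succ_of_le (min_le_right _ _)⟩, ?_, ?_, ?_, ?_, ?_⟩
    · simp only [Nat.zero_min]
      exact hZ0
    · simp only [min_self]
      exact hZm
    · intro a b hab
      apply hZmono
      simp only [Fin.mk_le_mk]
      exact min_le_min_right m hab
    · intro n
      exact hZc _
    · intro n hn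
      have h1 : (⟨min (n + 1) m, Nat.lt_succ_of_le (min_le_right _ _)⟩ : Fin (m + 1)) =
          Fin.succ ⟨n, hn⟩ := by
        apply Fin.ext
        simp only [Fin.succ_mk]
        omega
      have h2 : (⟨min n m, Nat.lt_succ_of_le (min_le_right _ _)⟩ : Fin (m + 1)) =
          Fin.castSucc ⟨n, hn⟩ := by
        apply Fin.ext
        simp only [Fin.castSucc_mk]
        omega
      simp only [h1, h2]
      exact hsect ⟨n, hn⟩
  · rintro ⟨het, Z, hZ0, hZm, hZmono, hZc, hsect⟩
    refine ⟨het, fun k => Z k.val, hZ0, ?_, ?_, fun k => hZc _, ?_⟩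
    · simp only [Fin.val_last]
      exact hZm
    · intro a b hab
      exact hZmono hab
    · intro k
      have := hsect k.val k.isLt
      simpa using this


theorem stratum_refine {Y₁ Y₂ Y₃ : Scheme.{u}} (g₁ : Y₁ ⟶ Y₂) (g₂ : Y₂ ⟶ Y₃)
    [CompactSpace Y₃] [QuasiSeparatedSpace Y₃] (m₁ : ℕ) (Z : ℕ → Set Y₂)
    (h0 : Z 0 = ∅) (hm : Z m₁ = Set.univ) (hmono : Monotone Z)
    (hcc : ∀ n, IsClosed (Z n) ∧ IsConstructible (Z n))
    (hsec : ∀ n < m₁, HasSectOver g₁ (Z (n + 1) \ Z n))
    (A B : Set Y₃) (hA : IsClosed A ∧ IsConstructible A) (hB : IsClosed B ∧ IsConstructible B)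
    (hAB : A ⊆ B) (hW : HasSectOver g₂ (B \ A)) :
    ∃ C : ℕ → Set Y₃, C 0 = A ∧ C m₁ = B ∧ Monotone C ∧
      (∀ j, IsClosed (C j) ∧ IsConstructible (C j)) ∧
      ∀ j < m₁, HasSectOver (g₁ ≫ g₂) (C (j + 1) \ C j) := by
  obtain ⟨T, g, s, himm, hrange, hs⟩ := hW
  have hrange' : Set.range g = B \ A := hrange
  have hemb : IsEmbedding g := g.isEmbedding
  refine ⟨fun j => A ∪ g '' (s ⁻¹' Z j), ?_, ?_, ?_, ?_, ?_⟩
  · simp only [h0, Set.preimage_empty, Set.image_empty, Set.union_empty]
  · simp only [hm, Set.preimage_univ, Set.image_univ]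
    rw [hrange', Set.union_sdiff_cancel hAB]
  · intro a b hab
    exact Set.union_subset_union_right _ (Set.image_mono (Set.preimage_mono (hmono hab)))
  · intro j
    refine ⟨isClosed_union_image hemb hA.1 hB.1 hrange' ((hcc j).1.preimage s.continuous), ?_⟩
    exact hA.2.union (isConstructible_image_of_range_eq_sdiff hemb hA.1 hA.2 hB.1 hB.2 hrange'
      (s.isConstructible_preimage (hcc j).2))
  · intro j hj
    obtain ⟨T', h, σ, himm', hrange2, hσ⟩ := hsec j hj
    have hrange2' : Set.range h = Z (j + 1) \ Z j := hrange2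
    refine ⟨Limits.pullback s h, Limits.pullback.fst s h ≫ g, Limits.pullback.snd s h ≫ σ,
      inferInstance, ?_, ?_⟩
    · change Set.range (Limits.pullback.fst s h ≫ g) = _
      have hdisj : ∀ E : Set T, Disjoint A (g '' E) := by
        intro E
        rw [Set.disjoint_left]
        rintro x hxA ⟨t, -, rfl⟩
        have : g t ∈ B \ A := hrange' ▸ Set.mem_range_self t
        exact this.2 hxA
      have h1 : Set.range (Limits.pullback.fst s h ≫ g) = g '' (s ⁻¹' (Z (j + 1) \ Z j)) := by
        rw [Scheme.Hom.comp_base, TopCat.coe_comp, Set.range_comp,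
          AlgebraicGeometry.Scheme.Pullback.range_fst, hrange2']
      rw [h1, Set.preimage_sdiff, Set.image_sdiff hemb.injective]
      ext x
      simp only [Set.mem_sdiff, Set.mem_union]
      constructor
      · rintro ⟨hx1, hx2⟩
        exact ⟨Or.inr hx1, fun h' => h'.elim
          (fun hxA => (Set.disjoint_left.mp (hdisj _) hxA hx1)) hx2⟩
      · rintro ⟨hx1 | hx1, hx2⟩
        · exact absurd (Or.inl hx1) hx2
        · exact ⟨hx1, fun h' => hx2 (Or.inr h')⟩
    · rw [Category.assoc, ← Category.assoc σ, hσ, ← Category.assoc, ← Limits.pullback.condition,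
        Category.assoc, hs]

/-- Composition of Nisnevich covers of bounded length. -/
theorem isNisCoverLen_comp {Y₁ Y₂ Y₃ : Scheme.{u}} (g₁ : Y₁ ⟶ Y₂) (g₂ : Y₂ ⟶ Y₃)
    [CompactSpace Y₃] [QuasiSeparatedSpace Y₃] (m₁ m₂ : ℕ)
    (h₁ : IsNisCoverLen g₁ m₁) (h₂ : IsNisCoverLen g₂ m₂) :
    IsNisCoverLen (g₁ ≫ g₂) (m₁ * m₂) := by
  rw [isNisCoverLen_iff_nat] at h₁ h₂ ⊢
  obtain ⟨het₁, Z₁, hZ₁0, hZ₁m, hZ₁mono, hZ₁c, hsect₁⟩ := h₁
  obtain ⟨het₂, Z₂, hZ₂0, hZ₂m, hZ₂mono, hZ₂c, hsect₂⟩ := h₂
  refine ⟨inferInstance, ?_⟩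
  obtain ⟨Z', h0, hend, hmono, hQ, hP⟩ := flag_concat (HasSectOver (g₁ ≫ g₂))
    (fun S => IsClosed S ∧ IsConstructible S) m₁ m₂ Z₂ hZ₂c (fun k hk =>
      stratum_refine g₁ g₂ m₁ Z₁ hZ₁0 hZ₁m hZ₁mono hZ₁c hsect₁ (Z₂ k) (Z₂ (k + 1))
        (hZ₂c k) (hZ₂c (k + 1)) (hZ₂mono (Nat.le_succ k)) (hsect₂ k hk))
  exact ⟨Z', h0.trans hZ₂0, hend.trans hZ₂m, hmono, hQ, hP⟩

end Groth.Agent.Lib.Helper89.NisComp
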