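import Mathlib
import Groth.Agent.Lib.Helper19.GenCover

/-!
# Generators of a module from generators over the strata of a finite closed flag (helper89)
-/

set_option autoImplicit false
universe u

open PrimeSpectrum TensorProduct

namespace Groth.Agent.Lib.Helper89.NisGenA

open Groth.Agent.Helper19.GenCover

variable {R : Type u} [CommRing R] {M : Type u} [AddCommGroup M] [Module R M]

/-- Nakayama: if `M = span t + J • M` then `t` generates `M` locally at every prime containing `J`. -/
theorem locGen_of_mem_smul [Module.Finite R M] {N : ℕ} (t : Fin N → M) (J : Ideal R)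
    (h : ∀ m : M, ∃ c : Fin N → R, m - ∑ j, c j • t j ∈ J • (⊤ : Submodule R M))
    (p : PrimeSpectrum R) (hp : J ≤ p.asIdeal) :
    LocGen (Submodule.span R (Set.range t)) p := by
  obtain ⟨r, hr, hrq⟩ := exists_notMem_smul_eq_zero (R := R)
    (Q := M ⧸ Submodule.span R (Set.range t)) p 1
    (fun h1 => p.isPrime.ne_top ((Ideal.eq_top_iff_one _).2 h1)) (by
      intro q
      obtain ⟨m, rfl⟩ := Submodule.Quotient.mk_surjective _ q
      obtain ⟨c, hc⟩ := h m
      rw [one_smul]
      have h1 : (Submodule.Quotient.mk m : M ⧸ Submodule.span R (Set.range t)) =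
          Submodule.Quotient.mk (m - ∑ j, c j • t j) := by
        rw [Submodule.Quotient.eq]
        have : m - (m - ∑ j, c j • t j) = ∑ j, c j • t j := by abel
        rw [this]
        exact Submodule.sum_mem _ fun j _ =>
          Submodule.smul_mem _ _ (Submodule.subset_span ⟨j, rfl⟩)
      rw [h1]
      have h2 : J • (⊤ : Submodule R M) ≤ (p.asIdeal • (⊤ : Submodule R
          (M ⧸ Submodule.span R (Set.range t)))).comap
          (Submodule.mkQ (Submodule.span R (Set.range t))) := by
        rw [Submodule.smul_le]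
        intro a ha x _
        rw [Submodule.mem_comap, map_smul]
        exact Submodule.smul_mem_smul (hp ha) Submodule.mem_top
      exact h2 hc)
  intro m
  refine ⟨r, hr, ?_⟩
  have := hrq (Submodule.Quotient.mk m)
  rw [← Submodule.Quotient.mk_smul, Submodule.Quotient.mk_eq_zero] at this
  exact this

/-- Induction along a finite flag of closed subsets. -/
theorem exists_generators_of_flag [Module.Finite R M] (N m : ℕ)
    (Z : Fin (m + 1) → Set (PrimeSpectrum R)) (hZ0 : Z 0 = ∅) (hZm : Z (Fin.last m) = Set.univ)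
    (hZc : ∀ k, IsClosed (Z k))
    (H : ∀ (k : Fin m) (I : Ideal R), zeroLocus (I : Set R) ⊆ Z k.succ \ Z k.castSucc →
      ∃ t : Fin N → M, ∀ p : PrimeSpectrum R, I ≤ p.asIdeal →
        LocGen (Submodule.span R (Set.range t)) p) :
    ∃ s : Fin (N * m) → M, Submodule.span R (Set.range s) = ⊤ := by
  classical
  have P : ∀ k : ℕ, ∀ hk : k ≤ m, ∀ T : Set (PrimeSpectrum R), IsClosed T →
      T ⊆ Z ⟨k, Nat.lt_succ_of_le hk⟩ →
      ∃ s : Fin (N * k) → M, ∀ p ∈ T, LocGen (Submodule.span R (Set.range s)) p := by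
    intro k
    induction k with
    | zero =>
      intro hk T _ hT
      refine ⟨fun _ => 0, fun p hp => ?_⟩
      have : p ∈ Z 0 := hT hp
      rw [hZ0] at this
      exact absurd this (Set.notMem_empty p)
    | succ k ih =>
      intro hk T hTc hT
      have hk' : k ≤ m := Nat.le_of_succ_le hk
      let k0 : Fin m := ⟨k, hk⟩
      have e1 : (⟨k, Nat.lt_succ_of_le hk'⟩ : Fin (m + 1)) = k0.castSucc := rfl
      have e2 : (⟨k + 1, Nat.lt_succ_of_le hk⟩ : Fin (m + 1)) = k0.succ := rfl
      obtain ⟨s', hs'⟩ := ih hk' (T ∩ Z k0.castSucc) (hTc.inter (hZc _)) (by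
        rw [e1]; exact Set.inter_subset_right)
      let W : Set (PrimeSpectrum R) := {p | LocGen (Submodule.span R (Set.range s')) p}
      have hW : IsOpen W := isOpen_setOf_locGen _
      have hT''c : IsClosed (T ∩ Wᶜ) := hTc.inter hW.isClosed_compl
      obtain ⟨I, hI⟩ := (isClosed_iff_zeroLocus_ideal _).1 hT''c
      have hsub : zeroLocus (I : Set R) ⊆ Z k0.succ \ Z k0.castSucc := by
        rw [← hI]
        rintro p ⟨hpT, hpW⟩
        refine ⟨e2 ▸ hT hpT, fun hpZ => hpW (hs' p ⟨hpT, hpZ⟩)⟩
      obtain ⟨t, ht⟩ := H k0 I hsub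
      have hcast : N * (k + 1) = N * k + N := by ring
      refine ⟨fun x => Fin.append s' t (Fin.cast hcast x), ?_⟩
      intro p hpT
      by_cases hpW : p ∈ W
      · refine LocGen.mono ?_ hpW
        rw [Submodule.span_le]
        rintro _ ⟨x, rfl⟩
        apply Submodule.subset_span
        refine ⟨Fin.cast hcast.symm (Fin.castAdd N x), ?_⟩
        change Fin.append s' t (Fin.cast hcast (Fin.cast hcast.symm (Fin.castAdd N x))) = s' x
        rw [Fin.cast_cast, Fin.cast_eq_self, Fin.append_left]
      · have hpI : p ∈ zeroLocus (I : Set R) := by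
          rw [← hI]
          exact ⟨hpT, hpW⟩
        have hpI' : I ≤ p.asIdeal := (mem_zeroLocus p I).1 hpI
        refine LocGen.mono ?_ (ht p hpI')
        rw [Submodule.span_le]
        rintro _ ⟨x, rfl⟩
        apply Submodule.subset_span
        refine ⟨Fin.cast hcast.symm (Fin.natAdd (N * k) x), ?_⟩
        change Fin.append s' t (Fin.cast hcast (Fin.cast hcast.symm (Fin.natAdd (N * k) x))) = t x
        rw [Fin.cast_cast, Fin.cast_eq_self, Fin.append_right]
  obtain ⟨s, hs⟩ := P m le_rfl Set.univ isClosed_univ (by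
    have : (⟨m, Nat.lt_succ_of_le le_rfl⟩ : Fin (m + 1)) = Fin.last m := rfl
    rw [this, hZm])
  exact ⟨s, eq_top_of_forall_locGen _ fun p => hs p (Set.mem_univ p)⟩

/-- If `R''` is a quotient of `R` and `R'' ⊗ M` is generated by `N` elements over `R''`, then `M`
is generated by `N` elements modulo `ker (R → R'') • M`. -/
theorem exists_lift_generators {R'' : Type u} [CommRing R''] [Algebra R R'']
    (hsurj : Function.Surjective (algebraMap R R'')) {N : ℕ}
    (s : Fin N → R'' ⊗[R] M) (hs : Submodule.span R'' (Set.range s) = ⊤) :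
    ∃ t : Fin N → M, ∀ m : M, ∃ c : Fin N → R,
      m - ∑ j, c j • t j ∈ (RingHom.ker (algebraMap R R'')) • (⊤ : Submodule R M) := by
  have h1 : ∀ z : R'' ⊗[R] M, ∃ m : M, z = (1 : R'') ⊗ₜ[R] m := by
    intro z
    induction z using TensorProduct.induction_on with
    | zero => exact ⟨0, (TensorProduct.tmul_zero _ _).symm⟩
    | tmul r'' m =>
      obtain ⟨r, rfl⟩ := hsurj r''
      refine ⟨r • m, ?_⟩
      rw [TensorProduct.tmul_smul, TensorProduct.smul_tmul', Algebra.algebraMap_eq_smul_one]
    | add z z' hz hz' =>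
      obtain ⟨m, rfl⟩ := hz
      obtain ⟨m', rfl⟩ := hz'
      exact ⟨m + m', (TensorProduct.tmul_add _ _ _).symm⟩
  choose t ht using fun j => h1 (s j)
  refine ⟨t, fun m => ?_⟩
  have hm : (1 : R'') ⊗ₜ[R] m ∈ Submodule.span R'' (Set.range s) := by rw [hs]; trivial
  obtain ⟨c'', hc''⟩ := (Submodule.mem_span_range_iff_exists_fun R'').1 hm
  choose c hc using fun j => hsurj (c'' j)
  refine ⟨c, ?_⟩
  have h2 : (1 : R'') ⊗ₜ[R] (m - ∑ j, c j • t j) = 0 := by
    rw [TensorProduct.tmul_sub, TensorProduct.tmul_sum, ← hc'', sub_eq_zero]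
    apply Finset.sum_congr rfl
    intro j _
    rw [ht j, ← hc j, TensorProduct.tmul_smul, TensorProduct.smul_tmul', TensorProduct.smul_tmul',
      Algebra.algebraMap_eq_smul_one, smul_eq_mul, mul_one]
  -- the kernel of `m ↦ 1 ⊗ m`
  let f : R →ₐ[R] R'' := Algebra.ofId R R''
  have hf : Function.Surjective f := hsurj
  let e : (R ⧸ RingHom.ker f) ≃ₐ[R] R'' := Ideal.quotientKerAlgEquivOfSurjective hf
  let κ : R'' ⊗[R] M ≃ₗ[R] M ⧸ (RingHom.ker f) • (⊤ : Submodule R M) :=
    (TensorProduct.congr e.symm.toLinearEquiv (LinearEquiv.refl R M)) ≪≫ₗ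
      TensorProduct.quotTensorEquivQuotSMul M (RingHom.ker f)
  have hκ : ∀ x : M, κ ((1 : R'') ⊗ₜ[R] x) = Submodule.Quotient.mk x := by
    intro x
    show TensorProduct.quotTensorEquivQuotSMul M (RingHom.ker f)
      (TensorProduct.congr e.symm.toLinearEquiv (LinearEquiv.refl R M) ((1 : R'') ⊗ₜ[R] x)) = _
    rw [TensorProduct.congr_tmul]
    have : e.symm.toLinearEquiv (1 : R'') = 1 := map_one e.symm
    rw [this]
    exact TensorProduct.quotTensorEquivQuotSMul_mk_one_tmul _ _
  have h3 := hκ (m - ∑ j, c j • t j)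
  rw [h2, map_zero] at h3
  have h4 := (Submodule.Quotient.mk_eq_zero _).1 h3.symm
  exact h4

end Groth.Agent.Lib.Helper89.NisGenA
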