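import Mathlib
import Groth.Agent.S17860
import Groth.Agent.Lib.Helper89.NisGenA
import Groth.Agent.Lib.Helper11.TildePullback
import Groth.Agent.Lib.Helper20.PullbackUnit
import Groth.Agent.Lib.Helper49.FreeMod

/-!
# Generators from a section of a cover over a closed subscheme (helper89)
-/

set_option autoImplicit false
universe u

open CategoryTheory CategoryTheory.Limits AlgebraicGeometry TensorProduct

namespace Groth.Agent.Lib.Helper89.NisGenB

/-- Pullback of `O_Y^n` is `O_X^n`. -/
noncomputable def pullbackFreeIso {X Y : Scheme.{u}} (σ : X ⟶ Y) (n : ℕ) :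
    (Scheme.Modules.pullback σ).obj (FlatMod.freeMod Y n) ≅ FlatMod.freeMod X n :=
  haveI := (Scheme.Modules.pullbackPushforwardAdjunction σ).leftAdjoint_preservesColimits
  PreservesCoproduct.iso (Scheme.Modules.pullback σ) (fun _ : Fin n => Coh.structureModule Y) ≪≫
    Sigma.mapIso (fun _ => asIso (Groth.Agent.Lib.Helper20.PullbackUnit.pbu σ))

/-- An epimorphism `O^N ⟶ M~` on `Spec R` gives `N` generators of `M`. -/
theorem exists_generators_of_epi (R : CommRingCat.{u}) (M : ModuleCat.{u} R) [Module.Finite R M]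
    (N : ℕ) (φ : FlatMod.freeMod (Spec R) N ⟶ tilde M) [Epi φ] :
    ∃ s : Fin N → M, Submodule.span R (Set.range s) = ⊤ := by
  have key := Groth.Agent.S17860.result R M N 1 (fun _ => ⊤) (by simp) (by
    intro i
    let j : ((⊤ : (Spec R).Opens) : Scheme.{u}) ⟶ Spec R := (⊤ : (Spec R).Opens).ι
    haveI : (Scheme.Modules.restrictFunctor j).PreservesEpimorphisms :=
      Functor.preservesEpimorphisms_of_adjunction (Scheme.Modules.restrictAdjunction j)
    haveI : Epi ((Scheme.Modules.restrictFunctor j).map φ) := inferInstance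
    exact ⟨(Groth.Agent.Lib.Helper49.restrictFreeIso N j).inv ≫
      (Scheme.Modules.restrictFunctor j).map φ, epi_comp _ _⟩)
  obtain ⟨s, hs⟩ := key
  refine ⟨fun i => s (Fin.cast (by simp) i), ?_⟩
  rw [← hs]
  congr 1
  ext x
  constructor
  · rintro ⟨i, rfl⟩
    exact ⟨_, rfl⟩
  · rintro ⟨i, rfl⟩
    exact ⟨Fin.cast (by simp) i, by simp⟩

/-- If `f : U ⟶ Spec R` has a section over the closed subscheme `Spec R'' ⟶ Spec R` and `f^* M~` is
generated by `N` global sections, then `M = span t + ker ψ • M` for some `t : Fin N → M`. -/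
theorem exists_lift_of_section (R : CommRingCat.{u}) (M : ModuleCat.{u} R) [Module.Finite R M]
    {U : Scheme.{u}} (f : U ⟶ Spec R) (N : ℕ)
    (φ : FlatMod.freeMod U N ⟶ (Scheme.Modules.pullback f).obj (tilde M)) [Epi φ]
    (R'' : CommRingCat.{u}) (ψ : R ⟶ R'') (hψ : Function.Surjective ψ.hom)
    (σ : Spec R'' ⟶ U) (hσ : σ ≫ f = Spec.map ψ) :
    ∃ t : Fin N → M, ∀ m : M, ∃ c : Fin N → R,
      m - ∑ j, c j • t j ∈ RingHom.ker ψ.hom • (⊤ : Submodule R M) := by
  letI : Algebra R R'' := ψ.hom.toAlgebra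
  have : (Scheme.Modules.pullback σ).PreservesEpimorphisms :=
    Functor.preservesEpimorphisms_of_adjunction (Scheme.Modules.pullbackPushforwardAdjunction σ)
  have hepi : Epi ((Scheme.Modules.pullback σ).map φ) := inferInstance
  let e1 : (Scheme.Modules.pullback σ).obj ((Scheme.Modules.pullback f).obj (tilde M)) ≅
      (Scheme.Modules.pullback (σ ≫ f)).obj (tilde M) :=
    (Scheme.Modules.pullbackComp σ f).app (tilde M)
  let e2 : (Scheme.Modules.pullback (σ ≫ f)).obj (tilde M) ≅
      (Scheme.Modules.pullback (Spec.map ψ)).obj (tilde M) :=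
    (Scheme.Modules.pullbackCongr hσ).app (tilde M)
  obtain ⟨e3⟩ := Groth.Agent.Lib.Helper11.nonempty_pullback_tilde_iso R R'' M
  let M'' : ModuleCat.{u} R'' := ModuleCat.of R'' (R'' ⊗[R] M)
  have hfin : Module.Finite R'' M'' := inferInstanceAs (Module.Finite R'' (R'' ⊗[R] M))
  let χ : FlatMod.freeMod (Spec R'') N ⟶ tilde M'' :=
    (pullbackFreeIso σ N).inv ≫ (Scheme.Modules.pullback σ).map φ ≫ e1.hom ≫ e2.hom ≫ e3.hom
  have hχ : Epi χ := by
    have : Epi (e1.hom ≫ e2.hom ≫ e3.hom) := inferInstance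
    have : Epi ((Scheme.Modules.pullback σ).map φ ≫ e1.hom ≫ e2.hom ≫ e3.hom) := epi_comp _ _
    exact epi_comp _ _
  obtain ⟨s, hs⟩ := exists_generators_of_epi R'' M'' N χ
  exact Groth.Agent.Lib.Helper89.NisGenA.exists_lift_generators (R := R) (M := M) (R'' := R'')
    hψ s hs

end Groth.Agent.Lib.Helper89.NisGenB
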