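import Mathlib

/-!
# Finitely presented modules over a product ring (helper89)

For `P = Π i, A i` and a finitely presented `P`-module `M`, the product of the base changes
`A i ⊗[P] M` is again finitely presented over `P` (indeed isomorphic to `M`), also after
transporting the ring along isomorphisms `A i ≃ R i`.
-/

set_option autoImplicit false
universe u v w

namespace Groth.Agent.Lib.Helper89.PiFPA

open TensorProduct

/-- Finite presentation transfers along a semilinear bijection over a ring isomorphism. -/
theorem fp_of_semilinear {P R' M N : Type*} [CommRing P] [CommRing R'] (e : P ≃+* R')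
    [AddCommGroup M] [Module P M] [AddCommGroup N] [Module R' N] (Φ : M ≃+ N)
    (hΦ : ∀ (r : P) (m : M), Φ (r • m) = e r • Φ m) [Module.FinitePresentation P M] :
    Module.FinitePresentation R' N := by
  letI : Algebra P R' := e.toRingHom.toAlgebra
  letI : Module P N := Module.compHom N e.toRingHom
  haveI : IsScalarTower P R' N := IsScalarTower.of_algebraMap_smul fun r x => rfl
  let f : M →ₗ[P] N :=
    { toFun := Φ
      map_add' := Φ.map_add
      map_smul' := fun r m => hΦ r m }
  have hsymm : ∀ (r : P) (n : N), Φ.symm (e r • n) = r • Φ.symm n := by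
    intro r n
    apply Φ.injective
    rw [hΦ, Φ.apply_symm_apply, Φ.apply_symm_apply]
  have hbc : IsBaseChange R' f := by
    apply IsBaseChange.of_lift_unique
    intro Q _ _ _ _ g
    refine ⟨{ toFun := fun n => g (Φ.symm n)
              map_add' := fun a b => by rw [map_add, map_add]
              map_smul' := fun s n => ?_ }, ?_, ?_⟩
    · obtain ⟨r, rfl⟩ := e.surjective s
      simp only [RingHom.id_apply]
      rw [hsymm, map_smul]
      exact (algebraMap_smul R' r (g (Φ.symm n))).symm
    · ext m
      simp only [LinearMap.coe_comp, LinearMap.coe_restrictScalars, Function.comp_apply,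
        LinearMap.coe_mk, AddHom.coe_mk]
      show g (Φ.symm (Φ m)) = g m
      rw [Φ.symm_apply_apply]
    · intro g' hg'
      ext n
      show g' n = g (Φ.symm n)
      rw [← hg']
      show g' n = g' (Φ (Φ.symm n))
      rw [Φ.apply_symm_apply]
  exact _root_.FinitePresentation.of_isBaseChange f hbc

section Main

variable {ι : Type*} [DecidableEq ι] (A : ι → Type*) [∀ i, CommRing (A i)]

theorem single_one_mul (i : ι) (w : ∀ i, A i) :
    (Pi.single i 1 : ∀ i, A i) * w = Pi.single i (w i) := by
  funext i'
  by_cases h : i' = i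
  · subst h; simp
  · simp [Pi.single_eq_of_ne h]

theorem ext_of_single_smul {n : ℕ} (z z' : Fin n → ∀ i, A i)
    (h : ∀ i, (Pi.single i 1 : ∀ i, A i) • z = (Pi.single i 1 : ∀ i, A i) • z') : z = z' := by
  funext j i
  have h1 := congrFun (congrFun (h i) j) i
  simpa using h1

/-- The main algebraic lemma: a family of semilinear "base change" maps out of a finitely
presented module over the product ring assembles to a finitely presented module over the product
of the rings `R i ≃ A i`. -/
theorem finitePresentation_pi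
    (R : ι → Type*) [∀ i, CommRing (R i)] (ρ : ∀ i, A i →+* R i)
    (hρ : ∀ i, Function.Bijective (ρ i))
    (M : Type*) [AddCommGroup M] [Module (∀ i, A i) M] [Module.FinitePresentation (∀ i, A i) M]
    (N : ι → Type*) [∀ i, AddCommGroup (N i)] [∀ i, Module (R i) (N i)]
    (ν : ∀ i, M →+ N i)
    (hν : ∀ i (r : ∀ i, A i) (m : M), ν i (r • m) = ρ i (r i) • ν i m)
    (hS : ∀ i, Function.Surjective (ν i))
    (hK : ∀ i m, ν i m = 0 → (Pi.single i 1 : ∀ i, A i) • m = 0) :
    Module.FinitePresentation (∀ i, R i) (∀ i, N i) := by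
  classical
  obtain ⟨n, k, f, g, hf, hfg⟩ := Module.FinitePresentation.exists_fin' (∀ i, A i) M
  let e : (∀ i, A i) ≃+* (∀ i, R i) :=
    RingEquiv.piCongrRight fun i => RingEquiv.ofBijective (ρ i) (hρ i)
  let Φ₀ : M →+ ∀ i, N i :=
    { toFun := fun m i => ν i m
      map_zero' := by funext i; simp
      map_add' := fun a b => by funext i; simp }
  -- formula for `ν i (f x)`
  have hsum : ∀ i (x : Fin n → ∀ i, A i),
      ν i (f x) = ∑ j, ρ i (x j i) • ν i (f (Pi.single j 1)) := by
    intro i x
    have h1 : f x = ∑ j, x j • f (Pi.single j 1) := by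
      conv_lhs => rw [← Finset.univ_sum_single x]
      rw [map_sum]
      refine Finset.sum_congr rfl fun j _ => ?_
      rw [← map_smul]
      congr 1
      funext j'
      by_cases hjj : j' = j
      · subst hjj; simp
      · simp [Pi.single_eq_of_ne hjj]
    rw [h1, map_sum]
    exact Finset.sum_congr rfl fun j _ => hν i _ _
  have hsurj : Function.Surjective Φ₀ := by
    intro y
    choose m hm using fun i => hS i (y i)
    choose x hx using fun i => hf (m i)
    refine ⟨f (fun j i' => x i' j i'), ?_⟩
    funext i
    show ν i (f fun j i' => x i' j i') = y i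
    rw [← hm i, ← hx i, hsum, hsum]
  have hinj : Function.Injective Φ₀ := by
    rw [injective_iff_map_eq_zero]
    intro m hm
    have h0 : ∀ i, (Pi.single i 1 : ∀ i, A i) • m = 0 := fun i => hK i m (congrFun hm i)
    obtain ⟨x, rfl⟩ := hf m
    have h1 : ∀ i, ∃ c : Fin k → ∀ i, A i, g c = (Pi.single i 1 : ∀ i, A i) • x := by
      intro i
      have : f ((Pi.single i 1 : ∀ i, A i) • x) = 0 := by rw [map_smul]; exact h0 i
      obtain ⟨c, hc⟩ := (hfg _).mp this
      exact ⟨c, hc⟩
    choose c hc using h1
    have h2 : g (fun l i' => c i' l i') = x := by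
      apply ext_of_single_smul A
      intro i
      rw [← map_smul]
      have h3 : (Pi.single i 1 : ∀ i, A i) • (fun l i' => c i' l i') =
          (Pi.single i 1 : ∀ i, A i) • c i := by
        funext l
        show (Pi.single i 1 : ∀ i, A i) * (fun i' => c i' l i') =
          (Pi.single i 1 : ∀ i, A i) * c i l
        rw [single_one_mul, single_one_mul]
      rw [h3, map_smul, hc i, smul_smul, single_one_mul]
      simp
    rw [← h2]
    exact hfg.apply_apply_eq_zero _
  let Φ : M ≃+ (∀ i, N i) := AddEquiv.ofBijective Φ₀ ⟨hinj, hsurj⟩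
  refine fp_of_semilinear e Φ ?_
  intro r m
  funext i
  exact hν i r m

end Main

section Tensor

variable {ι : Type*} [DecidableEq ι] (A : ι → Type*) [∀ i, CommRing (A i)]
  (M : Type*) [AddCommGroup M] [Module (∀ i, A i) M]

/-- The evaluation algebra structure `Π i, A i → A i`. -/
@[reducible] def evalAlgebra (i : ι) : Algebra (∀ i, A i) (A i) := (Pi.evalRingHom A i).toAlgebra

attribute [local instance] evalAlgebra

theorem algebraMap_eval (i : ι) (r : ∀ i, A i) : algebraMap (∀ i, A i) (A i) r = r i := rfl

theorem one_tmul_smul (i : ι) (r : ∀ i, A i) (m : M) :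
    (1 : A i) ⊗ₜ[∀ i, A i] (r • m) = (r i) • ((1 : A i) ⊗ₜ[∀ i, A i] m) := by
  rw [← TensorProduct.smul_tmul, TensorProduct.smul_tmul']
  congr 1

theorem one_tmul_surjective (i : ι) :
    Function.Surjective fun m : M => (1 : A i) ⊗ₜ[∀ i, A i] m := by
  intro y
  induction y using TensorProduct.induction_on with
  | zero => exact ⟨0, by simp⟩
  | tmul a m =>
    refine ⟨(Pi.single i a : ∀ i, A i) • m, ?_⟩
    show (1 : A i) ⊗ₜ[∀ i, A i] ((Pi.single i a : ∀ i, A i) • m) = a ⊗ₜ m
    rw [← TensorProduct.smul_tmul]
    congr 1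
    rw [Algebra.smul_def, mul_one]
    show (Pi.single i a : ∀ i, A i) i = a
    simp
  | add a b ha hb =>
    obtain ⟨ma, hma⟩ := ha
    obtain ⟨mb, hmb⟩ := hb
    refine ⟨ma + mb, ?_⟩
    show (1 : A i) ⊗ₜ[∀ i, A i] (ma + mb) = a + b
    rw [TensorProduct.tmul_add]
    exact congrArg₂ (· + ·) hma hmb

/-- `a ↦ Pi.single i a` as a linear map over the product ring. -/
noncomputable def singleLin (i : ι) : A i →ₗ[∀ i, A i] (∀ i, A i) where
  toFun a := Pi.single i a
  map_add' a b := Pi.single_add i a b
  map_smul' r a := by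
    simp only [RingHom.id_apply]
    rw [Algebra.smul_def]
    funext i'
    by_cases h : i' = i
    · subst h; simp [algebraMap_eval]
    · simp [Pi.single_eq_of_ne h]

theorem single_smul_eq_zero_of_one_tmul_eq_zero (i : ι) (m : M)
    (h : (1 : A i) ⊗ₜ[∀ i, A i] m = 0) : (Pi.single i 1 : ∀ i, A i) • m = 0 := by
  let ψ : A i ⊗[∀ i, A i] M →ₗ[∀ i, A i] M :=
    TensorProduct.lift ((LinearMap.lsmul (∀ i, A i) M).comp (singleLin A i))
  have h1 : ψ ((1 : A i) ⊗ₜ[∀ i, A i] m) = (Pi.single i 1 : ∀ i, A i) • m := by
    simp only [ψ, TensorProduct.lift.tmul, LinearMap.coe_comp, Function.comp_apply,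
      LinearMap.lsmul_apply]
    rfl
  rw [← h1, h, map_zero]

end Tensor

end Groth.Agent.Lib.Helper89.PiFPA
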