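import Mathlib

/-!
# Ring-level lemmas for points of schemes with values in a product ring (helper89)

For a family of rings `A i` and a finite family of elements `b i k : A i` (`k : K`) spanning the
unit ideal of each `A i`, the rings `C k = Π i, (A i)_{b i k}` are localizations of `Π i, A i`
(hence flat) and `Spec (C k) → Spec (Π i, A i)` are jointly surjective.
-/

set_option autoImplicit false
universe u v w

namespace Groth.Agent.Lib.Helper89.PiPointsA

open PrimeSpectrum

section Span

variable {ι : Type*} (A : ι → Type*) [∀ i, CommRing (A i)]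

/-- A finite family of elements of a product ring which spans the unit ideal in each factor spans
the unit ideal. -/
theorem span_range_eq_top {K : Type*} [Finite K] (a : K → ∀ i, A i)
    (h : ∀ i, Ideal.span (Set.range fun k => a k i) = ⊤) :
    Ideal.span (Set.range a) = ⊤ := by
  classical
  haveI := Fintype.ofFinite K
  rw [Ideal.eq_top_iff_one]
  have h1 : ∀ i, ∃ c : K → A i, ∑ k, c k * a k i = 1 := by
    intro i
    have : (1 : A i) ∈ Ideal.span (Set.range fun k => a k i) := by rw [h i]; trivial
    exact (Ideal.mem_span_range_iff_exists_fun).mp this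
  choose c hc using h1
  have h2 : (1 : ∀ i, A i) = ∑ k, (fun i => c i k) * a k := by
    funext i
    simp only [Pi.one_apply, Finset.sum_apply, Pi.mul_apply]
    exact (hc i).symm
  rw [h2]
  exact Ideal.sum_mem _ fun k _ => Ideal.mul_mem_left _ _ (Ideal.subset_span ⟨k, rfl⟩)

/-- A quasi-compact open subset of the spectrum of a product ring which contains the image of the
spectrum of each factor is everything. -/
theorem eq_univ_of_isCompact_of_range_subset (s : Set (PrimeSpectrum (∀ i, A i)))
    (hs : IsCompact s) (ho : IsOpen s)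
    (h : ∀ i, Set.range (comap (Pi.evalRingHom A i)) ⊆ s) : s = Set.univ := by
  classical
  obtain ⟨t, rfl⟩ := isCompact_isOpen_iff.mp ⟨hs, ho⟩
  have key : Ideal.span (Set.range fun y : t => (y : ∀ i, A i)) = ⊤ := by
    apply span_range_eq_top
    intro i
    by_contra hne
    obtain ⟨m, hm, hle⟩ := Ideal.exists_le_maximal _ hne
    let q : PrimeSpectrum (A i) := ⟨m, hm.isPrime⟩
    have hq := h i ⟨q, rfl⟩
    apply hq
    rw [mem_zeroLocus]
    intro y hy
    show (Pi.evalRingHom A i) y ∈ m
    exact hle (Ideal.subset_span ⟨⟨y, hy⟩, rfl⟩)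
  have h3 : (Set.range fun y : t => (y : ∀ i, A i)) = (t : Set (∀ i, A i)) := by
    ext y; simp
  rw [h3] at key
  rw [← zeroLocus_span, key]
  simp

end Span

section Loc

variable {ι : Type*} (A : ι → Type*) [∀ i, CommRing (A i)] {K : Type*} (b : ∀ i, K → A i)

/-- The multiplicative subset of the product ring at which `Π i, (A i)_{b i k}` is the
localization. -/
def S (k : K) : Submonoid (∀ i, A i) := Submonoid.pi Set.univ fun i => Submonoid.powers (b i k)

instance isLocalization (k : K) :
    IsLocalization (S A b k) (∀ i, Localization.Away (b i k)) := by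
  unfold S
  infer_instance

instance flat (k : K) : Module.Flat (∀ i, A i) (∀ i, Localization.Away (b i k)) :=
  IsLocalization.flat _ (S A b k)

theorem mem_S_iff (k : K) (m : ∀ i, A i) : m ∈ S A b k ↔ ∀ i, ∃ e : ℕ, b i k ^ e = m i := by
  unfold S
  simp only [Submonoid.mem_pi, Set.mem_univ, forall_true_left, Submonoid.mem_powers_iff]

/-- Joint surjectivity: every prime of the product is disjoint from one of the `S k`. -/
theorem exists_disjoint [Finite K] (hb : ∀ i, Ideal.span (Set.range (b i)) = ⊤)
    (p : Ideal (∀ i, A i)) (hp : p ≠ ⊤) :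
    ∃ k, Disjoint (S A b k : Set (∀ i, A i)) (p : Set (∀ i, A i)) := by
  classical
  by_contra hcon
  push_neg at hcon
  have h1 : ∀ k, ∃ s : ∀ i, A i, s ∈ S A b k ∧ s ∈ p := by
    intro k
    obtain ⟨s, hs1, hs2⟩ := Set.not_disjoint_iff.mp (hcon k)
    exact ⟨s, hs1, hs2⟩
  choose s hsS hsp using h1
  have h2 : ∀ k i, ∃ e : ℕ, b i k ^ e = s k i := fun k i => (mem_S_iff A b k (s k)).mp (hsS k) i
  choose e he using h2
  have h3 : Ideal.span (Set.range s) = ⊤ := by
    apply span_range_eq_top
    intro i
    haveI := Fintype.ofFinite K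
    -- a common exponent
    let N : ℕ := ∑ k, e k i
    have hN : Ideal.span ((fun x => x ^ N) '' Set.range (b i)) = ⊤ :=
      Ideal.span_pow_eq_top _ (hb i) N
    rw [eq_top_iff, ← hN, Ideal.span_le]
    rintro _ ⟨_, ⟨k, rfl⟩, rfl⟩
    have hle : e k i ≤ N := Finset.single_le_sum (f := fun k => e k i) (fun _ _ => Nat.zero_le _)
      (Finset.mem_univ k)
    have : b i k ^ N = b i k ^ (N - e k i) * s k i := by
      rw [← he k i, ← pow_add, Nat.sub_add_cancel hle]
    show b i k ^ N ∈ Ideal.span (Set.range fun k => s k i)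
    rw [this]
    exact Ideal.mul_mem_left _ _ (Ideal.subset_span ⟨k, rfl⟩)
  apply hp
  rw [eq_top_iff, ← h3, Ideal.span_le]
  rintro _ ⟨k, rfl⟩
  exact hsp k

/-- Joint surjectivity on prime spectra. -/
theorem exists_mem_range_comap [Finite K] (hb : ∀ i, Ideal.span (Set.range (b i)) = ⊤)
    (x : PrimeSpectrum (∀ i, A i)) :
    ∃ k, x ∈ Set.range (comap (algebraMap (∀ i, A i) (∀ i, Localization.Away (b i k)))) := by
  obtain ⟨k, hk⟩ := exists_disjoint A b hb x.asIdeal x.2.ne_top
  refine ⟨k, ?_⟩
  rw [localization_comap_range _ (S A b k)]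
  exact hk

/-- The image of `Spec (Π i, (A i)_{b i k})` lies in the basic open of any element whose
components are the `b i k`. -/
theorem notMem_of_mem_range_comap (k : K) (a : ∀ i, A i) (ha : ∀ i, a i = b i k)
    (x : PrimeSpectrum (∀ i, A i))
    (hx : x ∈ Set.range (comap (algebraMap (∀ i, A i) (∀ i, Localization.Away (b i k))))) :
    a ∉ x.asIdeal := by
  rw [localization_comap_range _ (S A b k)] at hx
  intro hmem
  have h1 : a ∈ S A b k := (mem_S_iff A b k a).mpr fun i => ⟨1, by rw [pow_one, ha i]⟩
  exact Set.disjoint_left.mp hx h1 hmem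

end Loc

section Lift

variable {ι : Type*} (A : ι → Type*) [∀ i, CommRing (A i)] {K : Type*} (b : ∀ i, K → A i)

/-- The canonical map `Π i, (A i)_{b i k} → Π i, (A i)_{b i k * b i k'}`. -/
noncomputable def σR (k k' : K) :
    (∀ i, Localization.Away (b i k)) →+* (∀ i, Localization.Away (b i k * b i k')) :=
  Pi.ringHom fun i => (IsLocalization.Away.awayToAwayRight (S := Localization.Away (b i k))
    (P := Localization.Away (b i k * b i k')) (b i k) (b i k')).comp (Pi.evalRingHom _ i)

/-- The canonical map `Π i, (A i)_{b i k'} → Π i, (A i)_{b i k * b i k'}`. -/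
noncomputable def σL (k k' : K) :
    (∀ i, Localization.Away (b i k')) →+* (∀ i, Localization.Away (b i k * b i k')) :=
  Pi.ringHom fun i => (IsLocalization.Away.awayToAwayLeft (S := Localization.Away (b i k'))
    (P := Localization.Away (b i k * b i k')) (b i k') (b i k)).comp (Pi.evalRingHom _ i)

theorem σR_comp_algebraMap (k k' : K) :
    (σR A b k k').comp (algebraMap (∀ i, A i) (∀ i, Localization.Away (b i k))) =
      algebraMap (∀ i, A i) (∀ i, Localization.Away (b i k * b i k')) := by
  ext x i
  simp only [σR, RingHom.coe_comp, Function.comp_apply, Pi.ringHom_apply, Pi.evalRingHom_apply]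
  exact IsLocalization.Away.awayToAwayRight_eq (b i k) (b i k') (x i)

theorem σL_comp_algebraMap (k k' : K) :
    (σL A b k k').comp (algebraMap (∀ i, A i) (∀ i, Localization.Away (b i k'))) =
      algebraMap (∀ i, A i) (∀ i, Localization.Away (b i k * b i k')) := by
  ext x i
  simp only [σL, RingHom.coe_comp, Function.comp_apply, Pi.ringHom_apply, Pi.evalRingHom_apply]
  exact IsLocalization.Away.awayToAwayLeft_eq (b i k') (b i k) (x i)

/-- Two ring maps out of `C k` and `C k'` which agree on the product ring factor through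
`Π i, (A i)_{b i k * b i k'}`. -/
theorem exists_lift {D : Type*} [CommRing D] (k k' : K)
    (γ : (∀ i, Localization.Away (b i k)) →+* D) (γ' : (∀ i, Localization.Away (b i k')) →+* D)
    (h : γ.comp (algebraMap (∀ i, A i) (∀ i, Localization.Away (b i k))) =
      γ'.comp (algebraMap (∀ i, A i) (∀ i, Localization.Away (b i k')))) :
    ∃ l : (∀ i, Localization.Away (b i k * b i k')) →+* D,
      l.comp (σR A b k k') = γ ∧ l.comp (σL A b k k') = γ' := by
  classical
  let b2 : ∀ i, Unit → A i := fun i _ => b i k * b i k'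
  let θ : (∀ i, A i) →+* D := γ.comp (algebraMap (∀ i, A i) (∀ i, Localization.Away (b i k)))
  have hunit : ∀ m : S A b2 (), IsUnit (θ m) := by
    rintro ⟨m, hm⟩
    have h1 := (mem_S_iff A b2 () m).mp hm
    choose e he using h1
    let m1 : ∀ i, A i := fun i => b i k ^ e i
    let m2 : ∀ i, A i := fun i => b i k' ^ e i
    have hm12 : m = m1 * m2 := by
      funext i
      simp only [Pi.mul_apply, m1, m2]
      rw [← he i, mul_pow]
    have hu1 : IsUnit (θ m1) := by
      have : m1 ∈ S A b k := (mem_S_iff A b k m1).mpr fun i => ⟨e i, rfl⟩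
      exact (IsLocalization.map_units (∀ i, Localization.Away (b i k)) ⟨m1, this⟩).map γ
    have hu2 : IsUnit (θ m2) := by
      have : m2 ∈ S A b k' := (mem_S_iff A b k' m2).mpr fun i => ⟨e i, rfl⟩
      have h2 : θ m2 = γ' (algebraMap (∀ i, A i) (∀ i, Localization.Away (b i k')) m2) := by
        show (γ.comp _) m2 = (γ'.comp _) m2
        rw [h]
      rw [h2]
      exact (IsLocalization.map_units (∀ i, Localization.Away (b i k')) ⟨m2, this⟩).map γ'
    show IsUnit (θ m)
    rw [hm12, map_mul]
    exact hu1.mul hu2
  let l : (∀ i, Localization.Away (b i k * b i k')) →+* D :=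
    IsLocalization.lift (M := S A b2 ()) (S := ∀ i, Localization.Away (b2 i ())) hunit
  have hl : l.comp (algebraMap (∀ i, A i) (∀ i, Localization.Away (b i k * b i k'))) = θ :=
    IsLocalization.lift_comp hunit
  refine ⟨l, ?_, ?_⟩
  · apply IsLocalization.ringHom_ext (S A b k)
    rw [RingHom.comp_assoc, σR_comp_algebraMap, hl]
  · apply IsLocalization.ringHom_ext (S A b k')
    rw [RingHom.comp_assoc, σL_comp_algebraMap, hl, ← h]

end Lift

end Groth.Agent.Lib.Helper89.PiPointsA
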