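import Mathlib
import Groth.Agent.Lib.Helper89.PiPointsA

/-!
# Points of a qcqs scheme with values in a product ring (helper89)

`X(Π i, A i) = Π i, X(A i)` for a quasi-compact quasi-separated scheme `X`, by fpqc descent along
the cover of `Spec (Π i, A i)` by the spectra of the rings `Π i, (A i)_{b i k}`.
-/

set_option autoImplicit false
universe u

open CategoryTheory AlgebraicGeometry Limits

namespace Groth.Agent.Lib.Helper89.PiPointsB

open Groth.Agent.Lib.Helper89.PiPointsA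

/-- Gluing morphisms along an fpqc covering family. -/
lemma existsUnique_glue {κ : Type u} {T : Scheme.{u}} {Y : κ → Scheme.{u}} (p : ∀ i, Y i ⟶ T)
    (hp : Presieve.ofArrows Y p ∈ Scheme.fpqcPrecoverage T) (Z : Scheme.{u})
    (h : ∀ i, Y i ⟶ Z)
    (hh : ∀ (i j : κ) (W : Scheme.{u}) (gi : W ⟶ Y i) (gj : W ⟶ Y j), gi ≫ p i = gj ≫ p j →
      gi ≫ h i = gj ≫ h j) :
    ∃! g : T ⟶ Z, ∀ i, p i ≫ g = h i := by
  have hsh : Presieve.IsSheaf Scheme.fpqcTopology (yoneda.obj Z) :=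
    GrothendieckTopology.Subcanonical.isSheaf_of_isRepresentable _
  have h1 := hsh.isSheafFor_of_mem_precoverage hp
  rw [Presieve.isSheafFor_arrows_iff] at h1
  exact h1 h (fun i j W gi gj hg => hh i j W gi gj hg)

/-- Morphisms out of `T` are determined on an fpqc covering family. -/
lemma hom_ext_of_cover {T : Scheme.{u}} {κ : Type u} {Y : κ → Scheme.{u}} (c : ∀ a, Y a ⟶ T)
    (hc : Presieve.ofArrows Y c ∈ Scheme.fpqcPrecoverage T) {Z : Scheme.{u}} (s t : T ⟶ Z)
    (h : ∀ a, c a ≫ s = c a ≫ t) : s = t := by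
  obtain ⟨g₀, -, huniq⟩ := existsUnique_glue c hc Z
    (fun a => c a ≫ s) (by
      intro a a' W gi gj hg
      rw [← Category.assoc, ← Category.assoc, hg])
  rw [huniq s (fun a => rfl), huniq t (fun a => (h a).symm)]

section Affine

variable {ι : Type u} (B : ι → CommRingCat.{u})

/-- The morphisms `Spec (B i) ⟶ Spec (Π i, B i)`. -/
noncomputable abbrev pr (i : ι) : Spec (B i) ⟶ Spec (CommRingCat.of (∀ i, B i)) :=
  Spec.map (CommRingCat.ofHom (Pi.evalRingHom (fun j => (B j : Type u)) i))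

theorem affine_surj (Y : Scheme.{u}) [IsAffine Y] (g : ∀ i, Spec (B i) ⟶ Y) :
    ∃ G : Spec (CommRingCat.of (∀ i, B i)) ⟶ Y, ∀ i, pr B i ≫ G = g i := by
  let φ : ∀ i, Γ(Y, ⊤) ⟶ B i := fun i => Spec.preimage (g i ≫ Y.isoSpec.hom)
  have hφ : ∀ i, Spec.map (φ i) = g i ≫ Y.isoSpec.hom := fun i => Spec.map_preimage _
  refine ⟨Spec.map (CommRingCat.ofHom (RingHom.pi fun i => (φ i).hom)) ≫ Y.isoSpec.inv,
    fun i => ?_⟩
  rw [← Category.assoc, ← Spec.map_comp]
  have : CommRingCat.ofHom (RingHom.pi fun i => (φ i).hom) ≫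
      CommRingCat.ofHom (Pi.evalRingHom (fun j => (B j : Type u)) i) = φ i := by
    ext x; rfl
  rw [this, hφ, Category.assoc, Iso.hom_inv_id, Category.comp_id]

theorem affine_inj (Y : Scheme.{u}) [IsAffine Y] (G G' : Spec (CommRingCat.of (∀ i, B i)) ⟶ Y)
    (h : ∀ i, pr B i ≫ G = pr B i ≫ G') : G = G' := by
  rw [← cancel_mono Y.isoSpec.hom]
  obtain ⟨ψ, hψ⟩ : ∃ ψ, Spec.map ψ = G ≫ Y.isoSpec.hom := ⟨_, Spec.map_preimage _⟩
  obtain ⟨ψ', hψ'⟩ : ∃ ψ', Spec.map ψ' = G' ≫ Y.isoSpec.hom := ⟨_, Spec.map_preimage _⟩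
  rw [← hψ, ← hψ']
  congr 1
  ext x i
  have h1 : ψ ≫ CommRingCat.ofHom (Pi.evalRingHom (fun j => (B j : Type u)) i) =
      ψ' ≫ CommRingCat.ofHom (Pi.evalRingHom (fun j => (B j : Type u)) i) := by
    apply Spec.map_injective
    rw [Spec.map_comp, Spec.map_comp, hψ, hψ', ← Category.assoc, ← Category.assoc, h i]
  exact congrArg (fun f => f.hom x) h1

end Affine

section Cover

variable {ι : Type u} (A : ι → CommRingCat.{u}) {K : Type u} (b : ∀ i, K → A i)

/-- The ring `Π i, (A i)_{b i k}`. -/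
abbrev C (k : K) : CommRingCat.{u} := CommRingCat.of (∀ i, Localization.Away (b i k))

/-- The ring `(A i)_{b i k}`. -/
abbrev Aw (k : K) (i : ι) : CommRingCat.{u} := CommRingCat.of (Localization.Away (b i k))

/-- The morphism `Spec (Π i, (A i)_{b i k}) ⟶ Spec (Π i, A i)`. -/
noncomputable def π (k : K) : Spec (C A b k) ⟶ Spec (CommRingCat.of (∀ i, A i)) :=
  Spec.map (CommRingCat.ofHom (algebraMap (∀ i, A i) (∀ i, Localization.Away (b i k))))

/-- The open immersion `Spec (A i)_{b i k} ⟶ Spec (A i)`. -/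
noncomputable def loc (k : K) (i : ι) : Spec (Aw A b k i) ⟶ Spec (A i) :=
  Spec.map (CommRingCat.ofHom (algebraMap (A i) (Localization.Away (b i k))))

theorem pr_π (k : K) (i : ι) : pr (Aw A b k) i ≫ π A b k = loc A b k i ≫ pr A i := by
  simp only [π, loc, ← Spec.map_comp]
  rfl

instance flat_π (k : K) : Flat (π A b k) := by
  unfold π
  rw [HasRingHomProperty.Spec_iff (P := @Flat)]
  simp only [CommRingCat.hom_ofHom]
  rw [RingHom.flat_algebraMap_iff]
  exact PiPointsA.flat (fun i => (A i : Type u)) b k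

theorem exists_mem_range_π [Finite K] (hb : ∀ i, Ideal.span (Set.range (b i)) = ⊤)
    (x : Spec (CommRingCat.of (∀ i, A i))) : ∃ k, x ∈ Set.range (π A b k) := by
  obtain ⟨k, y, hy⟩ := exists_mem_range_comap (fun i => (A i : Type u)) b hb x
  exact ⟨k, y, hy⟩

theorem cover_mem [Finite K] (hb : ∀ i, Ideal.span (Set.range (b i)) = ⊤) :
    Presieve.ofArrows (fun k => Spec (C A b k)) (π A b) ∈
      Scheme.fpqcPrecoverage (Spec (CommRingCat.of (∀ i, A i))) := by
  let E : PreZeroHypercover.{u} (Spec (CommRingCat.of (∀ i, A i))) :=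
    ⟨K, fun k => Spec (C A b k), π A b⟩
  change E.presieve₀ ∈ (Scheme.qcPrecoverage ⊓ Scheme.precoverage @Flat) _
  have hmem : E.presieve₀ ∈ Scheme.precoverage @Flat _ :=
    (Scheme.presieve₀_mem_precoverage_iff E).2
      ⟨fun x => exists_mem_range_π A b hb x, fun k => flat_π A b k⟩
  refine ⟨Scheme.presieve₀_mem_qcPrecoverage_iff.2 ?_, hmem⟩
  let 𝒰 : (Spec (CommRingCat.of (∀ i, A i))).Cover (Scheme.precoverage @Flat) := ⟨E, hmem⟩
  haveI : Finite 𝒰.I₀ := ‹Finite K›
  haveI : ∀ i, QuasiCompact (𝒰.f i) := fun i => by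
    show QuasiCompact (π A b i)
    infer_instance
  exact QuasiCompactCover.of_finite (𝒰 := 𝒰)

end Cover

end Groth.Agent.Lib.Helper89.PiPointsB
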