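import Mathlib
import Groth.Agent.Lib.Helper89.PiPointsB

/-!
# Points of a qcqs scheme with values in a product ring: injectivity and surjectivity (helper89)
-/

set_option autoImplicit false
universe u

open CategoryTheory AlgebraicGeometry Limits

namespace Groth.Agent.Lib.Helper89.PiPointsC

open Groth.Agent.Lib.Helper89.PiPointsA Groth.Agent.Lib.Helper89.PiPointsB

/-- Partition of unity subordinate to a finite open cover of `Spec R`. -/
theorem exists_partition {R : CommRingCat.{u}} {K : Type*} [Finite K]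
    (T : K → (Spec R).Opens) (hT : ⨆ k, T k = ⊤) :
    ∃ a : K → R, (∀ k (x : PrimeSpectrum R), a k ∉ x.asIdeal → x ∈ ((T k).1 : Set (PrimeSpectrum R))) ∧
      Ideal.span (Set.range a) = ⊤ := by
  classical
  haveI := Fintype.ofFinite K
  let I : K → Ideal R := fun i => PrimeSpectrum.vanishingIdeal (((T i).1 : Set (PrimeSpectrum R))ᶜ)
  have hI : ∀ i, PrimeSpectrum.zeroLocus (I i : Set R) = ((T i).1 : Set (PrimeSpectrum R))ᶜ := by
    intro i
    rw [PrimeSpectrum.zeroLocus_vanishingIdeal_eq_closure]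
    exact (T i).2.isClosed_compl.closure_eq
  have htop : (⨆ i, I i) = ⊤ := by
    rw [← PrimeSpectrum.zeroLocus_empty_iff_eq_top, PrimeSpectrum.zeroLocus_iSup]
    simp_rw [hI]
    refine Set.eq_empty_iff_forall_notMem.mpr fun p hp => ?_
    have hp' : ∀ i, p ∉ T i := fun i => Set.mem_iInter.mp hp i
    have : p ∈ (⨆ i, T i) := by rw [hT]; trivial
    obtain ⟨i, hi⟩ := TopologicalSpace.Opens.mem_iSup.mp this
    exact hp' i hi
  have h1 : (1 : R) ∈ ⨆ i ∈ (Finset.univ : Finset K), I i := by
    simp [htop]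
  obtain ⟨μ, hμ⟩ := (Submodule.mem_iSup_finset_iff_exists_sum _ _).mp h1
  refine ⟨fun i => (μ i : R), ?_, ?_⟩
  · intro i p hp
    by_contra hpT
    have : p ∈ PrimeSpectrum.zeroLocus (I i : Set R) := by rw [hI]; exact hpT
    exact hp (this (μ i).2)
  · rw [Ideal.eq_top_iff_one, ← hμ]
    exact Ideal.sum_mem _ fun i _ => Ideal.subset_span ⟨i, rfl⟩

/-- A finite affine open cover of a quasi-compact scheme, indexed by a type in `Type u`. -/
theorem exists_finite_affine_cover (X : Scheme.{u}) [CompactSpace X] :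
    ∃ (K : Type u) (_ : Finite K) (U : K → X.Opens), (∀ k, IsAffineOpen (U k)) ∧ ⨆ k, U k = ⊤ := by
  obtain ⟨s, hs, hsU⟩ := (isCompact_iff_finite_and_eq_biUnion_affineOpens (X := X) (U := ⊤)).mp
    (by simpa using isCompact_univ)
  refine ⟨↥s, hs.to_subtype, fun k => k.1.1, fun k => k.1.2, ?_⟩
  rw [hsU]
  exact iSup_subtype'' s fun V => V.1

variable (X : Scheme.{u}) [CompactSpace X] [QuasiSeparatedSpace X]
  {ι : Type u} (A : ι → CommRingCat.{u})

theorem span_eval {K : Type*} (a : K → (∀ i, A i)) (ha : Ideal.span (Set.range a) = ⊤) (i : ι) :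
    Ideal.span (Set.range fun k => a k i) = ⊤ := by
  have h1 : (Set.range fun k => a k i) =
      (Pi.evalRingHom (fun j => (A j : Type u)) i) '' Set.range a := by
    rw [← Set.range_comp]; rfl
  rw [h1, ← Ideal.map_span, ha, Ideal.map_top]

/-- The image of `loc` lies in the basic open. -/
theorem notMem_loc {K : Type u} (b : ∀ i, K → A i) (k : K) (i : ι)
    (y : Spec (Aw A b k i)) :
    b i k ∉ ((loc A b k i) y : PrimeSpectrum (A i)).asIdeal := by
  intro hmem
  have h1 : algebraMap (A i) (Localization.Away (b i k)) (b i k) ∈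
      (y : PrimeSpectrum (Localization.Away (b i k))).asIdeal := hmem
  have h2 : IsUnit (algebraMap (A i) (Localization.Away (b i k)) (b i k)) :=
    IsLocalization.Away.algebraMap_isUnit (b i k)
  exact (y : PrimeSpectrum (Localization.Away (b i k))).2.ne_top
    (Ideal.eq_top_of_isUnit_mem _ h1 h2)

/-- Injectivity: a morphism from `Spec (Π i, A i)` to a qcqs scheme is determined by its
restrictions to the `Spec (A i)`. -/
theorem inj (f g : Spec (CommRingCat.of (∀ i, A i)) ⟶ X)
    (h : ∀ i, pr A i ≫ f = pr A i ≫ g) : f = g := by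
  classical
  obtain ⟨K, hK, U, hUaff, hUtop⟩ := exists_finite_affine_cover X
  -- the opens where both `f` and `g` land in `U k`
  let W : K → (Spec (CommRingCat.of (∀ i, A i))).Opens := fun k => f ⁻¹ᵁ U k ⊓ g ⁻¹ᵁ U k
  have hWc : ∀ k, IsCompact ((W k : Set (Spec (CommRingCat.of (∀ i, A i))))) := by
    intro k
    exact QuasiSeparatedSpace.inter_isCompact _ _ (f ⁻¹ᵁ U k).2
      (f.isCompact_preimage (hUaff k).isCompact) (g ⁻¹ᵁ U k).2
      (g.isCompact_preimage (hUaff k).isCompact)
  have hWtop : ⨆ k, W k = ⊤ := by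
    apply TopologicalSpace.Opens.ext
    have h1 : ((⨆ k, W k : (Spec (CommRingCat.of (∀ i, A i))).Opens).1 :
        Set (PrimeSpectrum (∀ i, A i))) = Set.univ := by
      refine eq_univ_of_isCompact_of_range_subset (fun i => (A i : Type u)) _ ?_ (⨆ k, W k).2 ?_
      · have h2 : ((⨆ k, W k : (Spec (CommRingCat.of (∀ i, A i))).Opens).1 :
            Set (PrimeSpectrum (∀ i, A i))) = ⋃ k, (W k : Set (Spec (CommRingCat.of (∀ i, A i)))) :=
          TopologicalSpace.Opens.coe_iSup _
        rw [h2]
        exact isCompact_iUnion hWc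
      · rintro i _ ⟨y, rfl⟩
        change ((pr A i) y) ∈ (⨆ k, W k : (Spec (CommRingCat.of (∀ i, A i))).Opens)
        have hx : f ((pr A i) y) ∈ (⨆ k, U k : X.Opens) := by rw [hUtop]; trivial
        obtain ⟨k, hk⟩ := TopologicalSpace.Opens.mem_iSup.mp hx
        refine TopologicalSpace.Opens.mem_iSup.mpr ⟨k, hk, ?_⟩
        show g ((pr A i) y) ∈ U k
        have e1 : g ((pr A i) y) = f ((pr A i) y) := by
          rw [← Scheme.Hom.comp_apply, ← Scheme.Hom.comp_apply, h i]
        rw [e1]; exact hk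
    exact h1
  obtain ⟨a, haW, haspan⟩ := exists_partition W hWtop
  let b : ∀ i, K → A i := fun i k => a k i
  have hb : ∀ i, Ideal.span (Set.range (b i)) = ⊤ := fun i => span_eval A a haspan i
  apply hom_ext_of_cover (π A b) (cover_mem A b hb)
  intro k
  have hrange : ∀ y : Spec (C A b k), (π A b k) y ∈ W k := by
    intro y
    apply haW k
    exact notMem_of_mem_range_comap (fun i => (A i : Type u)) b k (a k) (fun i => rfl) _ ⟨y, rfl⟩
  haveI : IsAffine (U k : Scheme) := hUaff k
  have hf : Set.range (π A b k ≫ f) ⊆ Set.range (U k).ι := by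
    rintro _ ⟨y, rfl⟩
    rw [Scheme.Opens.range_ι]
    exact (hrange y).1
  have hg : Set.range (π A b k ≫ g) ⊆ Set.range (U k).ι := by
    rintro _ ⟨y, rfl⟩
    rw [Scheme.Opens.range_ι]
    exact (hrange y).2
  have key : IsOpenImmersion.lift (U k).ι (π A b k ≫ f) hf =
      IsOpenImmersion.lift (U k).ι (π A b k ≫ g) hg := by
    apply affine_inj (Aw A b k)
    intro i
    rw [← cancel_mono (U k).ι, Category.assoc, Category.assoc, IsOpenImmersion.lift_fac,
      IsOpenImmersion.lift_fac, ← Category.assoc, ← Category.assoc, pr_π, Category.assoc,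
      Category.assoc, h i]
  rw [← IsOpenImmersion.lift_fac (U k).ι (π A b k ≫ f) hf, key, IsOpenImmersion.lift_fac]

end Groth.Agent.Lib.Helper89.PiPointsC
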