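import Mathlib
import Groth.Agent.Lib.Helper89.PiPointsC

/-!
# Points of a qcqs scheme with values in a product ring: surjectivity (helper89)
-/

set_option autoImplicit false
universe u

open CategoryTheory AlgebraicGeometry Limits

namespace Groth.Agent.Lib.Helper89.PiPointsD

open Groth.Agent.Lib.Helper89.PiPointsA Groth.Agent.Lib.Helper89.PiPointsB
  Groth.Agent.Lib.Helper89.PiPointsC

variable (X : Scheme.{u}) [CompactSpace X] [QuasiSeparatedSpace X]
  {ι : Type u} (A : ι → CommRingCat.{u})

section Compat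

variable {K : Type u} (b : ∀ i, K → A i) (h : ∀ i, Spec (A i) ⟶ X)
  (F : ∀ k, Spec (C A b k) ⟶ X)
  (hF : ∀ k i, pr (Aw A b k) i ≫ F k = loc A b k i ≫ h i)

/-- The ring `(A i)_{b i k * b i k'}`. -/
abbrev Aw2 (k k' : K) (i : ι) : CommRingCat.{u} :=
  CommRingCat.of (Localization.Away (b i k * b i k'))

include hF in
theorem compat_aux (k k' : K) :
    Spec.map (CommRingCat.ofHom (σR (fun i => (A i : Type u)) b k k')) ≫ F k =
      Spec.map (CommRingCat.ofHom (σL (fun i => (A i : Type u)) b k k')) ≫ F k' := by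
  apply inj X (Aw2 A b k k')
  intro i
  -- left side
  have hL : pr (Aw2 A b k k') i ≫
      Spec.map (CommRingCat.ofHom (σR (fun i => (A i : Type u)) b k k')) =
      Spec.map (CommRingCat.ofHom (IsLocalization.Away.awayToAwayRight
        (S := Localization.Away (b i k)) (P := Localization.Away (b i k * b i k'))
        (b i k) (b i k'))) ≫ pr (Aw A b k) i := by
    simp only [← Spec.map_comp]
    rfl
  have hR : pr (Aw2 A b k k') i ≫
      Spec.map (CommRingCat.ofHom (σL (fun i => (A i : Type u)) b k k')) =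
      Spec.map (CommRingCat.ofHom (IsLocalization.Away.awayToAwayLeft
        (S := Localization.Away (b i k')) (P := Localization.Away (b i k * b i k'))
        (b i k') (b i k))) ≫ pr (Aw A b k') i := by
    simp only [← Spec.map_comp]
    rfl
  have hL2 : Spec.map (CommRingCat.ofHom (IsLocalization.Away.awayToAwayRight
        (S := Localization.Away (b i k)) (P := Localization.Away (b i k * b i k'))
        (b i k) (b i k'))) ≫ loc A b k i =
      Spec.map (CommRingCat.ofHom (algebraMap (A i) (Localization.Away (b i k * b i k')))) := by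
    simp only [loc, ← Spec.map_comp]
    congr 1
    ext x
    exact IsLocalization.Away.awayToAwayRight_eq (b i k) (b i k') x
  have hR2 : Spec.map (CommRingCat.ofHom (IsLocalization.Away.awayToAwayLeft
        (S := Localization.Away (b i k')) (P := Localization.Away (b i k * b i k'))
        (b i k') (b i k))) ≫ loc A b k' i =
      Spec.map (CommRingCat.ofHom (algebraMap (A i) (Localization.Away (b i k * b i k')))) := by
    simp only [loc, ← Spec.map_comp]
    congr 1
    ext x
    exact IsLocalization.Away.awayToAwayLeft_eq (b i k') (b i k) x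
  rw [← Category.assoc, hL, Category.assoc, hF k i, ← Category.assoc, hL2,
    ← Category.assoc, hR, Category.assoc, hF k' i, ← Category.assoc, hR2]

include hF in
theorem compat_affine (k k' : K) (D : CommRingCat.{u}) (gk : Spec D ⟶ Spec (C A b k))
    (gk' : Spec D ⟶ Spec (C A b k')) (hg : gk ≫ π A b k = gk' ≫ π A b k') :
    gk ≫ F k = gk' ≫ F k' := by
  obtain ⟨γ, rfl⟩ : ∃ γ, Spec.map γ = gk := ⟨_, Spec.map_preimage _⟩
  obtain ⟨γ', rfl⟩ : ∃ γ', Spec.map γ' = gk' := ⟨_, Spec.map_preimage _⟩
  have h1 : γ.hom.comp (algebraMap (∀ i, A i) (∀ i, Localization.Away (b i k))) =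
      γ'.hom.comp (algebraMap (∀ i, A i) (∀ i, Localization.Away (b i k'))) := by
    simp only [π, ← Spec.map_comp] at hg
    have h2 := Spec.map_injective hg
    exact congrArg CommRingCat.Hom.hom h2
  obtain ⟨l, hl1, hl2⟩ := exists_lift (fun i => (A i : Type u)) b k k' γ.hom γ'.hom h1
  have e1 : γ = CommRingCat.ofHom (σR (fun i => (A i : Type u)) b k k') ≫ CommRingCat.ofHom l := by
    ext x
    exact (congrArg (fun φ => φ x) hl1).symm
  have e2 : γ' = CommRingCat.ofHom (σL (fun i => (A i : Type u)) b k k') ≫ CommRingCat.ofHom l := by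
    ext x
    exact (congrArg (fun φ => φ x) hl2).symm
  rw [e1, e2, Spec.map_comp, Spec.map_comp, Category.assoc, Category.assoc,
    compat_aux X A b h F hF k k']

include hF in
theorem compat (k k' : K) (W : Scheme.{u}) (gk : W ⟶ Spec (C A b k))
    (gk' : W ⟶ Spec (C A b k')) (hg : gk ≫ π A b k = gk' ≫ π A b k') :
    gk ≫ F k = gk' ≫ F k' := by
  apply W.affineOpenCover.openCover.hom_ext
  intro j
  have h1 := compat_affine X A b h F hF k k' (W.affineOpenCover.X j)
    (W.affineOpenCover.f j ≫ gk) (W.affineOpenCover.f j ≫ gk')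
    (by rw [Category.assoc, Category.assoc, hg])
  rw [Category.assoc, Category.assoc] at h1
  exact h1

end Compat

/-- Surjectivity: every family of morphisms `Spec (A i) ⟶ X` to a qcqs scheme comes from a
morphism `Spec (Π i, A i) ⟶ X`. -/
theorem surj (h : ∀ i, Spec (A i) ⟶ X) :
    ∃ f : Spec (CommRingCat.of (∀ i, A i)) ⟶ X, ∀ i, pr A i ≫ f = h i := by
  classical
  obtain ⟨K, hK, U, hUaff, hUtop⟩ := exists_finite_affine_cover X
  -- partitions of unity
  have hpart : ∀ i, ∃ b : K → A i,
      (∀ k (x : PrimeSpectrum (A i)), b k ∉ x.asIdeal →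
        x ∈ (((h i) ⁻¹ᵁ U k).1 : Set (PrimeSpectrum (A i)))) ∧
      Ideal.span (Set.range b) = ⊤ := by
    intro i
    apply exists_partition (fun k => (h i) ⁻¹ᵁ U k)
    rw [← Scheme.Hom.preimage_iSup, hUtop]
    rfl
  choose b hbT hb using hpart
  haveI : ∀ k, IsAffine (U k : Scheme) := fun k => hUaff k
  -- the local pieces
  have hrange : ∀ k i, Set.range (loc A b k i ≫ h i) ⊆ Set.range (U k).ι := by
    rintro k i _ ⟨y, rfl⟩
    rw [Scheme.Opens.range_ι]
    exact hbT i k _ (notMem_loc A b k i y)
  have hG : ∀ k, ∃ G : Spec (C A b k) ⟶ (U k : Scheme), ∀ i, pr (Aw A b k) i ≫ G =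
      IsOpenImmersion.lift (U k).ι (loc A b k i ≫ h i) (hrange k i) := fun k =>
    affine_surj (Aw A b k) (U k : Scheme) _
  choose G hGpr using hG
  let F : ∀ k, Spec (C A b k) ⟶ X := fun k => G k ≫ (U k).ι
  have hF : ∀ k i, pr (Aw A b k) i ≫ F k = loc A b k i ≫ h i := by
    intro k i
    show pr (Aw A b k) i ≫ G k ≫ (U k).ι = _
    rw [← Category.assoc, hGpr k i, IsOpenImmersion.lift_fac]
  obtain ⟨f, hf, -⟩ := existsUnique_glue (π A b) (cover_mem A b hb) X F
    (fun k k' W gk gk' hg => compat X A b h F hF k k' W gk gk' hg)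
  refine ⟨f, fun i => ?_⟩
  apply (Scheme.affineOpenCoverOfSpanRangeEqTop (b i) (hb i)).openCover.hom_ext
  intro k
  show loc A b k i ≫ pr A i ≫ f = loc A b k i ≫ h i
  rw [← Category.assoc, ← pr_π, Category.assoc, hf k, hF k i]

/-- `X(Π i, A i) = Π i, X(A i)` for a quasi-compact quasi-separated scheme `X`. -/
theorem bijective :
    Function.Bijective (fun f : Spec (CommRingCat.of (∀ i, A i)) ⟶ X =>
      fun i : ι => Spec.map (CommRingCat.ofHom (Pi.evalRingHom (fun j => (A j : Type u)) i)) ≫ f) := by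
  refine ⟨fun f g hfg => inj X A f g fun i => congrFun hfg i, fun h => ?_⟩
  obtain ⟨f, hf⟩ := surj X A h
  exact ⟨f, funext hf⟩

end Groth.Agent.Lib.Helper89.PiPointsD
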