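import Mathlib
import Groth.Agent.Lib.Helper89.PiFPA
import Groth.Agent.Lib.Helper89.PiPointsD
import Groth.Agent.Lib.Helper49.PrinPartFP
import Groth.Agent.Lib.Helper49.FinitePresentation2
import Groth.Agent.Lib.Helper11.TildePullback

/-!
# Products of sections of pullbacks of a finitely presented module (helper89)
-/

set_option autoImplicit false
universe u

open CategoryTheory AlgebraicGeometry Limits TensorProduct Opposite

namespace Groth.Agent.Lib.Helper89.PiFPB

open Groth.Agent.Lib.Helper89.PiFPA Groth.Agent.Lib.Helper89.PiPointsB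

/-- Sections of the pullback of a quasi-coherent module along `Spec S ⟶ Spec R`. -/
theorem nonempty_iso_sections (R S : CommRingCat.{u}) [Algebra R S]
    (G : (Spec R).Modules) [G.IsQuasicoherent] :
    Nonempty ((moduleSpecΓFunctor (R := S)).obj
        ((Scheme.Modules.pullback (Spec.map (CommRingCat.ofHom (algebraMap R S)))).obj G) ≅
      ModuleCat.of S (S ⊗[R] ((modulesSpecToSheaf.obj G).presheaf.obj (.op ⊤)))) := by
  have h0 : IsIso (C := (Spec R).Modules) G.fromTildeΓ :=
    (isQuasicoherent_iff_isIso_fromTildeΓ G).mp inferInstance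
  let e1 : (tilde.functor R).obj ((modulesSpecToSheaf.obj G).presheaf.obj (.op ⊤)) ≅ G :=
    @asIso (Spec R).Modules _ _ _ G.fromTildeΓ h0
  obtain ⟨e2⟩ := Groth.Agent.Lib.Helper11.nonempty_pullback_tilde_iso R S
    ((modulesSpecToSheaf.obj G).presheaf.obj (.op ⊤))
  exact ⟨(moduleSpecΓFunctor (R := S)).mapIso
    ((Scheme.Modules.pullback _).mapIso e1.symm ≪≫ e2) ≪≫
    (tilde.isoTop (ModuleCat.of S (S ⊗[R]
      ((modulesSpecToSheaf.obj G).presheaf.obj (.op ⊤))))).symm⟩

end Groth.Agent.Lib.Helper89.PiFPB
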