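import Mathlib
import Groth.Agent.Lib.Helper89.PiFPB

/-!
# Products of sections of pullbacks of a finitely presented module: main theorem (helper89)
-/

set_option autoImplicit false
universe u

open CategoryTheory AlgebraicGeometry Limits TensorProduct Opposite

namespace Groth.Agent.Lib.Helper89.PiFPC

open Groth.Agent.Lib.Helper89.PiFPA Groth.Agent.Lib.Helper89.PiPointsB
  Groth.Agent.Lib.Helper89.PiFPB

theorem algebraMap_top_bijective (R : CommRingCat.{u}) :
    Function.Bijective (algebraMap R Γ(Spec R, ⊤)) :=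
  StructureSheaf.algebraMap_obj_top_bijective

variable (X : Scheme.{u}) [CompactSpace X] [QuasiSeparatedSpace X]
  {ι : Type u} (A : ι → CommRingCat.{u})

/-- The key linear equivalences. -/
theorem nonempty_linearEquiv (f₀ : Spec (CommRingCat.of (∀ i, A i)) ⟶ X) (F : X.Modules)
    [((Scheme.Modules.pullback f₀).obj F).IsQuasicoherent]
    (f : ∀ i, Spec (A i) ⟶ X) (hf₀ : ∀ i, pr A i ≫ f₀ = f i) (i : ι) :
    letI : Algebra (∀ i, A i) (A i) := evalAlgebra (fun i => (A i : Type u)) i
    Nonempty (((moduleSpecΓFunctor (R := A i)).obj ((Scheme.Modules.pullback (f i)).obj F)) ≃ₗ[A i]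
      ((A i) ⊗[∀ i, A i] ((modulesSpecToSheaf.obj ((Scheme.Modules.pullback f₀).obj F)).presheaf.obj
        (.op ⊤) : ModuleCat (CommRingCat.of (∀ i, A i))))) := by
  letI : Algebra (∀ i, A i) (A i) := evalAlgebra (fun i => (A i : Type u)) i
  obtain ⟨e⟩ := nonempty_iso_sections (CommRingCat.of (∀ i, A i)) (A i)
    ((Scheme.Modules.pullback f₀).obj F)
  let e5 : (Scheme.Modules.pullback (f i)).obj F ≅
      (Scheme.Modules.pullback (pr A i)).obj ((Scheme.Modules.pullback f₀).obj F) :=
    (Scheme.Modules.pullbackCongr (hf₀ i).symm).app F ≪≫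
      ((Scheme.Modules.pullbackComp (pr A i) f₀).app F).symm
  exact ⟨((moduleSpecΓFunctor (R := A i)).mapIso e5 ≪≫ e).toLinearEquiv⟩


/-- The product of the modules of sections of the pullbacks of a finitely presented module along
`f i : Spec (A i) ⟶ X` is finitely presented over the product ring. -/
theorem main (f : ∀ i, Spec (A i) ⟶ X) (F : X.Modules)
    (hF : SheafOfModules.IsFinitePresentation (R := X.ringCatSheaf) F) :
    Module.FinitePresentation (∀ i, Γ(Spec (A i), ⊤))
      (∀ i, Γ((Scheme.Modules.pullback (f i)).obj F, ⊤)) := by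
  classical
  obtain ⟨f₀, hf₀⟩ := Groth.Agent.Lib.Helper89.PiPointsD.surj X A f
  haveI hFq : F.IsQuasicoherent := by
    obtain ⟨σ, -⟩ := SheafOfModules.IsFinitePresentation.exists_quasicoherentData
      (R := X.ringCatSheaf) F
    exact σ.isQuasicoherent
  have hG : SheafOfModules.IsFinitePresentation
      (R := (Spec (CommRingCat.of (∀ i, A i))).ringCatSheaf)
      ((Scheme.Modules.pullback f₀).obj F) :=
    Groth.Agent.Lib.Helper49.PrinPartFP.isFinitePresentation_pullback f₀ F hF
  haveI hGq : ((Scheme.Modules.pullback f₀).obj F).IsQuasicoherent := by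
    obtain ⟨σ, -⟩ := SheafOfModules.IsFinitePresentation.exists_quasicoherentData
      (R := (Spec (CommRingCat.of (∀ i, A i))).ringCatSheaf) ((Scheme.Modules.pullback f₀).obj F)
    exact σ.isQuasicoherent
  let MG : ModuleCat (CommRingCat.of (∀ i, A i)) :=
    (modulesSpecToSheaf.obj ((Scheme.Modules.pullback f₀).obj F)).presheaf.obj (.op ⊤)
  haveI hMG : Module.FinitePresentation (∀ i, A i) MG :=
    (Groth.Agent.Lib.Helper49.isFinitePresentation_iff_finitePresentation_Γ
      (CommRingCat.of (∀ i, A i)) ((Scheme.Modules.pullback f₀).obj F)).mp hG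
  letI alg : ∀ i, Algebra (∀ i, A i) (A i) := fun i => evalAlgebra (fun i => (A i : Type u)) i
  have key := fun i => nonempty_linearEquiv X A f₀ F f hf₀ i
  let θ := fun i => Classical.choice (key i)
  -- the semilinear maps
  let ν : ∀ i, MG →+ Γ((Scheme.Modules.pullback (f i)).obj F, ⊤) := fun i =>
    ((θ i).symm.toLinearMap.toAddMonoidHom).comp
      ((TensorProduct.mk (∀ i, A i) (A i) MG 1).toAddMonoidHom)
  have hνdef : ∀ i (m : MG), ν i m = (θ i).symm ((1 : A i) ⊗ₜ[∀ i, A i] m) := fun i m => rfl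
  refine finitePresentation_pi (fun i => (A i : Type u)) (fun i => Γ(Spec (A i), ⊤))
    (fun i => algebraMap (A i) Γ(Spec (A i), ⊤)) (fun i => algebraMap_top_bijective (A i))
    MG (fun i => Γ((Scheme.Modules.pullback (f i)).obj F, ⊤)) ν ?_ ?_ ?_
  · intro i r m
    rw [hνdef, hνdef, one_tmul_smul, map_smul]
    exact (algebraMap_smul Γ(Spec (A i), ⊤) (r i) _).symm
  · intro i y
    obtain ⟨m, hm⟩ := one_tmul_surjective (fun i => (A i : Type u)) MG i ((θ i) y)
    refine ⟨m, ?_⟩
    rw [hνdef]
    show (θ i).symm ((1 : A i) ⊗ₜ[∀ i, A i] m) = y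
    rw [(θ i).symm_apply_eq]
    exact hm
  · intro i m hm
    apply single_smul_eq_zero_of_one_tmul_eq_zero (fun i => (A i : Type u)) MG i m
    rw [hνdef] at hm
    exact (θ i).symm.map_eq_zero_iff.mp hm

end Groth.Agent.Lib.Helper89.PiFPC
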