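import Mathlib

/-!
# Products of uniformly finite free algebras (helper89)

For families `A i`, `B i` of commutative rings with `B i` a free `A i`-module on a basis indexed by
a fixed finite type, `Q = Π i, B i` is free over `P = Π i, A i` on the "diagonal" basis, and the
square `P → Q ⇉ Π i, B i ⊗[A i] B i` is a pushout of commutative rings.
-/

set_option autoImplicit false
universe u

namespace Groth.Agent.Lib.Helper89.PiHensA

open TensorProduct CategoryTheory

section PiBasis

variable {ι : Type*} {A : ι → Type*} [∀ i, CommRing (A i)]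
  {N : ι → Type*} [∀ i, AddCommGroup (N i)] [∀ i, Module (A i) (N i)]
  {κ : Type*} [Finite κ]

/-- The coordinate equivalence of a product of free modules with bases indexed by a fixed finite
type, over the product ring. -/
noncomputable def piEquivFun (b : ∀ i, Module.Basis κ (A i) (N i)) :
    (∀ i, N i) ≃ₗ[∀ i, A i] (κ → ∀ i, A i) where
  toFun n := fun k i => (b i).equivFun (n i) k
  invFun c := fun i => (b i).equivFun.symm (fun k => c k i)
  map_add' n n' := by
    funext k i
    simp
  map_smul' p n := by
    funext k i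
    simp
  left_inv n := by
    funext i
    show (b i).equivFun.symm ((b i).equivFun (n i)) = n i
    exact (b i).equivFun.symm_apply_apply (n i)
  right_inv c := by
    funext k i
    simp

/-- The diagonal basis of a product of free modules over the product ring. -/
noncomputable def piBasis (b : ∀ i, Module.Basis κ (A i) (N i)) :
    Module.Basis κ (∀ i, A i) (∀ i, N i) :=
  Module.Basis.ofEquivFun (piEquivFun b)

theorem piBasis_apply (b : ∀ i, Module.Basis κ (A i) (N i)) (k : κ) (i : ι) :
    piBasis b k i = b i k := by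
  classical
  have h1 : piEquivFun b (fun i => b i k) = Pi.single k 1 := by
    funext k' i
    show (b i).equivFun (b i k) k' = (Pi.single k (1 : ∀ i, A i) : κ → ∀ i, A i) k' i
    rw [Module.Basis.equivFun_self]
    by_cases h : k = k'
    · subst h; simp
    · rw [if_neg h, Pi.single_eq_of_ne (Ne.symm h)]; rfl
  have h2 : piBasis b k = fun i => b i k := by
    have h3 := congrFun (Module.Basis.coe_ofEquivFun (piEquivFun b)) k
    show Module.Basis.ofEquivFun (piEquivFun b) k = _
    rw [h3, ← h1, LinearEquiv.symm_apply_apply]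
  rw [h2]

end PiBasis

section Pushout

variable {ι : Type u} (A B : ι → Type u) [∀ i, CommRing (A i)] [∀ i, CommRing (B i)]
  [∀ i, Algebra (A i) (B i)]

/-- The first inclusion `Π B i → Π (B i ⊗ B i)`. -/
noncomputable def inl : (∀ i, B i) →ₐ[∀ i, A i] (∀ i, B i ⊗[A i] B i) where
  toFun q := fun i => q i ⊗ₜ[A i] 1
  map_one' := rfl
  map_mul' q q' := by
    funext i
    simp
  map_zero' := by
    funext i
    simp
  map_add' q q' := by
    funext i
    simp [TensorProduct.add_tmul]
  commutes' p := by
    funext i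
    rfl

/-- The second inclusion `Π B i → Π (B i ⊗ B i)`. -/
noncomputable def inr : (∀ i, B i) →ₐ[∀ i, A i] (∀ i, B i ⊗[A i] B i) where
  toFun q := fun i => 1 ⊗ₜ[A i] q i
  map_one' := rfl
  map_mul' q q' := by
    funext i
    simp
  map_zero' := by
    funext i
    simp
  map_add' q q' := by
    funext i
    simp [TensorProduct.tmul_add]
  commutes' p := by
    funext i
    show (1 : B i) ⊗ₜ[A i] (algebraMap (A i) (B i) (p i)) = algebraMap (A i) (B i ⊗[A i] B i) (p i)
    rw [Algebra.TensorProduct.algebraMap_apply, Algebra.algebraMap_eq_smul_one,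
      TensorProduct.tmul_smul, ← TensorProduct.smul_tmul']

@[simp] theorem inl_apply (q : ∀ i, B i) (i : ι) : inl A B q i = q i ⊗ₜ[A i] 1 := rfl
@[simp] theorem inr_apply (q : ∀ i, B i) (i : ι) : inr A B q i = 1 ⊗ₜ[A i] q i := rfl

/-- The comparison map `Q ⊗[P] Q → Π (B i ⊗ B i)`. -/
noncomputable def theta : (∀ i, B i) ⊗[∀ i, A i] (∀ i, B i) →ₐ[∀ i, A i] (∀ i, B i ⊗[A i] B i) :=
  Algebra.TensorProduct.productMap (inl A B) (inr A B)

theorem theta_tmul (q q' : ∀ i, B i) (i : ι) :
    theta A B (q ⊗ₜ q') i = q i ⊗ₜ[A i] q' i := by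
  simp [theta]

variable {A B}

theorem theta_bijective {m : ℕ} (b : ∀ i, Module.Basis (Fin m) (A i) (B i)) :
    Function.Bijective (theta A B) := by
  let β : Module.Basis (Fin m) (∀ i, A i) (∀ i, B i) := piBasis b
  let τ : Module.Basis (Fin m × Fin m) (∀ i, A i) (∀ i, B i ⊗[A i] B i) :=
    piBasis (fun i => (b i).tensorProduct (b i))
  have h : (theta A B).toLinearMap = ((β.tensorProduct β).equiv τ (Equiv.refl _)).toLinearMap := by
    apply (β.tensorProduct β).ext
    rintro ⟨k, l⟩
    rw [LinearEquiv.coe_coe, Module.Basis.equiv_apply, Equiv.refl_apply,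
      Module.Basis.tensorProduct_apply, AlgHom.toLinearMap_apply]
    funext i
    rw [theta_tmul]
    show piBasis b k i ⊗ₜ[A i] piBasis b l i = piBasis (fun i => (b i).tensorProduct (b i)) (k, l) i
    rw [piBasis_apply, piBasis_apply, piBasis_apply, Module.Basis.tensorProduct_apply]
  have h2 : ⇑(theta A B) = ⇑((β.tensorProduct β).equiv τ (Equiv.refl _)) := by
    funext x
    exact LinearMap.congr_fun h x
  rw [h2]
  exact LinearEquiv.bijective _

theorem isPushout {m : ℕ} (b : ∀ i, Module.Basis (Fin m) (A i) (B i)) :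
    IsPushout (CommRingCat.ofHom (algebraMap (∀ i, A i) (∀ i, B i)))
      (CommRingCat.ofHom (algebraMap (∀ i, A i) (∀ i, B i)))
      (CommRingCat.ofHom (inl A B).toRingHom) (CommRingCat.ofHom (inr A B).toRingHom) := by
  let e : ((∀ i, B i) ⊗[∀ i, A i] (∀ i, B i)) ≃+* (∀ i, B i ⊗[A i] B i) :=
    RingEquiv.ofBijective (theta A B).toRingHom (theta_bijective b)
  refine (CommRingCat.isPushout_tensorProduct (∀ i, A i) (∀ i, B i) (∀ i, B i)).of_iso
    (Iso.refl _) (Iso.refl _) (Iso.refl _) e.toCommRingCatIso ?_ ?_ ?_ ?_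
  · simp
  · simp
  · ext q i
    show theta A B (q ⊗ₜ 1) i = inl A B q i
    rw [theta_tmul]; rfl
  · ext q i
    show theta A B (1 ⊗ₜ q) i = inr A B q i
    rw [theta_tmul]; rfl

end Pushout

end Groth.Agent.Lib.Helper89.PiHensA
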