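import Mathlib
import Groth.Agent.Lib.Helper51.AlgSpBasic

/-!
# Descent of sections of fppf sheaves along a single fppf covering (helper89)
-/

set_option autoImplicit false
set_option linter.style.haveILetI false
universe u

namespace Groth.Agent.Lib.Helper89.PiHensB

open CategoryTheory Limits AlgebraicGeometry Opposite AlgSp
open Groth.Agent.Lib.Helper51

variable {S : Scheme.{u}}

theorem singleton_mem_J {V W : Over S} (c : V ⟶ W) [Flat c.left]
    [LocallyOfFinitePresentation c.left] [Surjective c.left] :
    Sieve.generate (Presieve.singleton c) ∈ AlgSp.J S W :=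
  mem_J_of_fppf c _ ⟨V, 𝟙 V, c, Presieve.singleton_self c, Category.id_comp c⟩

/-- Descent of a morphism to an fppf sheaf along a single fppf covering. -/
theorem exists_desc (F : Sp S) {V W : Over S} (c : V ⟶ W) [Flat c.left]
    [LocallyOfFinitePresentation c.left] [Surjective c.left]
    (y : (yon S).obj V ⟶ F)
    (hy : ∀ (Z : Over S) (p₁ p₂ : Z ⟶ V), p₁ ≫ c = p₂ ≫ c →
      (yon S).map p₁ ≫ y = (yon S).map p₂ ≫ y) :
    ∃ t : (yon S).obj W ⟶ F, (yon S).map c ≫ t = y := by
  have hs := ((isSheaf_iff_isSheaf_of_type _ _).1 F.property) _ (singleton_mem_J c)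
  rw [← Presieve.isSheafFor_iff_generate, Presieve.isSheafFor_singleton] at hs
  obtain ⟨t, ht, -⟩ := hs (yonEquiv y) (by
    intro Z p₁ p₂ h
    rw [yonEquiv_naturality, yonEquiv_naturality, hy Z p₁ p₂ h])
  refine ⟨yonEquiv.symm t, ?_⟩
  apply yonEquiv.injective
  rw [← yonEquiv_naturality, Equiv.apply_symm_apply]
  exact ht

/-- Morphisms to an fppf sheaf can be compared after a single fppf covering. -/
theorem hom_ext_of_cover (F : Sp S) {V W : Over S} (c : V ⟶ W) [Flat c.left]
    [LocallyOfFinitePresentation c.left] [Surjective c.left]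
    (t t' : (yon S).obj W ⟶ F) (h : (yon S).map c ≫ t = (yon S).map c ≫ t') : t = t' := by
  have hs := ((isSheaf_iff_isSheaf_of_type _ _).1 F.property) _ (singleton_mem_J c)
  rw [← Presieve.isSheafFor_iff_generate] at hs
  have hsep := hs.isSeparatedFor
  rw [Presieve.isSeparatedFor_singleton] at hsep
  apply yonEquiv.injective
  apply hsep
  rw [yonEquiv_naturality, yonEquiv_naturality, h]

/-- A ring map making the target a free module of positive finite rank induces an fppf covering
on spectra. -/
theorem cover_of_basis {R R' : Type u} [CommRing R] [CommRing R'] [Algebra R R'] {m : ℕ}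
    (hm : 0 < m) (b : Module.Basis (Fin m) R R') :
    Flat (Spec.map (CommRingCat.ofHom (algebraMap R R'))) ∧
      LocallyOfFinitePresentation (Spec.map (CommRingCat.ofHom (algebraMap R R'))) ∧
      Surjective (Spec.map (CommRingCat.ofHom (algebraMap R R'))) := by
  haveI : Module.Free R R' := Module.Free.of_basis b
  haveI : Module.Finite R R' := Module.Finite.of_basis b
  refine ⟨?_, ?_, ?_⟩
  · rw [HasRingHomProperty.Spec_iff (P := @Flat)]
    show (algebraMap R R').Flat
    rw [RingHom.flat_algebraMap_iff]
    infer_instance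
  · rw [HasRingHomProperty.Spec_iff (P := @LocallyOfFinitePresentation)]
    show (algebraMap R R').FinitePresentation
    rw [RingHom.finitePresentation_algebraMap]
    haveI : Module.FinitePresentation R R' := Module.finitePresentation_of_projective R R'
    infer_instance
  · constructor
    intro x
    haveI : Nontrivial R := ⟨⟨0, 1, fun h01 => x.asIdeal.ne_top_iff_one.1 x.2.ne_top
      (by rw [← h01]; exact x.asIdeal.zero_mem)⟩⟩
    haveI : Nontrivial R' := by
      haveI : Nonempty (Fin m) := ⟨⟨0, hm⟩⟩
      exact b.repr.symm.injective.nontrivial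
    have hff : Module.FaithfullyFlat R R' := inferInstance
    obtain ⟨y, hy⟩ := PrimeSpectrum.comap_surjective_of_faithfullyFlat (B := R') x
    exact ⟨y, hy⟩

end Groth.Agent.Lib.Helper89.PiHensB
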