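import Mathlib
import Groth.Agent.Lib.Helper89.PiHensA
import Groth.Agent.Lib.Helper89.PiHensB
import Groth.Agent.Lib.Helper89.PiPointsD
import Groth.Agent.S17862

/-!
# Gluing points of a quasi-separated fppf sheaf over a product ring (helper89)

Given rings `A i`, finite free `A i`-algebras `B i` of a fixed positive rank, a scheme chart
`U → F` and lifts `Spec (B i) → U` of points `Spec (A i) → F`, the points glue to a point
`Spec (Π A i) → F`.
-/

set_option autoImplicit false
set_option linter.style.haveILetI false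
universe u

namespace Groth.Agent.Lib.Helper89.PiHensC

open CategoryTheory Limits AlgebraicGeometry AlgSp TensorProduct
open Groth.Agent.Lib.Helper89.PiPointsB (pr)
open Groth.Agent.Lib.Helper89

variable {S : Scheme.{u}} [IsAffine S]

section

variable {ι : Type u} (A : ι → CommRingCat.{u}) (B : ι → Type u) [∀ i, CommRing (B i)]
  [∀ i, Algebra (A i) (B i)]

/-- `Spec (Π B i) → Spec (Π A i)`. -/
noncomputable abbrev cc : Spec (CommRingCat.of (∀ i, B i)) ⟶ Spec (CommRingCat.of (∀ i, A i)) :=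
  Spec.map (CommRingCat.ofHom (algebraMap (∀ i, A i) (∀ i, B i)))

/-- `Spec (B i) → Spec (A i)`. -/
noncomputable abbrev ff (i : ι) : Spec (CommRingCat.of (B i)) ⟶ Spec (A i) :=
  Spec.map (CommRingCat.ofHom (algebraMap (A i) (B i)))

theorem pr_cc (i : ι) : pr (fun i => CommRingCat.of (B i)) i ≫ cc A B = ff A B i ≫ pr A i := by
  rw [← Spec.map_comp, ← Spec.map_comp]
  rfl

/-- The `i`-th first inclusion `B i → B i ⊗ B i` on spectra. -/
noncomputable abbrev il (i : ι) :
    Spec (CommRingCat.of (B i ⊗[A i] B i)) ⟶ Spec (CommRingCat.of (B i)) :=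
  Spec.map (CommRingCat.ofHom (Algebra.TensorProduct.includeLeftRingHom (R := A i) (A := B i) (B := B i)))

/-- The `i`-th second inclusion `B i → B i ⊗ B i` on spectra. -/
noncomputable abbrev ir (i : ι) :
    Spec (CommRingCat.of (B i ⊗[A i] B i)) ⟶ Spec (CommRingCat.of (B i)) :=
  Spec.map (CommRingCat.ofHom
    (Algebra.TensorProduct.includeRight (R := A i) (A := B i) (B := B i)).toRingHom)

theorem il_ff (i : ι) : il A B i ≫ ff A B i = ir A B i ≫ ff A B i := by
  rw [← Spec.map_comp, ← Spec.map_comp]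
  congr 1
  ext a
  show (algebraMap (A i) (B i) a) ⊗ₜ[A i] (1 : B i) = (1 : B i) ⊗ₜ[A i] (algebraMap (A i) (B i) a)
  rw [Algebra.algebraMap_eq_smul_one, TensorProduct.tmul_smul, ← TensorProduct.smul_tmul']

/-- The first projection `Spec (Π B i ⊗ B i) → Spec (Π B i)`. -/
noncomputable abbrev jl :
    Spec (CommRingCat.of (∀ i, B i ⊗[A i] B i)) ⟶ Spec (CommRingCat.of (∀ i, B i)) :=
  Spec.map (CommRingCat.ofHom (PiHensA.inl (fun i => (A i : Type u)) B).toRingHom)

/-- The second projection `Spec (Π B i ⊗ B i) → Spec (Π B i)`. -/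
noncomputable abbrev jr :
    Spec (CommRingCat.of (∀ i, B i ⊗[A i] B i)) ⟶ Spec (CommRingCat.of (∀ i, B i)) :=
  Spec.map (CommRingCat.ofHom (PiHensA.inr (fun i => (A i : Type u)) B).toRingHom)

theorem pr_jl (i : ι) :
    pr (fun i => CommRingCat.of (B i ⊗[A i] B i)) i ≫ jl A B =
      il A B i ≫ pr (fun i => CommRingCat.of (B i)) i := by
  rw [← Spec.map_comp, ← Spec.map_comp]
  rfl

theorem pr_jr (i : ι) :
    pr (fun i => CommRingCat.of (B i ⊗[A i] B i)) i ≫ jr A B =
      ir A B i ≫ pr (fun i => CommRingCat.of (B i)) i := by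
  rw [← Spec.map_comp, ← Spec.map_comp]
  rfl

variable {A B}

theorem isPullback_j {m : ℕ} (b : ∀ i, Module.Basis (Fin m) (A i) (B i)) :
    IsPullback (jl A B) (jr A B) (cc A B) (cc A B) :=
  isPullback_SpecMap_of_isPushout _ _ _ _ (PiHensA.isPushout b)

variable (A B) in
/-- The glueing theorem. -/
theorem glue (F : Sp S) (hqs : IsQuasiSeparatedSp F) {m : ℕ} (hm : 0 < m)
    (b : ∀ i, Module.Basis (Fin m) (A i) (B i))
    (h : Spec (CommRingCat.of (∀ i, A i)) ⟶ S)
    (U : Over S) [CompactSpace U.left] [QuasiSeparatedSpace U.left]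
    (p : (yon S).obj U ⟶ F)
    (x : ∀ i, (yon S).obj (Over.mk (pr A i ≫ h)) ⟶ F)
    (u : ∀ i, Spec (CommRingCat.of (B i)) ⟶ U.left)
    (hu : ∀ i, u i ≫ U.hom = ff A B i ≫ pr A i ≫ h)
    (hux : ∀ i, (yon S).map (Over.homMk (u i) (hu i) : Over.mk (ff A B i ≫ pr A i ≫ h) ⟶ U) ≫ p =
      (yon S).map (Over.homMk (ff A B i) rfl :
        Over.mk (ff A B i ≫ pr A i ≫ h) ⟶ Over.mk (pr A i ≫ h)) ≫ x i) :
    ∃ g : (yon S).obj (Over.mk h) ⟶ F,
      ∀ i, (yon S).map (Over.homMk (pr A i) rfl : Over.mk (pr A i ≫ h) ⟶ Over.mk h) ≫ g = x i := by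
  classical
  -- the map `Spec (Π B i) → U`
  obtain ⟨uQ, huQ⟩ := PiPointsD.surj U.left (fun i => CommRingCat.of (B i)) u
  have huQS : uQ ≫ U.hom = cc A B ≫ h := by
    apply PiPointsC.inj S (fun i => CommRingCat.of (B i))
    intro i
    have e1 : pr (fun i => CommRingCat.of (B i)) i ≫ uQ ≫ U.hom = ff A B i ≫ pr A i ≫ h := by
      rw [← Category.assoc, huQ i, hu i]
    have e2 : pr (fun i => CommRingCat.of (B i)) i ≫ cc A B ≫ h = ff A B i ≫ pr A i ≫ h := by
      rw [← Category.assoc, pr_cc, Category.assoc]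
    rw [e1, e2]
  let cO : Over.mk (cc A B ≫ h) ⟶ Over.mk h := Over.homMk (cc A B) rfl
  let uO : Over.mk (cc A B ≫ h) ⟶ U := Over.homMk uQ huQS
  obtain ⟨hcf, hcp, hcs⟩ := PiHensB.cover_of_basis hm
    (PiHensA.piBasis (A := fun i => (A i : Type u)) b)
  haveI : Flat cO.left := hcf
  haveI : LocallyOfFinitePresentation cO.left := hcp
  haveI : Surjective cO.left := hcs
  have hpb := isPullback_j b
  -- the two pullbacks to `Spec (Π B i ⊗ B i)` agree
  have hjr : jr A B ≫ cc A B ≫ h = jl A B ≫ cc A B ≫ h := by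
    rw [← Category.assoc, ← hpb.w, Category.assoc]
  let j₁ : Over.mk (jl A B ≫ cc A B ≫ h) ⟶ Over.mk (cc A B ≫ h) := Over.homMk (jl A B) rfl
  let j₂ : Over.mk (jl A B ≫ cc A B ≫ h) ⟶ Over.mk (cc A B ≫ h) := Over.homMk (jr A B) hjr
  have key : (yon S).map j₁ ≫ (yon S).map uO ≫ p = (yon S).map j₂ ≫ (yon S).map uO ≫ p := by
    apply Groth.Agent.S17862.aux S F hqs (fun i => CommRingCat.of (B i ⊗[A i] B i))
      (jl A B ≫ cc A B ≫ h)
    intro i
    have hl : il A B i ≫ ff A B i ≫ pr A i ≫ h =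
        pr (fun i => CommRingCat.of (B i ⊗[A i] B i)) i ≫ jl A B ≫ cc A B ≫ h := by
      rw [← Category.assoc (pr _ i), pr_jl, Category.assoc, ← Category.assoc (pr _ i), pr_cc,
        Category.assoc]
    have hr : ir A B i ≫ ff A B i ≫ pr A i ≫ h =
        pr (fun i => CommRingCat.of (B i ⊗[A i] B i)) i ≫ jl A B ≫ cc A B ≫ h := by
      rw [← hjr, ← Category.assoc (pr _ i), pr_jr, Category.assoc, ← Category.assoc (pr _ i), pr_cc,
        Category.assoc]
    let prT : Over.mk (pr (fun i => CommRingCat.of (B i ⊗[A i] B i)) i ≫ jl A B ≫ cc A B ≫ h) ⟶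
        Over.mk (jl A B ≫ cc A B ≫ h) :=
      Over.homMk (pr (fun i => CommRingCat.of (B i ⊗[A i] B i)) i) rfl
    let kl : Over.mk (pr (fun i => CommRingCat.of (B i ⊗[A i] B i)) i ≫ jl A B ≫ cc A B ≫ h) ⟶
        Over.mk (ff A B i ≫ pr A i ≫ h) := Over.homMk (il A B i) hl
    let kr : Over.mk (pr (fun i => CommRingCat.of (B i ⊗[A i] B i)) i ≫ jl A B ≫ cc A B ≫ h) ⟶
        Over.mk (ff A B i ≫ pr A i ≫ h) := Over.homMk (ir A B i) hr
    let uiO : Over.mk (ff A B i ≫ pr A i ≫ h) ⟶ U := Over.homMk (u i) (hu i)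
    let eO : Over.mk (ff A B i ≫ pr A i ≫ h) ⟶ Over.mk (pr A i ≫ h) := Over.homMk (ff A B i) rfl
    have e1 : prT ≫ j₁ ≫ uO = kl ≫ uiO := by
      apply Over.OverMorphism.ext
      show pr (fun i => CommRingCat.of (B i ⊗[A i] B i)) i ≫ jl A B ≫ uQ = il A B i ≫ u i
      rw [← Category.assoc, pr_jl, Category.assoc, huQ i]
    have e2 : prT ≫ j₂ ≫ uO = kr ≫ uiO := by
      apply Over.OverMorphism.ext
      show pr (fun i => CommRingCat.of (B i ⊗[A i] B i)) i ≫ jr A B ≫ uQ = ir A B i ≫ u i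
      rw [← Category.assoc, pr_jr, Category.assoc, huQ i]
    have e3 : kl ≫ eO = kr ≫ eO := by
      apply Over.OverMorphism.ext
      exact il_ff A B i
    calc (yon S).map prT ≫ (yon S).map j₁ ≫ (yon S).map uO ≫ p
        = (yon S).map (prT ≫ j₁ ≫ uO) ≫ p := by
          simp only [Functor.map_comp, Category.assoc]
      _ = (yon S).map kl ≫ (yon S).map uiO ≫ p := by
          rw [e1, Functor.map_comp, Category.assoc]
      _ = (yon S).map kl ≫ (yon S).map eO ≫ x i := by rw [hux i]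
      _ = (yon S).map kr ≫ (yon S).map eO ≫ x i := by
          have e3' : (yon S).map kl ≫ (yon S).map eO = (yon S).map kr ≫ (yon S).map eO := by
            rw [← Functor.map_comp, ← Functor.map_comp, e3]
          exact (Category.assoc _ _ _).symm.trans
            ((congrArg (· ≫ x i) e3').trans (Category.assoc _ _ _))
      _ = (yon S).map kr ≫ (yon S).map uiO ≫ p := by rw [hux i]
      _ = (yon S).map (prT ≫ j₂ ≫ uO) ≫ p := by
          rw [e2, Functor.map_comp, Category.assoc]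
      _ = (yon S).map prT ≫ (yon S).map j₂ ≫ (yon S).map uO ≫ p := by
          simp only [Functor.map_comp, Category.assoc]
  obtain ⟨g, hg⟩ := PiHensB.exists_desc F cO ((yon S).map uO ≫ p) (by
    intro Z p₁ p₂ h12
    have h12' : p₁.left ≫ cc A B = p₂.left ≫ cc A B := congrArg CommaMorphism.left h12
    have hl1 : hpb.lift p₁.left p₂.left h12' ≫ jl A B = p₁.left := hpb.lift_fst _ _ _
    have hl2 : hpb.lift p₁.left p₂.left h12' ≫ jr A B = p₂.left := hpb.lift_snd _ _ _
    let lO : Z ⟶ Over.mk (jl A B ≫ cc A B ≫ h) := Over.homMk (hpb.lift p₁.left p₂.left h12') (by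
      show hpb.lift p₁.left p₂.left h12' ≫ jl A B ≫ cc A B ≫ h = Z.hom
      rw [← Category.assoc, hl1]
      exact Over.w p₁)
    have e1 : p₁ = lO ≫ j₁ := by
      apply Over.OverMorphism.ext
      exact hl1.symm
    have e2 : p₂ = lO ≫ j₂ := by
      apply Over.OverMorphism.ext
      exact hl2.symm
    rw [e1, e2, Functor.map_comp, Functor.map_comp, Category.assoc, Category.assoc, key])
  refine ⟨g, fun i => ?_⟩
  let eO : Over.mk (ff A B i ≫ pr A i ≫ h) ⟶ Over.mk (pr A i ≫ h) := Over.homMk (ff A B i) rfl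
  obtain ⟨hf1, hf2, hf3⟩ := PiHensB.cover_of_basis hm (b i)
  haveI : Flat eO.left := hf1
  haveI : LocallyOfFinitePresentation eO.left := hf2
  haveI : Surjective eO.left := hf3
  apply PiHensB.hom_ext_of_cover F eO
  let prQ : Over.mk (ff A B i ≫ pr A i ≫ h) ⟶ Over.mk (cc A B ≫ h) :=
    Over.homMk (pr (fun i => CommRingCat.of (B i)) i) (by
      show pr (fun i => CommRingCat.of (B i)) i ≫ cc A B ≫ h = ff A B i ≫ pr A i ≫ h
      rw [← Category.assoc, pr_cc, Category.assoc])
  have e1 : eO ≫ (Over.homMk (pr A i) rfl : Over.mk (pr A i ≫ h) ⟶ Over.mk h) = prQ ≫ cO := by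
    apply Over.OverMorphism.ext
    exact (pr_cc A B i).symm
  have e2 : prQ ≫ uO = Over.homMk (u i) (hu i) := by
    apply Over.OverMorphism.ext
    exact huQ i
  calc (yon S).map eO ≫ (yon S).map (Over.homMk (pr A i) rfl :
        Over.mk (pr A i ≫ h) ⟶ Over.mk h) ≫ g
      = (yon S).map prQ ≫ (yon S).map cO ≫ g := by
        have e1' : (yon S).map eO ≫ (yon S).map (Over.homMk (pr A i) rfl :
            Over.mk (pr A i ≫ h) ⟶ Over.mk h) = (yon S).map prQ ≫ (yon S).map cO := by
          rw [← Functor.map_comp, ← Functor.map_comp, e1]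
        exact (Category.assoc _ _ _).symm.trans
          ((congrArg (· ≫ g) e1').trans (Category.assoc _ _ _))
    _ = (yon S).map (prQ ≫ uO) ≫ p := by rw [hg, Functor.map_comp, Category.assoc]
    _ = (yon S).map eO ≫ x i := by rw [e2, hux i]

end

end Groth.Agent.Lib.Helper89.PiHensC
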