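import Mathlib
import Groth.Agent.Lib.Helper7.HensSection
import Groth.Agent.Lib.Helper54.UnivBdd2

/-!
# Finite free lifts of étale separated schemes over a henselian local ring (helper89)
-/

set_option autoImplicit false
set_option linter.style.haveILetI false
universe u

namespace Groth.Agent.Lib.Helper89.PiHensD

open CategoryTheory Limits AlgebraicGeometry

/-- The closed point of a local ring as a morphism from the spectrum of the residue field. -/
noncomputable abbrev ks (A : Type u) [CommRing A] [IsLocalRing A] :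
    Spec (CommRingCat.of (IsLocalRing.ResidueField A)) ⟶ Spec (CommRingCat.of A) :=
  Spec.map (CommRingCat.ofHom (IsLocalRing.residue A))

theorem ks_apply (A : Type u) [CommRing A] [IsLocalRing A]
    (s : Spec (CommRingCat.of (IsLocalRing.ResidueField A))) :
    ks A s = IsLocalRing.closedPoint A :=
  IsLocalRing.PrimeSpectrum.comap_residue A s

theorem range_ks (A : Type u) [CommRing A] [IsLocalRing A] :
    Set.range (ks A) = {IsLocalRing.closedPoint A} := by
  ext x
  constructor
  · rintro ⟨s, rfl⟩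
    exact ks_apply A s
  · intro hx
    have hx' : x = IsLocalRing.closedPoint A := hx
    subst hx'
    exact ⟨⟨⊥, Ideal.isPrime_bot⟩, ks_apply A _⟩

open Groth.Agent.Lib.Helper54 in
/-- An étale separated surjective scheme over a henselian local ring whose closed fibre is finite
of degree at most `n` receives a map from the spectrum of a finite free algebra of rank
`0 < d ≤ n`. -/
theorem exists_finite_free_lift (A : Type u) [CommRing A] [HenselianLocalRing A]
    {V : Scheme.{u}} (f : V ⟶ Spec (CommRingCat.of A)) [Etale f] [IsSeparated f] [Surjective f]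
    (n : ℕ) (hfin : IsFinite (pullback.snd f (ks A)))
    (hn : ∀ s, (pullback.snd f (ks A)).finrank s ≤ n) :
    ∃ (B : CommRingCat.{u}) (φ : CommRingCat.of A ⟶ B) (d : ℕ)
      (_ : @Module.Basis (Fin d) A B _ _ φ.hom.toAlgebra.toModule) (j : Spec B ⟶ V),
      0 < d ∧ d ≤ n ∧ j ≫ f = Spec.map φ := by
  -- the closed fibre is finite
  have hfib : (f ⁻¹' {IsLocalRing.closedPoint A}).Finite := by
    have h1 := (finite_discrete_of_isFinite (pullback.snd f (ks A))).1
    rw [← range_ks A, ← Scheme.Pullback.range_fst]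
    exact Set.finite_range _
  obtain ⟨W, -, hWfin, hW⟩ := Groth.Agent.Lib.Helper7.HensSection.exists_clopen_finite_of_henselian A f hfib
  -- the finite étale part
  have hgfin : IsFinite (W.ι ≫ f) := hWfin
  haveI : IsAffine (W : Scheme.{u}) := isAffine_of_isAffineHom (W.ι ≫ f)
  let φ : CommRingCat.of A ⟶ Γ(W, ⊤) :=
    (Scheme.ΓSpecIso (CommRingCat.of A)).inv ≫ (W.ι ≫ f).appTop
  have hg : W.ι ≫ f = (W : Scheme.{u}).isoSpec.hom ≫ Spec.map φ := hom_eq_toSpecΓ_comp (W.ι ≫ f)
  have hφ : Spec.map φ = (W : Scheme.{u}).isoSpec.inv ≫ W.ι ≫ f := by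
    rw [hg, Iso.inv_hom_id_assoc]
  have hφfin' : IsFinite (Spec.map φ) := by rw [hφ]; infer_instance
  have hφflat' : Flat (Spec.map φ) := by rw [hφ]; infer_instance
  have hφfin : φ.hom.Finite := (IsFinite.SpecMap_iff φ).mp hφfin'
  have hφflat : φ.hom.Flat := Flat.SpecMap_iff.mp hφflat'
  letI : Algebra A Γ(W, ⊤) := φ.hom.toAlgebra
  haveI : Module.Finite A Γ(W, ⊤) := hφfin
  haveI : Module.Flat A Γ(W, ⊤) := hφflat
  haveI : Module.Free A Γ(W, ⊤) := Module.free_of_flat_of_isLocalRing
  -- ranks
  have hrk : ∀ x, (W.ι ≫ f).finrank x = Module.finrank A Γ(W, ⊤) := by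
    intro x
    have h1 : (W.ι ≫ f).finrank = (Spec.map φ).finrank := by
      rw [hg]
      exact Scheme.Hom.finrank_comp_left_of_isIso _ _
    have h2 := Scheme.Hom.finrank_SpecMap_algebraMap A Γ(W, ⊤) x
    rw [Module.rankAtStalk_eq_finrank_of_free] at h2
    rw [h1]
    exact h2
  let e : pullback (W.ι ≫ f) (ks A) ⟶ pullback f (ks A) :=
    pullback.map (W.ι ≫ f) (ks A) f (ks A) W.ι (𝟙 _) (𝟙 _) (by simp) (by simp)
  have he : e ≫ pullback.snd f (ks A) = pullback.snd (W.ι ≫ f) (ks A) := by
    simp only [e, pullback.map, pullback.lift_snd, Category.comp_id]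
  have hesurj : Surjective e := by
    constructor
    rw [← Set.range_eq_univ, Scheme.Pullback.range_map]
    ext z
    simp only [Set.mem_inter_iff, Set.mem_preimage, Set.mem_univ, iff_true]
    constructor
    · rw [Scheme.Opens.range_ι]
      apply hW
      rw [← Scheme.Hom.comp_apply, pullback.condition, Scheme.Hom.comp_apply, ks_apply]
    · exact ⟨_, rfl⟩
  haveI : IsIso e := (isIso_iff_isOpenImmersion_and_surjective e).mpr ⟨inferInstance, hesurj⟩
  haveI := hfin
  have hrk2 : ∀ s, (pullback.snd f (ks A)).finrank s = Module.finrank A Γ(W, ⊤) := by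
    intro s
    have h1 : (pullback.snd (W.ι ≫ f) (ks A)).finrank = (pullback.snd f (ks A)).finrank := by
      rw [← he]
      exact Scheme.Hom.finrank_comp_left_of_isIso _ _
    rw [← h1, Scheme.Hom.finrank_pullback_snd, hrk]
  let s₀ : Spec (CommRingCat.of (IsLocalRing.ResidueField A)) := ⟨⊥, Ideal.isPrime_bot⟩
  refine ⟨Γ(W, ⊤), φ, Module.finrank A Γ(W, ⊤), Module.finBasis A Γ(W, ⊤),
    (W : Scheme.{u}).isoSpec.inv ≫ W.ι, ?_, ?_, ?_⟩
  · obtain ⟨v, hv⟩ := (inferInstance : Surjective f).surj (IsLocalRing.closedPoint A)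
    have hvW : v ∈ W := hW v hv
    have h1 := Scheme.Hom.one_le_finrank_map (W.ι ≫ f) ⟨v, hvW⟩
    rw [hrk] at h1
    exact h1
  · rw [← hrk2 s₀]
    exact hn s₀
  · rw [Category.assoc, hφ]

end Groth.Agent.Lib.Helper89.PiHensD
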