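import Mathlib
import Groth.Agent.Lib.Helper89.PiHensD
import Groth.Agent.Lib.Helper54.NoethDecentQSep
import Groth.Prelude.Def_W4decUnivBdd

/-!
# Lifting henselian-local points of a sheaf to an affine étale chart after a finite free
extension of bounded rank (helper89)
-/

set_option autoImplicit false
set_option linter.style.haveILetI false
universe u

namespace Groth.Agent.Lib.Helper89.PiHensE

open CategoryTheory Limits AlgebraicGeometry AlgSp Opposite
open Groth.Agent.Lib.Helper89

variable {S : Scheme.{u}}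

theorem exists_lift (F : Sp S) (U : Over S) [IsAffine U.left]
    (p : (yon S).obj U ⟶ F) (hpe : RepWith @Etale p) (hps : RepWith @Surjective p)
    (n : ℕ) (hn : W4dec.DegFibresLE n p)
    (A : CommRingCat.{u}) [HenselianLocalRing A] (hA : Spec A ⟶ S)
    (x : (yon S).obj (Over.mk hA) ⟶ F) :
    ∃ (B : CommRingCat.{u}) (φ : A ⟶ B) (d : ℕ)
      (_ : @Module.Basis (Fin d) A B _ _ φ.hom.toAlgebra.toModule)
      (u : Spec B ⟶ U.left) (hu : u ≫ U.hom = Spec.map φ ≫ hA),
      0 < d ∧ d ≤ n ∧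
      (yon S).map (Over.homMk u hu : Over.mk (Spec.map φ ≫ hA) ⟶ U) ≫ p =
        (yon S).map (Over.homMk (Spec.map φ) rfl :
          Over.mk (Spec.map φ ≫ hA) ⟶ Over.mk hA) ≫ x := by
  have hrep : (yon S).relativelyRepresentable p := hpe.rep
  obtain ⟨fstU, hfstU⟩ := (yon S).map_surjective (hrep.fst x)
  have sq : IsPullback ((yon S).map fstU) ((yon S).map (hrep.snd x)) p x := by
    rw [hfstU]; exact hrep.isPullback x
  haveI : Etale (hrep.snd x).left := hpe.property_snd x
  haveI : Surjective (hrep.snd x).left := hps.property_snd x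
  haveI : IsSeparated (hrep.snd x).left :=
    Groth.Agent.Lib.Helper54.isSeparated_fst_of_isAffine x p (hrep.snd x) fstU sq.flip
  -- the closed fibre
  have hVw : (hrep.snd x).left ≫ hA = (hrep.pullback x).hom := Over.w (hrep.snd x)
  let ksO : Over.mk (PiHensD.ks A ≫ hA) ⟶ Over.mk hA := Over.homMk (PiHensD.ks A) rfl
  let c : Over.mk (pullback.snd (hrep.snd x).left (PiHensD.ks A) ≫ PiHensD.ks A ≫ hA) ⟶
      Over.mk (PiHensD.ks A ≫ hA) := Over.homMk (pullback.snd (hrep.snd x).left (PiHensD.ks A)) rfl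
  let tV : Over.mk (pullback.snd (hrep.snd x).left (PiHensD.ks A) ≫ PiHensD.ks A ≫ hA) ⟶
      hrep.pullback x := Over.homMk (pullback.fst (hrep.snd x).left (PiHensD.ks A)) (by
    show pullback.fst (hrep.snd x).left (PiHensD.ks A) ≫ (hrep.pullback x).hom =
      pullback.snd (hrep.snd x).left (PiHensD.ks A) ≫ PiHensD.ks A ≫ hA
    rw [← hVw, ← Category.assoc, pullback.condition, Category.assoc])
  have e0 : c ≫ ksO = tV ≫ hrep.snd x := by
    apply Over.OverMorphism.ext
    exact pullback.condition.symm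
  have sq0 : IsPullback c tV ksO (hrep.snd x) :=
    IsPullback.of_map (Over.forget S) e0
      (IsPullback.of_hasPullback (hrep.snd x).left (PiHensD.ks A)).flip
  have sq1 : IsPullback ((yon S).map c) ((yon S).map tV) ((yon S).map ksO)
      ((yon S).map (hrep.snd x)) := sq0.map (yon S)
  have sq2 : IsPullback ((yon S).map c) ((yon S).map tV ≫ (yon S).map fstU)
      ((yon S).map ksO ≫ x) p := sq1.paste_vert sq.flip
  let q : FieldPt F := ⟨IsLocalRing.ResidueField A, PiHensD.ks A ≫ hA,
    (J S).uliftYonedaEquiv ((yon S).map ksO ≫ x)⟩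
  have hq : q.toHom = (yon S).map ksO ≫ x := Equiv.symm_apply_apply _ _
  obtain ⟨hfin, hle⟩ := hn q _ c ((yon S).map tV ≫ (yon S).map fstU) (by rw [hq]; exact sq2)
  obtain ⟨B, φ, d, b, j, hd0, hdn, hj⟩ :=
    PiHensD.exists_finite_free_lift A (hrep.snd x).left n hfin hle
  have hjV : j ≫ (hrep.pullback x).hom = Spec.map φ ≫ hA := by
    rw [← hVw, ← Category.assoc, hj]
  have hu : (j ≫ fstU.left) ≫ U.hom = Spec.map φ ≫ hA := by
    rw [Category.assoc, Over.w fstU, hjV]
  refine ⟨B, φ, d, b, j ≫ fstU.left, hu, hd0, hdn, ?_⟩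
  let jO : Over.mk (Spec.map φ ≫ hA) ⟶ hrep.pullback x := Over.homMk j hjV
  have e1 : (Over.homMk (j ≫ fstU.left) hu : Over.mk (Spec.map φ ≫ hA) ⟶ U) = jO ≫ fstU := by
    apply Over.OverMorphism.ext
    rfl
  have e2 : (Over.homMk (Spec.map φ) rfl : Over.mk (Spec.map φ ≫ hA) ⟶ Over.mk hA) =
      jO ≫ hrep.snd x := by
    apply Over.OverMorphism.ext
    exact hj.symm
  rw [e1, e2, Functor.map_comp, Functor.map_comp, Category.assoc, Category.assoc, sq.w]

end Groth.Agent.Lib.Helper89.PiHensE
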