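import Mathlib
import Groth.Agent.Lib.Helper89.PiHensC
import Groth.Agent.Lib.Helper89.PiHensE
import Groth.Agent.Lib.Helper54.AffineDescent
import Groth.Agent.Lib.Helper54.UnivBddSp
import Groth.Agent.Lib.Helper54.UnivBddCoverSp
import Groth.Agent.Lib.Helper54.UnivBddEtale
import Groth.Agent.H52.QSChart2

/-!
# Henselian-local points of a quasi-compact quasi-separated sheaf glue over products (helper89)
-/

set_option autoImplicit false
set_option linter.style.haveILetI false
universe u

namespace Groth.Agent.Lib.Helper89.PiHensF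

open CategoryTheory Limits AlgebraicGeometry AlgSp Opposite
open Groth.Agent.Lib.Helper89.PiPointsB (pr)
open Groth.Agent.Lib.Helper89

variable {S : Scheme.{u}} [IsAffine S]

/-- An affine étale surjective chart of a quasi-compact sheaf with quasi-compact diagonal has
universally bounded fibres. -/
theorem exists_bounded_chart (F : Sp S) (hqc : IsQuasiCompactSp F) (hqs : IsQuasiSeparatedSp F) :
    ∃ (U : Over S) (p : (yon S).obj U ⟶ F) (n : ℕ), IsAffine U.left ∧ RepWith @Etale p ∧
      RepWith @Surjective p ∧ W4dec.DegFibresLE n p := by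
  obtain ⟨U, p, hUaff, hpe, hps⟩ := Groth.Agent.Lib.Helper54.exists_affine_etale_chart hqc
  haveI := hUaff
  obtain ⟨R, s, t, hRpb⟩ := Groth.Agent.Lib.Helper54.exists_kernelPair_of_rep p hpe.rep
  haveI : CompactSpace R.left :=
    Groth.Agent.H52.compactSpace_pullback_of_isQuasiSeparatedSp hqs p p s t hRpb
  haveI : Etale t.left := hpe.property p _ _ hRpb
  have hbt : W4dec.HasUnivBddFibres ((yon S).map t) := by
    apply Groth.Agent.Lib.Helper54.hasUnivBddFibres_of_forall_exists_affine_nhd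
    intro r
    obtain ⟨_, ⟨W, hW, rfl⟩, hrW, -⟩ :=
      R.left.isBasis_affineOpens.exists_subset_of_mem_open (Set.mem_univ r) isOpen_univ
    refine ⟨W, hrW, ?_⟩
    rw [← Functor.map_comp]
    haveI : IsAffine (Groth.Agent.H52.overOpen R W).left := hW
    exact Groth.Agent.Lib.Helper54.hasUnivBddFibres_yon_map_of_etale_affine _
      (by show Etale (Scheme.Opens.ι (X := R.left) W ≫ t.left); infer_instance)
  have him : Set.range (Points.ofPt p) ⊆ Set.range (Points.map p) := by
    rintro _ ⟨v, rfl⟩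
    exact ⟨Points.ofScheme U v, (Points.ofPt_eq_map_ofScheme p v).symm⟩
  obtain ⟨n, hn⟩ := Groth.Agent.Lib.Helper54.hasUnivBddFibres_of_baseChange p p
    ((yon S).map s) ((yon S).map t) hRpb him hbt
  exact ⟨U, p, n, hUaff, hpe, hps, hn⟩

/-- Surjectivity: henselian-local points of a quasi-compact sheaf with quasi-compact diagonal glue
to a point over the product ring. -/
theorem surj (F : Sp S) (hqc : IsQuasiCompactSp F) (hqs : IsQuasiSeparatedSp F)
    {ι : Type u} (A : ι → CommRingCat.{u}) [∀ i, HenselianLocalRing (A i)]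
    (h : Spec (CommRingCat.of (∀ i, A i)) ⟶ S)
    (x : ∀ i, (yon S).obj (Over.mk (pr A i ≫ h)) ⟶ F) :
    ∃ g : (yon S).obj (Over.mk h) ⟶ F,
      ∀ i, (yon S).map (Over.homMk (pr A i) rfl : Over.mk (pr A i ≫ h) ⟶ Over.mk h) ≫ g = x i := by
  classical
  obtain ⟨U, p, n, hUaff, hpe, hps, hn⟩ := exists_bounded_chart F hqc hqs
  haveI := hUaff
  have key := fun i => PiHensE.exists_lift F U p hpe hps n hn (A i) (pr A i ≫ h) (x i)
  choose B₀ φ d b₀ u₀ hu₀ hd0 hdn hux₀ using key
  letI alg₀ : ∀ i, Algebra (A i) (B₀ i) := fun i => (φ i).hom.toAlgebra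
  have hk : ∀ i, n.factorial / d i * d i = n.factorial := fun i =>
    Nat.div_mul_cancel (Nat.dvd_factorial (hd0 i) (hdn i))
  -- the padded bases
  have hcard : ∀ i, Fintype.card (Σ _ : Fin (n.factorial / d i), Fin (d i)) = n.factorial := by
    intro i
    simp [hk i]
  let b : ∀ i, Module.Basis (Fin n.factorial) (A i) (Fin (n.factorial / d i) → B₀ i) := fun i =>
    (Pi.basis (fun _ : Fin (n.factorial / d i) => b₀ i)).reindex
      (Fintype.equivFinOfCardEq (hcard i))
  -- the diagonal maps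
  let δ : ∀ i, Spec (CommRingCat.of (Fin (n.factorial / d i) → B₀ i)) ⟶ Spec (B₀ i) := fun i =>
    Spec.map (CommRingCat.ofHom (Pi.constRingHom (Fin (n.factorial / d i)) (B₀ i)))
  have hδ : ∀ i, PiHensC.ff A (fun i => Fin (n.factorial / d i) → B₀ i) i = δ i ≫ Spec.map (φ i) := by
    intro i
    rw [← Spec.map_comp]
    rfl
  have hu : ∀ i, (δ i ≫ u₀ i) ≫ U.hom =
      PiHensC.ff A (fun i => Fin (n.factorial / d i) → B₀ i) i ≫ pr A i ≫ h := by
    intro i
    rw [Category.assoc, hu₀ i, hδ i, Category.assoc]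
  refine PiHensC.glue A (fun i => Fin (n.factorial / d i) → B₀ i) F hqs (Nat.factorial_pos n) b h U p x
    (fun i => δ i ≫ u₀ i) hu (fun i => ?_)
  have hδw : δ i ≫ Spec.map (φ i) ≫ pr A i ≫ h =
      PiHensC.ff A (fun i => Fin (n.factorial / d i) → B₀ i) i ≫ pr A i ≫ h := by
    rw [hδ i, Category.assoc]
  let δO : Over.mk (PiHensC.ff A (fun i => Fin (n.factorial / d i) → B₀ i) i ≫ pr A i ≫ h) ⟶
      Over.mk (Spec.map (φ i) ≫ pr A i ≫ h) := Over.homMk (δ i) hδw
  have e1 : (Over.homMk (δ i ≫ u₀ i) (hu i) :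
      Over.mk (PiHensC.ff A (fun i => Fin (n.factorial / d i) → B₀ i) i ≫ pr A i ≫ h) ⟶ U) =
      δO ≫ Over.homMk (u₀ i) (hu₀ i) := by
    apply Over.OverMorphism.ext
    rfl
  have e2 : (Over.homMk (PiHensC.ff A (fun i => Fin (n.factorial / d i) → B₀ i) i) rfl :
      Over.mk (PiHensC.ff A (fun i => Fin (n.factorial / d i) → B₀ i) i ≫ pr A i ≫ h) ⟶
        Over.mk (pr A i ≫ h)) =
      δO ≫ (Over.homMk (Spec.map (φ i)) rfl :
        Over.mk (Spec.map (φ i) ≫ pr A i ≫ h) ⟶ Over.mk (pr A i ≫ h)) := by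
    apply Over.OverMorphism.ext
    exact hδ i
  rw [e1, e2, Functor.map_comp, Functor.map_comp, Category.assoc, Category.assoc, hux₀ i]

end Groth.Agent.Lib.Helper89.PiHensF
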