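import Mathlib

/-!
# Quillen patching, part 1: the key lemma for matrices

`LocLike a j` says that `j : S →+* S'` behaves like the localization of `S` at the powers of `a`
as far as finite families of elements are concerned.  The key lemma: an invertible polynomial
matrix `Θ(Y)` over `S'[Y]` with `Θ(0) = 1` becomes liftable to `S[Y]` after `Y ↦ a ^ k * Y`.
-/

namespace Groth.Agent.Lib.Helper89.QPatch

open Polynomial Matrix

/-- `j : S →+* S'` behaves like the localization at the powers of `a`. -/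
structure LocLike {S S' : Type*} [CommRing S] [CommRing S'] (a : S) (j : S →+* S') : Prop where
  surj : ∀ x : S', ∃ k : ℕ, ∃ y : S, j y = j a ^ k * x
  ker : ∀ y : S, j y = 0 → ∃ k : ℕ, a ^ k * y = 0

section LocLike

variable {S S' : Type*} [CommRing S] [CommRing S'] {a : S} {j : S →+* S'}

lemma LocLike.of_away (a : S) [Algebra S S'] [IsLocalization.Away a S'] :
    LocLike a (algebraMap S S') where
  surj x := by
    obtain ⟨k, y, hy⟩ := IsLocalization.Away.surj a x
    exact ⟨k, y, by rw [← hy, mul_comm]⟩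
  ker y hy := by
    rw [← (algebraMap S S').map_zero] at hy
    obtain ⟨k, hk⟩ := IsLocalization.Away.exists_of_eq a hy
    exact ⟨k, by simpa using hk⟩

lemma LocLike.surj_ge (h : LocLike a j) (x : S') :
    ∃ k₀ : ℕ, ∀ k ≥ k₀, ∃ y : S, j y = j a ^ k * x := by
  obtain ⟨k₀, y, hy⟩ := h.surj x
  refine ⟨k₀, fun k hk => ⟨a ^ (k - k₀) * y, ?_⟩⟩
  rw [map_mul, map_pow, hy, ← mul_assoc, ← pow_add, Nat.sub_add_cancel hk]

lemma LocLike.ker_ge (h : LocLike a j) (y : S) (hy : j y = 0) :
    ∃ k₀ : ℕ, ∀ k ≥ k₀, a ^ k * y = 0 := by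
  obtain ⟨k₀, hk₀⟩ := h.ker y hy
  refine ⟨k₀, fun k hk => ?_⟩
  rw [← Nat.sub_add_cancel hk, pow_add, mul_assoc, hk₀, mul_zero]

lemma LocLike.surj_finite (h : LocLike a j) {ι : Type*} [Finite ι] (x : ι → S') :
    ∃ k₀ : ℕ, ∀ k ≥ k₀, ∃ y : ι → S, ∀ i, j (y i) = j a ^ k * x i := by
  classical
  cases nonempty_fintype ι
  choose k₀ hk₀ using fun i => h.surj_ge (x i)
  refine ⟨Finset.univ.sup k₀, fun k hk => ?_⟩
  have : ∀ i, ∃ y : S, j y = j a ^ k * x i := fun i =>
    hk₀ i k (le_trans (Finset.le_sup (Finset.mem_univ i)) hk)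
  choose y hy using this
  exact ⟨y, hy⟩

lemma LocLike.ker_finite (h : LocLike a j) {ι : Type*} [Finite ι] (y : ι → S)
    (hy : ∀ i, j (y i) = 0) : ∃ k₀ : ℕ, ∀ k ≥ k₀, ∀ i, a ^ k * y i = 0 := by
  classical
  cases nonempty_fintype ι
  choose k₀ hk₀ using fun i => h.ker_ge (y i) (hy i)
  exact ⟨Finset.univ.sup k₀, fun k hk i =>
    hk₀ i k (le_trans (Finset.le_sup (Finset.mem_univ i)) hk)⟩

/-- `LocLike` passes to polynomial rings. -/
lemma LocLike.polynomial (h : LocLike a j) : LocLike (C a) (mapRingHom j) where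
  surj x := by
    induction x using Polynomial.induction_on' with
    | add p q hp hq =>
      obtain ⟨kp, yp, hyp⟩ := hp
      obtain ⟨kq, yq, hyq⟩ := hq
      refine ⟨kp + kq, C a ^ kq * yp + C a ^ kp * yq, ?_⟩
      rw [map_add, map_mul, map_mul, hyp, hyq, map_pow, map_pow]
      ring
    | monomial n x =>
      obtain ⟨k, y, hy⟩ := h.surj x
      refine ⟨k, monomial n y, ?_⟩
      simp only [coe_mapRingHom, map_monomial, hy, map_C]
      rw [← C_pow, C_mul_monomial]
  ker y hy := by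
    have h0 : ∀ n, j (y.coeff n) = 0 := fun n => by
      have := congrArg (fun p => p.coeff n) hy
      simpa using this
    have hfin : ∀ n : y.support, j (y.coeff n) = 0 := fun n => h0 n
    obtain ⟨k₀, hk₀⟩ := h.ker_finite (fun n : y.support => y.coeff n) hfin
    refine ⟨k₀, ?_⟩
    ext n
    rw [← C_pow, coeff_C_mul, coeff_zero]
    by_cases hn : n ∈ y.support
    · exact hk₀ k₀ le_rfl ⟨n, hn⟩
    · rw [notMem_support_iff.mp hn, mul_zero]

lemma LocLike.matrix_surj (h : LocLike a j) {m n : Type*} [Finite m] [Finite n]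
    (M : Matrix m n S') :
    ∃ k₀ : ℕ, ∀ k ≥ k₀, ∃ M' : Matrix m n S, M'.map j = j a ^ k • M := by
  obtain ⟨k₀, hk₀⟩ := h.surj_finite (fun p : m × n => M p.1 p.2)
  refine ⟨k₀, fun k hk => ?_⟩
  obtain ⟨y, hy⟩ := hk₀ k hk
  exact ⟨Matrix.of fun i i' => y (i, i'), by ext i i'; simpa using hy (i, i')⟩

lemma LocLike.matrix_ker (h : LocLike a j) {m n : Type*} [Finite m] [Finite n]
    (M : Matrix m n S) (hM : M.map j = 0) :
    ∃ k₀ : ℕ, ∀ k ≥ k₀, a ^ k • M = 0 := by
  obtain ⟨k₀, hk₀⟩ := h.ker_finite (fun p : m × n => M p.1 p.2)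
    (fun p => by simpa using congrFun (congrFun hM p.1) p.2)
  exact ⟨k₀, fun k hk => by ext i i'; simpa using hk₀ k hk (i, i')⟩

end LocLike

section Scale

variable {T T' : Type*} [CommRing T] [CommRing T']

/-- The substitution `X ↦ c * X`. -/
noncomputable def scale (c : T) : T[X] →+* T[X] := compRingHom (C c * X)

lemma scale_apply (c : T) (p : T[X]) : scale c p = p.comp (C c * X) := rfl

@[simp] lemma scale_C (c t : T) : scale c (C t) = C t := by simp [scale_apply]

@[simp] lemma scale_X (c : T) : scale c X = C c * X := by simp [scale_apply]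

lemma scale_coeff (c : T) (p : T[X]) (n : ℕ) : (scale c p).coeff n = p.coeff n * c ^ n := by
  rw [scale_apply, comp_C_mul_X_coeff]

@[simp] lemma eval_zero_scale (c : T) (p : T[X]) : (scale c p).eval 0 = p.eval 0 := by
  rw [scale_apply, eval_comp]; simp

lemma scale_scale (c c' : T) (p : T[X]) : scale c (scale c' p) = scale (c' * c) p := by
  rw [scale_apply, scale_apply, scale_apply, comp_assoc]
  simp [mul_assoc]

lemma map_scale (j : T →+* T') (c : T) (p : T[X]) :
    (scale c p).map j = scale (j c) (p.map j) := by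
  rw [scale_apply, scale_apply, Polynomial.map_comp]; simp

lemma scale_eq_zero {a : T} {k : ℕ} {q : T[X]} (h0 : q.eval 0 = 0) (hq : C a ^ k * q = 0) :
    scale (a ^ k) q = 0 := by
  ext n
  rw [scale_coeff, coeff_zero]
  rcases n with _ | n
  · rw [coeff_zero_eq_eval_zero, h0, zero_mul]
  · have := congrArg (fun p => p.coeff (n + 1)) hq
    simp only [← C_pow, coeff_C_mul, coeff_zero] at this
    calc q.coeff (n + 1) * (a ^ k) ^ (n + 1) = (a ^ k * q.coeff (n + 1)) * (a ^ k) ^ n := by ring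
      _ = 0 := by rw [this, zero_mul]

lemma X_smul_eq_zero {m n : Type*} {M : Matrix m n T[X]} (h : (X : T[X]) • M = 0) : M = 0 := by
  ext i i' l
  have := congrArg (fun p => p.coeff (l + 1)) (congrFun (congrFun h i) i')
  simpa using this

lemma eq_one_add_X_smul {n : Type*} [DecidableEq n] (Θ : Matrix n n T[X])
    (h : Θ.map (evalRingHom 0) = 1) : Θ = 1 + (X : T[X]) • Θ.map divX := by
  ext i i' : 2
  have h1 := congrFun (congrFun h i) i'
  simp only [Matrix.map_apply, coe_evalRingHom] at h1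
  simp only [Matrix.add_apply, Matrix.smul_apply, Matrix.map_apply, smul_eq_mul]
  conv_lhs => rw [← X_mul_divX_add (Θ i i'), coeff_zero_eq_eval_zero, h1]
  rw [add_comm]
  congr 1
  by_cases hii : i = i' <;> simp [hii, Matrix.one_apply]

end Scale

section Good

variable {T : Type*} [CommRing T] {n : Type*} [Fintype n] [DecidableEq n]

/-- Matrices over `T[X]` which are `1` at `X = 0`, commute with the constant matrix `π` and
are the identity on the complement of `π`. -/
structure Good (π : Matrix n n T) (Ψ : Matrix n n T[X]) : Prop where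
  eval0 : Ψ.map (evalRingHom 0) = 1
  comm : Ψ * π.map C = π.map C * Ψ
  fix : Ψ * (1 - π.map C) = 1 - π.map C

omit [Fintype n] [DecidableEq n] in
lemma map_C_map_scale (π : Matrix n n T) (c : T) : (π.map C).map (scale c) = π.map C := by
  ext i i'; simp

lemma Good.scale {π : Matrix n n T} {Ψ : Matrix n n T[X]} (h : Good π Ψ) (c : T) :
    Good π (Ψ.map (scale c)) where
  eval0 := by
    rw [← h.eval0]
    ext i i'
    simp
  comm := by
    have := congrArg (fun M => M.map (QPatch.scale c)) h.comm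
    simpa only [Matrix.map_mul, map_C_map_scale] using this
  fix := by
    have := congrArg (fun M => M.map (QPatch.scale c)) h.fix
    simp only [Matrix.map_mul] at this
    have h1 : (1 - π.map C : Matrix n n T[X]).map (QPatch.scale c) = 1 - π.map C := by
      ext i i'
      by_cases hii : i = i' <;> simp [hii]
    rwa [h1] at this

lemma good_one_add_X_smul {π : Matrix n n T} (hπ : π * π = π) (Q : Matrix n n T[X]) :
    Good π (1 + (X : T[X]) • (π.map C * Q * π.map C)) := by
  have hπC : π.map C * π.map C = π.map (C : T →+* T[X]) := by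
    rw [← Matrix.map_mul, hπ]
  refine ⟨?_, ?_, ?_⟩
  · ext i i'
    simp [Matrix.add_apply, Matrix.one_apply]
    split_ifs <;> simp
  · rw [Matrix.add_mul, Matrix.mul_add, Matrix.one_mul, Matrix.mul_one, Matrix.smul_mul,
      Matrix.mul_smul]
    congr 2
    rw [Matrix.mul_assoc, hπC, ← Matrix.mul_assoc, ← Matrix.mul_assoc, hπC]
  · have hA : π.map C * Q * π.map C * (1 - π.map C) = 0 := by
      have : π.map C * Q * π.map C * π.map C = π.map C * Q * π.map C := by
        rw [Matrix.mul_assoc (π.map C * Q), hπC]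
      rw [Matrix.mul_sub, Matrix.mul_one, this, sub_self]
    rw [Matrix.add_mul, Matrix.one_mul, Matrix.smul_mul, hA, smul_zero, add_zero]

end Good

section Key

variable {S S' : Type*} [CommRing S] [CommRing S'] {a : S} {j : S →+* S'}
variable {n : Type*} [Fintype n] [DecidableEq n]

omit [Fintype n] [DecidableEq n] in
lemma map_mapRingHom_map_scale (M : Matrix n n S[X]) (c : S) :
    (M.map (scale c)).map (mapRingHom j) = (M.map (mapRingHom j)).map (scale (j c)) := by
  refine Matrix.ext fun i i' => ?_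
  simp only [Matrix.map_apply, coe_mapRingHom]
  exact map_scale j c _

/-- **Key lemma.** -/
theorem key_lemma (hj : LocLike a j) (π : Matrix n n S) (hπ : π * π = π)
    (Θ Θ' : Matrix n n S'[X]) (hΘΘ' : Θ * Θ' = 1)
    (hΘ0 : Θ.map (evalRingHom 0) = 1)
    (hcomm : Θ * π.map (C.comp j) = π.map (C.comp j) * Θ)
    (hfix : Θ * (1 - π.map (C.comp j)) = 1 - π.map (C.comp j)) :
    ∃ k₀ : ℕ, ∀ k ≥ k₀, ∃ Ψ Ψ' : Matrix n n S[X],
      Ψ * Ψ' = 1 ∧ Ψ' * Ψ = 1 ∧ Good π Ψ ∧
      Ψ.map (mapRingHom j) = Θ.map (scale (j a ^ k)) := by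
  set π' : Matrix n n S'[X] := π.map (C.comp j) with hπ'
  set πT : Matrix n n S[X] := π.map C with hπT
  have hπTJ : πT.map (mapRingHom j) = π' := by
    ext i i'; simp [hπT, hπ']
  -- `Θ'` at zero
  have hΘ'0 : Θ'.map (evalRingHom 0) = 1 := by
    have := congrArg (fun M => M.map (evalRingHom (0 : S'))) hΘΘ'
    simp only [Matrix.map_mul, hΘ0, Matrix.one_mul] at this
    rw [this]
    exact Matrix.map_one _ (map_zero _) (map_one _)
  set Θ₁ := Θ.map divX with hΘ₁
  set Θ₁' := Θ'.map divX with hΘ₁'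
  have hΘ : Θ = 1 + (X : S'[X]) • Θ₁ := eq_one_add_X_smul Θ hΘ0
  have hΘ' : Θ' = 1 + (X : S'[X]) • Θ₁' := eq_one_add_X_smul Θ' hΘ'0
  -- `Θ₁ = π' Θ₁ π'`
  have h1 : Θ₁ * (1 - π') = 0 := by
    apply X_smul_eq_zero
    have := hfix
    rw [hΘ, Matrix.add_mul, Matrix.one_mul, Matrix.smul_mul] at this
    simpa using this
  have h1' : Θ₁ * π' = Θ₁ := by
    rw [Matrix.mul_sub, Matrix.mul_one, sub_eq_zero] at h1
    exact h1.symm
  have h2 : Θ₁ * π' = π' * Θ₁ := by
    have h3 : (X : S'[X]) • (Θ₁ * π' - π' * Θ₁) = 0 := by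
      have := hcomm
      rw [hΘ, Matrix.add_mul, Matrix.mul_add, Matrix.one_mul, Matrix.mul_one, Matrix.smul_mul,
        Matrix.mul_smul] at this
      rw [smul_sub, sub_eq_zero]
      exact add_left_cancel this
    exact sub_eq_zero.mp (X_smul_eq_zero h3)
  have h3 : π' * Θ₁ * π' = Θ₁ := by
    rw [← h2, h1', h1']
  -- lifts
  have hJ : LocLike (C a) (mapRingHom j) := hj.polynomial
  obtain ⟨ka, hka⟩ := hJ.matrix_surj Θ₁
  obtain ⟨kb, hkb⟩ := hJ.matrix_surj Θ₁'
  set k₁ := max ka kb with hk₁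
  obtain ⟨Ψ₁, hΨ₁⟩ := hka k₁ (le_max_left _ _)
  obtain ⟨Ψ₁', hΨ₁'⟩ := hkb k₁ (le_max_right _ _)
  have hJCa : mapRingHom j (C a) = C (j a) := by simp
  rw [hJCa] at hΨ₁ hΨ₁'
  set Ψa : Matrix n n S[X] := 1 + (X : S[X]) • ((πT * Ψ₁ * πT).map (scale (a ^ k₁))) with hΨa
  set Ψa' : Matrix n n S[X] := 1 + (X : S[X]) • (Ψ₁'.map (scale (a ^ k₁))) with hΨa'
  have hπTs : ∀ c : S, πT.map (scale c) = πT := fun c => map_C_map_scale π c
  have hgoodA : Good π Ψa := by
    have : (πT * Ψ₁ * πT).map (scale (a ^ k₁)) = πT * Ψ₁.map (scale (a ^ k₁)) * πT := by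
      rw [Matrix.map_mul, Matrix.map_mul, hπTs]
    rw [hΨa, this]
    exact good_one_add_X_smul hπ _
  have hone : ∀ f : S[X] →+* S'[X], (1 : Matrix n n S[X]).map f = 1 := fun f =>
    Matrix.map_one _ (map_zero _) (map_one _)
  have hone' : ∀ f : S'[X] →+* S'[X], (1 : Matrix n n S'[X]).map f = 1 := fun f =>
    Matrix.map_one _ (map_zero _) (map_one _)
  have hone'' : ∀ f : S[X] →+* S[X], (1 : Matrix n n S[X]).map f = 1 := fun f =>
    Matrix.map_one _ (map_zero _) (map_one _)
  -- images of `Ψa`, `Ψa'`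
  have hjp : j (a ^ k₁) = j a ^ k₁ := map_pow _ _ _
  have himgA : Ψa.map (mapRingHom j) = Θ.map (scale (j a ^ k₁)) := by
    have e1 : (πT * Ψ₁ * πT).map (mapRingHom j) = C (j a) ^ k₁ • Θ₁ := by
      rw [Matrix.map_mul, Matrix.map_mul, hπTJ, hΨ₁, Matrix.mul_smul, Matrix.smul_mul, h3]
    rw [hΨa, Matrix.map_add _ (map_add _), hone,
      Matrix.map_smul' _ _ _ (map_mul _), map_mapRingHom_map_scale, e1, hjp]
    conv_rhs => rw [hΘ, Matrix.map_add _ (map_add _), hone',
      Matrix.map_smul' _ _ _ (map_mul _)]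
    congr 1
    rw [Matrix.map_smul' _ _ _ (map_mul _), smul_smul]
    congr 1
    simp [mul_comm]
  have himgA' : Ψa'.map (mapRingHom j) = Θ'.map (scale (j a ^ k₁)) := by
    rw [hΨa', Matrix.map_add _ (map_add _), hone,
      Matrix.map_smul' _ _ _ (map_mul _), map_mapRingHom_map_scale, hΨ₁', hjp]
    conv_rhs => rw [hΘ', Matrix.map_add _ (map_add _), hone',
      Matrix.map_smul' _ _ _ (map_mul _)]
    congr 1
    rw [Matrix.map_smul' _ _ _ (map_mul _), smul_smul]
    congr 1
    simp [mul_comm]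
  -- the error term
  set W := Ψa * Ψa' - 1 with hW
  have hWJ : W.map (mapRingHom j) = 0 := by
    rw [hW, Matrix.map_sub _ (map_sub _), Matrix.map_mul, himgA, himgA', ← Matrix.map_mul, hΘΘ',
      hone, hone', sub_self]
  have hW0 : W.map (evalRingHom 0) = 0 := by
    have e1 : Ψa.map (evalRingHom 0) = 1 := hgoodA.eval0
    have e3 : (1 : Matrix n n S[X]).map (evalRingHom (0 : S)) = 1 :=
      Matrix.map_one _ (map_zero _) (map_one _)
    have e2 : Ψa'.map (evalRingHom 0) = 1 := by
      rw [hΨa', Matrix.map_add _ (map_add _), e3, Matrix.map_smul' _ _ _ (map_mul _)]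
      simp
    rw [hW, Matrix.map_sub _ (map_sub _), Matrix.map_mul, e1, e2, Matrix.one_mul, e3, sub_self]
  obtain ⟨k₂, hk₂⟩ := hJ.matrix_ker W hWJ
  have hWs : W.map (scale (a ^ k₂)) = 0 := by
    refine Matrix.ext fun i i' => ?_
    simp only [Matrix.map_apply, Matrix.zero_apply]
    apply scale_eq_zero
    · simpa using congrFun (congrFun hW0 i) i'
    · have := congrFun (congrFun (hk₂ k₂ le_rfl) i) i'
      simpa using this
  refine ⟨k₁ + k₂, fun k hk => ?_⟩
  set c₃ := a ^ (k - (k₁ + k₂)) with hc₃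
  refine ⟨(Ψa.map (scale (a ^ k₂))).map (scale c₃), (Ψa'.map (scale (a ^ k₂))).map (scale c₃),
    ?_, ?_, (hgoodA.scale _).scale _, ?_⟩
  · rw [← Matrix.map_mul, ← Matrix.map_mul]
    have : Ψa * Ψa' = 1 + W := by rw [hW]; abel
    rw [this, Matrix.map_add _ (map_add _), hWs, add_zero, hone'', hone'']
  · rw [mul_eq_one_comm]
    rw [← Matrix.map_mul, ← Matrix.map_mul]
    have : Ψa * Ψa' = 1 + W := by rw [hW]; abel
    rw [this, Matrix.map_add _ (map_add _), hWs, add_zero, hone'', hone'']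
  · rw [map_mapRingHom_map_scale, map_mapRingHom_map_scale, himgA]
    refine Matrix.ext fun i i' => ?_
    simp only [Matrix.map_apply]
    rw [scale_scale, scale_scale, hc₃, map_pow, map_pow, ← pow_add, ← pow_add]
    congr 3
    omega

end Key

end Groth.Agent.Lib.Helper89.QPatch
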