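import Groth.Agent.Lib.Helper89.QPatch1

/-!
# Quillen patching, part 2: two-element covers and glueing
-/

namespace Groth.Agent.Lib.Helper89.QPatch

open Polynomial Matrix

/-- An abstract two-element Zariski cover `Spec R = D(a₀) ∪ D(a₁)`. -/
structure Cover {R R₀ R₁ R₀₁ : Type*} [CommRing R] [CommRing R₀] [CommRing R₁] [CommRing R₀₁]
    (a₀ a₁ : R) (ι₀ : R →+* R₀) (ι₁ : R →+* R₁) (ρ₀ : R₀ →+* R₀₁) (ρ₁ : R₁ →+* R₀₁) : Prop where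
  comm : ρ₀.comp ι₀ = ρ₁.comp ι₁
  loc₀ : LocLike a₀ ι₀
  loc₁ : LocLike a₁ ι₁
  loc₀₁ : LocLike (a₀ * a₁) (ρ₀.comp ι₀)
  unit₀ : IsUnit (ι₀ a₀)
  unit₁ : IsUnit (ι₁ a₁)
  comax : ∃ c₀ c₁ : R, c₀ * a₀ + c₁ * a₁ = 1

namespace Cover

variable {R R₀ R₁ R₀₁ : Type*} [CommRing R] [CommRing R₀] [CommRing R₁] [CommRing R₀₁]
  {a₀ a₁ : R} {ι₀ : R →+* R₀} {ι₁ : R →+* R₁} {ρ₀ : R₀ →+* R₀₁} {ρ₁ : R₁ →+* R₀₁}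

lemma comm_apply (h : Cover a₀ a₁ ι₀ ι₁ ρ₀ ρ₁) (x : R) : ρ₀ (ι₀ x) = ρ₁ (ι₁ x) :=
  RingHom.congr_fun h.comm x

lemma symm (h : Cover a₀ a₁ ι₀ ι₁ ρ₀ ρ₁) : Cover a₁ a₀ ι₁ ι₀ ρ₁ ρ₀ where
  comm := h.comm.symm
  loc₀ := h.loc₁
  loc₁ := h.loc₀
  loc₀₁ := by
    rw [mul_comm, ← h.comm]; exact h.loc₀₁
  unit₀ := h.unit₁
  unit₁ := h.unit₀
  comax := by
    obtain ⟨c₀, c₁, hc⟩ := h.comax
    exact ⟨c₁, c₀, by rw [add_comm]; exact hc⟩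

lemma comax_pow (h : Cover a₀ a₁ ι₀ ι₁ ρ₀ ρ₁) (k : ℕ) :
    ∃ d₀ d₁ : R, d₀ * a₀ ^ k + d₁ * a₁ ^ k = 1 := by
  obtain ⟨c₀, c₁, hc⟩ := h.comax
  have : IsCoprime a₀ a₁ := ⟨c₀, c₁, hc⟩
  exact this.pow (m := k) (n := k)

/-- `R₀ → R₀₁` is like the localization at `a₁`. -/
lemma locRight (h : Cover a₀ a₁ ι₀ ι₁ ρ₀ ρ₁) : LocLike (ι₀ a₁) ρ₀ where
  surj x := by
    obtain ⟨k, y, hy⟩ := h.loc₀₁.surj x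
    obtain ⟨u, hu⟩ := h.unit₀
    refine ⟨k, ι₀ y * (↑(u⁻¹ ^ k) : R₀), ?_⟩
    have hy' : ρ₀ (ι₀ y) = (ρ₀ (ι₀ a₀) * ρ₀ (ι₀ a₁)) ^ k * x := by
      simpa using hy
    have hu' : ρ₀ (ι₀ a₀) ^ k * ρ₀ (↑(u⁻¹ ^ k) : R₀) = 1 := by
      rw [← map_pow, ← map_mul, ← hu, ← Units.val_pow_eq_pow_val, ← Units.val_mul]
      simp
    rw [map_mul, hy', mul_pow]
    calc (ρ₀ (ι₀ a₀) ^ k * ρ₀ (ι₀ a₁) ^ k * x) * ρ₀ (↑(u⁻¹ ^ k) : R₀)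
        = (ρ₀ (ι₀ a₀) ^ k * ρ₀ (↑(u⁻¹ ^ k) : R₀)) * (ρ₀ (ι₀ a₁) ^ k * x) := by ring
      _ = ρ₀ (ι₀ a₁) ^ k * x := by rw [hu', one_mul]
  ker y' hy' := by
    obtain ⟨k, y, hy⟩ := h.loc₀.surj y'
    have h1 : (ρ₀.comp ι₀) y = 0 := by
      simp only [RingHom.comp_apply, hy, map_mul, hy', mul_zero]
    obtain ⟨l, hl⟩ := h.loc₀₁.ker y h1
    refine ⟨l, ?_⟩
    have h2 : ι₀ a₀ ^ (l + k) * (ι₀ a₁ ^ l * y') = 0 := by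
      have := congrArg ι₀ hl
      simp only [map_mul, map_pow, map_zero, hy] at this
      rw [← this]; ring
    exact (IsUnit.mul_right_eq_zero (h.unit₀.pow (l + k))).mp h2

lemma locLeft (h : Cover a₀ a₁ ι₀ ι₁ ρ₀ ρ₁) : LocLike (ι₁ a₀) ρ₁ := h.symm.locRight

/-- Injectivity of `R → R₀ × R₁`. -/
lemma eq_zero (h : Cover a₀ a₁ ι₀ ι₁ ρ₀ ρ₁) {x : R} (h₀ : ι₀ x = 0) (h₁ : ι₁ x = 0) : x = 0 := by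
  obtain ⟨k₀, hk₀⟩ := h.loc₀.ker_ge x h₀
  obtain ⟨k₁, hk₁⟩ := h.loc₁.ker_ge x h₁
  obtain ⟨d₀, d₁, hd⟩ := h.comax_pow (max k₀ k₁)
  calc x = (d₀ * a₀ ^ max k₀ k₁ + d₁ * a₁ ^ max k₀ k₁) * x := by rw [hd, one_mul]
    _ = d₀ * (a₀ ^ max k₀ k₁ * x) + d₁ * (a₁ ^ max k₀ k₁ * x) := by ring
    _ = 0 := by rw [hk₀ _ (le_max_left _ _), hk₁ _ (le_max_right _ _)]; simp

lemma ext (h : Cover a₀ a₁ ι₀ ι₁ ρ₀ ρ₁) {x y : R} (h₀ : ι₀ x = ι₀ y) (h₁ : ι₁ x = ι₁ y) :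
    x = y :=
  sub_eq_zero.mp (h.eq_zero (by rw [map_sub, h₀, sub_self]) (by rw [map_sub, h₁, sub_self]))

/-- Glueing of elements. -/
lemma glue (h : Cover a₀ a₁ ι₀ ι₁ ρ₀ ρ₁) (x₀ : R₀) (x₁ : R₁) (hx : ρ₀ x₀ = ρ₁ x₁) :
    ∃ x : R, ι₀ x = x₀ ∧ ι₁ x = x₁ := by
  obtain ⟨ka, hka⟩ := h.loc₀.surj_ge x₀
  obtain ⟨kb, hkb⟩ := h.loc₁.surj_ge x₁
  set k := max ka kb with hk
  obtain ⟨y₀, hy₀⟩ := hka k (le_max_left _ _)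
  obtain ⟨y₁, hy₁⟩ := hkb k (le_max_right _ _)
  -- `z = y₀ a₁^k - y₁ a₀^k` dies in `R₀₁`
  have hz : (ρ₀.comp ι₀) (y₀ * a₁ ^ k - y₁ * a₀ ^ k) = 0 := by
    have e1 : ρ₀ (ι₀ (y₁ * a₀ ^ k)) = ρ₁ (ι₁ (y₁ * a₀ ^ k)) := h.comm_apply _
    simp only [RingHom.comp_apply, map_sub]
    rw [e1]
    simp only [map_mul, map_pow, hy₀, hy₁, hx]
    rw [← h.comm_apply a₀, ← h.comm_apply a₁]
    ring
  obtain ⟨l, hl⟩ := h.loc₀₁.ker _ hz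
  have hl' : a₀ ^ l * a₁ ^ (l + k) * y₀ = a₀ ^ (l + k) * a₁ ^ l * y₁ := by
    have : (a₀ * a₁) ^ l * (y₀ * a₁ ^ k - y₁ * a₀ ^ k) = 0 := hl
    have h2 : a₀ ^ l * a₁ ^ (l + k) * y₀ - a₀ ^ (l + k) * a₁ ^ l * y₁ = 0 := by
      rw [← this]; ring
    exact sub_eq_zero.mp h2
  obtain ⟨d₀, d₁, hd⟩ := h.comax_pow (k + l)
  refine ⟨d₀ * a₀ ^ l * y₀ + d₁ * a₁ ^ l * y₁, ?_, ?_⟩
  · have e : a₀ ^ (k + l) * (d₀ * a₀ ^ l * y₀ + d₁ * a₁ ^ l * y₁) = a₀ ^ l * y₀ := by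
      calc a₀ ^ (k + l) * (d₀ * a₀ ^ l * y₀ + d₁ * a₁ ^ l * y₁)
          = d₀ * a₀ ^ (k + l) * (a₀ ^ l * y₀) + d₁ * (a₀ ^ (l + k) * a₁ ^ l * y₁) := by ring
        _ = d₀ * a₀ ^ (k + l) * (a₀ ^ l * y₀) + d₁ * (a₀ ^ l * a₁ ^ (l + k) * y₀) := by rw [hl']
        _ = (d₀ * a₀ ^ (k + l) + d₁ * a₁ ^ (k + l)) * (a₀ ^ l * y₀) := by ring
        _ = a₀ ^ l * y₀ := by rw [hd, one_mul]
    have e'' : ι₀ a₀ ^ (k + l) * ι₀ (d₀ * a₀ ^ l * y₀ + d₁ * a₁ ^ l * y₁) = ι₀ a₀ ^ (k + l) * x₀ := by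
      rw [← map_pow, ← map_mul, e, map_mul, map_pow, hy₀, map_pow]; ring
    exact (h.unit₀.pow (k + l)).mul_left_cancel e''
  · have e : a₁ ^ (k + l) * (d₀ * a₀ ^ l * y₀ + d₁ * a₁ ^ l * y₁) = a₁ ^ l * y₁ := by
      calc a₁ ^ (k + l) * (d₀ * a₀ ^ l * y₀ + d₁ * a₁ ^ l * y₁)
          = d₀ * (a₀ ^ l * a₁ ^ (l + k) * y₀) + d₁ * a₁ ^ (k + l) * (a₁ ^ l * y₁) := by ring
        _ = d₀ * (a₀ ^ (l + k) * a₁ ^ l * y₁) + d₁ * a₁ ^ (k + l) * (a₁ ^ l * y₁) := by rw [hl']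
        _ = (d₀ * a₀ ^ (k + l) + d₁ * a₁ ^ (k + l)) * (a₁ ^ l * y₁) := by ring
        _ = a₁ ^ l * y₁ := by rw [hd, one_mul]
    have e'' : ι₁ a₁ ^ (k + l) * ι₁ (d₀ * a₀ ^ l * y₀ + d₁ * a₁ ^ l * y₁) = ι₁ a₁ ^ (k + l) * x₁ := by
      rw [← map_pow, ← map_mul, e, map_mul, map_pow, hy₁, map_pow]; ring
    exact (h.unit₁.pow (k + l)).mul_left_cancel e''

/-- A cover passes to polynomial rings. -/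
lemma polynomial (h : Cover a₀ a₁ ι₀ ι₁ ρ₀ ρ₁) :
    Cover (C a₀) (C a₁) (mapRingHom ι₀) (mapRingHom ι₁) (mapRingHom ρ₀) (mapRingHom ρ₁) where
  comm := by
    rw [Polynomial.mapRingHom_comp, Polynomial.mapRingHom_comp, h.comm]
  loc₀ := h.loc₀.polynomial
  loc₁ := h.loc₁.polynomial
  loc₀₁ := by
    rw [Polynomial.mapRingHom_comp, ← C_mul]
    exact h.loc₀₁.polynomial
  unit₀ := by simpa using h.unit₀.map C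
  unit₁ := by simpa using h.unit₁.map C
  comax := by
    obtain ⟨c₀, c₁, hc⟩ := h.comax
    exact ⟨C c₀, C c₁, by rw [← C_mul, ← C_mul, ← C_add, hc, C_1]⟩

lemma matrix_ext (h : Cover a₀ a₁ ι₀ ι₁ ρ₀ ρ₁) {m n : Type*} {M M' : Matrix m n R}
    (h₀ : M.map ι₀ = M'.map ι₀) (h₁ : M.map ι₁ = M'.map ι₁) : M = M' := by
  ext i i'
  exact h.ext (by simpa using congrFun (congrFun h₀ i) i') (by simpa using congrFun (congrFun h₁ i) i')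

lemma matrix_glue (h : Cover a₀ a₁ ι₀ ι₁ ρ₀ ρ₁) {m n : Type*} (M₀ : Matrix m n R₀)
    (M₁ : Matrix m n R₁) (hM : M₀.map ρ₀ = M₁.map ρ₁) :
    ∃ M : Matrix m n R, M.map ι₀ = M₀ ∧ M.map ι₁ = M₁ := by
  have : ∀ i i', ∃ x : R, ι₀ x = M₀ i i' ∧ ι₁ x = M₁ i i' := fun i i' =>
    h.glue _ _ (by simpa using congrFun (congrFun hM i) i')
  choose x hx₀ hx₁ using this
  exact ⟨Matrix.of x, by ext i i'; simpa using hx₀ i i', by ext i i'; simpa using hx₁ i i'⟩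

end Cover

end Groth.Agent.Lib.Helper89.QPatch
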