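import Groth.Agent.Lib.Helper89.QPatch2

/-!
# Quillen patching, part 3: extension data and the patching theorem
-/

set_option linter.unusedSectionVars false
set_option linter.unusedVariables false

namespace Groth.Agent.Lib.Helper89.QPatch

open Polynomial Matrix

/-- The transition automorphism of two trivialisations. -/
lemma theta_props {A : Type*} [Ring A] {p P0 U₀ V₀ U₁ V₁ : A}
    (pU₀ : P0 * U₀ = U₀) (U₀p : U₀ * p = U₀) (pV₀ : p * V₀ = V₀) (V₀p : V₀ * P0 = V₀)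
    (UV₀ : U₀ * V₀ = P0) (VU₀ : V₀ * U₀ = p)
    (pU₁ : P0 * U₁ = U₁) (U₁p : U₁ * p = U₁) (pV₁ : p * V₁ = V₁) (V₁p : V₁ * P0 = V₁)
    (UV₁ : U₁ * V₁ = P0) (VU₁ : V₁ * U₁ = p) :
    (U₁ * V₀ + (1 - P0)) * (U₀ * V₁ + (1 - P0)) = 1 ∧
    (U₁ * V₀ + (1 - P0)) * P0 = P0 * (U₁ * V₀ + (1 - P0)) ∧
    (U₁ * V₀ + (1 - P0)) * (1 - P0) = 1 - P0 ∧
    (U₁ * V₀ + (1 - P0)) * U₀ = U₁ ∧
    V₁ * (U₁ * V₀ + (1 - P0)) = V₀ := by
  have hPP : P0 * P0 = P0 := by
    calc P0 * P0 = P0 * (U₁ * V₁) := by rw [UV₁]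
      _ = U₁ * V₁ := by rw [← mul_assoc, pU₁]
      _ = P0 := UV₁
  have h1 : U₁ * V₀ * P0 = U₁ * V₀ := by rw [mul_assoc, V₀p]
  have h2 : P0 * (U₁ * V₀) = U₁ * V₀ := by rw [← mul_assoc, pU₁]
  have h3 : P0 * (U₀ * V₁) = U₀ * V₁ := by rw [← mul_assoc, pU₀]
  have h4 : U₁ * V₀ * (U₀ * V₁) = P0 := by
    calc U₁ * V₀ * (U₀ * V₁) = U₁ * (V₀ * U₀) * V₁ := by simp only [mul_assoc]
      _ = P0 := by rw [VU₀, U₁p, UV₁]
  refine ⟨?_, ?_, ?_, ?_, ?_⟩
  · calc (U₁ * V₀ + (1 - P0)) * (U₀ * V₁ + (1 - P0))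
        = U₁ * V₀ * (U₀ * V₁) + (U₁ * V₀ - U₁ * V₀ * P0) + (U₀ * V₁ - P0 * (U₀ * V₁))
          + (1 - P0 - P0 + P0 * P0) := by noncomm_ring
      _ = 1 := by rw [h4, h1, h3, hPP]; abel
  · calc (U₁ * V₀ + (1 - P0)) * P0 = U₁ * V₀ * P0 + (P0 - P0 * P0) := by noncomm_ring
      _ = P0 * (U₁ * V₀) + (P0 - P0 * P0) := by rw [h1, h2]
      _ = P0 * (U₁ * V₀ + (1 - P0)) := by noncomm_ring
  · calc (U₁ * V₀ + (1 - P0)) * (1 - P0)
        = (U₁ * V₀ - U₁ * V₀ * P0) + (1 - P0 - P0 + P0 * P0) := by noncomm_ring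
      _ = 1 - P0 := by rw [h1, hPP]; abel
  · calc (U₁ * V₀ + (1 - P0)) * U₀ = U₁ * (V₀ * U₀) + (U₀ - P0 * U₀) := by noncomm_ring
      _ = U₁ := by rw [VU₀, U₁p, pU₀]; abel
  · calc V₁ * (U₁ * V₀ + (1 - P0)) = V₁ * U₁ * V₀ + (V₁ - V₁ * P0) := by noncomm_ring
      _ = V₀ := by rw [VU₁, pV₀, V₁p]; abel



section Subst

variable {T T' : Type*} [CommRing T] [CommRing T']

lemma map_map_ringHom {m n : Type*} {α β γ : Type*} [Semiring α] [Semiring β] [Semiring γ]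
    (M : Matrix m n α) (f : α →+* β) (g : β →+* γ) : (M.map f).map g = M.map (g.comp f) := by
  refine Matrix.ext fun i i' => ?_
  simp

/-- `X ↦ X + Y`, as a map `T[X] → T[X][Y]`. -/
noncomputable def shiftXY (T : Type*) [CommRing T] : T[X] →+* T[X][X] :=
  eval₂RingHom (C.comp C) (C X + X)

/-- `(X, Y) ↦ (e X, d X)`, as a map `T[X][Y] → T[X]`. -/
noncomputable def evXY (e d : T) : T[X][X] →+* T[X] := eval₂RingHom (scale e) (C d * X)

@[simp] lemma shiftXY_C (t : T) : shiftXY T (C t) = C (C t) := by simp [shiftXY]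
@[simp] lemma shiftXY_X : shiftXY T X = C X + X := by simp [shiftXY]
@[simp] lemma evXY_C (e d : T) (q : T[X]) : evXY e d (C q) = scale e q := by simp [evXY]
@[simp] lemma evXY_X (e d : T) : evXY e d X = C d * X := by simp [evXY]

lemma evalRingHom_zero_comp_shiftXY :
    (evalRingHom (0 : T[X])).comp (shiftXY T) = RingHom.id _ := by
  ext <;> simp

lemma evalRingHom_zero_comp_C : (evalRingHom (0 : T[X])).comp C = RingHom.id _ := by
  ext <;> simp

lemma evXY_comp_scale_comp_shiftXY (e d c : T) (h : e + c * d = 1) :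
    ((evXY e d).comp (scale (C c))).comp (shiftXY T) = RingHom.id _ := by
  ext
  · simp
  · simp only [RingHom.comp_apply, shiftXY_X, map_add, scale_C, scale_X, map_mul, evXY_C, evXY_X,
      RingHom.id_apply]
    rw [← mul_assoc, ← C_mul, ← add_mul, ← C_add, h, C_1, one_mul]

lemma evXY_comp_scale_comp_C (e d : T) (c : T[X]) :
    ((evXY e d).comp (scale c)).comp C = scale e := by
  ext <;> simp

lemma mapRingHom_comp_evXY (f : T →+* T') (e d : T) :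
    (mapRingHom f).comp (evXY e d) = (evXY (f e) (f d)).comp (mapRingHom (mapRingHom f)) := by
  ext q
  · simp only [RingHom.comp_apply, evXY_C, coe_mapRingHom, map_C]
    rw [map_scale]
    simp
  · simp
  · simp

end Subst

section ExtData

variable {T T' : Type*} [CommRing T] [CommRing T'] {n : Type*} [Fintype n] [DecidableEq n]

/-- `C ∘ eval 0`. -/
noncomputable def const0 (T : Type*) [CommRing T] : T[X] →+* T[X] := C.comp (evalRingHom 0)

@[simp] lemma const0_apply (q : T[X]) : const0 T q = C (q.eval 0) := rfl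

omit [Fintype n] [DecidableEq n] in
lemma map_const0_map (f : T →+* T') (p : Matrix n n T[X]) :
    (p.map (const0 T)).map (mapRingHom f) = (p.map (mapRingHom f)).map (const0 T') := by
  refine Matrix.ext fun i i' => ?_
  simp [Polynomial.eval_zero_map]

omit [Fintype n] [DecidableEq n] in
lemma map_const0_eq (p : Matrix n n T[X]) :
    p.map (const0 T) = (p.map (evalRingHom 0)).map C := by
  refine Matrix.ext fun i i' => ?_
  simp

/-- `U, V` exhibit the image of `p` as isomorphic to the image of `p(0)`. -/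
structure ExtData (p U V : Matrix n n T[X]) : Prop where
  pU : p.map (const0 T) * U = U
  Up : U * p = U
  pV : p * V = V
  Vp : V * p.map (const0 T) = V
  UV : U * V = p.map (const0 T)
  VU : V * U = p

/-- The module defined by `p` is extended. -/
def IsExt (p : Matrix n n T[X]) : Prop := ∃ U V, ExtData p U V

omit [DecidableEq n] in
lemma ExtData.map {p U V : Matrix n n T[X]} (h : ExtData p U V) (f : T →+* T') :
    ExtData (p.map (mapRingHom f)) (U.map (mapRingHom f)) (V.map (mapRingHom f)) where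
  pU := by rw [← map_const0_map, ← Matrix.map_mul, h.pU]
  Up := by rw [← Matrix.map_mul, h.Up]
  pV := by rw [← Matrix.map_mul, h.pV]
  Vp := by rw [← map_const0_map, ← Matrix.map_mul, h.Vp]
  UV := by rw [← map_const0_map, ← Matrix.map_mul, h.UV]
  VU := by rw [← Matrix.map_mul, h.VU]

lemma IsExt.map {p : Matrix n n T[X]} (h : IsExt p) (f : T →+* T') :
    IsExt (p.map (mapRingHom f)) := by
  obtain ⟨U, V, hUV⟩ := h
  exact ⟨_, _, hUV.map f⟩

omit [DecidableEq n] in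
lemma ExtData.idem {p U V : Matrix n n T[X]} (h : ExtData p U V) : p * p = p := by
  calc p * p = V * (U * V) * U := by rw [← h.VU]; simp only [Matrix.mul_assoc]
    _ = V * U := by rw [h.UV, h.Vp]
    _ = p := h.VU

lemma ExtData.idem0 {p U V : Matrix n n T[X]} (h : ExtData p U V) :
    p.map (const0 T) * p.map (const0 T) = p.map (const0 T) := by
  rw [← Matrix.map_mul, h.idem]

lemma ExtData.conj {p U V α α' : Matrix n n T[X]} (h : ExtData p U V)
    (hc : α * p.map (const0 T) = p.map (const0 T) * α) (h1 : α * α' = 1) (h2 : α' * α = 1) :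
    ExtData p (α * U) (V * α') := by
  have hc' : α' * p.map (const0 T) = p.map (const0 T) * α' := by
    calc α' * p.map (const0 T) = α' * (p.map (const0 T) * α) * α' := by
          rw [Matrix.mul_assoc, Matrix.mul_assoc, h1, Matrix.mul_one]
      _ = α' * (α * p.map (const0 T)) * α' := by rw [hc]
      _ = p.map (const0 T) * α' := by
          rw [← Matrix.mul_assoc, h2, Matrix.one_mul]
  refine ⟨?_, ?_, ?_, ?_, ?_, ?_⟩
  · rw [← Matrix.mul_assoc, ← hc, Matrix.mul_assoc, h.pU]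
  · rw [Matrix.mul_assoc, h.Up]
  · rw [← Matrix.mul_assoc, h.pV]
  · rw [Matrix.mul_assoc, hc', ← Matrix.mul_assoc, h.Vp]
  · rw [Matrix.mul_assoc, ← Matrix.mul_assoc U, h.UV, ← hc', ← Matrix.mul_assoc, h1,
      Matrix.one_mul]
  · rw [Matrix.mul_assoc, ← Matrix.mul_assoc α', h2, Matrix.one_mul, h.VU]

/-- Normalisation: `U(0) = V(0) = p(0)`. -/
lemma ExtData.normalize {p U V : Matrix n n T[X]} (h : ExtData p U V) :
    ∃ U' V', ExtData p U' V' ∧ U'.map (evalRingHom 0) = p.map (evalRingHom 0) ∧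
      V'.map (evalRingHom 0) = p.map (evalRingHom 0) := by
  set π := p.map (evalRingHom 0) with hπ
  set u := U.map (evalRingHom 0) with hu
  set v := V.map (evalRingHom 0) with hv
  have hP0 : p.map (const0 T) = π.map C := map_const0_eq p
  have hP00 : (p.map (const0 T)).map (evalRingHom 0) = π := by
    rw [hP0]
    refine Matrix.ext fun i i' => ?_
    simp
  have e1 : π * u = u := by
    have := congrArg (fun M => M.map (evalRingHom (0 : T))) h.pU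
    simpa only [Matrix.map_mul, hP00] using this
  have e4 : v * π = v := by
    have := congrArg (fun M => M.map (evalRingHom (0 : T))) h.Vp
    simpa only [Matrix.map_mul, hP00] using this
  have e5 : u * v = π := by
    have := congrArg (fun M => M.map (evalRingHom (0 : T))) h.UV
    simpa only [Matrix.map_mul, hP00] using this
  have e6 : v * u = π := by
    have := congrArg (fun M => M.map (evalRingHom (0 : T))) h.VU
    simpa only [Matrix.map_mul] using this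
  have e2 : u * π = u := by
    have := congrArg (fun M => M.map (evalRingHom (0 : T))) h.Up
    simpa only [Matrix.map_mul] using this
  have e3 : π * v = v := by
    have := congrArg (fun M => M.map (evalRingHom (0 : T))) h.pV
    simpa only [Matrix.map_mul] using this
  have c1 : π.map C * v.map C = v.map (C : T →+* T[X]) := by rw [← Matrix.map_mul, e3]
  have c2 : u.map C * π.map C = u.map (C : T →+* T[X]) := by rw [← Matrix.map_mul, e2]
  have c3 : v.map C * u.map C = π.map (C : T →+* T[X]) := by rw [← Matrix.map_mul, e6]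
  have c4 : v.map C * π.map C = v.map (C : T →+* T[X]) := by rw [← Matrix.map_mul, e4]
  have c5 : u.map C * v.map C = π.map (C : T →+* T[X]) := by rw [← Matrix.map_mul, e5]
  have hev : ∀ w : Matrix n n T, (w.map (C : T →+* T[X])).map (evalRingHom 0) = w := fun w => by
    refine Matrix.ext fun i i' => ?_
    simp
  refine ⟨v.map C * U, V * u.map C, ⟨?_, ?_, ?_, ?_, ?_, ?_⟩, ?_, ?_⟩
  · rw [hP0, ← Matrix.mul_assoc, c1]
  · rw [Matrix.mul_assoc, h.Up]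
  · rw [← Matrix.mul_assoc, h.pV]
  · rw [hP0, Matrix.mul_assoc, c2]
  · rw [Matrix.mul_assoc, ← Matrix.mul_assoc U, h.UV, hP0, ← Matrix.mul_assoc, c4, c3]
  · rw [Matrix.mul_assoc, ← Matrix.mul_assoc (u.map C), c5, ← hP0, h.pU, h.VU]
  · rw [Matrix.map_mul, hev, ← hu, e6]
  · rw [Matrix.map_mul, hev, ← hv, e6]

end ExtData

-- PATCH

section Patch

variable {R R₀ R₁ R₀₁ : Type*} [CommRing R] [CommRing R₀] [CommRing R₁] [CommRing R₀₁]
  {a₀ a₁ : R} {ι₀ : R →+* R₀} {ι₁ : R →+* R₁} {ρ₀ : R₀ →+* R₀₁} {ρ₁ : R₁ →+* R₀₁}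
  {n : Type*} [Fintype n] [DecidableEq n]

lemma ExtData.of_cover (h : Cover a₀ a₁ ι₀ ι₁ ρ₀ ρ₁) {p U V : Matrix n n R[X]}
    (h₀ : ExtData (p.map (mapRingHom ι₀)) (U.map (mapRingHom ι₀)) (V.map (mapRingHom ι₀)))
    (h₁ : ExtData (p.map (mapRingHom ι₁)) (U.map (mapRingHom ι₁)) (V.map (mapRingHom ι₁))) :
    ExtData p U V := by
  have hc := h.polynomial
  refine ⟨?_, ?_, ?_, ?_, ?_, ?_⟩
  · refine hc.matrix_ext ?_ ?_
    · rw [Matrix.map_mul, map_const0_map, h₀.pU]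
    · rw [Matrix.map_mul, map_const0_map, h₁.pU]
  · refine hc.matrix_ext ?_ ?_
    · rw [Matrix.map_mul, h₀.Up]
    · rw [Matrix.map_mul, h₁.Up]
  · refine hc.matrix_ext ?_ ?_
    · rw [Matrix.map_mul, h₀.pV]
    · rw [Matrix.map_mul, h₁.pV]
  · refine hc.matrix_ext ?_ ?_
    · rw [Matrix.map_mul, map_const0_map, h₀.Vp]
    · rw [Matrix.map_mul, map_const0_map, h₁.Vp]
  · refine hc.matrix_ext ?_ ?_
    · rw [Matrix.map_mul, map_const0_map, h₀.UV]
    · rw [Matrix.map_mul, map_const0_map, h₁.UV]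
  · refine hc.matrix_ext ?_ ?_
    · rw [Matrix.map_mul, h₀.VU]
    · rw [Matrix.map_mul, h₁.VU]

omit [Fintype n] in
lemma map_one_ringHom {α β : Type*} [Semiring α] [Semiring β] (f : α →+* β) :
    (1 : Matrix n n α).map f = 1 := Matrix.map_one _ (map_zero _) (map_one _)

omit [Fintype n] in
lemma map_one_sub {α β : Type*} [Ring α] [Ring β] (f : α →+* β) (M : Matrix n n α) :
    (1 - M).map f = 1 - M.map f := by
  rw [Matrix.map_sub _ (map_sub f), map_one_ringHom]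

/-- **Quillen patching for a two-element cover** (matrix form). -/
theorem IsExt.of_cover (h : Cover a₀ a₁ ι₀ ι₁ ρ₀ ρ₁) (p : Matrix n n R[X])
    (h₀ : IsExt (p.map (mapRingHom ι₀))) (h₁ : IsExt (p.map (mapRingHom ι₁))) : IsExt p := by
  obtain ⟨U₀', V₀', hd₀'⟩ := h₀
  obtain ⟨U₁', V₁', hd₁'⟩ := h₁
  obtain ⟨U₀, V₀, hd₀, hU₀0, hV₀0⟩ := hd₀'.normalize
  obtain ⟨U₁, V₁, hd₁, hU₁0, hV₁0⟩ := hd₁'.normalize
  have hc := h.polynomial
  set J₀ := mapRingHom ι₀ with hJ₀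
  set J₁ := mapRingHom ι₁ with hJ₁
  set K₀ := mapRingHom ρ₀ with hK₀
  set K₁ := mapRingHom ρ₁ with hK₁
  set pA := p.map J₀ with hpA
  set pB := p.map J₁ with hpB
  set pAB := pA.map K₀ with hpAB
  have hpAB₁ : pB.map K₁ = pAB := by
    rw [hpAB, hpA, hpB, map_map_ringHom, map_map_ringHom, hc.comm]
  -- data over `R₀₁[X]`
  have hd₀'' : ExtData pAB (U₀.map K₀) (V₀.map K₀) := hd₀.map ρ₀
  have hd₁'' : ExtData pAB (U₁.map K₁) (V₁.map K₁) := hpAB₁ ▸ hd₁.map ρ₁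
  set P0 := pAB.map (const0 R₀₁) with hP0
  set Θ := U₁.map K₁ * V₀.map K₀ + (1 - P0) with hΘ
  set Θ' := U₀.map K₀ * V₁.map K₁ + (1 - P0) with hΘ'
  obtain ⟨tΘΘ', tcomm, tfix, tU, tV⟩ := theta_props hd₀''.pU hd₀''.Up hd₀''.pV hd₀''.Vp hd₀''.UV
    hd₀''.VU hd₁''.pU hd₁''.Up hd₁''.pV hd₁''.Vp hd₁''.UV hd₁''.VU
  obtain ⟨tΘ'Θ, tcomm', tfix', -, -⟩ := theta_props hd₁''.pU hd₁''.Up hd₁''.pV hd₁''.Vp hd₁''.UV
    hd₁''.VU hd₀''.pU hd₀''.Up hd₀''.pV hd₀''.Vp hd₀''.UV hd₀''.VU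
  -- `Θ(0) = 1`
  have hP00 : P0.map (evalRingHom 0) = pAB.map (evalRingHom 0) := by
    rw [hP0, map_const0_eq]
    refine Matrix.ext fun i i' => ?_
    simp
  have hev0K₀ : ∀ M : Matrix n n R₀[X], (M.map K₀).map (evalRingHom 0) =
      (M.map (evalRingHom 0)).map ρ₀ := fun M => by
    refine Matrix.ext fun i i' => ?_
    simp [hK₀, Polynomial.eval_zero_map]
  have hev0K₁ : ∀ M : Matrix n n R₁[X], (M.map K₁).map (evalRingHom 0) =
      (M.map (evalRingHom 0)).map ρ₁ := fun M => by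
    refine Matrix.ext fun i i' => ?_
    simp [hK₁, Polynomial.eval_zero_map]
  have hΘ0 : Θ.map (evalRingHom 0) = 1 := by
    have e1 : (U₁.map K₁).map (evalRingHom 0) = pAB.map (evalRingHom 0) := by
      rw [hev0K₁, hU₁0, ← hev0K₁, hpAB₁]
    have e2 : (V₀.map K₀).map (evalRingHom 0) = pAB.map (evalRingHom 0) := by
      rw [hev0K₀, hV₀0, ← hev0K₀]
    have e3 : pAB.map (evalRingHom 0) * pAB.map (evalRingHom 0) = pAB.map (evalRingHom 0) := by
      rw [← Matrix.map_mul, hd₀''.idem]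
    rw [hΘ, Matrix.map_add _ (map_add _), Matrix.map_mul, e1, e2, e3, map_one_sub, hP00]
    abel
  -- first application of the key lemma: over `R₁[X] → R₀₁[X]`, variable `Y`
  set π₁ : Matrix n n R₁[X] := pB.map (const0 R₁) with hπ₁
  have hπ₁idem : π₁ * π₁ = π₁ := hd₁.idem0
  have hπ₁K : π₁.map K₁ = P0 := by
    rw [hπ₁, hK₁, map_const0_map, ← hK₁, hpAB₁]
  have hP0shift : P0.map (shiftXY R₀₁) = P0.map C := by
    rw [hP0]
    refine Matrix.ext fun i i' => ?_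
    simp
  have hπ₁CK : π₁.map (C.comp K₁) = P0.map (C : R₀₁[X] →+* R₀₁[X][X]) := by
    rw [← map_map_ringHom, hπ₁K]
  set Θ₂ : Matrix n n R₀₁[X][X] := Θ.map (shiftXY R₀₁) * Θ'.map C with hΘ₂
  set Θ₂' : Matrix n n R₀₁[X][X] := Θ.map C * Θ'.map (shiftXY R₀₁) with hΘ₂'
  have hΘ₂Θ₂' : Θ₂ * Θ₂' = 1 := by
    calc Θ₂ * Θ₂' = Θ.map (shiftXY R₀₁) * (Θ'.map C * Θ.map C) * Θ'.map (shiftXY R₀₁) := by
          rw [hΘ₂, hΘ₂']; simp only [Matrix.mul_assoc]
      _ = 1 := by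
          rw [← Matrix.map_mul, tΘ'Θ, map_one_ringHom, Matrix.mul_one, ← Matrix.map_mul, tΘΘ',
            map_one_ringHom]
  have hΘ₂0 : Θ₂.map (evalRingHom 0) = 1 := by
    rw [hΘ₂, Matrix.map_mul, map_map_ringHom, map_map_ringHom, evalRingHom_zero_comp_shiftXY,
      evalRingHom_zero_comp_C]
    simpa using tΘΘ'
  have hΘ₂comm : Θ₂ * π₁.map (C.comp K₁) = π₁.map (C.comp K₁) * Θ₂ := by
    rw [hπ₁CK, hΘ₂]
    calc Θ.map (shiftXY R₀₁) * Θ'.map C * P0.map C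
        = Θ.map (shiftXY R₀₁) * (Θ' * P0).map C := by rw [Matrix.mul_assoc, ← Matrix.map_mul]
      _ = Θ.map (shiftXY R₀₁) * (P0 * Θ').map C := by rw [tcomm']
      _ = (Θ * P0).map (shiftXY R₀₁) * Θ'.map C := by
          rw [Matrix.map_mul, ← Matrix.mul_assoc, Matrix.map_mul, hP0shift]
      _ = (P0 * Θ).map (shiftXY R₀₁) * Θ'.map C := by rw [tcomm]
      _ = P0.map C * (Θ.map (shiftXY R₀₁) * Θ'.map C) := by
          rw [Matrix.map_mul, hP0shift, Matrix.mul_assoc]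
  have hΘ₂fix : Θ₂ * (1 - π₁.map (C.comp K₁)) = 1 - π₁.map (C.comp K₁) := by
    rw [hπ₁CK, hΘ₂]
    calc Θ.map (shiftXY R₀₁) * Θ'.map C * (1 - P0.map C)
        = Θ.map (shiftXY R₀₁) * (Θ' * (1 - P0)).map C := by
          rw [Matrix.mul_assoc, Matrix.map_mul, map_one_sub]
      _ = Θ.map (shiftXY R₀₁) * (1 - P0).map (shiftXY R₀₁) := by
          rw [tfix', map_one_sub, map_one_sub, hP0shift]
      _ = 1 - P0.map C := by
          rw [← Matrix.map_mul, tfix, map_one_sub, hP0shift]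
  obtain ⟨ka, hka⟩ := key_lemma (h.locLeft.polynomial) π₁ hπ₁idem Θ₂ Θ₂' hΘ₂Θ₂' hΘ₂0 hΘ₂comm
    hΘ₂fix
  -- second application: over `R₀ → R₀₁`
  set π₀ : Matrix n n R₀ := pA.map (evalRingHom 0) with hπ₀
  have hπ₀idem : π₀ * π₀ = π₀ := by rw [hπ₀, ← Matrix.map_mul, hd₀.idem]
  have hπ₀K : π₀.map (C.comp ρ₀) = P0 := by
    refine Matrix.ext fun i i' => ?_
    simp [hπ₀, hP0, hpAB, hK₀, Polynomial.eval_zero_map]
  obtain ⟨kb, hkb⟩ := key_lemma h.locRight π₀ hπ₀idem Θ Θ' tΘΘ' hΘ0 (by rw [hπ₀K]; exact tcomm)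
    (by rw [hπ₀K]; exact tfix)
  -- choose `k`
  set k := max ka kb with hk
  obtain ⟨d₀, d₁, hd⟩ := h.comax_pow k
  obtain ⟨Ψ, Ψ', hΨΨ', hΨ'Ψ, hΨgood, hΨimg⟩ := hka k (le_max_left _ _)
  obtain ⟨Ψ₀, Ψ₀', hΨ₀Ψ₀', hΨ₀'Ψ₀, hΨ₀good, hΨ₀img⟩ := hkb k (le_max_right _ _)
  -- the element `α₁` over `R₁[X]`
  set e₁ : R₁ := ι₁ (d₁ * a₁ ^ k) with he₁
  set α₁ := Ψ.map (evXY e₁ (ι₁ d₀)) with hα₁
  set α₁' := Ψ'.map (evXY e₁ (ι₁ d₀)) with hα₁'
  have hα₁α₁' : α₁ * α₁' = 1 := by rw [hα₁, hα₁', ← Matrix.map_mul, hΨΨ', map_one_ringHom]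
  have hα₁'α₁ : α₁' * α₁ = 1 := by rw [hα₁, hα₁', ← Matrix.map_mul, hΨ'Ψ, map_one_ringHom]
  have hπ₁ev : (π₁.map C).map (evXY e₁ (ι₁ d₀)) = π₁ := by
    rw [hπ₁]
    refine Matrix.ext fun i i' => ?_
    simp
  have hα₁comm : α₁ * π₁ = π₁ * α₁ := by
    have := congrArg (fun M => M.map (evXY e₁ (ι₁ d₀))) hΨgood.comm
    simpa only [Matrix.map_mul, hπ₁ev] using this
  have hα₁'comm : α₁' * π₁ = π₁ * α₁' := by
    calc α₁' * π₁ = α₁' * (π₁ * α₁) * α₁' := by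
          rw [Matrix.mul_assoc, Matrix.mul_assoc, hα₁α₁', Matrix.mul_one]
      _ = α₁' * (α₁ * π₁) * α₁' := by rw [hα₁comm]
      _ = π₁ * α₁' := by rw [← Matrix.mul_assoc, hα₁'α₁, Matrix.one_mul]
  -- image of `α₁` in `R₀₁[X]`
  set e'' : R₀₁ := ρ₁ e₁ with he''
  have hsum : e'' + ρ₁ (ι₁ a₀) ^ k * ρ₁ (ι₁ d₀) = 1 := by
    have : e'' + ρ₁ (ι₁ a₀) ^ k * ρ₁ (ι₁ d₀) = ρ₁ (ι₁ (d₀ * a₀ ^ k + d₁ * a₁ ^ k)) := by
      simp only [he'', he₁, map_add, map_mul, map_pow]; ring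
    rw [this, hd, map_one, map_one]
  have hα₁img : α₁.map K₁ = Θ * Θ'.map (scale e'') := by
    have hc1 : K₁ (C (ι₁ a₀)) ^ k = C (ρ₁ (ι₁ a₀) ^ k) := by
      simp [hK₁]
    rw [hα₁, map_map_ringHom, hK₁, mapRingHom_comp_evXY, ← map_map_ringHom, ← hK₁, hΨimg, hc1,
      map_map_ringHom, hΘ₂, Matrix.map_mul, map_map_ringHom, map_map_ringHom,
      evXY_comp_scale_comp_shiftXY _ _ _ hsum, evXY_comp_scale_comp_C]
    congr 1
  -- the element `β₀` over `R₀[X]`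
  set β₀ := Ψ₀.map (scale (ι₀ d₁)) with hβ₀
  set β₀' := Ψ₀'.map (scale (ι₀ d₁)) with hβ₀'
  have hβ₀β₀' : β₀ * β₀' = 1 := by rw [hβ₀, hβ₀', ← Matrix.map_mul, hΨ₀Ψ₀', map_one_ringHom]
  have hβ₀'β₀ : β₀' * β₀ = 1 := by rw [hβ₀, hβ₀', ← Matrix.map_mul, hΨ₀'Ψ₀, map_one_ringHom]
  have hβ₀comm : β₀ * pA.map (const0 R₀) = pA.map (const0 R₀) * β₀ := by
    rw [map_const0_eq]
    exact (hΨ₀good.scale _).comm
  have hβ₀img : β₀.map K₀ = Θ.map (scale e'') := by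
    rw [hβ₀, hK₀, map_mapRingHom_map_scale, ← hK₀, hΨ₀img]
    refine Matrix.ext fun i i' => ?_
    simp only [Matrix.map_apply]
    rw [scale_scale]
    congr 2
    rw [he'', he₁, ← h.comm_apply]
    simp only [map_mul, map_pow]
    ring
  have hαβ : α₁.map K₁ * β₀.map K₀ = Θ := by
    rw [hα₁img, hβ₀img, Matrix.mul_assoc, ← Matrix.map_mul, tΘ'Θ, map_one_ringHom, Matrix.mul_one]
  have hα''inv : α₁'.map K₁ * α₁.map K₁ = 1 := by
    rw [← Matrix.map_mul, hα₁'α₁, map_one_ringHom]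
  have hβ''inv : β₀.map K₀ * β₀'.map K₀ = 1 := by
    rw [← Matrix.map_mul, hβ₀β₀', map_one_ringHom]
  -- new trivialisations
  have hdA : ExtData pA (β₀ * U₀) (V₀ * β₀') := hd₀.conj hβ₀comm hβ₀β₀' hβ₀'β₀
  have hdB : ExtData pB (α₁' * U₁) (V₁ * α₁) := hd₁.conj hα₁'comm hα₁'α₁ hα₁α₁'
  have hUagree : (β₀ * U₀).map K₀ = (α₁' * U₁).map K₁ := by
    rw [Matrix.map_mul, Matrix.map_mul]
    calc β₀.map K₀ * U₀.map K₀ = α₁'.map K₁ * (α₁.map K₁ * β₀.map K₀) * U₀.map K₀ := by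
          rw [← Matrix.mul_assoc, hα''inv, Matrix.one_mul]
      _ = α₁'.map K₁ * U₁.map K₁ := by rw [hαβ, Matrix.mul_assoc, tU]
  have hVagree : (V₀ * β₀').map K₀ = (V₁ * α₁).map K₁ := by
    rw [Matrix.map_mul, Matrix.map_mul]
    calc V₀.map K₀ * β₀'.map K₀ = V₁.map K₁ * Θ * β₀'.map K₀ := by rw [tV]
      _ = V₁.map K₁ * (α₁.map K₁ * (β₀.map K₀ * β₀'.map K₀)) := by
          rw [← hαβ]; simp only [Matrix.mul_assoc]
      _ = V₁.map K₁ * α₁.map K₁ := by rw [hβ''inv, Matrix.mul_one]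
  obtain ⟨U, hUA, hUB⟩ := hc.matrix_glue _ _ hUagree
  obtain ⟨V, hVA, hVB⟩ := hc.matrix_glue _ _ hVagree
  refine ⟨U, V, ExtData.of_cover h ?_ ?_⟩
  · rw [hUA, hVA]; exact hdA
  · rw [hUB, hVB]; exact hdB

end Patch

end Groth.Agent.Lib.Helper89.QPatch
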