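import Mathlib.RingTheory.Ideal.AssociatedPrime.Localization
import Mathlib.RingTheory.Ideal.AssociatedPrime.Finiteness
import Mathlib.RingTheory.HopkinsLevitzki
import Mathlib.RingTheory.FiniteLength
import Mathlib.RingTheory.MvPolynomial.Homogeneous
import Mathlib.RingTheory.MvPolynomial.Ideal
import Mathlib.RingTheory.Polynomial.Basic
import Mathlib.GroupTheory.CosetCover
import Mathlib.Algebra.Module.Torsion.Basic
import Mathlib.Tactic

/-!
# Finite length from maximal associated primes; homogeneous quasi-regular elements (helper89)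
-/

set_option autoImplicit false
universe u

namespace Groth.Agent.Lib.Helper89

/-- A finitely generated module over a Noetherian ring all of whose associated primes are maximal
has finite length. -/
theorem isFiniteLength_of_associatedPrimes_isMaximal (R : Type*) [CommRing R] [IsNoetherianRing R]
    (N : Type*) [AddCommGroup N] [Module R N] [Module.Finite R N]
    (h : ∀ P ∈ associatedPrimes R N, P.IsMaximal) : IsFiniteLength R N := by
  rw [isFiniteLength_iff_isNoetherian_isArtinian]
  refine ⟨inferInstance, ?_⟩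
  -- every prime containing the annihilator is maximal
  have hmax : ∀ Q : Ideal R, Q.IsPrime → Module.annihilator R N ≤ Q → Q.IsMaximal := by
    intro Q hQ hle
    obtain ⟨P, hPmin, hPQ⟩ := Ideal.exists_minimalPrimes_le hle
    have hPass : P ∈ associatedPrimes R N :=
      Module.associatedPrimes.minimalPrimes_annihilator_subset_associatedPrimes R N hPmin
    have hPmax := h P hPass
    have : P = Q := hPmax.eq_of_le hQ.ne_top hPQ
    rwa [← this]
  let I := Module.annihilator R N
  let _ : Module (R ⧸ I) N := (Module.isTorsionBySet_annihilator R N).module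
  have : IsScalarTower R (R ⧸ I) N := (Module.isTorsionBySet_annihilator R N).isScalarTower
  have : Ring.KrullDimLE 0 (R ⧸ I) := by
    rw [Ring.krullDimLE_zero_iff]
    intro 𝔮 h𝔮
    have h1 : (𝔮.comap (Ideal.Quotient.mk I)).IsPrime := Ideal.comap_isPrime _ _
    have h2 : I ≤ 𝔮.comap (Ideal.Quotient.mk I) := by
      intro x hx
      rw [Ideal.mem_comap, Ideal.Quotient.eq_zero_iff_mem.mpr hx]
      exact 𝔮.zero_mem
    have h3 := hmax _ h1 h2
    have h4 : 𝔮 = (𝔮.comap (Ideal.Quotient.mk I)).map (Ideal.Quotient.mk I) :=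
      (Ideal.map_comap_of_surjective _ Ideal.Quotient.mk_surjective 𝔮).symm
    rw [h4]
    rcases Ideal.map_eq_top_or_isMaximal_of_surjective (Ideal.Quotient.mk I)
      Ideal.Quotient.mk_surjective h3 with h5 | h5
    · exfalso
      rw [← h4] at h5
      exact h𝔮.ne_top h5
    · exact h5
  have : IsArtinianRing (R ⧸ I) := IsNoetherianRing.isArtinianRing_of_krullDimLE_zero
  have : Module.Finite (R ⧸ I) N := Module.Finite.of_restrictScalars_finite R (R ⧸ I) N
  have : IsArtinian (R ⧸ I) N := inferInstance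
  exact isArtinian_of_surjective_algebraMap (S := R) (R := R ⧸ I) Ideal.Quotient.mk_surjective

section MvPoly

variable (k : Type u) [Field k] (r : ℕ)

/-- A prime of `k[x_0..x_r]` containing all monomials `x_i ^ d` is maximal. -/
theorem isMaximal_of_X_pow_mem (d : ℕ) (P : Ideal (MvPolynomial (Fin (r + 1)) k)) [hP : P.IsPrime]
    (h : ∀ i, (MvPolynomial.X i : MvPolynomial (Fin (r + 1)) k) ^ d ∈ P) : P.IsMaximal := by
  have hX : ∀ i, (MvPolynomial.X i : MvPolynomial (Fin (r + 1)) k) ∈ P := fun i =>
    hP.mem_of_pow_mem d (h i)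
  have hspan : Ideal.span (MvPolynomial.X '' (Set.univ : Set (Fin (r + 1)))) ≤ P := by
    rw [Ideal.span_le]
    rintro _ ⟨i, _, rfl⟩
    exact hX i
  have hmod : ∀ q : MvPolynomial (Fin (r + 1)) k,
      q - MvPolynomial.C (MvPolynomial.constantCoeff q) ∈ P := by
    intro q
    apply hspan
    rw [MvPolynomial.mem_ideal_span_X_image]
    intro m hm
    have hm0 : m ≠ 0 := by
      rintro rfl
      rw [MvPolynomial.mem_support_iff, MvPolynomial.coeff_sub, MvPolynomial.coeff_zero_C] at hm
      exact hm (sub_self _)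
    obtain ⟨i, hi⟩ : ∃ i, m i ≠ 0 := by
      by_contra hcon
      push Not at hcon
      exact hm0 (Finsupp.ext hcon)
    exact ⟨i, Set.mem_univ i, hi⟩
  rw [Ideal.isMaximal_iff]
  refine ⟨fun h1 => hP.ne_top ((Ideal.eq_top_iff_one P).mpr h1), ?_⟩
  intro J q hPJ hqP hqJ
  have hc : MvPolynomial.constantCoeff q ≠ 0 := by
    intro h0
    apply hqP
    have := hmod q
    rwa [h0, map_zero, sub_zero] at this
  have h1 : MvPolynomial.C (MvPolynomial.constantCoeff q) ∈ J := by
    have h2 : q - MvPolynomial.C (MvPolynomial.constantCoeff q) ∈ J := hPJ (hmod q)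
    have := J.sub_mem hqJ h2
    rwa [sub_sub_cancel] at this
  have h3 : (MvPolynomial.C (MvPolynomial.constantCoeff q)⁻¹ : MvPolynomial (Fin (r + 1)) k) *
      MvPolynomial.C (MvPolynomial.constantCoeff q) = 1 := by
    rw [← map_mul, inv_mul_cancel₀ hc, map_one]
  rw [← h3]
  exact J.mul_mem_left _ h1

variable [Infinite k]

/-- Over an infinite field, there is a nonzero homogeneous polynomial of degree `d` avoiding a
given finite set of non-maximal primes. -/
theorem exists_homogeneous_avoiding (d : ℕ)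
    (T : Set (Ideal (MvPolynomial (Fin (r + 1)) k))) (hT : T.Finite)
    (hprime : ∀ P ∈ T, P.IsPrime) (hnm : ∀ P ∈ T, ¬ P.IsMaximal) :
    ∃ f : MvPolynomial (Fin (r + 1)) k, f.IsHomogeneous d ∧ f ≠ 0 ∧ ∀ P ∈ T, f ∉ P := by
  classical
  let V := MvPolynomial.homogeneousSubmodule (Fin (r + 1)) k d
  let W : Ideal (MvPolynomial (Fin (r + 1)) k) → Subspace k ↥V := fun P =>
    Submodule.comap V.subtype (P.restrictScalars k)
  let s : Finset (Subspace k ↥V) := insert ⊥ (hT.toFinset.image W)
  have hX0 : (MvPolynomial.X 0 : MvPolynomial (Fin (r + 1)) k) ^ d ∈ V :=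
    (MvPolynomial.mem_homogeneousSubmodule _ _).mpr (MvPolynomial.isHomogeneous_X_pow 0 d)
  have hs : ⊤ ∉ s := by
    intro htop
    rw [Finset.mem_insert, Finset.mem_image] at htop
    rcases htop with h0 | ⟨P, hPT, hWP⟩
    · have : (⟨_, hX0⟩ : ↥V) ∈ (⊥ : Subspace k ↥V) := by rw [← h0]; trivial
      rw [Submodule.mem_bot] at this
      have h1 := congrArg Subtype.val this
      exact pow_ne_zero d (MvPolynomial.X_ne_zero 0) h1
    · rw [Set.Finite.mem_toFinset] at hPT
      have := hprime P hPT
      apply hnm P hPT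
      apply isMaximal_of_X_pow_mem k r d P
      intro i
      have hXi : (MvPolynomial.X i : MvPolynomial (Fin (r + 1)) k) ^ d ∈ V :=
        (MvPolynomial.mem_homogeneousSubmodule _ _).mpr (MvPolynomial.isHomogeneous_X_pow i d)
      have : (⟨_, hXi⟩ : ↥V) ∈ W P := by rw [hWP]; trivial
      exact this
  have hne := Subspace.biUnion_ne_univ_of_top_notMem hs
  obtain ⟨v, hv⟩ := (Set.ne_univ_iff_exists_notMem _).mp hne
  simp only [Set.mem_iUnion, not_exists] at hv
  refine ⟨v.1, (MvPolynomial.mem_homogeneousSubmodule _ _).mp v.2, ?_, ?_⟩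
  · intro h0
    apply hv ⊥ (Finset.mem_insert_self _ _)
    rw [SetLike.mem_coe, Submodule.mem_bot]
    exact Subtype.ext h0
  · intro P hPT hfP
    apply hv (W P) (Finset.mem_insert_of_mem (Finset.mem_image_of_mem W
      ((Set.Finite.mem_toFinset hT).mpr hPT)))
    exact hfP

end MvPoly

section Main

theorem exists_homogeneous_torsionBy_isFiniteLength (k : Type u) [Field k] [Infinite k] (r d : ℕ)
    (M : Type u) [AddCommGroup M] [Module (MvPolynomial (Fin (r + 1)) k) M]
    [Module.Finite (MvPolynomial (Fin (r + 1)) k) M] :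
    ∃ f : MvPolynomial (Fin (r + 1)) k, f.IsHomogeneous d ∧ f ≠ 0 ∧
      IsFiniteLength (MvPolynomial (Fin (r + 1)) k)
        ↥(Submodule.torsionBy (MvPolynomial (Fin (r + 1)) k) M f) := by
  classical
  let T : Set (Ideal (MvPolynomial (Fin (r + 1)) k)) :=
    {P | P ∈ associatedPrimes (MvPolynomial (Fin (r + 1)) k) M ∧ ¬ P.IsMaximal}
  have hT : T.Finite := (associatedPrimes.finite _ M).subset (fun P hP => hP.1)
  obtain ⟨f, hfh, hf0, hfT⟩ := exists_homogeneous_avoiding k r d T hT
    (fun P hP => hP.1.isPrime) (fun P hP => hP.2)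
  refine ⟨f, hfh, hf0, ?_⟩
  apply isFiniteLength_of_associatedPrimes_isMaximal
  intro P hP
  have hPM : P ∈ associatedPrimes (MvPolynomial (Fin (r + 1)) k) M :=
    associatedPrimes.subset_of_injective
      (f := (Submodule.torsionBy (MvPolynomial (Fin (r + 1)) k) M f).subtype)
      (Submodule.injective_subtype _) hP
  have hfP : f ∈ P := by
    obtain ⟨_, x, hx⟩ := isAssociatedPrime_iff.mp hP
    rw [hx, Submodule.mem_colon_singleton, Submodule.mem_bot]
    apply Subtype.ext
    rw [Submodule.coe_smul, Submodule.coe_zero]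
    exact (Submodule.mem_torsionBy_iff _ _).mp x.2
  by_contra hmax
  exact hfT P ⟨hPM, hmax⟩ hfP

end Main

end Groth.Agent.Lib.Helper89
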