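import Mathlib

/-!
# Serre's general position proposition: pointwise linear algebra

For a commutative ring `R`, an `R`-module `M` and a maximal ideal `x`, we set `M(x) = M/xM`,
`B(x)` the span of the classes of the `m` with `φ m ∈ x` for all linear forms `φ`, and
`V(x) = M(x)/B(x)`; `img x : M → V(x)` is the canonical map.
-/

namespace Groth.Agent.Lib.Helper89.SerreGP

universe u

open Submodule

variable {R : Type u} [CommRing R] (M : Type u) [AddCommGroup M] [Module R M]

/-- `B(x)`: the span of the classes in `M/xM` of the elements killed mod `x` by all linear forms. -/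
def Bq (x : MaximalSpectrum R) :
    Submodule (R ⧸ x.asIdeal) (M ⧸ (x.asIdeal • ⊤ : Submodule R M)) :=
  Submodule.span (R ⧸ x.asIdeal)
    ((x.asIdeal • ⊤ : Submodule R M).mkQ '' {m : M | ∀ φ : M →ₗ[R] R, φ m ∈ x.asIdeal})

/-- The canonical map `M → V(x) = (M/xM)/B(x)`. -/
def img (x : MaximalSpectrum R) (m : M) : (M ⧸ (x.asIdeal • ⊤ : Submodule R M)) ⧸ Bq M x :=
  (Bq M x).mkQ ((x.asIdeal • ⊤ : Submodule R M).mkQ m)

variable {M}

lemma img_add (x : MaximalSpectrum R) (m m' : M) : img M x (m + m') = img M x m + img M x m' := by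
  simp [img]

lemma img_zero (x : MaximalSpectrum R) : img M x 0 = 0 := by
  simp [img]

lemma img_smul (x : MaximalSpectrum R) (a : R) (m : M) :
    img M x (a • m) = Ideal.Quotient.mk x.asIdeal a • img M x m := by
  unfold img
  rw [← LinearMap.map_smul]
  rfl

lemma img_neg (x : MaximalSpectrum R) (m : M) : img M x (-m) = - img M x m := by
  simp [img]

lemma img_sub (x : MaximalSpectrum R) (m m' : M) : img M x (m - m') = img M x m - img M x m' := by
  simp [img]

lemma img_sum (x : MaximalSpectrum R) {ι : Type*} (s : Finset ι) (f : ι → M) :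
    img M x (∑ i ∈ s, f i) = ∑ i ∈ s, img M x (f i) := by
  classical
  induction s using Finset.induction_on with
  | empty => simp [img_zero]
  | insert a s ha ih => rw [Finset.sum_insert ha, Finset.sum_insert ha, img_add, ih]

lemma img_surjective (x : MaximalSpectrum R) : Function.Surjective (img M x) := by
  intro v
  obtain ⟨w, rfl⟩ := (Bq M x).mkQ_surjective v
  obtain ⟨m, rfl⟩ := (x.asIdeal • ⊤ : Submodule R M).mkQ_surjective w
  exact ⟨m, rfl⟩

lemma img_eq_of_sub_mem (x : MaximalSpectrum R) {m m' : M}
    (h : m - m' ∈ (x.asIdeal • ⊤ : Submodule R M)) : img M x m = img M x m' := by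
  unfold img
  congr 1
  rw [← sub_eq_zero, ← map_sub, Submodule.mkQ_apply, Submodule.Quotient.mk_eq_zero]
  exact h

lemma linearForm_mem_of_mem_smul_top (x : MaximalSpectrum R) (φ : M →ₗ[R] R) {m : M}
    (h : m ∈ (x.asIdeal • ⊤ : Submodule R M)) : φ m ∈ x.asIdeal := by
  refine Submodule.smul_induction_on h (fun r hr n _ => ?_) (fun a b ha hb => ?_)
  · rw [map_smul]; exact Ideal.mul_mem_right _ _ hr
  · rw [map_add]; exact Ideal.add_mem _ ha hb

/-- `img x m = 0` iff all linear forms send `m` into `x`. -/
lemma img_eq_zero_iff (x : MaximalSpectrum R) (m : M) :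
    img M x m = 0 ↔ ∀ φ : M →ₗ[R] R, φ m ∈ x.asIdeal := by
  unfold img
  rw [Submodule.mkQ_apply, Submodule.Quotient.mk_eq_zero]
  constructor
  · intro h φ
    -- the set of classes all of whose lifts are sent into `x`
    have key : ∀ w ∈ Bq M x, ∀ m' : M, (x.asIdeal • ⊤ : Submodule R M).mkQ m' = w →
        φ m' ∈ x.asIdeal := by
      intro w hw
      induction hw using Submodule.span_induction with
      | mem w hw =>
        obtain ⟨m₀, hm₀, rfl⟩ := hw
        intro m' hm'
        have : m' - m₀ ∈ (x.asIdeal • ⊤ : Submodule R M) := by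
          rw [← Submodule.Quotient.mk_eq_zero, Submodule.Quotient.mk_sub, sub_eq_zero]
          exact hm'
        have h1 := linearForm_mem_of_mem_smul_top x φ this
        rw [map_sub] at h1
        have := Ideal.add_mem _ h1 (hm₀ φ)
        simpa using this
      | zero =>
        intro m' hm'
        exact linearForm_mem_of_mem_smul_top x φ (by
          rw [← Submodule.Quotient.mk_eq_zero]; exact hm')
      | add a b _ _ iha ihb =>
        intro m' hm'
        obtain ⟨ma, rfl⟩ := (x.asIdeal • ⊤ : Submodule R M).mkQ_surjective a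
        have hb' : (x.asIdeal • ⊤ : Submodule R M).mkQ (m' - ma) = b := by
          rw [map_sub, hm']; abel
        have := Ideal.add_mem _ (iha ma rfl) (ihb (m' - ma) hb')
        rw [← map_add] at this
        simpa using this
      | smul c a _ iha =>
        intro m' hm'
        obtain ⟨ma, rfl⟩ := (x.asIdeal • ⊤ : Submodule R M).mkQ_surjective a
        obtain ⟨r, rfl⟩ := Ideal.Quotient.mk_surjective c
        have h2 : m' - r • ma ∈ (x.asIdeal • ⊤ : Submodule R M) := by
          rw [← Submodule.Quotient.mk_eq_zero, Submodule.Quotient.mk_sub, sub_eq_zero]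
          exact hm'
        have h1 := linearForm_mem_of_mem_smul_top x φ h2
        rw [map_sub, map_smul] at h1
        have h3 : r • φ ma ∈ x.asIdeal := Ideal.mul_mem_left _ _ (iha ma rfl)
        have := Ideal.add_mem _ h1 h3
        simpa using this
    exact key _ h m rfl
  · intro h
    exact Submodule.subset_span ⟨m, h, rfl⟩

variable (M) in
/-- The property that the images of `t₁, …, tₘ` in `V(x)` are linearly independent. -/
def Indep (x : MaximalSpectrum R) {m : ℕ} (t : Fin m → M) : Prop :=
  LinearIndependent (R ⧸ x.asIdeal) (fun i => img M x (t i))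

/-- A linear combination of the `img x (t j)` vanishes iff all linear forms kill it mod `x`. -/
lemma sum_smul_img_eq_zero_iff (x : MaximalSpectrum R) {m : ℕ} (t : Fin m → M)
    (c : Fin m → R ⧸ x.asIdeal) :
    (∑ j, c j • img M x (t j) = 0) ↔
      ∀ φ : M →ₗ[R] R, ∑ j, c j * Ideal.Quotient.mk x.asIdeal (φ (t j)) = 0 := by
  choose r hr using fun j => Ideal.Quotient.mk_surjective (c j)
  have h1 : ∑ j, c j • img M x (t j) = img M x (∑ j, r j • t j) := by
    rw [img_sum]
    refine Finset.sum_congr rfl fun j _ => ?_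
    rw [img_smul, hr]
  rw [h1, img_eq_zero_iff]
  refine forall_congr' fun φ => ?_
  rw [← Ideal.Quotient.eq_zero_iff_mem, map_sum, map_sum]
  refine Eq.congr (Finset.sum_congr rfl fun j _ => ?_) rfl
  rw [map_smul, smul_eq_mul, map_mul, hr]

open Matrix in
lemma exists_det_ne_zero_of_linearIndependent {K : Type*} [Field K] {I : Type*} :
    ∀ (m : ℕ) (f : Fin m → (I → K)), LinearIndependent K f →
      ∃ g : Fin m → I, (Matrix.of fun i j => f j (g i)).det ≠ 0
  | 0, f, _ => ⟨Fin.elim0, by simp⟩
  | m+1, f, hf => by
    classical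
    have hf' : LinearIndependent K (fun j : Fin m => f j.castSucc) :=
      hf.comp _ (Fin.castSucc_injective m)
    obtain ⟨g', hg'⟩ := exists_det_ne_zero_of_linearIndependent m _ hf'
    set A' : Matrix (Fin m) (Fin m) K := Matrix.of fun i j => f j.castSucc (g' i) with hA'def
    have hA' : IsUnit A'.det := isUnit_iff_ne_zero.mpr hg'
    let b : Fin m → K := fun i => f (Fin.last m) (g' i)
    let c' : Fin m → K := A'⁻¹ *ᵥ b
    have hc' : A' *ᵥ c' = b := by
      simp only [c', Matrix.mulVec_mulVec, Matrix.mul_nonsing_inv _ hA', Matrix.one_mulVec]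
    let u : I → K := f (Fin.last m) - ∑ j, c' j • f j.castSucc
    have hu : u ≠ 0 := by
      intro h0
      have h1 := Fintype.linearIndependent_iff.mp hf (Fin.snoc (fun j => - c' j) 1) (by
        rw [Fin.sum_univ_castSucc]
        simp only [Fin.snoc_castSucc, Fin.snoc_last, one_smul, neg_smul, Finset.sum_neg_distrib]
        rw [neg_add_eq_sub]
        exact h0) (Fin.last m)
      simp at h1
    obtain ⟨i₀, hi₀⟩ : ∃ i₀, u i₀ ≠ 0 := by
      by_contra h
      push Not at h
      exact hu (funext h)
    refine ⟨Fin.snoc g' i₀, ?_⟩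
    intro hdet
    obtain ⟨v, hv0, hv⟩ := Matrix.exists_mulVec_eq_zero_iff.mpr hdet
    apply hv0
    set lam := v (Fin.last m) with hlam
    let v' : Fin m → K := fun j => v j.castSucc
    -- rows indexed by castSucc
    have hrow : ∀ i' : Fin m, (A' *ᵥ v') i' + lam * b i' = 0 := by
      intro i'
      have := congrFun hv i'.castSucc
      simp only [Matrix.mulVec, dotProduct, Matrix.of_apply, Pi.zero_apply] at this
      rw [Fin.sum_univ_castSucc] at this
      simp only [Fin.snoc_castSucc] at this
      simp only [Matrix.mulVec, dotProduct, A', Matrix.of_apply, b, v']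
      rw [mul_comm lam]
      exact this
    have hkill : A' *ᵥ (v' + lam • c') = 0 := by
      ext i'
      rw [Matrix.mulVec_add, Matrix.mulVec_smul, hc']
      simpa using hrow i'
    have hv' : v' + lam • c' = 0 := Matrix.eq_zero_of_mulVec_eq_zero hg' hkill
    have hlast := congrFun hv (Fin.last m)
    simp only [Matrix.mulVec, dotProduct, Matrix.of_apply, Pi.zero_apply] at hlast
    rw [Fin.sum_univ_castSucc] at hlast
    simp only [Fin.snoc_last] at hlast
    have hv'j : ∀ j : Fin m, v j.castSucc = - (lam * c' j) := by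
      intro j
      have := congrFun hv' j
      simp only [Pi.add_apply, Pi.smul_apply, smul_eq_mul, Pi.zero_apply, v'] at this
      exact eq_neg_of_add_eq_zero_left this
    have hlam0 : lam * u i₀ = 0 := by
      simp only [u, Pi.sub_apply, Finset.sum_apply, Pi.smul_apply, smul_eq_mul]
      calc lam * (f (Fin.last m) i₀ - ∑ j, c' j * f j.castSucc i₀)
          = (∑ j, f j.castSucc i₀ * (-(lam * c' j))) + f (Fin.last m) i₀ * lam := by
            rw [mul_sub, Finset.mul_sum, sub_eq_neg_add, ← Finset.sum_neg_distrib,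
              mul_comm lam (f _ _)]
            congr 1
            exact Finset.sum_congr rfl fun j _ => by ring
        _ = 0 := by
            rw [← hlast]
            simp only [hv'j, hlam]
    have hl0 : lam = 0 := by
      rcases mul_eq_zero.mp hlam0 with h | h
      · exact h
      · exact absurd h hi₀
    funext j
    refine Fin.lastCases ?_ (fun j' => ?_) j
    · exact hl0
    · rw [hv'j, hl0]; simp


open scoped Matrix in
/-- If some "minor" built from linear forms is nonzero mod `x`, the images are independent. -/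
lemma indep_of_det (x : MaximalSpectrum R) {m : ℕ} (t : Fin m → M) (φ : Fin m → (M →ₗ[R] R))
    (h : (Matrix.of fun i j => φ i (t j)).det ∉ x.asIdeal) : Indep M x t := by
  haveI := x.isMaximal
  unfold Indep
  rw [Fintype.linearIndependent_iff]
  intro c hc
  rw [sum_smul_img_eq_zero_iff] at hc
  set A : Matrix (Fin m) (Fin m) R := Matrix.of fun i j => φ i (t j) with hA
  have hdet : ((Ideal.Quotient.mk x.asIdeal).mapMatrix A).det ≠ 0 := by
    rw [← RingHom.map_det]
    rwa [Ne, Ideal.Quotient.eq_zero_iff_mem]
  have hmv : ((Ideal.Quotient.mk x.asIdeal).mapMatrix A) *ᵥ c = 0 := by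
    ext i
    have := hc (φ i)
    simp only [Matrix.mulVec, dotProduct, RingHom.mapMatrix_apply, Matrix.map_apply, hA,
      Matrix.of_apply, Pi.zero_apply]
    rw [← this]
    exact Finset.sum_congr rfl fun j _ => mul_comm _ _
  have := Matrix.eq_zero_of_mulVec_eq_zero hdet hmv
  intro i
  exact congrFun this i

/-- If the images are independent, some "minor" built from linear forms is nonzero mod `x`. -/
lemma exists_det_of_indep (x : MaximalSpectrum R) {m : ℕ} (t : Fin m → M) (h : Indep M x t) :
    ∃ φ : Fin m → (M →ₗ[R] R), (Matrix.of fun i j => φ i (t j)).det ∉ x.asIdeal := by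
  haveI := x.isMaximal
  letI : Field (R ⧸ x.asIdeal) := Ideal.Quotient.field x.asIdeal
  let f : Fin m → ((M →ₗ[R] R) → R ⧸ x.asIdeal) :=
    fun j φ => Ideal.Quotient.mk x.asIdeal (φ (t j))
  have hf : LinearIndependent (R ⧸ x.asIdeal) f := by
    rw [Fintype.linearIndependent_iff]
    intro c hc
    have h1 : ∑ j, c j • img M x (t j) = 0 := by
      rw [sum_smul_img_eq_zero_iff]
      intro φ
      have := congrFun hc φ
      simpa [f] using this
    exact Fintype.linearIndependent_iff.mp h c h1
  obtain ⟨g, hg⟩ := exists_det_ne_zero_of_linearIndependent m f hf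
  refine ⟨g, ?_⟩
  intro hmem
  apply hg
  have : (Matrix.of fun i j => f j (g i)) =
      (Ideal.Quotient.mk x.asIdeal).mapMatrix (Matrix.of fun i j => g i (t j)) := by
    ext i j
    simp [f]
  rw [this, ← RingHom.map_det]
  exact Ideal.Quotient.eq_zero_iff_mem.mpr hmem

lemma indep_iff_exists_det (x : MaximalSpectrum R) {m : ℕ} (t : Fin m → M) :
    Indep M x t ↔
      ∃ φ : Fin m → (M →ₗ[R] R), (Matrix.of fun i j => φ i (t j)).det ∉ x.asIdeal :=
  ⟨exists_det_of_indep x t, fun ⟨φ, h⟩ => indep_of_det x t φ h⟩

/-- The locus where `t₁, …, tₘ` have independent images is open. -/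
lemma isOpen_indep {m : ℕ} (t : Fin m → M) : IsOpen {x : MaximalSpectrum R | Indep M x t} := by
  have : {x : MaximalSpectrum R | Indep M x t} =
      ⋃ φ : Fin m → (M →ₗ[R] R), MaximalSpectrum.toPrimeSpectrum ⁻¹'
        (PrimeSpectrum.basicOpen ((Matrix.of fun i j => φ i (t j)).det) : Set (PrimeSpectrum R)) := by
    ext x
    simp only [Set.mem_setOf_eq, Set.mem_iUnion, Set.mem_preimage, SetLike.mem_coe,
      PrimeSpectrum.mem_basicOpen]
    exact indep_iff_exists_det x t
  rw [this]
  exact isOpen_iUnion fun φ =>
    (PrimeSpectrum.basicOpen _).isOpen.preimage MaximalSpectrum.toPrimeSpectrum_continuous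

variable (R M) in
/-- The degeneracy locus `Z(t₁, …, tₘ)`. -/
def Zloc {m : ℕ} (t : Fin m → M) : Set (MaximalSpectrum R) :=
  {x : MaximalSpectrum R | ¬ Indep M x t}

lemma isClosed_Zloc {m : ℕ} (t : Fin m → M) : IsClosed (Zloc R M t) := by
  have : Zloc R M t = {x : MaximalSpectrum R | Indep M x t}ᶜ := rfl
  rw [this]
  exact (isOpen_indep t).isClosed_compl

end Groth.Agent.Lib.Helper89.SerreGP
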