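import Groth.Agent.Lib.Helper89.SerreGP1

/-!
# Serre's general position proposition: snoc lemmas, CRT and avoidance
-/

namespace Groth.Agent.Lib.Helper89.SerreGP

universe u

open Submodule

variable {R : Type u} [CommRing R] {M : Type u} [AddCommGroup M] [Module R M]

lemma img_comp_snoc (x : MaximalSpectrum R) {h : ℕ} (s : Fin h → M) (t : M) :
    (fun i => img M x ((Fin.snoc s t : Fin (h + 1) → M) i)) =
      Fin.snoc (fun i => img M x (s i)) (img M x t) := by
  have := Fin.comp_snoc (img M x) s t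
  simpa [Function.comp_def] using this

lemma indep_snoc_iff (x : MaximalSpectrum R) {h : ℕ} (s : Fin h → M) (t : M) :
    Indep M x (Fin.snoc s t : Fin (h + 1) → M) ↔
      Indep M x s ∧ img M x t ∉
        Submodule.span (R ⧸ x.asIdeal) (Set.range fun i => img M x (s i)) := by
  have := x.isMaximal
  letI : Field (R ⧸ x.asIdeal) := Ideal.Quotient.field x.asIdeal
  unfold Indep
  rw [img_comp_snoc]
  exact linearIndependent_finSnoc

lemma Indep.of_snoc {x : MaximalSpectrum R} {h : ℕ} {s : Fin h → M} {t : M}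
    (hi : Indep M x (Fin.snoc s t : Fin (h + 1) → M)) : Indep M x s :=
  ((indep_snoc_iff x s t).mp hi).1

lemma img_add_smul_of_mem (x : MaximalSpectrum R) {a : R} (ha : a ∈ x.asIdeal) (p q : M) :
    img M x (p + a • q) = img M x p := by
  rw [img_add, img_smul, Ideal.Quotient.eq_zero_iff_mem.mpr ha, zero_smul, add_zero]

lemma indep_snoc_add_smul_of_mem (x : MaximalSpectrum R) {h : ℕ} (s : Fin h → M) {a : R}
    (ha : a ∈ x.asIdeal) (p q : M) :
    Indep M x (Fin.snoc s (p + a • q) : Fin (h + 1) → M) ↔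
      Indep M x (Fin.snoc s p : Fin (h + 1) → M) := by
  rw [indep_snoc_iff, indep_snoc_iff, img_add_smul_of_mem x ha]

lemma indep_snoc_add_smul_of_snoc_snoc (x : MaximalSpectrum R) {h : ℕ} (s : Fin h → M) (a : R)
    (p q : M)
    (hi : Indep M x (Fin.snoc (Fin.snoc s p : Fin (h + 1) → M) q : Fin (h + 1 + 1) → M)) :
    Indep M x (Fin.snoc s (p + a • q) : Fin (h + 1) → M) := by
  have := x.isMaximal
  letI : Field (R ⧸ x.asIdeal) := Ideal.Quotient.field x.asIdeal
  rw [indep_snoc_iff] at hi
  obtain ⟨h1, h2⟩ := hi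
  have h1' := (indep_snoc_iff x s p).mp h1
  rw [indep_snoc_iff]
  refine ⟨h1'.1, ?_⟩
  intro hmem
  rw [img_add, img_smul] at hmem
  by_cases ha : Ideal.Quotient.mk x.asIdeal a = 0
  · rw [ha, zero_smul, add_zero] at hmem
    exact h1'.2 hmem
  · apply h2
    rw [img_comp_snoc, Fin.range_snoc]
    rw [Submodule.span_insert]
    -- q = a⁻¹ • ((p + a q) - p)
    have hq : img M x q = (Ideal.Quotient.mk x.asIdeal a)⁻¹ •
        ((img M x p + Ideal.Quotient.mk x.asIdeal a • img M x q) - img M x p) := by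
      rw [add_sub_cancel_left, smul_smul, inv_mul_cancel₀ ha, one_smul]
    rw [hq]
    refine Submodule.smul_mem _ _ (Submodule.sub_mem _ ?_ ?_)
    · exact Submodule.mem_sup_right hmem
    · exact Submodule.mem_sup_left (Submodule.mem_span_singleton_self _)

lemma indep_snoc_add_smul_of_not_indep (x : MaximalSpectrum R) {h : ℕ} (s : Fin h → M) {a : R}
    (ha : a ∉ x.asIdeal) (p q : M) (hs : Indep M x s)
    (hp : ¬ Indep M x (Fin.snoc s p : Fin (h + 1) → M))
    (hq : Indep M x (Fin.snoc s q : Fin (h + 1) → M)) :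
    Indep M x (Fin.snoc s (p + a • q) : Fin (h + 1) → M) := by
  have := x.isMaximal
  letI : Field (R ⧸ x.asIdeal) := Ideal.Quotient.field x.asIdeal
  rw [indep_snoc_iff] at hp hq ⊢
  have hp' : img M x p ∈ Submodule.span (R ⧸ x.asIdeal) (Set.range fun i => img M x (s i)) := by
    by_contra hcon
    exact hp ⟨hs, hcon⟩
  refine ⟨hs, ?_⟩
  intro hmem
  apply hq.2
  rw [img_add, img_smul] at hmem
  have ha' : Ideal.Quotient.mk x.asIdeal a ≠ 0 := by
    rwa [Ne, Ideal.Quotient.eq_zero_iff_mem]
  have hq' : img M x q = (Ideal.Quotient.mk x.asIdeal a)⁻¹ •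
      ((img M x p + Ideal.Quotient.mk x.asIdeal a • img M x q) - img M x p) := by
    rw [add_sub_cancel_left, smul_smul, inv_mul_cancel₀ ha', one_smul]
  rw [hq']
  exact Submodule.smul_mem _ _ (Submodule.sub_mem _ hmem hp')

/-- Extension of an independent family by one more element when the dimension allows it. -/
lemma exists_indep_snoc (x : MaximalSpectrum R) {h : ℕ} (s : Fin h → M) (hs : Indep M x s)
    (hdim : h + 1 ≤ Module.finrank (R ⧸ x.asIdeal)
      ((M ⧸ (x.asIdeal • ⊤ : Submodule R M)) ⧸ Bq M x)) :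
    ∃ w : M, Indep M x (Fin.snoc s w : Fin (h + 1) → M) := by
  have := x.isMaximal
  letI : Field (R ⧸ x.asIdeal) := Ideal.Quotient.field x.asIdeal
  obtain ⟨v, hv⟩ := exists_linearIndependent_snoc_of_lt_finrank hs (Nat.lt_of_succ_le hdim)
  obtain ⟨w, rfl⟩ := img_surjective x v
  refine ⟨w, ?_⟩
  unfold Indep
  rw [img_comp_snoc]
  exact hv

/-- Chinese remainder theorem: prescribing the classes mod `xM` at finitely many maximal ideals. -/
lemma exists_forall_sub_mem (pts : Finset (MaximalSpectrum R)) (v : MaximalSpectrum R → M) :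
    ∃ t : M, ∀ x ∈ pts, t - v x ∈ (x.asIdeal • ⊤ : Submodule R M) := by
  classical
  induction pts using Finset.induction_on with
  | empty => exact ⟨0, by simp⟩
  | insert y pts hy ih =>
    obtain ⟨t', ht'⟩ := ih
    have hymax := y.isMaximal
    -- J = product of the ideals in pts
    set J : Ideal R := ∏ x ∈ pts, x.asIdeal with hJ
    have hJy : ¬ J ≤ y.asIdeal := by
      intro hle
      obtain ⟨x, hx, hxy⟩ := (Ideal.IsPrime.prod_le hymax.isPrime).mp hle
      have : x.asIdeal = y.asIdeal := x.isMaximal.eq_of_le hymax.ne_top hxy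
      have hxy' : x = y := MaximalSpectrum.ext this
      exact hy (hxy' ▸ hx)
    have hsup : J ⊔ y.asIdeal = ⊤ := by
      by_contra hne
      have := hymax.eq_of_le hne le_sup_right
      exact hJy (this ▸ le_sup_left)
    obtain ⟨e, he, e', he', hee'⟩ := Submodule.mem_sup.mp ((Ideal.eq_top_iff_one _).mp hsup)
    have heJ : ∀ x ∈ pts, e ∈ x.asIdeal := by
      intro x hx
      exact Ideal.prod_le_inf.trans (Finset.inf_le hx) he
    refine ⟨e' • t' + e • v y, ?_⟩
    intro x hx
    rcases Finset.mem_insert.mp hx with rfl | hx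
    · -- mod y
      have : e' • t' + e • v x - v x = e' • t' - e' • v x := by
        have : e = 1 - e' := by rw [← hee']; ring
        rw [this, sub_smul, one_smul]; abel
      rw [this, ← smul_sub]
      exact Submodule.smul_mem_smul he' Submodule.mem_top
    · have h1 : e' • t' + e • v y - v x = (t' - v x) + e • (v y - t') := by
        have : e' = 1 - e := by rw [← hee']; ring
        rw [this, sub_smul, one_smul, smul_sub]; abel
      rw [h1]
      exact Submodule.add_mem _ (ht' x hx) (Submodule.smul_mem_smul (heJ x hx) Submodule.mem_top)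

/-- Given a closed subset `W` of the maximal spectrum and finitely many points outside it, there is
an element vanishing on `W` and at none of the points. -/
lemma exists_mem_forall_notMem (W : Set (MaximalSpectrum R)) (hW : IsClosed W)
    (ys : Finset (MaximalSpectrum R)) (hys : ∀ y ∈ ys, y ∉ W) :
    ∃ b : R, (∀ x ∈ W, b ∈ x.asIdeal) ∧ ∀ y ∈ ys, b ∉ y.asIdeal := by
  classical
  obtain ⟨T, hT, rfl⟩ := isClosed_induced_iff.mp hW
  obtain ⟨S, rfl⟩ := (PrimeSpectrum.isClosed_iff_zeroLocus T).mp hT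
  set I : Ideal R := Ideal.span S with hI
  have hIW : ∀ x : MaximalSpectrum R,
      x ∈ MaximalSpectrum.toPrimeSpectrum ⁻¹' PrimeSpectrum.zeroLocus S ↔ I ≤ x.asIdeal := by
    intro x
    rw [Set.mem_preimage, PrimeSpectrum.mem_zeroLocus, hI, Ideal.span_le]
    rfl
  have hnot : ¬ ((I : Set R) ⊆ ⋃ y ∈ (↑ys : Set (MaximalSpectrum R)), (y.asIdeal : Set R)) := by
    intro hsub
    rcases ys.eq_empty_or_nonempty with hemp | ⟨y₀, hy₀⟩
    · subst hemp
      have h0 := hsub I.zero_mem
      simp at h0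
    · obtain ⟨y, hy, hIy⟩ := (Ideal.subset_union_prime (s := ys)
        (f := fun y : MaximalSpectrum R => y.asIdeal) y₀ y₀
        (fun y _ _ _ => y.isMaximal.isPrime)).mp hsub
      exact hys y hy ((hIW y).mpr hIy)
  obtain ⟨b, hbI, hb⟩ := Set.not_subset.mp hnot
  refine ⟨b, fun x hx => (hIW x).mp hx hbI, fun y hy hby => hb ?_⟩
  exact Set.mem_biUnion (Finset.mem_coe.mpr hy) hby

end Groth.Agent.Lib.Helper89.SerreGP
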