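import Groth.Agent.Lib.Helper89.SerreGP2

/-!
# Serre's general position proposition: topology of Noetherian spaces
-/

namespace Groth.Agent.Lib.Helper89.SerreGP

universe u

open TopologicalSpace

section Topology

variable {α : Type*} [TopologicalSpace α]

/-- Every irreducible closed subset of `F'` has codimension at least `k`. -/
def CodimGE (F' : Set α) (k : ℕ) : Prop :=
  ∀ Z : IrreducibleCloseds α, (Z : Set α) ⊆ F' → (k : ℕ∞) ≤ Order.coheight Z

lemma codimGE_zero (F' : Set α) : CodimGE F' 0 := fun _ _ => by simp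

/-- In a Noetherian space every closed set is a finite union of irreducible closed sets. -/
lemma exists_irreducible_cover [NoetherianSpace α] {Z : Set α} (hZ : IsClosed Z) :
    ∃ 𝒢 : Finset (IrreducibleCloseds α), Z = ⋃ G ∈ 𝒢, (G : Set α) := by
  classical
  obtain ⟨S, hSf, hScl, hSirr, rfl⟩ := NoetherianSpace.exists_finite_set_isClosed_irreducible hZ
  lift S to Finset (Set α) using hSf
  let f : {t // t ∈ S} → IrreducibleCloseds α := fun t =>
    ⟨t.1, hSirr t.1 (Finset.mem_coe.mpr t.2), hScl t.1 (Finset.mem_coe.mpr t.2)⟩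
  refine ⟨S.attach.image f, ?_⟩
  ext x
  simp only [Set.mem_sUnion, Finset.mem_coe, Finset.mem_image, Finset.mem_attach, true_and,
    Set.mem_iUnion, exists_prop]
  constructor
  · rintro ⟨t, ht, hxt⟩
    exact ⟨f ⟨t, ht⟩, ⟨⟨t, ht⟩, rfl⟩, hxt⟩
  · rintro ⟨G, ⟨t, rfl⟩, hx⟩
    exact ⟨t.1, t.2, hx⟩

lemma isClosed_biUnion_irreducibleCloseds (𝒢 : Finset (IrreducibleCloseds α)) :
    IsClosed (⋃ G ∈ 𝒢, (G : Set α)) :=
  Set.Finite.isClosed_biUnion 𝒢.finite_toSet fun G _ => G.isClosed'

/-- An irreducible set contained in a finite union of closed sets is contained in one of them. -/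
lemma exists_subset_of_subset_biUnion {ι : Type*} {C : Set α} (hC : IsIrreducible C)
    (s : Finset ι) (A : ι → Set α) (hA : ∀ i ∈ s, IsClosed (A i)) (h : C ⊆ ⋃ i ∈ s, A i) :
    ∃ i ∈ s, C ⊆ A i := by
  classical
  obtain ⟨z, hz, hCz⟩ := isIrreducible_iff_sUnion_isClosed.mp hC (s.image A)
    (by
      intro z hz
      obtain ⟨i, hi, rfl⟩ := Finset.mem_image.mp hz
      exact hA i hi)
    (by
      intro x hx
      obtain ⟨i, hi, hxi⟩ := Set.mem_iUnion₂.mp (h hx)
      exact Set.mem_sUnion.mpr ⟨A i, Finset.mem_coe.mpr (Finset.mem_image_of_mem A hi), hxi⟩)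
  obtain ⟨i, hi, rfl⟩ := Finset.mem_image.mp hz
  exact ⟨i, hi, hCz⟩

lemma subset_or_subset_of_irreducible {C A B : Set α} (hC : IsIrreducible C) (hA : IsClosed A)
    (hB : IsClosed B) (h : C ⊆ A ∪ B) : C ⊆ A ∨ C ⊆ B :=
  isPreirreducible_iff_isClosed_union_isClosed.mp hC.isPreirreducible A B hA hB h

/-- An irreducible set not contained in any member of a finite family of closed sets has a point
outside all of them. -/
lemma exists_mem_forall_notMem_of_irreducible {ι : Type*} {C : Set α} (hC : IsIrreducible C)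
    (s : Finset ι) (A : ι → Set α) (hA : ∀ i ∈ s, IsClosed (A i)) (h : ∀ i ∈ s, ¬ C ⊆ A i) :
    ∃ y ∈ C, ∀ i ∈ s, y ∉ A i := by
  by_contra hcon
  push Not at hcon
  have : C ⊆ ⋃ i ∈ s, A i := by
    intro y hy
    obtain ⟨i, hi, hyi⟩ := hcon y hy
    exact Set.mem_iUnion₂.mpr ⟨i, hi, hyi⟩
  obtain ⟨i, hi, hCi⟩ := exists_subset_of_subset_biUnion hC s A hA this
  exact h i hi hCi

lemma coheight_le_of_subset {C G : IrreducibleCloseds α} (h : (C : Set α) ⊆ G) :
    Order.coheight G ≤ Order.coheight C :=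
  Order.coheight_anti (show C ≤ G from h)

lemma coheight_add_one_le_of_ssubset {C G : IrreducibleCloseds α} (h : (C : Set α) ⊆ G)
    (hne : C ≠ G) : Order.coheight G + 1 ≤ Order.coheight C :=
  Order.coheight_add_one_le (lt_of_le_of_ne (show C ≤ G from h) hne)

end Topology

end Groth.Agent.Lib.Helper89.SerreGP
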