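import Groth.Agent.Lib.Helper89.SerreGP3

/-!
# Serre's general position proposition: the master induction
-/

namespace Groth.Agent.Lib.Helper89.SerreGP

universe u

open TopologicalSpace

variable {R : Type u} [CommRing R] {M : Type u} [AddCommGroup M] [Module R M]

variable (R) in
/-- The closed set `V(a)` in the maximal spectrum. -/
def Va (a : R) : Set (MaximalSpectrum R) := {x : MaximalSpectrum R | a ∈ x.asIdeal}

lemma isClosed_Va (a : R) : IsClosed (Va R a) := by
  have : Va R a = MaximalSpectrum.toPrimeSpectrum ⁻¹' PrimeSpectrum.zeroLocus {a} := by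
    ext x
    simp [Va, PrimeSpectrum.mem_zeroLocus, MaximalSpectrum.toPrimeSpectrum]
  rw [this]
  exact (PrimeSpectrum.isClosed_zeroLocus _).preimage MaximalSpectrum.toPrimeSpectrum_continuous

lemma indep_snoc_congr (x : MaximalSpectrum R) {h : ℕ} (s : Fin h → M) {p q : M}
    (hpq : img M x p = img M x q) :
    Indep M x (Fin.snoc s p : Fin (h + 1) → M) ↔ Indep M x (Fin.snoc s q : Fin (h + 1) → M) := by
  rw [indep_snoc_iff, indep_snoc_iff, hpq]

/-- The master general position theorem (Serre's proposition with a multiplier `a`). -/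
theorem master [NoetherianSpace (MaximalSpectrum R)] (k : ℕ) :
    ∀ (h : ℕ) (s : Fin h → M) (F : Set (MaximalSpectrum R)), IsClosed F →
      ∀ (pts : Finset (MaximalSpectrum R)), (∀ x ∈ pts, x ∈ F) →
      ∀ (v : MaximalSpectrum R → M) (a : R) (s0 : M),
      (∀ x : MaximalSpectrum R, h + k ≤ Module.finrank (R ⧸ x.asIdeal)
        ((M ⧸ (x.asIdeal • ⊤ : Submodule R M)) ⧸ Bq M x)) →
      Zloc R M s ⊆ F →
      ∃ (t : M) (F' : Set (MaximalSpectrum R)), IsClosed F' ∧
        (∀ x ∈ pts, img M x t = img M x (v x)) ∧
        Zloc R M (Fin.snoc s (s0 + a • t) : Fin (h + 1) → M) ⊆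
          F ∪ (Va R a ∩ Zloc R M (Fin.snoc s s0 : Fin (h + 1) → M)) ∪ F' ∧
        CodimGE F' k := by
  classical
  induction k with
  | zero =>
    intro h s F _ pts _ v a s0 _ _
    obtain ⟨t, ht⟩ := exists_forall_sub_mem pts v
    exact ⟨t, Set.univ, isClosed_univ, fun x hx => img_eq_of_sub_mem x (ht x hx),
      fun x _ => Or.inr (Set.mem_univ x), codimGE_zero _⟩
  | succ k ih =>
    intro h s F hF pts hpts v a s0 hdim hZ
    -- Step 1: induction hypothesis with the same data
    obtain ⟨t', F₁, hF₁, hval', hZ', hcod₁⟩ := ih h s F hF pts hpts v a s0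
      (fun x => by have := hdim x; omega) hZ
    set s' : M := s0 + a • t' with hs'
    set Z' : Set (MaximalSpectrum R) := Zloc R M (Fin.snoc s s' : Fin (h + 1) → M) with hZ'def
    have hZ'cl : IsClosed Z' := isClosed_Zloc _
    obtain ⟨𝒢, h𝒢⟩ := exists_irreducible_cover hZ'cl
    -- the bad components
    set ℬ : Finset (IrreducibleCloseds (MaximalSpectrum R)) :=
      𝒢.filter (fun G => ¬ (G : Set _) ⊆ F ∧ ¬ (G : Set _) ⊆ Va R a ∧
        Order.coheight G < ((k + 1 : ℕ) : ℕ∞)) with hℬ
    have hG_sub : ∀ G ∈ 𝒢, (G : Set (MaximalSpectrum R)) ⊆ Z' := by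
      intro G hG
      rw [h𝒢]
      exact Set.subset_biUnion_of_mem (u := fun G : IrreducibleCloseds (MaximalSpectrum R) => (G : Set (MaximalSpectrum R))) hG
    -- points y_G
    have hy : ∀ G : IrreducibleCloseds (MaximalSpectrum R), ∃ y : MaximalSpectrum R,
        G ∈ ℬ → y ∈ (G : Set _) ∧ y ∉ F ∧ y ∉ Va R a := by
      intro G
      by_cases hGB : G ∈ ℬ
      · have hGB' := (Finset.mem_filter.mp hGB).2
        have : ¬ (G : Set _) ⊆ F ∪ Va R a := by
          intro hsub
          rcases subset_or_subset_of_irreducible G.isIrreducible' hF (isClosed_Va a) hsub with h1 | h1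
          · exact hGB'.1 h1
          · exact hGB'.2.1 h1
        obtain ⟨y, hyG, hyn⟩ := Set.not_subset.mp this
        exact ⟨y, fun _ => ⟨hyG, fun h1 => hyn (Or.inl h1), fun h1 => hyn (Or.inr h1)⟩⟩
      · exact ⟨G.isIrreducible'.nonempty.some, fun h1 => absurd h1 hGB⟩
    choose y hy using hy
    -- vectors w_y
    have hw : ∀ z : MaximalSpectrum R, ∃ w : M, z ∉ F →
        Indep M z (Fin.snoc s w : Fin (h + 1) → M) := by
      intro z
      by_cases hzF : z ∈ F
      · exact ⟨0, fun h1 => absurd hzF h1⟩
      · have hind : Indep M z s := by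
          by_contra hcon
          exact hzF (hZ hcon)
        obtain ⟨w, hw⟩ := exists_indep_snoc z s hind (by have := hdim z; omega)
        exact ⟨w, fun _ => hw⟩
    choose w hw using hw
    -- Step 2: induction hypothesis with h + 1
    have hFZ'cl : IsClosed (F ∪ Z') := hF.union hZ'cl
    obtain ⟨s'', F₂, hF₂, hval'', hZ'', hcod₂⟩ := ih (h + 1) (Fin.snoc s s') (F ∪ Z') hFZ'cl
      (pts ∪ ℬ.image y)
      (by
        intro x hx
        rcases Finset.mem_union.mp hx with hx | hx
        · exact Or.inl (hpts x hx)
        · obtain ⟨G, hG, rfl⟩ := Finset.mem_image.mp hx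
          exact Or.inr (hG_sub G (Finset.mem_filter.mp hG).1 (hy G hG).1))
      (fun x => if x ∈ F then 0 else w x) 1 0
      (fun x => by have := hdim x; omega)
      (fun x hx => Or.inr hx)
    simp only [zero_add, one_smul] at hZ''
    have hZ''' : Zloc R M (Fin.snoc (Fin.snoc s s' : Fin (h + 1) → M) s'' : Fin (h + 1 + 1) → M) ⊆
        F ∪ Z' ∪ F₂ := by
      intro x hx
      rcases hZ'' hx with (hx | hx) | hx
      · exact Or.inl hx
      · exfalso
        have : (1 : R) ∈ x.asIdeal := hx.1
        exact x.isMaximal.ne_top ((Ideal.eq_top_iff_one _).mpr this)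
      · exact Or.inr hx
    obtain ⟨ℋ₀, hℋ₀⟩ := exists_irreducible_cover hF₂
    set ℋ : Finset (IrreducibleCloseds (MaximalSpectrum R)) :=
      ℋ₀.filter (fun H => ¬ (H : Set _) ⊆ F ∪ Z') with hℋ
    set W : Set (MaximalSpectrum R) := ⋃ H ∈ ℋ, (H : Set _) with hW
    have hWcl : IsClosed W := isClosed_biUnion_irreducibleCloseds ℋ
    have hH_sub : ∀ H ∈ ℋ₀, (H : Set (MaximalSpectrum R)) ⊆ F₂ := by
      intro H hH
      rw [hℋ₀]
      exact Set.subset_biUnion_of_mem (u := fun G : IrreducibleCloseds (MaximalSpectrum R) => (G : Set (MaximalSpectrum R))) hH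
    have hHcod : ∀ H ∈ ℋ₀, ((k : ℕ) : ℕ∞) ≤ Order.coheight H := fun H hH => hcod₂ H (hH_sub H hH)
    -- the closed set where `s, s''` degenerate
    set Zq : Set (MaximalSpectrum R) := Zloc R M (Fin.snoc s s'' : Fin (h + 1) → M) with hZq
    have hZqcl : IsClosed Zq := isClosed_Zloc _
    -- new points y'_G
    have hy' : ∀ G : IrreducibleCloseds (MaximalSpectrum R), ∃ y' : MaximalSpectrum R,
        G ∈ ℬ → y' ∈ (G : Set _) ∧ y' ∉ F ∧ y' ∉ Va R a ∧ y' ∉ Zq ∧ y' ∉ W := by
      intro G
      by_cases hGB : G ∈ ℬ
      · have hGB' := (Finset.mem_filter.mp hGB).2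
        have hG𝒢 := (Finset.mem_filter.mp hGB).1
        -- family of closed sets: Option (Option (Option ℋ))
        let A : Option (Option (Option (IrreducibleCloseds (MaximalSpectrum R)))) →
            Set (MaximalSpectrum R) := fun o =>
          match o with
          | none => F
          | some none => Va R a
          | some (some none) => Zq
          | some (some (some H)) => (H : Set _)
        let idx : Finset (Option (Option (Option (IrreducibleCloseds (MaximalSpectrum R))))) :=
          insert none (insert (some none) (insert (some (some none))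
            (ℋ.image (fun H => some (some (some H))))))
        have hAcl : ∀ i ∈ idx, IsClosed (A i) := by
          intro i hi
          simp only [idx, Finset.mem_insert, Finset.mem_image] at hi
          rcases hi with rfl | rfl | rfl | ⟨H, _, rfl⟩
          · exact hF
          · exact isClosed_Va a
          · exact hZqcl
          · exact H.isClosed'
        have hAn : ∀ i ∈ idx, ¬ (G : Set _) ⊆ A i := by
          intro i hi
          simp only [idx, Finset.mem_insert, Finset.mem_image] at hi
          rcases hi with rfl | rfl | rfl | ⟨H, hH, rfl⟩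
          · exact hGB'.1
          · exact hGB'.2.1
          · -- y_G is not in Zq
            intro hsub
            have hyG := hy G hGB
            have h1 : y G ∈ Zq := hsub hyG.1
            apply h1
            have hmem : y G ∈ pts ∪ ℬ.image y :=
              Finset.mem_union_right _ (Finset.mem_image_of_mem y hGB)
            have h2 := hval'' (y G) hmem
            rw [if_neg hyG.2.1] at h2
            exact (indep_snoc_congr (y G) s h2).mpr (hw (y G) hyG.2.1)
          · -- G ⊄ H
            intro hsub
            have hHℋ₀ := (Finset.mem_filter.mp hH).1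
            have hHn := (Finset.mem_filter.mp hH).2
            have hne : G ≠ H := by
              rintro rfl
              exact hHn (fun x hx => Or.inr (hG_sub G hG𝒢 hx))
            have h1 := coheight_add_one_le_of_ssubset hsub hne
            have h2 := hHcod H hHℋ₀
            have h3 := hGB'.2.2
            have : ((k + 1 : ℕ) : ℕ∞) ≤ Order.coheight G := by
              push_cast
              exact (add_le_add h2 le_rfl).trans h1
            exact absurd h3 (not_lt.mpr this)
        obtain ⟨y', hy'G, hy'n⟩ :=
          exists_mem_forall_notMem_of_irreducible G.isIrreducible' idx A hAcl hAn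
        refine ⟨y', fun _ => ⟨hy'G, ?_, ?_, ?_, ?_⟩⟩
        · exact hy'n none (by simp [idx])
        · exact hy'n (some none) (by simp [idx])
        · exact hy'n (some (some none)) (by simp [idx])
        · intro hyW
          obtain ⟨H, hH, hyH⟩ := Set.mem_iUnion₂.mp hyW
          exact hy'n (some (some (some H))) (by simp [idx, hH]) hyH
      · exact ⟨G.isIrreducible'.nonempty.some, fun h1 => absurd h1 hGB⟩
    choose y' hy' using hy'
    -- the multiplier b
    obtain ⟨b, hbW, hby⟩ := exists_mem_forall_notMem W hWcl (ℬ.image y') (by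
      intro z hz
      obtain ⟨G, hG, rfl⟩ := Finset.mem_image.mp hz
      exact (hy' G hG).2.2.2.2)
    -- the new section
    set t : M := t' + b • s'' with ht
    have hsnew : s0 + a • t = s' + (a * b) • s'' := by
      rw [ht, hs', smul_add, smul_smul, add_assoc]
    set Znew : Set (MaximalSpectrum R) :=
      Zloc R M (Fin.snoc s (s0 + a • t) : Fin (h + 1) → M) with hZnew
    have hZnewcl : IsClosed Znew := isClosed_Zloc _
    obtain ⟨𝒩, h𝒩⟩ := exists_irreducible_cover hZnewcl
    set 𝒩' : Finset (IrreducibleCloseds (MaximalSpectrum R)) :=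
      𝒩.filter (fun N => ¬ (N : Set _) ⊆ F ∧ ¬ (N : Set _) ⊆ Va R a) with h𝒩'
    have hN_sub : ∀ N ∈ 𝒩, (N : Set (MaximalSpectrum R)) ⊆ Znew := by
      intro N hN
      rw [h𝒩]
      exact Set.subset_biUnion_of_mem (u := fun G : IrreducibleCloseds (MaximalSpectrum R) => (G : Set (MaximalSpectrum R))) hN
    -- key claim
    have key : ∀ N : IrreducibleCloseds (MaximalSpectrum R), (N : Set _) ⊆ Znew →
        ¬ (N : Set _) ⊆ F → ¬ (N : Set _) ⊆ Va R a →
        ((k + 1 : ℕ) : ℕ∞) ≤ Order.coheight N := by
      intro N hNZ hNF hNa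
      by_contra hlt
      rw [not_le] at hlt
      by_cases hNZ' : (N : Set _) ⊆ Z'
      · -- Case A
        obtain ⟨G, hG, hNG⟩ := exists_subset_of_subset_biUnion N.isIrreducible' 𝒢
          (fun G => (G : Set _)) (fun G _ => G.isClosed') (h𝒢 ▸ hNZ')
        have hGF : ¬ (G : Set _) ⊆ F := fun h1 => hNF (hNG.trans h1)
        have hGa : ¬ (G : Set _) ⊆ Va R a := fun h1 => hNa (hNG.trans h1)
        have hGF₁ : (G : Set _) ⊆ F₁ := by
          have h1 : (G : Set _) ⊆ (F ∪ Va R a) ∪ F₁ := by
            intro x hx
            rcases hZ' (hG_sub G hG hx) with (h2 | h2) | h2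
            · exact Or.inl (Or.inl h2)
            · exact Or.inl (Or.inr h2.1)
            · exact Or.inr h2
          rcases subset_or_subset_of_irreducible G.isIrreducible' (hF.union (isClosed_Va a)) hF₁ h1
            with h2 | h2
          · rcases subset_or_subset_of_irreducible G.isIrreducible' hF (isClosed_Va a) h2
              with h3 | h3
            · exact absurd h3 hGF
            · exact absurd h3 hGa
          · exact h2
        have hGk : ((k : ℕ) : ℕ∞) ≤ Order.coheight G := hcod₁ G hGF₁
        have hGlt : Order.coheight G < ((k + 1 : ℕ) : ℕ∞) :=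
          lt_of_le_of_lt (coheight_le_of_subset hNG) hlt
        have hGB : G ∈ ℬ := Finset.mem_filter.mpr ⟨hG, hGF, hGa, hGlt⟩
        have hy'G := hy' G hGB
        have hne : N ≠ G := by
          rintro rfl
          -- y' N ∈ N ⊆ Znew but independent there
          have h1 : y' N ∈ Znew := hNZ hy'G.1
          apply h1
          show Indep M (y' N) (Fin.snoc s (s0 + a • t) : Fin (h + 1) → M)
          rw [hsnew]
          have hab : a * b ∉ (y' N).asIdeal := by
            intro hmem
            rcases (y' N).isMaximal.isPrime.mem_or_mem hmem with h2 | h2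
            · exact hy'G.2.2.1 h2
            · exact hby (y' N) (Finset.mem_image_of_mem y' hGB) h2
          have hinds : Indep M (y' N) s := by
            by_contra hcon
            exact hy'G.2.1 (hZ hcon)
          have hnot : ¬ Indep M (y' N) (Fin.snoc s s' : Fin (h + 1) → M) :=
            hG_sub N hG hy'G.1
          have hq : Indep M (y' N) (Fin.snoc s s'' : Fin (h + 1) → M) := by
            by_contra hcon
            exact hy'G.2.2.2.1 hcon
          exact indep_snoc_add_smul_of_not_indep (y' N) s hab s' s'' hinds hnot hq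
        have h1 := coheight_add_one_le_of_ssubset hNG hne
        have : ((k + 1 : ℕ) : ℕ∞) ≤ Order.coheight N := by
          push_cast
          exact (add_le_add hGk le_rfl).trans h1
        exact absurd hlt (not_lt.mpr this)
      · -- Case B
        have hNsub : (N : Set _) ⊆ (F ∪ Z') ∪ F₂ := by
          intro x hx
          apply hZ'''
          intro hind
          apply hNZ hx
          show Indep M x (Fin.snoc s (s0 + a • t) : Fin (h + 1) → M)
          rw [hsnew]
          exact indep_snoc_add_smul_of_snoc_snoc x s (a * b) s' s'' hind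
        have hNFZ' : ¬ (N : Set _) ⊆ F ∪ Z' := by
          intro h1
          rcases subset_or_subset_of_irreducible N.isIrreducible' hF hZ'cl h1 with h2 | h2
          · exact hNF h2
          · exact hNZ' h2
        have hNF₂ : (N : Set _) ⊆ F₂ := by
          rcases subset_or_subset_of_irreducible N.isIrreducible' hFZ'cl hF₂ hNsub with h2 | h2
          · exact absurd h2 hNFZ'
          · exact h2
        obtain ⟨H, hH, hNH⟩ := exists_subset_of_subset_biUnion N.isIrreducible' ℋ₀
          (fun G => (G : Set _)) (fun G _ => G.isClosed') (hℋ₀ ▸ hNF₂)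
        have hHℋ : H ∈ ℋ := Finset.mem_filter.mpr ⟨hH, fun h1 => hNFZ' (hNH.trans h1)⟩
        have hne : N ≠ H := by
          rintro rfl
          apply hNZ'
          intro x hx
          -- x ∈ N ⊆ W, so b ∈ x
          have hxW : x ∈ W := Set.mem_iUnion₂.mpr ⟨N, hHℋ, hx⟩
          have hbx : a * b ∈ x.asIdeal := Ideal.mul_mem_left _ _ (hbW x hxW)
          have h1 : x ∈ Znew := hNZ hx
          intro hind
          apply h1
          show Indep M x (Fin.snoc s (s0 + a • t) : Fin (h + 1) → M)
          rw [hsnew]
          exact (indep_snoc_add_smul_of_mem x s hbx s' s'').mpr hind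
        have h1 := coheight_add_one_le_of_ssubset hNH hne
        have h2 := hHcod H hH
        have : ((k + 1 : ℕ) : ℕ∞) ≤ Order.coheight N := by
          push_cast
          exact (add_le_add h2 le_rfl).trans h1
        exact absurd hlt (not_lt.mpr this)
    refine ⟨t, ⋃ N ∈ 𝒩', (N : Set _), isClosed_biUnion_irreducibleCloseds 𝒩', ?_, ?_, ?_⟩
    · -- values
      intro x hx
      have hxF := hpts x hx
      have h2 := hval'' x (Finset.mem_union_left _ hx)
      rw [if_pos hxF, img_zero] at h2
      rw [ht, img_add, img_smul, h2, smul_zero, add_zero]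
      exact hval' x hx
    · -- degeneracy locus
      intro x hx
      have hx' : x ∈ Znew := hx
      rw [h𝒩] at hx'
      obtain ⟨N, hN, hxN⟩ := Set.mem_iUnion₂.mp hx'
      by_cases hNF : (N : Set _) ⊆ F
      · exact Or.inl (Or.inl (hNF hxN))
      · by_cases hNa : (N : Set _) ⊆ Va R a
        · refine Or.inl (Or.inr ⟨hNa hxN, ?_⟩)
          intro hind
          apply hx
          exact (indep_snoc_add_smul_of_mem x s (hNa hxN) s0 t).mpr hind
        · exact Or.inr (Set.mem_iUnion₂.mpr ⟨N, Finset.mem_filter.mpr ⟨hN, hNF, hNa⟩, hxN⟩)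
    · -- codimension
      intro C hC
      obtain ⟨N, hN, hCN⟩ := exists_subset_of_subset_biUnion C.isIrreducible' 𝒩'
        (fun G => (G : Set _)) (fun G _ => G.isClosed') hC
      have hN' := Finset.mem_filter.mp hN
      exact (key N (hN_sub N hN'.1) hN'.2.1 hN'.2.2).trans (coheight_le_of_subset hCN)

end Groth.Agent.Lib.Helper89.SerreGP
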