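import Groth.Agent.Lib.Helper89.SerreGP4

/-!
# Unimodular elements from the general position theorem
-/

namespace Groth.Agent.Lib.Helper89.SerreGP

universe u

open TopologicalSpace

variable {R : Type u} [CommRing R] {M : Type u} [AddCommGroup M] [Module R M]

lemma indep_elim0 (x : MaximalSpectrum R) (s : Fin 0 → M) : Indep M x s := by
  unfold Indep
  exact linearIndependent_empty_type

lemma indep_snoc_elim0_iff (x : MaximalSpectrum R) (s : Fin 0 → M) (p : M) :
    Indep M x (Fin.snoc s p : Fin (0 + 1) → M) ↔ img M x p ≠ 0 := by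
  rw [indep_snoc_iff]
  have : (Set.range fun i : Fin 0 => img M x (s i)) = ∅ := Set.range_eq_empty _
  rw [this, Submodule.span_empty, Submodule.mem_bot]
  exact ⟨fun h => h.2, fun h => ⟨indep_elim0 x s, h⟩⟩

/-- Points of the maximal spectrum have codimension at most the dimension. -/
lemma eq_empty_of_codimGE {d : ℕ} (hdim : topologicalKrullDim (MaximalSpectrum R) ≤ d)
    {F' : Set (MaximalSpectrum R)} (h : CodimGE F' (d + 1)) : F' = ∅ := by
  by_contra hne
  obtain ⟨x, hx⟩ := Set.nonempty_iff_ne_empty.mpr hne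
  let Z : IrreducibleCloseds (MaximalSpectrum R) :=
    ⟨{x}, isIrreducible_singleton, isClosed_singleton⟩
  have h1 : ((d + 1 : ℕ) : ℕ∞) ≤ Order.coheight Z := h Z (by
    intro y hy
    rw [show y = x from hy]
    exact hx)
  have h2 : (Order.coheight Z : WithBot ℕ∞) ≤ (d : WithBot ℕ∞) :=
    (Order.coheight_le_krullDim Z).trans hdim
  have h3 : Order.coheight Z ≤ (d : ℕ∞) := by exact_mod_cast h2
  have h4 : ((d + 1 : ℕ) : ℕ∞) ≤ (d : ℕ∞) := h1.trans h3
  have : d + 1 ≤ d := by exact_mod_cast h4
  omega

/-- Existence of a unimodular element of the form `s0 + a • t`. -/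
theorem exists_linearForm_eq_one [NoetherianSpace (MaximalSpectrum R)] (d : ℕ)
    (hdim : topologicalKrullDim (MaximalSpectrum R) ≤ d)
    (hV : ∀ x : MaximalSpectrum R, d + 1 ≤ Module.finrank (R ⧸ x.asIdeal)
      ((M ⧸ (x.asIdeal • ⊤ : Submodule R M)) ⧸ Bq M x))
    (a : R) (s0 : M)
    (ha : ∀ x : MaximalSpectrum R, a ∈ x.asIdeal → ∃ φ : M →ₗ[R] R, φ s0 ∉ x.asIdeal) :
    ∃ (t : M) (φ : M →ₗ[R] R), φ (s0 + a • t) = 1 := by
  obtain ⟨t, F', _, _, hsub, hcod⟩ :=
    master (R := R) (M := M) (d + 1) 0 Fin.elim0 ∅ isClosed_empty ∅ (by simp) (fun _ => 0) a s0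
      (fun x => by simpa using hV x)
      (fun x hx => absurd (indep_elim0 x _) hx)
  have hF' : F' = ∅ := eq_empty_of_codimGE hdim hcod
  refine ⟨t, ?_⟩
  have hne : ∀ x : MaximalSpectrum R, img M x (s0 + a • t) ≠ 0 := by
    intro x
    rw [← indep_snoc_elim0_iff x Fin.elim0]
    by_contra hcon
    rcases hsub hcon with (h1 | h1) | h1
    · exact h1
    · obtain ⟨φ, hφ⟩ := ha x h1.1
      apply h1.2
      rw [indep_snoc_elim0_iff]
      intro h0
      exact hφ ((img_eq_zero_iff x s0).mp h0 φ)
    · rw [hF'] at h1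
      exact h1
  -- the order ideal is the unit ideal
  let ev : (M →ₗ[R] R) →ₗ[R] R := LinearMap.applyₗ (s0 + a • t)
  have htop : LinearMap.range ev = ⊤ := by
    by_contra hne'
    obtain ⟨m, hm, hle⟩ := Ideal.exists_le_maximal (LinearMap.range ev) hne'
    apply hne ⟨m, hm⟩
    rw [img_eq_zero_iff]
    intro φ
    exact hle ⟨φ, rfl⟩
  have h1 : (1 : R) ∈ LinearMap.range ev := htop ▸ Submodule.mem_top
  obtain ⟨φ, hφ⟩ := h1
  exact ⟨φ, hφ⟩

/-- A free direct summand of rank `d` of the localization gives `d ≤ dim V(x)`. -/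
lemma le_finrank_of_local_summand [Module.FinitePresentation R M] (x : MaximalSpectrum R) (d : ℕ)
    (hx : x.asIdeal.IsPrime)
    (f : (Fin d → Localization.AtPrime x.asIdeal) →ₗ[Localization.AtPrime x.asIdeal]
      LocalizedModule x.asIdeal.primeCompl M)
    (g : LocalizedModule x.asIdeal.primeCompl M →ₗ[Localization.AtPrime x.asIdeal]
      (Fin d → Localization.AtPrime x.asIdeal))
    (hgf : g ∘ₗ f = LinearMap.id) :
    d ≤ Module.finrank (R ⧸ x.asIdeal) ((M ⧸ (x.asIdeal • ⊤ : Submodule R M)) ⧸ Bq M x) := by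
  classical
  have hmax := x.isMaximal
  letI : Field (R ⧸ x.asIdeal) := Ideal.Quotient.field x.asIdeal
  set S := x.asIdeal.primeCompl with hS
  set Rm := Localization.AtPrime x.asIdeal with hRm
  -- elements u_j and their numerators
  let u : Fin d → LocalizedModule S M := fun j => f (Pi.single j 1)
  choose tσ htσ using fun j => IsLocalizedModule.surj S (LocalizedModule.mkLinearMap S M) (u j)
  let t : Fin d → M := fun j => (tσ j).1
  let σ : Fin d → S := fun j => (tσ j).2
  -- linear forms
  let γ : Fin d → (M →ₗ[R] Rm) := fun i =>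
    ((LinearMap.proj i ∘ₗ g).restrictScalars R) ∘ₗ LocalizedModule.mkLinearMap S M
  choose φ τ hφτ using fun i =>
    Module.FinitePresentation.exists_lift_of_isLocalizedModule S (Algebra.linearMap R Rm) (γ i)
  have hγu : ∀ i j, (LinearMap.proj i ∘ₗ g) (u j) = if i = j then (1 : Rm) else 0 := by
    intro i j
    have := LinearMap.congr_fun hgf (Pi.single j 1)
    simp only [LinearMap.comp_apply, LinearMap.id_apply] at this
    simp only [LinearMap.comp_apply, u, this, LinearMap.proj_apply]
    rw [Pi.single_apply]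
  have hkey : ∀ i j, algebraMap R Rm (φ i (t j)) =
      if i = j then algebraMap R Rm ((τ i : R) * (σ j : R)) else 0 := by
    intro i j
    have h1 := LinearMap.congr_fun (hφτ i) (t j)
    simp only [LinearMap.comp_apply, Algebra.linearMap_apply, LinearMap.smul_apply] at h1
    rw [h1]
    have h2 : γ i (t j) = (σ j) • (LinearMap.proj i ∘ₗ g) (u j) := by
      simp only [γ, LinearMap.comp_apply, LinearMap.restrictScalars_apply]
      rw [← htσ j]
      simp only [t, σ]
      rw [LinearMap.map_smul_of_tower, LinearMap.map_smul_of_tower]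
    rw [h2, hγu]
    split_ifs with hij
    · rw [Submonoid.smul_def, Submonoid.smul_def, Algebra.smul_def, Algebra.smul_def, mul_one,
        map_mul]
    · simp
  have hdet : (Matrix.of fun i j => φ i (t j)).det ∉ x.asIdeal := by
    intro hmem
    have h1 : (algebraMap R Rm).mapMatrix (Matrix.of fun i j => φ i (t j)) =
        Matrix.diagonal (fun i => algebraMap R Rm ((τ i : R) * (σ i : R))) := by
      ext i j
      simp only [RingHom.mapMatrix_apply, Matrix.map_apply, Matrix.of_apply, hkey,
        Matrix.diagonal_apply]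
      split_ifs with hij
      · rw [hij]
      · rfl
    have h2 : algebraMap R Rm (Matrix.of fun i j => φ i (t j)).det =
        ∏ i, algebraMap R Rm ((τ i : R) * (σ i : R)) := by
      rw [RingHom.map_det, h1, Matrix.det_diagonal]
    have h3 : IsUnit (algebraMap R Rm (Matrix.of fun i j => φ i (t j)).det) := by
      rw [h2, ← map_prod]
      rw [IsLocalization.AtPrime.isUnit_to_map_iff Rm x.asIdeal]
      exact Submonoid.prod_mem _ fun i _ => Submonoid.mul_mem _ (τ i).2 (σ i).2
    rw [IsLocalization.AtPrime.isUnit_to_map_iff Rm x.asIdeal] at h3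
    exact h3 hmem
  have hind : Indep M x t := indep_of_det x t φ hdet
  have := LinearIndependent.fintype_card_le_finrank hind
  simpa using this

end Groth.Agent.Lib.Helper89.SerreGP
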