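import Groth.Agent.Lib.Helper89.SerreGP5

/-!
# Unimodular elements in projective modules of large rank over Noetherian rings
-/

namespace Groth.Agent.Lib.Helper89.SerreGP

universe u

open TopologicalSpace

variable {R : Type u} [CommRing R]

lemma isInducing_toPrimeSpectrum :
    Topology.IsInducing (MaximalSpectrum.toPrimeSpectrum (R := R)) := ⟨rfl⟩

instance noetherianSpace_maximalSpectrum [IsNoetherianRing R] :
    NoetherianSpace (MaximalSpectrum R) :=
  isInducing_toPrimeSpectrum.noetherianSpace

lemma topologicalKrullDim_maximalSpectrum_le :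
    topologicalKrullDim (MaximalSpectrum R) ≤ ringKrullDim R := by
  rw [← PrimeSpectrum.topologicalKrullDim_eq_ringKrullDim]
  exact isInducing_toPrimeSpectrum.topologicalKrullDim_le

variable {P : Type u} [AddCommGroup P] [Module R P] [Module.Finite R P] [Module.Projective R P]

/-- For a finitely generated projective module, `dim V(x)` is at least the local rank. -/
lemma rankAtStalk_le_finrank (x : MaximalSpectrum R) :
    Module.rankAtStalk (R := R) P x.toPrimeSpectrum ≤ Module.finrank (R ⧸ x.asIdeal)
      ((P ⧸ (x.asIdeal • ⊤ : Submodule R P)) ⧸ Bq P x) := by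
  have hmax := x.isMaximal
  have hprime : x.asIdeal.IsPrime := hmax.isPrime
  haveI : Module.FinitePresentation R P := Module.finitePresentation_of_projective R P
  set n := Module.rankAtStalk (R := R) P x.toPrimeSpectrum with hn
  haveI : Module.Free (Localization.AtPrime x.asIdeal)
      (LocalizedModule x.asIdeal.primeCompl P) := Module.free_of_flat_of_isLocalRing
  have hfr : Module.finrank (Localization.AtPrime x.asIdeal)
      (LocalizedModule x.asIdeal.primeCompl P) = n := rfl
  let b := Module.finBasisOfFinrankEq (Localization.AtPrime x.asIdeal)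
      (LocalizedModule x.asIdeal.primeCompl P) hfr
  let e := b.equivFun
  exact le_finrank_of_local_summand x n hprime e.symm.toLinearMap e.toLinearMap (by
    ext v
    simp)

/-- Existence of unimodular elements `s0 + a • t` in projective modules of rank `> dim R`. -/
theorem exists_unimodular_of_rank_gt [IsNoetherianRing R] (d : ℕ) (hdim : ringKrullDim R ≤ d)
    (hrk : ∀ p : PrimeSpectrum R, d + 1 ≤ Module.rankAtStalk (R := R) P p) (a : R) (s0 : P)
    (ha : ∀ x : MaximalSpectrum R, a ∈ x.asIdeal → ∃ φ : P →ₗ[R] R, φ s0 ∉ x.asIdeal) :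
    ∃ (t : P) (φ : P →ₗ[R] R), φ (s0 + a • t) = 1 :=
  exists_linearForm_eq_one d (topologicalKrullDim_maximalSpectrum_le.trans hdim)
    (fun x => (hrk x.toPrimeSpectrum).trans (rankAtStalk_le_finrank x)) a s0 ha

end Groth.Agent.Lib.Helper89.SerreGP
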