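import Groth.Agent.Lib.Helper89.SerreGP6

/-!
# Splitting off free summands and Bass cancellation
-/

namespace Groth.Agent.Lib.Helper89.SerreGP

universe u

open TopologicalSpace

variable {R : Type u} [CommRing R]

section Split

variable {A : Type u} [AddCommGroup A] [Module R A]

/-- The projection of `A` onto `ker φ` along `t` when `φ t = 1`. -/
def projKer (φ : A →ₗ[R] R) (t : A) (h : φ t = 1) : A →ₗ[R] LinearMap.ker φ :=
  LinearMap.codRestrict (LinearMap.ker φ) (LinearMap.id - LinearMap.smulRight φ t) (by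
    intro x
    simp [LinearMap.mem_ker, h])

lemma projKer_apply (φ : A →ₗ[R] R) (t : A) (h : φ t = 1) (x : A) :
    (projKer φ t h x : A) = x - φ x • t := rfl

/-- `A ≃ ker φ × R` when `φ t = 1`. -/
def splitEquiv (φ : A →ₗ[R] R) (t : A) (h : φ t = 1) : A ≃ₗ[R] (LinearMap.ker φ × R) :=
  LinearEquiv.ofLinearMap
    (LinearMap.prod (projKer φ t h) φ)
    (LinearMap.coprod (LinearMap.ker φ).subtype (LinearMap.toSpanSingleton R A t))
    (by
      apply LinearMap.ext
      rintro ⟨k, r⟩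
      have hk : φ (k : A) = 0 := k.2
      apply Prod.ext
      · apply Subtype.ext
        simp [projKer_apply, hk, h]
      · simp [hk, h])
    (by
      apply LinearMap.ext
      intro x
      simp [projKer_apply])

lemma projective_ker [Module.Projective R A] (φ : A →ₗ[R] R) (t : A) (h : φ t = 1) :
    Module.Projective R (LinearMap.ker φ) :=
  Module.Projective.of_split (LinearMap.ker φ).subtype (projKer φ t h) (by
    apply LinearMap.ext
    intro k
    apply Subtype.ext
    have hk : φ (k : A) = 0 := k.2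
    simp [projKer_apply, hk])

lemma finite_ker [Module.Finite R A] (φ : A →ₗ[R] R) (t : A) (h : φ t = 1) :
    Module.Finite R (LinearMap.ker φ) :=
  Module.Finite.of_surjective (projKer φ t h) (by
    intro k
    refine ⟨k, ?_⟩
    apply Subtype.ext
    have hk : φ (k : A) = 0 := k.2
    simp [projKer_apply, hk])

end Split

lemma rankAtStalk_self_eq_one (p : PrimeSpectrum R) : Module.rankAtStalk (R := R) R p = 1 := by
  haveI : Nontrivial R := ⟨⟨0, 1, fun h => p.isPrime.ne_top ((Ideal.eq_top_iff_one _).mpr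
    (h ▸ p.asIdeal.zero_mem))⟩⟩
  rw [Module.rankAtStalk_self]
  rfl

lemma rankAtStalk_fin_fun (m : ℕ) (p : PrimeSpectrum R) :
    Module.rankAtStalk (R := R) (Fin m → R) p = m := by
  haveI : Nontrivial R := ⟨⟨0, 1, fun h => p.isPrime.ne_top ((Ideal.eq_top_iff_one _).mpr
    (h ▸ p.asIdeal.zero_mem))⟩⟩
  rw [Module.rankAtStalk_eq_finrank_of_free]
  simp

/-- Iterated splitting off of free summands. -/
theorem exists_equiv_prod_free [IsNoetherianRing R] (d n : ℕ) (hdim : ringKrullDim R ≤ d)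
    (P : Type u) [AddCommGroup P] [Module R P] [Module.Finite R P] [Module.Projective R P]
    (hrk : ∀ p : PrimeSpectrum R, Module.rankAtStalk (R := R) P p = n) :
    ∀ j : ℕ, j ≤ n - d → ∃ (P₀ : Type u) (_ : AddCommGroup P₀) (_ : Module R P₀)
      (_ : Module.Finite R P₀) (_ : Module.Projective R P₀),
      (∀ p : PrimeSpectrum R, Module.rankAtStalk (R := R) P₀ p + j = n) ∧
      Nonempty (P ≃ₗ[R] P₀ × (Fin j → R)) := by
  intro j
  induction j with
  | zero =>
    intro _
    exact ⟨P, inferInstance, inferInstance, inferInstance, inferInstance, fun p => by simp [hrk p],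
      ⟨(LinearEquiv.prodUnique (R := R) (M := P) (M₂ := Fin 0 → R)).symm⟩⟩
  | succ j ih =>
    intro hj
    obtain ⟨P₀, i1, i2, i3, i4, hrk₀, ⟨e⟩⟩ := ih (by omega)
    have hrk₀' : ∀ p : PrimeSpectrum R, d + 1 ≤ Module.rankAtStalk (R := R) P₀ p := by
      intro p
      have := hrk₀ p
      omega
    obtain ⟨t, φ, hφ⟩ := exists_unimodular_of_rank_gt (P := P₀) d hdim hrk₀' 1 0
      (fun x hx => absurd ((Ideal.eq_top_iff_one _).mpr hx) x.isMaximal.ne_top)
    set q : P₀ := 0 + (1 : R) • t with hq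
    haveI := projective_ker φ q hφ
    haveI := finite_ker φ q hφ
    refine ⟨LinearMap.ker φ, inferInstance, inferInstance, inferInstance, inferInstance, ?_, ?_⟩
    · intro p
      have h1 := congrFun (Module.rankAtStalk_eq_of_equiv (splitEquiv φ q hφ)) p
      rw [Module.rankAtStalk_prod] at h1
      simp only [Pi.add_apply, rankAtStalk_self_eq_one] at h1
      have := hrk₀ p
      omega
    · exact ⟨e ≪≫ₗ (LinearEquiv.prodCongr (splitEquiv φ q hφ) (LinearEquiv.refl R (Fin j → R)))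
        ≪≫ₗ (LinearEquiv.prodAssoc R (LinearMap.ker φ) R (Fin j → R))
        ≪≫ₗ (LinearEquiv.prodCongr (LinearEquiv.refl R (LinearMap.ker φ))
          (Fin.consLinearEquiv R (fun _ : Fin (j + 1) => R)))⟩

/-- Conversion of a product decomposition into complementary submodules. -/
lemma exists_isCompl_of_equiv_prod {P P₀ F : Type u} [AddCommGroup P] [Module R P]
    [AddCommGroup P₀] [Module R P₀] [AddCommGroup F] [Module R F] (e : P ≃ₗ[R] P₀ × F) :
    ∃ (P₁ Q : Submodule R P), IsCompl P₁ Q ∧ Nonempty (Q ≃ₗ[R] F) := by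
  refine ⟨Submodule.map e.symm.toLinearMap (LinearMap.range (LinearMap.inl R P₀ F)),
    Submodule.map e.symm.toLinearMap (LinearMap.range (LinearMap.inr R P₀ F)), ?_, ?_⟩
  · exact (Submodule.orderIsoMapComap e.symm).isCompl LinearMap.isCompl_range_inl_inr
  · have hinj : Function.Injective (e.symm.toLinearMap ∘ₗ LinearMap.inr R P₀ F) :=
      e.symm.injective.comp LinearMap.inr_injective
    have hrange : LinearMap.range (e.symm.toLinearMap ∘ₗ LinearMap.inr R P₀ F) =
        Submodule.map e.symm.toLinearMap (LinearMap.range (LinearMap.inr R P₀ F)) :=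
      LinearMap.range_comp _ _
    exact ⟨(LinearEquiv.ofEq _ _ hrange.symm) ≪≫ₗ (LinearEquiv.ofInjective _ hinj).symm⟩

section Cancel

variable {A A' : Type u} [AddCommGroup A] [Module R A] [AddCommGroup A'] [Module R A']

/-- An equivalence `A × R ≃ A' × R` fixing `(0, 1)` induces `A ≃ A'`. -/
lemma nonempty_equiv_of_fixing (Θ : (A × R) ≃ₗ[R] (A' × R)) (hΘ : Θ (0, 1) = (0, 1)) :
    Nonempty (A ≃ₗ[R] A') := by
  let α : A →ₗ[R] A' := LinearMap.fst R A' R ∘ₗ Θ.toLinearMap ∘ₗ LinearMap.inl R A R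
  have hΘr : ∀ r : R, Θ (0, r) = (0, r) := by
    intro r
    have : ((0 : A), r) = r • ((0 : A), (1 : R)) := by simp
    rw [this, map_smul, hΘ]
    simp
  refine ⟨LinearEquiv.ofBijective α ⟨?_, ?_⟩⟩
  · rw [← LinearMap.ker_eq_bot, LinearMap.ker_eq_bot']
    intro x hx
    have h1 : Θ (x, 0) = (0, (Θ (x, 0)).2) := by
      apply Prod.ext
      · exact hx
      · rfl
    rw [← hΘr] at h1
    have := Θ.injective h1
    exact (Prod.ext_iff.mp this).1
  · intro y
    set z := Θ.symm (y, 0) with hz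
    refine ⟨z.1, ?_⟩
    have h1 : Θ (z.1, 0) = Θ z - Θ (0, z.2) := by
      rw [← map_sub]
      congr 1
      apply Prod.ext <;> simp
    show (Θ (z.1, 0)).1 = y
    rw [h1, hΘr, hz, LinearEquiv.apply_symm_apply]
    simp

variable [Module.Finite R A] [Module.Projective R A]

/-- Bass cancellation of one free summand. -/
theorem cancel_one [IsNoetherianRing R] (d : ℕ) (hdim : ringKrullDim R ≤ d)
    (hrk : ∀ p : PrimeSpectrum R, d + 1 ≤ Module.rankAtStalk (R := R) A p)
    (e : (A × R) ≃ₗ[R] (A' × R)) : Nonempty (A ≃ₗ[R] A') := by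
  set pa : A × R := e.symm (0, 1) with hpa
  set p : A := pa.1 with hp
  set a : R := pa.2 with ha
  let Ψ : (A × R) →ₗ[R] R := LinearMap.snd R A' R ∘ₗ e.toLinearMap
  have hΨ : Ψ (p, a) = 1 := by
    show (e (p, a)).2 = 1
    have : (p, a) = pa := rfl
    rw [this, hpa, LinearEquiv.apply_symm_apply]
  let φ₀ : A →ₗ[R] R := Ψ ∘ₗ LinearMap.inl R A R
  have hφ₀ : φ₀ p + a * Ψ (0, 1) = 1 := by
    have h := hΨ
    have this : ((p, a) : A × R) = (p, 0) + a • ((0 : A), (1 : R)) := by simp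
    rw [this, map_add, map_smul] at h
    exact h
  obtain ⟨t, ψ₀, hψ₀⟩ := exists_unimodular_of_rank_gt (P := A) d hdim hrk a p (by
    intro x hx
    refine ⟨φ₀, fun hmem => ?_⟩
    have : (1 : R) ∈ x.asIdeal := by
      rw [← hφ₀]
      exact Ideal.add_mem _ hmem (Ideal.mul_mem_right _ _ hx)
    exact x.isMaximal.ne_top ((Ideal.eq_top_iff_one _).mpr this))
  set q : A := p + a • t with hq
  -- three elementary automorphisms
  let θ₁ : (A × R) ≃ₗ[R] (A × R) :=
    (LinearEquiv.prodComm R A R) ≪≫ₗ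
      (LinearEquiv.skewProd (LinearEquiv.refl R R) (LinearEquiv.refl R A)
        (LinearMap.toSpanSingleton R A t)) ≪≫ₗ (LinearEquiv.prodComm R R A)
  let θ₂ : (A × R) ≃ₗ[R] (A × R) :=
    LinearEquiv.skewProd (LinearEquiv.refl R A) (LinearEquiv.refl R R) ((1 - a) • ψ₀)
  let θ₃ : (A × R) ≃ₗ[R] (A × R) :=
    (LinearEquiv.prodComm R A R) ≪≫ₗ
      (LinearEquiv.skewProd (LinearEquiv.refl R R) (LinearEquiv.refl R A)
        (LinearMap.toSpanSingleton R A (-q))) ≪≫ₗ (LinearEquiv.prodComm R R A)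
  have h1 : θ₁ (p, a) = (q, a) := by
    simp [θ₁, hq]
  have h2 : θ₂ (q, a) = (q, 1) := by
    simp [θ₂, hψ₀]
  have h3 : θ₃ (q, 1) = (0, 1) := by
    simp [θ₃]
  let θ : (A × R) ≃ₗ[R] (A × R) := θ₁ ≪≫ₗ θ₂ ≪≫ₗ θ₃
  have hθ : θ (p, a) = (0, 1) := by
    show θ₃ (θ₂ (θ₁ (p, a))) = (0, 1)
    rw [h1, h2, h3]
  refine nonempty_equiv_of_fixing (θ.symm ≪≫ₗ e) ?_
  show e (θ.symm (0, 1)) = (0, 1)
  rw [← hθ, LinearEquiv.symm_apply_apply]
  have : (p, a) = pa := rfl
  rw [this, hpa, LinearEquiv.apply_symm_apply]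

end Cancel

/-- Bass cancellation. -/
theorem cancel [IsNoetherianRing R] (d : ℕ) (hdim : ringKrullDim R ≤ d)
    (A A' : Type u) [AddCommGroup A] [Module R A] [AddCommGroup A'] [Module R A']
    [Module.Finite R A] [Module.Projective R A]
    (hrk : ∀ p : PrimeSpectrum R, d + 1 ≤ Module.rankAtStalk (R := R) A p) :
    ∀ m : ℕ, ((A × (Fin m → R)) ≃ₗ[R] (A' × (Fin m → R))) → Nonempty (A ≃ₗ[R] A') := by
  intro m
  induction m with
  | zero =>
    intro e
    exact ⟨(LinearEquiv.prodUnique (R := R) (M := A) (M₂ := Fin 0 → R)).symm ≪≫ₗ e ≪≫ₗ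
      (LinearEquiv.prodUnique (R := R) (M := A') (M₂ := Fin 0 → R))⟩
  | succ m ih =>
    intro e
    -- rearrange `A × R^(m+1)` as `(A × R^m) × R`
    have key : ∀ (B : Type u) [AddCommGroup B] [Module R B],
        Nonempty ((B × (Fin (m + 1) → R)) ≃ₗ[R] ((B × (Fin m → R)) × R)) := by
      intro B _ _
      exact ⟨(LinearEquiv.prodCongr (LinearEquiv.refl R B)
          (Fin.consLinearEquiv R (fun _ : Fin (m + 1) => R)).symm) ≪≫ₗ
        (LinearEquiv.prodCongr (LinearEquiv.refl R B) (LinearEquiv.prodComm R R (Fin m → R))) ≪≫ₗ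
        (LinearEquiv.prodAssoc R B (Fin m → R) R).symm⟩
    obtain ⟨e₁⟩ := key A
    obtain ⟨e₂⟩ := key A'
    have hrk' : ∀ p : PrimeSpectrum R,
        d + 1 ≤ Module.rankAtStalk (R := R) (A × (Fin m → R)) p := by
      intro p
      rw [Module.rankAtStalk_prod]
      simp only [Pi.add_apply]
      have := hrk p
      omega
    obtain ⟨e₃⟩ := cancel_one (A := A × (Fin m → R)) (A' := A' × (Fin m → R)) d hdim hrk'
      (e₁.symm ≪≫ₗ e ≪≫ₗ e₂)
    exact ih e₃

end Groth.Agent.Lib.Helper89.SerreGP
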