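import Groth.Agent.Lib.Helper89.SerreGP7

/-!
# Stably isomorphic projective modules have isomorphic powers
-/

namespace Groth.Agent.Lib.Helper89.SerreGP

universe u

variable {R : Type u} [CommRing R]

lemma projective_pi_fin (N : ℕ) (P : Type u) [AddCommGroup P] [Module R P]
    [Module.Projective R P] : Module.Projective R (Fin N → P) := by
  classical
  exact Module.Projective.of_equiv
    (DFinsupp.linearEquivFunOnFintype (R := R) (ι := Fin N) (M := fun _ => P))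

lemma rankAtStalk_pi_fin (N : ℕ) (P : Type u) [AddCommGroup P] [Module R P]
    [Module.Finite R P] [Module.Projective R P] (p : PrimeSpectrum R) :
    Module.rankAtStalk (R := R) (Fin N → P) p = N * Module.rankAtStalk (R := R) P p := by
  rw [Module.rankAtStalk_pi (fun _ : Fin N => P) p, finsum_eq_sum_of_fintype]
  simp

/-- `P × R^m ≃ Q × R^m` implies `P^N × R^m ≃ Q^N × R^m`. -/
lemma nonempty_pow_prod_equiv {P Q F : Type u} [AddCommGroup P] [Module R P] [AddCommGroup Q]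
    [Module R Q] [AddCommGroup F] [Module R F] (e : (P × F) ≃ₗ[R] (Q × F)) :
    ∀ N : ℕ, Nonempty (((Fin N → P) × F) ≃ₗ[R] ((Fin N → Q) × F)) := by
  intro N
  induction N with
  | zero =>
    exact ⟨(LinearEquiv.uniqueProd (R := R) (M := F) (M₂ := Fin 0 → P)) ≪≫ₗ
      (LinearEquiv.uniqueProd (R := R) (M := F) (M₂ := Fin 0 → Q)).symm⟩
  | succ N ih =>
    obtain ⟨eN⟩ := ih
    -- (Fin (N+1) → P) × F ≃ (P × (Fin N → P)) × F
    let a1 : ((Fin (N + 1) → P) × F) ≃ₗ[R] ((P × (Fin N → P)) × F) :=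
      LinearEquiv.prodCongr (Fin.consLinearEquiv R (fun _ : Fin (N + 1) => P)).symm
        (LinearEquiv.refl R F)
    -- ≃ (Fin N → P) × (P × F)
    let a2 : ((P × (Fin N → P)) × F) ≃ₗ[R] ((Fin N → P) × (P × F)) :=
      (LinearEquiv.prodCongr (LinearEquiv.prodComm R P (Fin N → P)) (LinearEquiv.refl R F)) ≪≫ₗ
        (LinearEquiv.prodAssoc R (Fin N → P) P F)
    -- ≃ (Fin N → P) × (Q × F)
    let a3 : ((Fin N → P) × (P × F)) ≃ₗ[R] ((Fin N → P) × (Q × F)) :=
      LinearEquiv.prodCongr (LinearEquiv.refl R (Fin N → P)) e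
    -- ≃ Q × ((Fin N → P) × F)
    let a4 : ((Fin N → P) × (Q × F)) ≃ₗ[R] (Q × ((Fin N → P) × F)) :=
      (LinearEquiv.prodAssoc R (Fin N → P) Q F).symm ≪≫ₗ
        (LinearEquiv.prodCongr (LinearEquiv.prodComm R (Fin N → P) Q) (LinearEquiv.refl R F)) ≪≫ₗ
        (LinearEquiv.prodAssoc R Q (Fin N → P) F)
    -- ≃ Q × ((Fin N → Q) × F)
    let a5 : (Q × ((Fin N → P) × F)) ≃ₗ[R] (Q × ((Fin N → Q) × F)) :=
      LinearEquiv.prodCongr (LinearEquiv.refl R Q) eN
    -- ≃ (Q × (Fin N → Q)) × F ≃ (Fin (N+1) → Q) × F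
    let a6 : (Q × ((Fin N → Q) × F)) ≃ₗ[R] ((Fin (N + 1) → Q) × F) :=
      (LinearEquiv.prodAssoc R Q (Fin N → Q) F).symm ≪≫ₗ
        (LinearEquiv.prodCongr (Fin.consLinearEquiv R (fun _ : Fin (N + 1) => Q))
          (LinearEquiv.refl R F))
    exact ⟨a1 ≪≫ₗ a2 ≪≫ₗ a3 ≪≫ₗ a4 ≪≫ₗ a5 ≪≫ₗ a6⟩

/-- Stably isomorphic projective modules of constant rank have isomorphic powers. -/
theorem exists_pow_equiv [IsNoetherianRing R] (d n : ℕ) (hdim : ringKrullDim R ≤ d)
    (P Q : Type u) [AddCommGroup P] [Module R P] [Module.Finite R P] [Module.Projective R P]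
    [AddCommGroup Q] [Module R Q] [Module.Finite R Q] [Module.Projective R Q]
    (hrk : ∀ p : PrimeSpectrum R, Module.rankAtStalk (R := R) P p = n)
    (hrk' : ∀ p : PrimeSpectrum R, Module.rankAtStalk (R := R) Q p = n)
    (m : ℕ) (e : (P × (Fin m → R)) ≃ₗ[R] (Q × (Fin m → R))) :
    ∃ N : ℕ, 1 ≤ N ∧ Nonempty ((Fin N → P) ≃ₗ[R] (Fin N → Q)) := by
  rcases Nat.eq_zero_or_pos n with hn | hn
  · subst hn
    have hP : Subsingleton P := by
      rw [← Module.rankAtStalk_eq_zero_iff_subsingleton (R := R)]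
      ext p
      exact hrk p
    have hQ : Subsingleton Q := by
      rw [← Module.rankAtStalk_eq_zero_iff_subsingleton (R := R)]
      ext p
      exact hrk' p
    exact ⟨1, le_rfl, ⟨LinearEquiv.ofSubsingleton _ _⟩⟩
  · refine ⟨d + 1, by omega, ?_⟩
    obtain ⟨eN⟩ := nonempty_pow_prod_equiv e (d + 1)
    haveI := projective_pi_fin (R := R) (d + 1) P
    refine cancel d hdim (Fin (d + 1) → P) (Fin (d + 1) → Q) ?_ m eN
    intro p
    rw [rankAtStalk_pi_fin, hrk p]
    nlinarith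

end Groth.Agent.Lib.Helper89.SerreGP
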