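import Mathlib
import Groth.Prelude.Def_W4c5algebraiztannakaNis
import Groth.Agent.Lib.Helper35.PALib
import Groth.Agent.Lib.Helper35.PerfAmp

/-!
# Sized projective amplitude (helper89)

`Sz a b g K`: `K ∈ D(R)` is represented by a complex of projective modules vanishing outside
`[a, b]` whose terms are each generated by `g` elements.
-/

set_option autoImplicit false
universe u

namespace Groth.Agent.Lib.Helper89.SizeA

open CategoryTheory Limits DerivedCategory Pretriangulated ZeroObject CochainComplex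
  HomologicalComplex
open Groth.Agent.Lib.Helper35.KL

attribute [local instance] HasDerivedCategory.standard

section GenBy

variable (R : Type u) [CommRing R]

/-- `M` is generated by `g` elements. -/
def GenBy (g : ℕ) (M : Type u) [AddCommGroup M] [Module R M] : Prop :=
  ∃ s : (Fin g → R) →ₗ[R] M, Function.Surjective s

variable {R} {M M' : Type u} [AddCommGroup M] [Module R M] [AddCommGroup M'] [Module R M']

theorem GenBy.of_surjective {g : ℕ} (h : GenBy R g M) (f : M →ₗ[R] M')
    (hf : Function.Surjective f) : GenBy R g M' := by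
  obtain ⟨s, hs⟩ := h
  exact ⟨f ∘ₗ s, hf.comp hs⟩

theorem GenBy.of_equiv {g : ℕ} (h : GenBy R g M) (e : M ≃ₗ[R] M') : GenBy R g M' :=
  h.of_surjective e.toLinearMap e.surjective

theorem GenBy.mono {g g' : ℕ} (h : GenBy R g M) (hg : g ≤ g') : GenBy R g' M := by
  obtain ⟨s, hs⟩ := h
  refine ⟨s ∘ₗ LinearMap.funLeft R R (Fin.castLE hg), hs.comp ?_⟩
  exact LinearMap.funLeft_surjective_of_injective R R _ (Fin.castLE_injective hg)

theorem GenBy.of_subsingleton (g : ℕ) [Subsingleton M] : GenBy R g M :=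
  ⟨0, fun y => ⟨0, Subsingleton.elim _ _⟩⟩

theorem GenBy.prod {g g' : ℕ} (h : GenBy R g M) (h' : GenBy R g' M') :
    GenBy R (g + g') (M × M') := by
  obtain ⟨s, hs⟩ := h
  obtain ⟨s', hs'⟩ := h'
  let e : (Fin (g + g') → R) ≃ₗ[R] (Fin g → R) × (Fin g' → R) :=
    (LinearEquiv.funCongrLeft R R finSumFinEquiv) ≪≫ₗ
      LinearEquiv.sumArrowLequivProdArrow (Fin g) (Fin g') R R
  refine ⟨(s.prodMap s') ∘ₗ e.toLinearMap, ?_⟩
  exact (Function.Surjective.prodMap hs hs').comp e.surjective

theorem GenBy.finite {g : ℕ} (h : GenBy R g M) : Module.Finite R M := by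
  obtain ⟨s, hs⟩ := h
  exact Module.Finite.of_surjective s hs

theorem genBy_iff_span {g : ℕ} :
    GenBy R g M ↔ ∃ t : Fin g → M, Submodule.span R (Set.range t) = ⊤ := by
  constructor
  · rintro ⟨s, hs⟩
    refine ⟨fun j => s (Pi.single j 1), ?_⟩
    rw [eq_top_iff]
    intro y _
    obtain ⟨c, rfl⟩ := hs y
    have hc : c = ∑ j, c j • (Pi.single j (1 : R) : Fin g → R) := by
      funext i
      simp [Finset.sum_apply, Pi.single_apply]
    rw [hc, map_sum]
    refine Submodule.sum_mem _ fun j _ => ?_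
    rw [map_smul]
    exact Submodule.smul_mem _ _ (Submodule.subset_span ⟨j, rfl⟩)
  · rintro ⟨t, ht⟩
    refine ⟨Fintype.linearCombination R t, ?_⟩
    rw [← LinearMap.range_eq_top, Fintype.range_linearCombination, ht]

/-- The kernel of a surjection from a projective module generated by `g` elements onto a
projective module is projective and generated by `g` elements. -/
theorem proj_genBy_ker_of_surjective {g : ℕ} [Module.Projective R M] [Module.Projective R M']
    (hM : GenBy R g M) (f : M →ₗ[R] M') (hf : Function.Surjective f) :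
    Module.Projective R (LinearMap.ker f) ∧ GenBy R g (LinearMap.ker f) := by
  obtain ⟨s, hs⟩ := Module.projective_lifting_property f LinearMap.id hf
  have hs' : ∀ y, f (s y) = y := fun y => by
    have := congr($hs y)
    simpa using this
  let r : M →ₗ[R] LinearMap.ker f :=
    (LinearMap.id - s ∘ₗ f).codRestrict _ (fun x => by
      rw [LinearMap.mem_ker]
      simp [hs'])
  have hr : r ∘ₗ (LinearMap.ker f).subtype = LinearMap.id := by
    ext ⟨x, hx⟩
    rw [LinearMap.mem_ker] at hx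
    simp [r, hx]
  have hrs : Function.Surjective r := fun y => ⟨(LinearMap.ker f).subtype y, congr($hr y)⟩
  exact ⟨Module.Projective.of_split _ r hr, hM.of_surjective r hrs⟩

end GenBy

variable {R : Type u} [CommRing R]

/-- In a bounded above complex which is exact in degrees `> n` and termwise projective generated by
`g` elements in degrees `≥ n`, the cycles in degrees `≥ n` are projective generated by `g`
elements. -/
theorem proj_genBy_ker_d_aux (C : CochainComplex (ModuleCat.{u} R) ℤ) (b : ℤ)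
    (hb : ∀ i : ℤ, b < i → IsZero (C.X i)) (n : ℤ) (g : ℕ)
    (hfp : ∀ i : ℤ, n ≤ i → Module.Projective R (C.X i) ∧ GenBy R g (C.X i))
    (hex : ∀ i : ℤ, n < i → C.ExactAt i) (k : ℕ) :
    ∀ i : ℤ, n ≤ i → b + 1 - i ≤ k →
      Module.Projective R (LinearMap.ker (C.d i (i + 1)).hom) ∧
        GenBy R g (LinearMap.ker (C.d i (i + 1)).hom) := by
  induction k with
  | zero =>
    intro i _ hik
    have hz : IsZero (C.X i) := hb i (by omega)
    have : Subsingleton (C.X i) := ModuleCat.subsingleton_of_isZero hz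
    exact ⟨inferInstance, GenBy.of_subsingleton g⟩
  | succ k ih =>
    intro i hni hik
    obtain ⟨h1, -⟩ := ih (i + 1) (by omega) (by push_cast at hik ⊢; omega)
    obtain ⟨h0, h0'⟩ := hfp i hni
    have hE := hex (i + 1) (by omega)
    rw [HomologicalComplex.exactAt_iff' C i (i + 1) (i + 1 + 1) (by simp) (by simp),
      ShortComplex.moduleCat_exact_iff] at hE
    have hdd : ∀ x : C.X i, (C.d i (i + 1)).hom x ∈ LinearMap.ker (C.d (i + 1) (i + 1 + 1)).hom := by
      intro x
      rw [LinearMap.mem_ker, ← ModuleCat.comp_apply, C.d_comp_d]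
      rfl
    let q : C.X i →ₗ[R] LinearMap.ker (C.d (i + 1) (i + 1 + 1)).hom :=
      (C.d i (i + 1)).hom.codRestrict _ hdd
    have hq : Function.Surjective q := by
      rintro ⟨y, hy⟩
      obtain ⟨x, hx⟩ := hE y hy
      exact ⟨x, Subtype.ext hx⟩
    have h2 := proj_genBy_ker_of_surjective h0' q hq
    have h3 : LinearMap.ker q = LinearMap.ker (C.d i (i + 1)).hom := LinearMap.ker_codRestrict _ _ _
    rw [h3] at h2
    exact h2

theorem proj_genBy_ker_d (C : CochainComplex (ModuleCat.{u} R) ℤ) (b : ℤ)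
    (hb : ∀ i : ℤ, b < i → IsZero (C.X i)) (n : ℤ) (g : ℕ)
    (hfp : ∀ i : ℤ, n ≤ i → Module.Projective R (C.X i) ∧ GenBy R g (C.X i))
    (hex : ∀ i : ℤ, n < i → C.ExactAt i) (i : ℤ) (hi : n ≤ i) :
    Module.Projective R (LinearMap.ker (C.d i (i + 1)).hom) ∧
      GenBy R g (LinearMap.ker (C.d i (i + 1)).hom) :=
  proj_genBy_ker_d_aux C b hb n g hfp hex (b + 1 - i).toNat i hi (by omega)

/-- `K` is represented by a complex of projective modules vanishing outside `[a, b]` whose terms
are generated by `g` elements. -/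
def Sz (a b : ℤ) (g : ℕ) (K : Dual.D R) : Prop :=
  ∃ P : DRing.Cx R, DRing.VanishesOutside P a b ∧
    (∀ i : ℤ, Module.Projective R (P.X i) ∧ GenBy R g (P.X i)) ∧ Nonempty (DRing.toD P ≅ K)

theorem globSize_iff (K : Dual.D R) (N : ℕ) :
    W4c5algebraiztannaka.GlobSize R K N ↔ Sz (-(N : ℤ)) N N K := by
  constructor
  · rintro ⟨P, ⟨hv, hP⟩, he⟩
    exact ⟨P, hv, hP, he⟩
  · rintro ⟨P, hv, hP, he⟩
    exact ⟨P, ⟨hv, hP⟩, he⟩

theorem Sz.of_iso {a b : ℤ} {g : ℕ} {K K' : Dual.D R} (e : K ≅ K') (h : Sz a b g K) :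
    Sz a b g K' := by
  obtain ⟨P, hv, hP, ⟨e'⟩⟩ := h
  exact ⟨P, hv, hP, ⟨e' ≪≫ e⟩⟩

theorem Sz.mono {a b a' b' : ℤ} {g g' : ℕ} {K : Dual.D R} (h : Sz a b g K) (ha : a' ≤ a)
    (hb : b ≤ b') (hg : g ≤ g') : Sz a' b' g' K := by
  obtain ⟨P, hv, hP, he⟩ := h
  exact ⟨P, fun i hi => hv i (by omega), fun i => ⟨(hP i).1, (hP i).2.mono hg⟩, he⟩

theorem Sz.shift {a b : ℤ} {g : ℕ} {K : Dual.D R} (h : Sz a b g K) (n : ℤ) :
    Sz (a - n) (b - n) g (K⟦n⟧) := by
  obtain ⟨E, hb, hE, ⟨e⟩⟩ := h
  refine ⟨E⟦n⟧, ?_, ?_, ⟨(Q.commShiftIso n).app E ≪≫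
    (CategoryTheory.shiftFunctor (DerivedCategory (ModuleCat.{u} R)) n).mapIso e⟩⟩
  · intro i hi
    exact hb (i + n) (by omega)
  · intro i
    exact hE (i + n)

theorem Sz.toPA {a b : ℤ} {g : ℕ} {K : Dual.D R} (h : Sz a b g K) : PA a b K := by
  obtain ⟨P, hv, hP, he⟩ := h
  exact ⟨P, hv, fun i => (hP i).1, he⟩

theorem Sz.single (n : ℤ) (g : ℕ) (F : ModuleCat.{u} R) [Module.Projective R F]
    (hF : GenBy R g F) :
    Sz n n g (DRing.toD ((HomologicalComplex.single (ModuleCat.{u} R) (ComplexShape.up ℤ) n).obj F)) := by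
  refine ⟨(HomologicalComplex.single (ModuleCat.{u} R) (ComplexShape.up ℤ) n).obj F, ?_, ?_,
    ⟨Iso.refl _⟩⟩
  · intro i hi
    exact HomologicalComplex.isZero_single_obj_X _ _ _ _ (by omega)
  · intro i
    by_cases hi : i = n
    · subst hi
      have e := (HomologicalComplex.singleObjXSelf (ComplexShape.up ℤ) i F).toLinearEquiv
      exact ⟨Module.Projective.of_equiv e.symm, hF.of_equiv e.symm⟩
    · have hz : IsZero (((HomologicalComplex.single (ModuleCat.{u} R) (ComplexShape.up ℤ) n).obj F).X i) :=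
        HomologicalComplex.isZero_single_obj_X _ _ _ _ hi
      have := ModuleCat.subsingleton_of_isZero hz
      exact ⟨inferInstance, GenBy.of_subsingleton g⟩

theorem Sz.obj₃ {a b : ℤ} {g₁ g₂ : ℕ} (T : Triangle (Dual.D R)) (hT : T ∈ distTriang _)
    (h₁ : Sz (a + 1) (b + 1) g₁ T.obj₁) (h₂ : Sz a b g₂ T.obj₂) : Sz a b (g₁ + g₂) T.obj₃ := by
  obtain ⟨E₁, hb₁, hE₁, ⟨e₁⟩⟩ := h₁
  obtain ⟨E₂, hb₂, hE₂, ⟨e₂⟩⟩ := h₂
  have hKP : E₁.IsKProjective := isKProjective_of_vanishesAbove E₁ (b + 1)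
    (fun i hi => hb₁ i (Or.inr hi)) (fun i => (hE₁ i).1)
  obtain ⟨f, ⟨e⟩⟩ := nonempty_iso_mappingCone_of_isKProjective T hT e₁ e₂
  refine ⟨CochainComplex.mappingCone f, ?_, ?_, ⟨e⟩⟩
  · intro i hi
    rw [CochainComplex.mappingCone.isZero_X_iff]
    exact ⟨hb₁ (i + 1) (by omega), hb₂ i (by omega)⟩
  · intro i
    have := (hE₁ (i + 1)).1
    have := (hE₂ i).1
    exact ⟨Module.Projective.of_equiv (mappingConeXLinearEquiv f i).symm,
      ((hE₁ (i + 1)).2.prod (hE₂ i).2).of_equiv (mappingConeXLinearEquiv f i).symm⟩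

/-- Trimming from above. -/
theorem Sz.trim {a b : ℤ} {g : ℕ} {K : Dual.D R} (h : Sz a b g K) (n : ℤ) [K.IsLE n] :
    Sz a n g K := by
  obtain ⟨T, hT, hfp, ⟨e⟩⟩ := h
  have hTLE : T.IsLE n := by
    rw [← isLE_Q_obj_iff]
    exact TStructure.t.isLE_of_iso e.symm n
  have hq' : QuasiIso (T.ιTruncLE n) := inferInstance
  have hiso1 : IsIso (Q.map (T.ιTruncLE n)) := by
    rw [isIso_Q_map_iff_quasiIso]
    exact hq'
  have hcyc : Module.Projective R (T.cycles n) ∧ GenBy R g (T.cycles n) := by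
    obtain ⟨h1, h2⟩ := proj_genBy_ker_d T b (fun i hi => hT i (Or.inr hi)) n g (fun i _ => hfp i)
      (fun i hi => T.exactAt_of_isLE n i hi) n le_rfl
    let e := (Groth.Agent.Lib.Helper35.TA.cyclesIsoKer T n (n + 1) rfl).toLinearEquiv
    exact ⟨Module.Projective.of_equiv e.symm, h2.of_equiv e.symm⟩
  refine ⟨T.truncLE n, ?_, ?_, ⟨asIso (Q.map (T.ιTruncLE n)) ≪≫ e⟩⟩
  · intro i hi
    by_cases hib : n < i
    · exact (T.truncLE n).isZero_of_isStrictlyLE n i hib
    · have hia : i < a := by omega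
      have hz : IsZero (T.X i) := hT i (Or.inl hia)
      by_cases hib' : i < n
      · exact hz.of_iso (T.truncLEXIso n i hib')
      · have : i = n := by omega
        subst this
        have hz' : IsZero (T.cycles i) := by
          rw [IsZero.iff_id_eq_zero, ← cancel_mono (T.iCycles i)]
          exact hz.eq_of_tgt _ _
        exact hz'.of_iso (T.truncLEXIsoCycles i)
  · intro i
    by_cases hib : n < i
    · have hz := (T.truncLE n).isZero_of_isStrictlyLE n i hib
      have : Subsingleton ((T.truncLE n).X i) := ModuleCat.subsingleton_of_isZero hz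
      exact ⟨inferInstance, GenBy.of_subsingleton g⟩
    · by_cases hib' : i < n
      · obtain ⟨h1, h2⟩ := hfp i
        let e := (T.truncLEXIso n i hib').toLinearEquiv
        exact ⟨Module.Projective.of_equiv e.symm, h2.of_equiv e.symm⟩
      · have : i = n := by omega
        subst this
        obtain ⟨h1, h2⟩ := hcyc
        let e := (T.truncLEXIsoCycles i).toLinearEquiv
        exact ⟨Module.Projective.of_equiv e.symm, h2.of_equiv e.symm⟩

end Groth.Agent.Lib.Helper89.SizeA
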