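import Mathlib
import Groth.Agent.Lib.Helper89.SizeA
import Groth.Agent.Lib.Helper35.FlatBC

/-!
# Top cohomology of a bounded above complex, cones killing it (helper89)
-/

set_option autoImplicit false
universe u

namespace Groth.Agent.Lib.Helper89.SizeB

open CategoryTheory Limits DerivedCategory Pretriangulated ZeroObject CochainComplex
  HomologicalComplex
open Groth.Agent.Lib.Helper35.KL Groth.Agent.Lib.Helper89.SizeA

attribute [local instance] HasDerivedCategory.standard

variable {R : Type u} [CommRing R]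

/-- Homology in the derived category of a complex. -/
noncomputable def hIso (X : DRing.Cx R) (n : ℤ) :
    X.homology n ≅ (DerivedCategory.homologyFunctor (ModuleCat.{u} R) n).obj (DRing.toD X) :=
  ((homologyFunctorFactors (ModuleCat.{u} R) n).app X).symm

theorem hIso_naturality {X Y : DRing.Cx R} (f : X ⟶ Y) (n : ℤ) :
    homologyMap f n ≫ (hIso Y n).hom =
      (hIso X n).hom ≫ (DerivedCategory.homologyFunctor (ModuleCat.{u} R) n).map (Q.map f) :=
  (homologyFunctorFactors (ModuleCat.{u} R) n).inv.naturality f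

/-- For `X` with `X^{n+1} = 0`, the canonical epimorphism `X^n ⟶ H^n(X)`. -/
noncomputable def topπ (X : DRing.Cx R) (n : ℤ) (hX : IsZero (X.X (n + 1))) :
    X.X n ⟶ (DerivedCategory.homologyFunctor (ModuleCat.{u} R) n).obj (DRing.toD X) :=
  haveI : IsIso (X.iCycles n) := X.isIso_iCycles n (n + 1) (by simp) (hX.eq_of_tgt _ _)
  inv (X.iCycles n) ≫ X.homologyπ n ≫ (hIso X n).hom

instance epi_topπ (X : DRing.Cx R) (n : ℤ) (hX : IsZero (X.X (n + 1))) : Epi (topπ X n hX) := by
  have : IsIso (X.iCycles n) := X.isIso_iCycles n (n + 1) (by simp) (hX.eq_of_tgt _ _)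
  unfold topπ
  infer_instance

theorem topπ_naturality {X Y : DRing.Cx R} (f : X ⟶ Y) (n : ℤ) (hX : IsZero (X.X (n + 1)))
    (hY : IsZero (Y.X (n + 1))) :
    f.f n ≫ topπ Y n hY =
      topπ X n hX ≫ (DerivedCategory.homologyFunctor (ModuleCat.{u} R) n).map (Q.map f) := by
  have : IsIso (X.iCycles n) := X.isIso_iCycles n (n + 1) (by simp) (hX.eq_of_tgt _ _)
  have : IsIso (Y.iCycles n) := Y.isIso_iCycles n (n + 1) (by simp) (hY.eq_of_tgt _ _)
  unfold topπ
  have h1 : f.f n ≫ inv (Y.iCycles n) = inv (X.iCycles n) ≫ cyclesMap f n := by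
    rw [IsIso.eq_inv_comp, ← Category.assoc, IsIso.comp_inv_eq, cyclesMap_i]
  have h2 := hIso_naturality f n
  rw [reassoc_of% h1, ← homologyπ_naturality_assoc, h2]
  simp only [Category.assoc]

theorem isIso_topπ (X : DRing.Cx R) (n : ℤ) (hX : IsZero (X.X (n + 1)))
    (hX' : IsZero (X.X (n - 1))) : IsIso (topπ X n hX) := by
  have : IsIso (X.iCycles n) := X.isIso_iCycles n (n + 1) (by simp) (hX.eq_of_tgt _ _)
  have : IsIso (X.homologyπ n) := X.isIso_homologyπ (n - 1) n (by simp) (hX'.eq_of_src _ _)
  unfold topπ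
  infer_instance

theorem genBy_homology_top (X : DRing.Cx R) (n : ℤ) (hX : IsZero (X.X (n + 1))) (g : ℕ)
    (h : GenBy R g (X.X n)) :
    GenBy R g ((DerivedCategory.homologyFunctor (ModuleCat.{u} R) n).obj (DRing.toD X)) :=
  h.of_surjective (topπ X n hX).hom ((ModuleCat.epi_iff_surjective _).mp inferInstance)

theorem Sz.genBy_homology {a n : ℤ} {g : ℕ} {K : Dual.D R} (h : Sz a n g K) :
    GenBy R g ((DerivedCategory.homologyFunctor (ModuleCat.{u} R) n).obj K) := by
  obtain ⟨P, hv, hP, ⟨e⟩⟩ := h
  have h1 := genBy_homology_top P n (hv (n + 1) (Or.inr (by omega))) g (hP n).2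
  exact h1.of_equiv ((DerivedCategory.homologyFunctor (ModuleCat.{u} R) n).mapIso e).toLinearEquiv

/-- Killing the top cohomology by a cone. -/
theorem exists_cone (X : DRing.Cx R) (m n : ℤ) (hmn : m < n) (hX : DRing.VanishesOutside X m n)
    (hfp : DRing.TermwiseFiniteProjective X) (k : ℕ)
    (hk : GenBy R k ((DerivedCategory.homologyFunctor (ModuleCat.{u} R) n).obj (DRing.toD X))) :
    ∃ (X₁ : DRing.Cx R)
      (α : DRing.toD ((HomologicalComplex.single (ModuleCat.{u} R) (ComplexShape.up ℤ) n).obj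
        (ModuleCat.of R (Fin k → R))) ⟶ DRing.toD X)
      (β : DRing.toD X ⟶ DRing.toD X₁)
      (γ : DRing.toD X₁ ⟶ (DRing.toD ((HomologicalComplex.single (ModuleCat.{u} R)
        (ComplexShape.up ℤ) n).obj (ModuleCat.of R (Fin k → R))))⟦(1 : ℤ)⟧),
      Triangle.mk α β γ ∈ distTriang _ ∧ DRing.VanishesOutside X₁ m (n - 1) ∧
        DRing.TermwiseFiniteProjective X₁ := by
  obtain ⟨p, hp⟩ := hk
  have hXn : IsZero (X.X (n + 1)) := hX (n + 1) (Or.inr (by omega))
  have hπ : Function.Surjective (topπ X n hXn).hom :=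
    (ModuleCat.epi_iff_surjective _).mp inferInstance
  obtain ⟨s, hs⟩ := Module.projective_lifting_property (topπ X n hXn).hom p hπ
  let F : ModuleCat.{u} R := ModuleCat.of R (Fin k → R)
  let S := (HomologicalComplex.single (ModuleCat.{u} R) (ComplexShape.up ℤ) n).obj F
  let st : S ⟶ X := HomologicalComplex.mkHomFromSingle (ModuleCat.ofHom s) (by
    intro j hj
    simp only [ComplexShape.up_Rel] at hj
    subst hj
    exact hXn.eq_of_tgt _ _)
  have hSn : IsZero (S.X (n + 1)) :=
    HomologicalComplex.isZero_single_obj_X _ _ _ _ (by omega)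
  -- `H^n(st)` is an epimorphism
  have hepi : Epi ((DerivedCategory.homologyFunctor (ModuleCat.{u} R) n).map (Q.map st)) := by
    have h1 := topπ_naturality st n hSn hXn
    have h2 : Epi (st.f n ≫ topπ X n hXn) := by
      have h3 : st.f n ≫ topπ X n hXn =
          (HomologicalComplex.singleObjXSelf (ComplexShape.up ℤ) n F).hom ≫ ModuleCat.ofHom p := by
        rw [HomologicalComplex.mkHomFromSingle_f, Category.assoc]
        congr 1
        apply ModuleCat.hom_ext
        exact hs
      rw [h3]
      have : Epi (ModuleCat.ofHom p) := (ModuleCat.epi_iff_surjective _).mpr hp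
      infer_instance
    rw [h1] at h2
    exact epi_of_epi (topπ S n hSn) _
  -- the triangle
  have hT := mappingCone_triangle_distinguished st
  set T := Q.mapTriangle.obj (mappingCone.triangle st) with hTdef
  -- the cone is `≤ n - 1`
  have hSLE : (DRing.toD S).IsLE n := by
    have : CochainComplex.IsStrictlyLE S n := by
      rw [CochainComplex.isStrictlyLE_iff]
      intro i hi
      exact HomologicalComplex.isZero_single_obj_X _ _ _ _ (by omega)
    infer_instance
  have hXLE : (DRing.toD X).IsLE n := by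
    have : X.IsStrictlyLE n := by
      rw [CochainComplex.isStrictlyLE_iff]
      intro i hi
      exact hX i (Or.inr hi)
    infer_instance
  have hCLE : (Q.obj (mappingCone st)).IsLE (n - 1) := by
    rw [DerivedCategory.isLE_iff]
    intro i hi
    have hS0 : IsZero ((DerivedCategory.homologyFunctor (ModuleCat.{u} R) (i + 1)).obj T.obj₁) :=
      DerivedCategory.isZero_of_isLE (DRing.toD S) n (i + 1) (by omega)
    have hepi2 : Epi ((DerivedCategory.homologyFunctor (ModuleCat.{u} R) i).map T.mor₂) := by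
      rw [HomologySequence.epi_homologyMap_mor₂_iff T hT i (i + 1) rfl]
      exact hS0.eq_of_tgt _ _
    by_cases hin : i = n
    · subst hin
      have h0 : (DerivedCategory.homologyFunctor (ModuleCat.{u} R) i).map T.mor₂ = 0 :=
        (HomologySequence.epi_homologyMap_mor₁_iff T hT i).mp hepi
      have hz : IsZero ((DerivedCategory.homologyFunctor (ModuleCat.{u} R) i).obj T.obj₃) :=
        IsZero.of_epi_eq_zero _ h0
      exact hz
    · have hX0 : IsZero ((DerivedCategory.homologyFunctor (ModuleCat.{u} R) i).obj T.obj₂) :=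
        DerivedCategory.isZero_of_isLE (DRing.toD X) n i (by omega)
      have hz : IsZero ((DerivedCategory.homologyFunctor (ModuleCat.{u} R) i).obj T.obj₃) :=
        IsZero.of_epi ((DerivedCategory.homologyFunctor (ModuleCat.{u} R) i).map T.mor₂) hX0
      exact hz
  -- trim the cone
  have hconeV : DRing.VanishesOutside (mappingCone st) m n := by
    intro i hi
    rw [CochainComplex.mappingCone.isZero_X_iff]
    refine ⟨?_, hX i hi⟩
    exact HomologicalComplex.isZero_single_obj_X _ _ _ _ (by omega)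
  have hconeP : DRing.TermwiseFiniteProjective (mappingCone st) := by
    intro i
    have hSi : Module.Finite R (S.X (i + 1)) ∧ Module.Projective R (S.X (i + 1)) := by
      by_cases hi : i + 1 = n
      · rw [hi]
        have e := (HomologicalComplex.singleObjXSelf (ComplexShape.up ℤ) n F).toLinearEquiv
        exact ⟨Module.Finite.equiv e.symm, Module.Projective.of_equiv e.symm⟩
      · have hz : IsZero (S.X (i + 1)) := HomologicalComplex.isZero_single_obj_X _ _ _ _ hi
        have := ModuleCat.subsingleton_of_isZero hz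
        exact ⟨inferInstance, inferInstance⟩
    obtain ⟨h1, h2⟩ := hSi
    obtain ⟨h3, h4⟩ := hfp i
    exact ⟨Module.Finite.equiv (mappingConeXLinearEquiv st i).symm,
      Module.Projective.of_equiv (mappingConeXLinearEquiv st i).symm⟩
  have hLE' : (mappingCone st).IsLE (n - 1) := by
    rw [← isLE_Q_obj_iff]
    exact hCLE
  obtain ⟨X₁, hX₁v, hX₁p, ⟨e⟩⟩ :=
    Groth.Agent.Lib.Helper35.TA.exists_trim (mappingCone st) m n (n - 1) hconeV hconeP
  have key : ∀ (β₀ : DRing.toD X ⟶ DRing.toD (mappingCone st))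
      (γ₀ : DRing.toD (mappingCone st) ⟶ (DRing.toD S)⟦(1 : ℤ)⟧),
      Triangle.mk (Q.map st) β₀ γ₀ ∈ distTriang _ →
      ∃ (X₁ : DRing.Cx R) (α : DRing.toD S ⟶ DRing.toD X) (β : DRing.toD X ⟶ DRing.toD X₁)
        (γ : DRing.toD X₁ ⟶ (DRing.toD S)⟦(1 : ℤ)⟧),
        Triangle.mk α β γ ∈ distTriang _ ∧ DRing.VanishesOutside X₁ m (n - 1) ∧
          DRing.TermwiseFiniteProjective X₁ := by
    intro β₀ γ₀ hT'
    refine ⟨X₁, Q.map st, β₀ ≫ e.inv, e.hom ≫ γ₀, ?_, hX₁v, hX₁p⟩
    refine isomorphic_distinguished _ hT' _ ?_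
    refine Triangle.isoMk _ _ (Iso.refl _) (Iso.refl _) e ?_ ?_ ?_
    · exact (Category.comp_id _).trans (Category.id_comp _).symm
    · exact ((Category.assoc _ _ _).trans ((congrArg (β₀ ≫ ·) e.inv_hom_id).trans
        (Category.comp_id _))).trans (Category.id_comp _).symm
    · exact (congrArg ((e.hom ≫ γ₀) ≫ ·) (CategoryTheory.Functor.map_id _ _)).trans (Category.comp_id _)
  exact key T.mor₂ T.mor₃ hT

end Groth.Agent.Lib.Helper89.SizeB
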