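import Mathlib
import Groth.Agent.Lib.Helper89.SizeB

/-!
# Local-to-global bound for the size of a perfect complex: the induction (helper89)
-/

set_option autoImplicit false
universe u

namespace Groth.Agent.Lib.Helper89.SizeC

open CategoryTheory Limits DerivedCategory Pretriangulated ZeroObject CochainComplex
  HomologicalComplex TensorProduct
open Groth.Agent.Lib.Helper35.KL Groth.Agent.Lib.Helper89.SizeA Groth.Agent.Lib.Helper89.SizeB
open Groth.Agent.Lib.Helper35.FlatBC

attribute [local instance] HasDerivedCategory.standard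

variable {R : Type u} [CommRing R] (B : Type u) [CommRing B] [Algebra R B]

theorem GenBy.baseChange {g : ℕ} {M : Type u} [AddCommGroup M] [Module R M] (h : GenBy R g M) :
    GenBy B g (B ⊗[R] M) := by
  obtain ⟨s, hs⟩ := h
  let e : (Fin g → B) ≃ₗ[B] B ⊗[R] (Fin g → R) := (TensorProduct.piScalarRight R B B (Fin g)).symm
  refine ⟨(LinearMap.baseChange B s) ∘ₗ e.toLinearMap, ?_⟩
  rw [LinearMap.coe_comp]
  refine Function.Surjective.comp ?_ e.surjective
  rw [LinearMap.baseChange_eq_ltensor]
  exact LinearMap.lTensor_surjective B hs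

theorem GenBy.ext {g : ℕ} (M : ModuleCat.{u} R) (h : GenBy R g M) :
    GenBy B g ((ext R B).obj M) :=
  (GenBy.baseChange B h).of_equiv (extLinearEquiv B M).symm

variable [Module.Flat R B]

theorem Sz.bcG {a b : ℤ} {g : ℕ} {K : Dual.D R} (h : Sz a b g K) :
    Sz a b g ((G R B).obj K) := by
  obtain ⟨P, hv, hP, ⟨e⟩⟩ := h
  refine ⟨(extCx R B).obj P, vanishesOutside_extCx B P a b hv, ?_,
    ⟨(GQIso B P).symm ≪≫ (G R B).mapIso e⟩⟩
  intro i
  have := (hP i).1
  exact ⟨projective_ext_obj B (P.X i), GenBy.ext B (P.X i) (hP i).2⟩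

/-- The hypothesis on the cover: generation of finite modules can be tested after base change,
up to a factor `N`. -/
def HN (R : Type u) [CommRing R] (B : Type u) [CommRing B] [Algebra R B] (N : ℕ) : Prop :=
  ∀ (M : ModuleCat.{u} R) [Module.Finite R M] (s : ℕ), GenBy B s (B ⊗[R] M) → GenBy R (s * N) M

variable {B}

theorem genBy_top_homology {N : ℕ} (hN : HN R B N) (X : DRing.Cx R) (m n : ℤ)
    (hX : DRing.VanishesOutside X m n) (hfp : DRing.TermwiseFiniteProjective X) (g : ℕ)
    (h : Sz m n g ((G R B).obj (DRing.toD X))) :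
    GenBy R (g * N) ((DerivedCategory.homologyFunctor (ModuleCat.{u} R) n).obj (DRing.toD X)) := by
  have hXn : IsZero (X.X (n + 1)) := hX (n + 1) (Or.inr (by omega))
  have hfin : Module.Finite R
      ((DerivedCategory.homologyFunctor (ModuleCat.{u} R) n).obj (DRing.toD X)) := by
    have := (hfp n).1
    exact Module.Finite.of_surjective (topπ X n hXn).hom
      ((ModuleCat.epi_iff_surjective _).mp inferInstance)
  have h1 := Sz.genBy_homology h
  have h2 : GenBy B g ((ext R B).obj
      ((DerivedCategory.homologyFunctor (ModuleCat.{u} R) n).obj (DRing.toD X))) :=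
    h1.of_equiv ((homologyIso R B n).app (DRing.toD X)).toLinearEquiv
  have h3 := h2.of_equiv (extLinearEquiv B
    ((DerivedCategory.homologyFunctor (ModuleCat.{u} R) n).obj (DRing.toD X)))
  exact hN _ g h3

/-- The bound. -/
def Φ (N : ℕ) : ℕ → ℕ → ℕ
  | 0, g => g * N
  | d + 1, g => Φ N d (g * N + g) + g * N

theorem main {N : ℕ} (hN : HN R B N) :
    ∀ (d : ℕ) (m n : ℤ) (_ : n = m + d) (g : ℕ) (X : DRing.Cx R),
      DRing.VanishesOutside X m n → DRing.TermwiseFiniteProjective X →
      Sz m n g ((G R B).obj (DRing.toD X)) → Sz m n (Φ N d g) (DRing.toD X) := by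
  intro d
  induction d with
  | zero =>
    intro m n hmn g X hX hfp h
    have hmn' : n = m := by simpa using hmn
    subst hmn'
    have hgen := genBy_top_homology hN X n n hX hfp g h
    have hXn : IsZero (X.X (n + 1)) := hX (n + 1) (Or.inr (by omega))
    have hXn' : IsZero (X.X (n - 1)) := hX (n - 1) (Or.inl (by omega))
    have := isIso_topπ X n hXn hXn'
    have hgen' : GenBy R (g * N) (X.X n) :=
      hgen.of_equiv (asIso (topπ X n hXn)).toLinearEquiv.symm
    refine ⟨X, hX, ?_, ⟨Iso.refl _⟩⟩
    intro i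
    by_cases hi : i = n
    · subst hi
      exact ⟨(hfp i).2, hgen'⟩
    · have hz : IsZero (X.X i) := hX i (by omega)
      have := ModuleCat.subsingleton_of_isZero hz
      exact ⟨inferInstance, GenBy.of_subsingleton _⟩
  | succ d ih =>
    intro m n hmn g X hX hfp h
    have hlt : m < n := by push_cast at hmn; omega
    have hgen := genBy_top_homology hN X m n hX hfp g h
    obtain ⟨X₁, α, β, γ, hT, hX₁v, hX₁p⟩ := exists_cone X m n hlt hX hfp (g * N) hgen
    let F : ModuleCat.{u} R := ModuleCat.of R (Fin (g * N) → R)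
    have hF : GenBy R (g * N) F := ⟨LinearMap.id, Function.surjective_id⟩
    have hS : Sz n n (g * N) (DRing.toD ((HomologicalComplex.single (ModuleCat.{u} R)
        (ComplexShape.up ℤ) n).obj F)) := Sz.single n (g * N) F hF
    -- over `B`
    have hTB := (G R B).map_distinguished _ hT
    have h3B : Sz m n (g * N + g) ((G R B).obj (DRing.toD X₁)) :=
      Sz.obj₃ (a := m) (b := n) _ hTB
        ((Sz.bcG B hS).mono (by omega) (by omega) le_rfl) h
    have hLE : ((G R B).obj (DRing.toD X₁)).IsLE (n - 1) := by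
      have h1 : CochainComplex.IsStrictlyLE ((extCx R B).obj X₁) (n - 1) := by
        rw [CochainComplex.isStrictlyLE_iff]
        intro i hi
        exact vanishesOutside_extCx B X₁ m (n - 1) hX₁v i (Or.inr hi)
      exact TStructure.t.isLE_of_iso (GQIso B X₁).symm (n - 1)
    have h3B' : Sz m (n - 1) (g * N + g) ((G R B).obj (DRing.toD X₁)) := h3B.trim (n - 1)
    have hX₁ := ih m (n - 1) (by push_cast at hmn; omega) (g * N + g) X₁ hX₁v hX₁p h3B'
    -- over `R`
    have hT' := inv_rot_of_distTriang _ hT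
    have h1 : Sz (m + 1) (n + 1) (Φ N d (g * N + g)) ((DRing.toD X₁)⟦(-1 : ℤ)⟧) :=
      (hX₁.shift (-1)).mono (by omega) (by omega) le_rfl
    exact Sz.obj₃ (a := m) (b := n) _ hT' h1 (hS.mono (by omega) le_rfl le_rfl)

end Groth.Agent.Lib.Helper89.SizeC
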