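import Mathlib
import Groth.Agent.Lib.Helper89.SizeC
import Groth.Agent.S17867
import Groth.Agent.S6950
import Groth.Agent.Lib.Helper11.TildePullback

/-!
# Local-to-global bound for the size of a perfect complex: the Nisnevich input (helper89)
-/

set_option autoImplicit false
universe u

namespace Groth.Agent.Lib.Helper89.SizeD

open CategoryTheory Limits DerivedCategory Pretriangulated ZeroObject CochainComplex
  HomologicalComplex TensorProduct AlgebraicGeometry
open Groth.Agent.Lib.Helper35.KL Groth.Agent.Lib.Helper89.SizeA Groth.Agent.Lib.Helper89.SizeB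
open Groth.Agent.Lib.Helper35.FlatBC Groth.Agent.Lib.Helper89.SizeC

attribute [local instance] HasDerivedCategory.standard

/-- Generators of `M` give an epimorphism `O^s ⟶ M~`. -/
theorem exists_epi_of_span (B : CommRingCat.{u}) (M : ModuleCat.{u} B) (s : ℕ) (t : Fin s → M)
    (ht : Submodule.span B (Set.range t) = ⊤) :
    ∃ χ : FlatMod.freeMod (Spec B) s ⟶ tilde M, Epi χ := by
  let σ : Fin s → (ModuleCat.of B B ⟶ M) :=
    fun j => ModuleCat.ofHom (LinearMap.toSpanSingleton B M (t j))
  let χ : FlatMod.freeMod (Spec B) s ⟶ tilde M :=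
    Sigma.desc (fun j => (tildeSelf (R := B)).inv ≫ tilde.map (σ j))
  refine ⟨χ, ⟨fun {Z} a b hab => ?_⟩⟩
  apply ((tilde.adjunction (R := B)).homEquiv M Z).injective
  apply ModuleCat.hom_ext
  apply LinearMap.ext_on_range ht
  intro j
  have h1 : tilde.map (σ j) ≫ a = tilde.map (σ j) ≫ b := by
    have h0 := congrArg (fun f => (tildeSelf (R := B)).hom ≫
      Sigma.ι (fun _ : Fin s => Coh.structureModule (Spec B)) j ≫ f) hab
    simp only [χ, Sigma.ι_desc_assoc] at h0
    exact h0
  have key : ∀ c : tilde M ⟶ Z,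
      (tilde.adjunction (R := B)).homEquiv (ModuleCat.of B B) Z (tilde.map (σ j) ≫ c) =
        σ j ≫ (tilde.adjunction (R := B)).homEquiv M Z c :=
    fun c => Adjunction.homEquiv_naturality_left _ _ _
  have h2 := congrArg ((tilde.adjunction (R := B)).homEquiv (ModuleCat.of B B) Z) h1
  have h2' : σ j ≫ (tilde.adjunction (R := B)).homEquiv M Z a =
      σ j ≫ (tilde.adjunction (R := B)).homEquiv M Z b := (key a).symm.trans (h2.trans (key b))
  have h3 := congrArg (fun f => f.hom (1 : B)) h2'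
  simpa [σ] using h3

theorem surjective_of_nis {U Y : Scheme.{u}} (f : U ⟶ Y) (N : ℕ)
    (h : W4c5algebraiztannaka.IsNisCoverLen f N) : Function.Surjective f := by
  obtain ⟨Z, hZ0, hZN, -, -, hsec⟩ := h.flag
  intro y
  by_contra hy
  have key : ∀ j : Fin (N + 1), y ∉ Z j := by
    intro j
    induction j using Fin.induction with
    | zero => rw [hZ0]; exact Set.notMem_empty y
    | succ k ih =>
      intro hk
      obtain ⟨T, g, s, -, hrange, hsf⟩ := hsec k
      have hy' : y ∈ Set.range (fun t : T => g t) := by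
        rw [hrange]
        exact ⟨hk, ih⟩
      obtain ⟨t, ht⟩ := hy'
      apply hy
      refine ⟨s t, ?_⟩
      rw [← ht, ← hsf]
      rfl
  exact key (Fin.last N) (hZN ▸ Set.mem_univ y)

section

variable {R B : Type u} [CommRing R] [CommRing B] [Algebra R B]

theorem flat_of_nis (N : ℕ)
    (hNis : W4c5algebraiztannaka.IsNisCoverLen
      (Spec.map (CommRingCat.ofHom (algebraMap R B))) N) : Module.Flat R B := by
  have := hNis.etale
  have h1 : Flat (Spec.map (CommRingCat.ofHom (algebraMap R B))) := inferInstance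
  rw [Flat.SpecMap_iff] at h1
  exact RingHom.flat_algebraMap_iff.mp h1

theorem faithfullyFlat_of_nis (N : ℕ)
    (hNis : W4c5algebraiztannaka.IsNisCoverLen
      (Spec.map (CommRingCat.ofHom (algebraMap R B))) N) : Module.FaithfullyFlat R B := by
  have := flat_of_nis N hNis
  apply Module.FaithfullyFlat.of_comap_surjective
  exact surjective_of_nis _ N hNis

theorem hN_of_nis (N : ℕ)
    (hNis : W4c5algebraiztannaka.IsNisCoverLen
      (Spec.map (CommRingCat.ofHom (algebraMap R B))) N) : HN R B N := by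
  intro M _ s hs
  rw [genBy_iff_span] at hs ⊢
  obtain ⟨t, ht⟩ := hs
  obtain ⟨χ, hχ⟩ := exists_epi_of_span (CommRingCat.of B) (ModuleCat.of B (B ⊗[R] M)) s t ht
  obtain ⟨e3⟩ := Groth.Agent.Lib.Helper11.nonempty_pullback_tilde_iso R B M
  exact Groth.Agent.S17867.result (CommRingCat.of R) M (U := Spec (CommRingCat.of B))
    (Spec.map (CommRingCat.ofHom (algebraMap R B))) N s hNis ⟨χ ≫ e3.inv, epi_comp _ _⟩

/-- Step A: trim to the amplitude of the local model. -/
theorem exists_trimmed [Module.FaithfullyFlat R B] (E : DRing.Cx R) (a b : ℤ)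
    (hE : DRing.VanishesOutside E a b) (hfp : DRing.TermwiseFiniteProjective E) (m n : ℤ) (g : ℕ)
    (h : Sz m n g ((G R B).obj (DRing.toD E))) :
    ∃ X : DRing.Cx R, DRing.VanishesOutside X m n ∧ DRing.TermwiseFiniteProjective X ∧
      Nonempty (DRing.toD X ≅ DRing.toD E) := by
  obtain ⟨P, hPv, hP, ⟨e⟩⟩ := h
  have hTAB : DRing.HasTorAmplitudeIn B m n (DRing.toD ((extCx R B).obj E)) := by
    refine ⟨P, hPv, fun i => ?_, ⟨e ≪≫ GQIso B E⟩⟩
    have := (hP i).1
    infer_instance
  have hTA : DRing.HasTorAmplitudeIn R m n (DRing.toD E) :=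
    Groth.Agent.S6950.result (R := R) (R' := B) E m n hTAB
  obtain ⟨T, hTv, hTp, ⟨eT⟩⟩ := Groth.Agent.Lib.Helper35.TA.exists_finite_projective_of_TAmp E b
    (fun i hi => hE i (Or.inr hi)) hfp m n hTA
  have hTLE : T.IsLE n := by
    obtain ⟨Fl, hFv, -, ⟨eF⟩⟩ := hTA
    have h1 : CochainComplex.IsStrictlyLE Fl n := by
      rw [CochainComplex.isStrictlyLE_iff]
      intro i hi
      exact hFv i (Or.inr hi)
    rw [← isLE_Q_obj_iff]
    exact TStructure.t.isLE_of_iso (eF ≪≫ eT.symm) n
  obtain ⟨X, hXv, hXp, ⟨eX⟩⟩ := Groth.Agent.Lib.Helper35.TA.exists_trim T m b n hTv hTp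
  exact ⟨X, hXv, hXp, ⟨eX ≪≫ eT⟩⟩

end

end Groth.Agent.Lib.Helper89.SizeD
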