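import Mathlib

open TensorProduct

namespace Groth.Agent.Lib.Helper89.TensorLength

universe u

set_option linter.style.haveILetI false
set_option linter.unusedSectionVars false

/-- length of a ring over itself is invariant under ring isomorphisms -/
theorem length_self_eq_of_ringEquiv {R S : Type*} [CommRing R] [CommRing S] (e : R ≃+* S) :
    Module.length R R = Module.length S S := by
  let _ : Algebra R S := e.toRingHom.toAlgebra
  have h1 : Module.length R S = Module.length S S :=
    Module.length_eq_of_surjective (S := R) (R := S) (M := S) e.surjective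
  have h2 : Module.length R R = Module.length R S := by
    refine LinearEquiv.length_eq ?_
    exact { e.toAddEquiv with
      map_smul' := fun r x => by
        change e (r * x) = r • e x
        rw [Algebra.smul_def, map_mul]
        rfl }
  exact h2.trans h1

/-- nat arithmetic: a factor of a `p`-power is a `p`-power when `p = 1` or `p` is prime. -/
theorem nat_eq_pow_of_mul_eq_pow {p a b m : ℕ} (hp : p.Prime ∨ p = 1) (h : a * b = p ^ m) :
    ∃ n, a = p ^ n := by
  rcases hp with hp | rfl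
  · obtain ⟨n, -, hn⟩ := (Nat.dvd_prime_pow hp).1 (Dvd.intro b h)
    exact ⟨n, hn⟩
  · simp only [one_pow] at h ⊢
    exact ⟨0, (Nat.eq_one_of_mul_eq_one_right h)⟩

section abstract

variable (E : Type u) [Field E] (p : ℕ) [ExpChar E p]
  (L : Type u) [Field L] [Algebra E L] [FiniteDimensional E L] [IsPurelyInseparable E L]
  (B : Type u) [CommRing B] [Algebra E B]

/-- the contraction of a minimal prime of `B ⊗[E] L` to `B` is a minimal prime -/
theorem comap_mem_minimalPrimes (q : Ideal (B ⊗[E] L)) [q.IsPrime]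
    (hq : q ∈ minimalPrimes (B ⊗[E] L)) :
    q.comap (algebraMap B (B ⊗[E] L)) ∈ minimalPrimes B := by
  set q₁ : Ideal B := q.comap (algebraMap B (B ⊗[E] L)) with hq₁def
  haveI : q₁.IsPrime := Ideal.comap_isPrime _ _
  haveI : q.LiesOver q₁ := ⟨rfl⟩
  refine ⟨⟨inferInstance, bot_le⟩, fun p' hp' hle => ?_⟩
  haveI := hp'.1
  obtain ⟨P, hPq, hP, hPover⟩ := Ideal.exists_ideal_le_liesOver_of_le (p := p') (q := q₁) q hle
  have h1 : q ≤ P := hq.2 ⟨hP, bot_le⟩ hPq
  have h2 : P = q := le_antisymm hPq h1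
  rw [hPover.over, h2]

/-- a prime of `B ⊗[E] L` is determined by its contraction to `B` (purely inseparable case) -/
theorem eq_of_comap_eq (P Q : Ideal (B ⊗[E] L)) [P.IsPrime] [Q.IsPrime]
    (h : P.comap (algebraMap B (B ⊗[E] L)) = Q.comap (algebraMap B (B ⊗[E] L))) : P = Q := by
  have hh := PrimeSpectrum.isHomeomorph_comap_of_isPurelyInseparable E L B
  have := hh.injective (a₁ := ⟨P, inferInstance⟩) (a₂ := ⟨Q, inferInstance⟩)
    (PrimeSpectrum.ext h)
  exact congrArg PrimeSpectrum.asIdeal this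

end abstract

section abstract2

variable (E : Type u) [Field E] (p : ℕ) [ExpChar E p]
  (L : Type u) [Field L] [Algebra E L] [FiniteDimensional E L] [IsPurelyInseparable E L]

/-- numeric part: for a field `Ω ⊇ E`, `Ω ⊗[E] L` is a local ring whose length is a `p`-power. -/
theorem isLocalRing_tensor (Ω : Type u) [Field Ω] [Algebra E Ω] : IsLocalRing (Ω ⊗[E] L) := by
  have hh := PrimeSpectrum.isHomeomorph_comap_of_isPurelyInseparable E L Ω
  haveI : Nontrivial (Ω ⊗[E] L) :=
    (Algebra.TensorProduct.includeLeft_injective (R := E) (S := Ω) (A := Ω) (B := L)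
      (algebraMap E L).injective).nontrivial
  obtain ⟨m, hm⟩ := Ideal.exists_maximal (Ω ⊗[E] L)
  refine IsLocalRing.of_unique_max_ideal ⟨m, hm, fun m' hm' => ?_⟩
  haveI := hm.isPrime
  haveI := hm'.isPrime
  have := hh.injective (a₁ := ⟨m', inferInstance⟩) (a₂ := ⟨m, inferInstance⟩)
    (Subsingleton.elim _ _)
  exact congrArg PrimeSpectrum.asIdeal this

theorem exists_length_tensor_eq_pow (Ω : Type u) [Field Ω] [Algebra E Ω] [IsLocalRing (Ω ⊗[E] L)] :
    ∃ n : ℕ, Module.length (Ω ⊗[E] L) (Ω ⊗[E] L) = (p ^ n : ℕ) := by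
  have key := IsLocalRing.length_restrictScalars Ω (Ω ⊗[E] L) (Ω ⊗[E] L)
  obtain ⟨m, hm⟩ := IsPurelyInseparable.finrank_eq_pow E L p
  have h1 : Module.length Ω (Ω ⊗[E] L) = (p ^ m : ℕ) := by
    rw [Module.length_eq_finrank, Module.finrank_baseChange, hm]
  haveI : ExpChar (IsLocalRing.ResidueField Ω) p :=
    expChar_of_injective_ringHom
      (f := (algebraMap Ω (IsLocalRing.ResidueField Ω)).comp (algebraMap E Ω))
      (RingHom.injective _) p
  haveI : IsPurelyInseparable (IsLocalRing.ResidueField Ω)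
      (IsLocalRing.ResidueField (Ω ⊗[E] L)) := by
    rw [isPurelyInseparable_iff_pow_mem _ p]
    intro x
    obtain ⟨t, rfl⟩ := IsLocalRing.residue_surjective x
    obtain ⟨n, ω, hω⟩ := IsPurelyInseparable.exists_pow_pow_mem_range_tensorProduct_of_expChar
      (k := E) (K := L) (R := Ω) p t
    refine ⟨n, IsLocalRing.residue Ω ω, ?_⟩
    rw [← map_pow, ← hω]
    exact IsLocalRing.ResidueField.map_residue (algebraMap Ω (Ω ⊗[E] L)) ω
  obtain ⟨j, hj⟩ := IsPurelyInseparable.finrank_eq_pow (IsLocalRing.ResidueField Ω)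
    (IsLocalRing.ResidueField (Ω ⊗[E] L)) p
  have h2 : Module.length (IsLocalRing.ResidueField Ω) (IsLocalRing.ResidueField (Ω ⊗[E] L)) =
      (p ^ j : ℕ) := by
    rw [Module.length_eq_finrank, hj]
  rw [h1, h2] at key
  have hfin : Module.length (Ω ⊗[E] L) (Ω ⊗[E] L) ≠ ⊤ := by
    haveI : IsArtinianRing (Ω ⊗[E] L) := IsArtinianRing.of_finite Ω _
    exact Module.length_ne_top
  obtain ⟨ℓ, hℓ⟩ := ENat.ne_top_iff_exists.mp hfin
  rw [← hℓ] at key ⊢
  have key' : ℓ * p ^ j = p ^ m := by exact_mod_cast key.symm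
  obtain ⟨n, hn⟩ := nat_eq_pow_of_mul_eq_pow (expChar_is_prime_or_one E p) key'
  exact ⟨n, by rw [hn]⟩

theorem exists_length_localization_eq_pow_aux
    (B : Type u) [CommRing B] [Algebra E B]
    (q : Ideal (B ⊗[E] L)) [q.IsPrime]
    (q₁ : Ideal B) [q₁.IsPrime] (hq₁q : q₁ = q.comap (algebraMap B (B ⊗[E] L)))
    (hq₁ : q₁ ∈ minimalPrimes B)
    (Ω : Type u) [Field Ω] [Algebra E Ω] [Algebra B Ω] [IsScalarTower E B Ω]
    [IsLocalization.AtPrime Ω q₁] :
    ∃ n : ℕ, Module.length (Localization.AtPrime q) (Localization.AtPrime q) = (p ^ n : ℕ) := by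
  let φ : (B ⊗[E] L) →ₐ[E] (Ω ⊗[E] L) :=
    Algebra.TensorProduct.map (IsScalarTower.toAlgHom E B Ω) (AlgHom.id E L)
  letI : Algebra (B ⊗[E] L) (Ω ⊗[E] L) := φ.toRingHom.toAlgebra
  have hφ : ∀ x, algebraMap (B ⊗[E] L) (Ω ⊗[E] L) x = φ x := fun _ => rfl
  haveI : IsScalarTower B (B ⊗[E] L) (Ω ⊗[E] L) := IsScalarTower.of_algebraMap_eq' (by
    ext b
    simp only [RingHom.comp_apply, hφ, Algebra.TensorProduct.algebraMap_apply, φ,
      Algebra.TensorProduct.map_tmul, IsScalarTower.coe_toAlgHom', map_one, Algebra.algebraMap_self,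
      RingHom.id_apply])
  have hloc : IsLocalization (Algebra.algebraMapSubmonoid (B ⊗[E] L) q₁.primeCompl) (Ω ⊗[E] L) :=
    IsLocalization.tensorProduct_tensorProduct E L q₁.primeCompl Ω (by
      ext l
      simp only [RingHom.comp_apply, hφ, φ, AlgHom.toRingHom_eq_coe, RingHom.coe_coe,
        Algebra.TensorProduct.includeRight_apply, Algebra.TensorProduct.map_tmul, map_one,
        AlgHom.id_apply])
  haveI := isLocalRing_tensor E L Ω
  have hAt : IsLocalization q.primeCompl (Ω ⊗[E] L) := by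
    refine @IsLocalization.of_le _ _ _ _ _ _ hloc q.primeCompl ?_ ?_
    · rintro _ ⟨b, hb, rfl⟩
      intro hmem
      apply hb
      rw [hq₁q]
      exact hmem
    · intro r hr
      by_contra hunit
      have hmem : algebraMap _ (Ω ⊗[E] L) r ∈ IsLocalRing.maximalIdeal (Ω ⊗[E] L) :=
        (IsLocalRing.mem_maximalIdeal _).2 hunit
      obtain ⟨P, hP⟩ : ∃ P : Ideal (B ⊗[E] L), P = (IsLocalRing.maximalIdeal (Ω ⊗[E] L)).comap
        (algebraMap (B ⊗[E] L) (Ω ⊗[E] L)) := ⟨_, rfl⟩
      haveI : P.IsPrime := hP ▸ Ideal.comap_isPrime _ _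
      have hPq : P = q := by
        apply eq_of_comap_eq E L B
        rw [← hq₁q]
        have hle : P.comap (algebraMap B (B ⊗[E] L)) ≤ q₁ := by
          intro b hb
          by_contra hbq
          have hu : IsUnit (algebraMap (B ⊗[E] L) (Ω ⊗[E] L) (algebraMap B _ b)) :=
            IsLocalization.map_units (Ω ⊗[E] L)
              (⟨algebraMap B _ b, ⟨b, hbq, rfl⟩⟩ :
                Algebra.algebraMapSubmonoid (B ⊗[E] L) q₁.primeCompl)
          rw [Ideal.mem_comap, hP, Ideal.mem_comap] at hb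
          exact (IsLocalRing.mem_maximalIdeal _).1 hb hu
        haveI : (P.comap (algebraMap B (B ⊗[E] L))).IsPrime := Ideal.comap_isPrime _ _
        exact le_antisymm hle (hq₁.2 ⟨inferInstance, bot_le⟩ hle)
      apply hr
      rw [← hPq, hP]
      exact hmem
  let e : Localization.AtPrime q ≃ₐ[B ⊗[E] L] (Ω ⊗[E] L) :=
    IsLocalization.algEquiv q.primeCompl _ _
  rw [length_self_eq_of_ringEquiv e.toRingEquiv]
  exact exists_length_tensor_eq_pow E p L Ω
theorem exists_length_localization_eq_pow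
    (B : Type u) [CommRing B] [Algebra E B] [IsReduced B]
    (q : Ideal (B ⊗[E] L)) [q.IsPrime] (hq : q ∈ minimalPrimes (B ⊗[E] L)) :
    ∃ n : ℕ, Module.length (Localization.AtPrime q) (Localization.AtPrime q) = (p ^ n : ℕ) := by
  obtain ⟨q₁, hq₁q⟩ : ∃ q₁ : Ideal B, q₁ = q.comap (algebraMap B (B ⊗[E] L)) := ⟨_, rfl⟩
  haveI : q₁.IsPrime := hq₁q ▸ Ideal.comap_isPrime _ _
  have hq₁ : q₁ ∈ minimalPrimes B := hq₁q ▸ comap_mem_minimalPrimes E L B q hq
  haveI : Ring.KrullDimLE 0 (Localization.AtPrime q₁) := .of_isLocalization _ hq₁ _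
  letI : Field (Localization.AtPrime q₁) := Ring.KrullDimLE.isField_of_isReduced.toField
  exact exists_length_localization_eq_pow_aux E p L B q q₁ hq₁q hq₁ (Localization.AtPrime q₁)

end abstract2

section fields

theorem isReduced_tensor_of_isSeparable
    (k F : Type u) [Field k] [Field F] [Algebra k F]
    (E : Type u) [Field E] [Algebra F E] [Algebra k E] [IsScalarTower k F E]
    [Algebra.IsSeparable F E] [Module.Finite F E]
    (K : Type u) [Field K] [Algebra k K] [IsDomain (F ⊗[k] K)] :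
    IsReduced (E ⊗[k] K) := by
  let e₁ : E ⊗[F] (F ⊗[k] K) ≃ₐ[F] E ⊗[k] K := Algebra.TensorProduct.cancelBaseChange k F F E K
  suffices h : IsReduced (E ⊗[F] (F ⊗[k] K)) from
    isReduced_of_injective (e₁.symm : E ⊗[k] K →+* E ⊗[F] (F ⊗[k] K)) e₁.symm.injective
  let Q := FractionRing (F ⊗[k] K)
  let ι : E ⊗[F] (F ⊗[k] K) →ₐ[F] E ⊗[F] Q :=
    Algebra.TensorProduct.map (AlgHom.id F E) (IsScalarTower.toAlgHom F (F ⊗[k] K) Q)
  have hι : Function.Injective ι := by
    have := Module.Flat.lTensor_preserves_injective_linearMap (R := F) (M := E)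
      (IsScalarTower.toAlgHom F (F ⊗[k] K) Q).toLinearMap
      (IsFractionRing.injective (F ⊗[k] K) Q)
    exact this
  suffices h : IsReduced (E ⊗[F] Q) from isReduced_of_injective ι hι
  let e₂ : E ⊗[F] Q ≃ₐ[F] Q ⊗[F] E := Algebra.TensorProduct.comm F E Q
  suffices h : IsReduced (Q ⊗[F] E) from
    isReduced_of_injective (e₂ : E ⊗[F] Q →+* Q ⊗[F] E) e₂.injective
  haveI : Algebra.FormallyUnramified F E := Algebra.FormallyUnramified.of_isSeparable F E
  exact Algebra.FormallyUnramified.isReduced_of_field Q (Q ⊗[F] E)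

theorem isDomain_tensor_of_isFractionRing (k : Type u) [Field k] (P F : Type u) [CommRing P]
    [IsDomain P] [Field F] [Algebra k P] [Algebra k F] [Algebra P F] [IsScalarTower k P F]
    [IsFractionRing P F] (K : Type u) [Field K] [Algebra k K] [IsDomain (P ⊗[k] K)] :
    IsDomain (F ⊗[k] K) := by
  let φ : P ⊗[k] K →ₐ[k] F ⊗[k] K :=
    Algebra.TensorProduct.map (IsScalarTower.toAlgHom k P F) (AlgHom.id k K)
  letI : Algebra (P ⊗[k] K) (F ⊗[k] K) := φ.toRingHom.toAlgebra
  have hφ : ∀ x, algebraMap (P ⊗[k] K) (F ⊗[k] K) x = φ x := fun _ => rfl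
  haveI : IsScalarTower P (P ⊗[k] K) (F ⊗[k] K) := IsScalarTower.of_algebraMap_eq' (by
    ext b
    simp only [RingHom.comp_apply, hφ, Algebra.TensorProduct.algebraMap_apply, φ,
      Algebra.TensorProduct.map_tmul, IsScalarTower.coe_toAlgHom', map_one, Algebra.algebraMap_self,
      RingHom.id_apply])
  have hloc : IsLocalization (Algebra.algebraMapSubmonoid (P ⊗[k] K) (nonZeroDivisors P))
      (F ⊗[k] K) :=
    IsLocalization.tensorProduct_tensorProduct k K (nonZeroDivisors P) F (by
      ext l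
      simp only [RingHom.comp_apply, hφ, φ, AlgHom.toRingHom_eq_coe, RingHom.coe_coe,
        Algebra.TensorProduct.includeRight_apply, Algebra.TensorProduct.map_tmul, map_one,
        AlgHom.id_apply])
  refine IsLocalization.isDomain_of_le_nonZeroDivisors (R := P ⊗[k] K) (F ⊗[k] K)
    (M := Algebra.algebraMapSubmonoid (P ⊗[k] K) (nonZeroDivisors P)) ?_
  rintro _ ⟨x, hx, rfl⟩
  apply mem_nonZeroDivisors_of_ne_zero
  have hinj : Function.Injective (algebraMap P (P ⊗[k] K)) :=
    Algebra.TensorProduct.includeLeft_injective (R := k) (S := P) (A := P) (B := K)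
      (algebraMap k K).injective
  intro h0
  exact nonZeroDivisors.ne_zero hx (hinj (h0.trans (map_zero _).symm))

open scoped IntermediateField.algebraAdjoinAdjoin in
theorem isDomain_adjoin_tensor {k L : Type u} [Field k] [Field L] [Algebra k L] {ι : Type u}
    {v : ι → L} (hv : AlgebraicIndependent k v) (K : Type u) [Field K] [Algebra k K] :
    IsDomain (↥(IntermediateField.adjoin k (Set.range v)) ⊗[k] K) := by
  -- P ⊗ K is a domain
  let e₁ : MvPolynomial ι k ≃ₐ[k] Algebra.adjoin k (Set.range v) := hv.aevalEquiv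
  let f₁ : (Algebra.adjoin k (Set.range v)) ⊗[k] K →ₐ[k] (MvPolynomial ι k) ⊗[k] K :=
    Algebra.TensorProduct.map e₁.symm.toAlgHom (AlgHom.id k K)
  have hf₁ : Function.Injective f₁ := by
    have : Function.Injective (Algebra.TensorProduct.congr e₁.symm (AlgEquiv.refl (R := k) (A₁ := K))) :=
      (Algebra.TensorProduct.congr e₁.symm AlgEquiv.refl).injective
    exact this
  let e₂ : (MvPolynomial ι k) ⊗[k] K ≃ₐ[k] K ⊗[k] (MvPolynomial ι k) :=
    Algebra.TensorProduct.comm k _ _
  let e₃ : K ⊗[k] (MvPolynomial ι k) ≃ₐ[K] MvPolynomial ι K := MvPolynomial.algebraTensorAlgEquiv k K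
  let g : (Algebra.adjoin k (Set.range v)) ⊗[k] K →+* MvPolynomial ι K :=
    (e₃ : K ⊗[k] (MvPolynomial ι k) →+* MvPolynomial ι K).comp
      ((e₂ : (MvPolynomial ι k) ⊗[k] K →+* K ⊗[k] (MvPolynomial ι k)).comp f₁.toRingHom)
  have hg : Function.Injective g := by
    refine e₃.injective.comp (e₂.injective.comp hf₁)
  haveI : IsDomain ((Algebra.adjoin k (Set.range v)) ⊗[k] K) := hg.isDomain g
  exact isDomain_tensor_of_isFractionRing k (Algebra.adjoin k (Set.range v))
    (IntermediateField.adjoin k (Set.range v)) K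

theorem exists_intermediate (k L : Type u) [Field k] [Field L] [Algebra k L]
    (hL : (⊤ : IntermediateField k L).FG) :
    ∃ (E : Type u) (_ : Field E) (_ : Algebra k E) (_ : Algebra E L) (_ : IsScalarTower k E L),
      FiniteDimensional E L ∧ IsPurelyInseparable E L ∧
      ∀ (K : Type u) [Field K] [Algebra k K], IsReduced (E ⊗[k] K) := by
  obtain ⟨s, hs⟩ := exists_isTranscendenceBasis k L
  obtain ⟨F, hF⟩ : ∃ F : IntermediateField k L,
      F = IntermediateField.adjoin k (Set.range ((↑) : s → L)) := ⟨_, rfl⟩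
  haveI halg : Algebra.IsAlgebraic F L := hF ▸ hs.isAlgebraic_field
  haveI : Algebra.EssFiniteType k L := IntermediateField.fg_top_iff.mp hL
  haveI : Algebra.EssFiniteType F L := Algebra.EssFiniteType.of_comp k F L
  haveI hfin : Module.Finite F L := Algebra.finite_of_essFiniteType_of_isAlgebraic
  haveI : IsScalarTower k (separableClosure F L) L := IsScalarTower.of_algebraMap_eq (fun x => rfl)
  refine ⟨separableClosure F L, inferInstance, inferInstance, inferInstance, inferInstance,
    ?_, ?_, ?_⟩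
  · exact Module.Finite.right F (separableClosure F L) L
  · exact separableClosure.isPurelyInseparable F L
  · intro K _ _
    haveI : IsDomain (↥F ⊗[k] K) := by
      subst hF
      exact isDomain_adjoin_tensor hs.1 K
    exact isReduced_tensor_of_isSeparable k F (separableClosure F L) K

end fields

section final

theorem length_localization_eq_of_ringEquiv {A A' : Type*} [CommRing A] [CommRing A']
    (e : A ≃+* A') (q : Ideal A) [q.IsPrime] (q' : Ideal A') [q'.IsPrime]
    (h : q = q'.comap (e : A →+* A')) :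
    Module.length (Localization.AtPrime q) (Localization.AtPrime q) =
      Module.length (Localization.AtPrime q') (Localization.AtPrime q') := by
  have H : q.primeCompl.map e.toMonoidHom = q'.primeCompl := by
    ext x
    constructor
    · rintro ⟨y, hy, rfl⟩
      intro hx
      apply hy
      rw [h]
      exact hx
    · intro hx
      refine ⟨e.symm x, ?_, by simp⟩
      intro hmem
      apply hx
      rw [h] at hmem
      simpa using hmem
  exact length_self_eq_of_ringEquiv
    (IsLocalization.ringEquivOfRingEquiv (Localization.AtPrime q) (Localization.AtPrime q') e H)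

theorem mem_minimalPrimes_of_ringEquiv {A A' : Type*} [CommRing A] [CommRing A']
    (e : A ≃+* A') (q : Ideal A) (hq : q ∈ minimalPrimes A) :
    q.comap (e.symm : A' →+* A) ∈ minimalPrimes A' := by
  haveI := hq.1.1
  refine ⟨⟨Ideal.comap_isPrime _ _, bot_le⟩, fun P' hP' hle => ?_⟩
  haveI := hP'.1
  have h1 : P'.comap (e : A →+* A') ≤ q := by
    intro x hx
    have := hle hx
    simpa using this
  have h2 : q ≤ P'.comap (e : A →+* A') := hq.2 ⟨Ideal.comap_isPrime _ _, bot_le⟩ h1
  intro x hx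
  have hx' : e.symm x ∈ q := hx
  have h3 := h2 hx'
  rw [Ideal.mem_comap] at h3
  have h4 : (e : A →+* A') (e.symm x) = x := e.apply_symm_apply x
  rwa [h4] at h3

theorem main (k K L : Type u) [Field k] [Field K] [Field L] [Algebra k K] [Algebra k L]
    (hL : (⊤ : IntermediateField k L).FG) (p : ℕ) [ExpChar k p] (q : Ideal (K ⊗[k] L)) [q.IsPrime]
    (hq : q ∈ minimalPrimes (K ⊗[k] L)) :
    ∃ n : ℕ, Module.length (Localization.AtPrime q) (Localization.AtPrime q) = (p ^ n : ℕ) := by
  obtain ⟨E, _, _, _, _, hfin, hpi, hred⟩ := exists_intermediate k L hL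
  haveI := hfin
  haveI := hpi
  haveI : IsReduced (E ⊗[k] K) := hred K
  haveI : ExpChar E p := expChar_of_injective_algebraMap (algebraMap k E).injective p
  let e₁ : K ⊗[k] L ≃ₐ[k] L ⊗[k] K := Algebra.TensorProduct.comm k K L
  let e₂ : L ⊗[E] (E ⊗[k] K) ≃ₐ[E] L ⊗[k] K := Algebra.TensorProduct.cancelBaseChange k E E L K
  let e₃ : L ⊗[E] (E ⊗[k] K) ≃ₐ[E] (E ⊗[k] K) ⊗[E] L := Algebra.TensorProduct.comm E L (E ⊗[k] K)
  let e : K ⊗[k] L ≃+* (E ⊗[k] K) ⊗[E] L :=
    (e₁.toRingEquiv.trans e₂.symm.toRingEquiv).trans e₃.toRingEquiv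
  obtain ⟨q', hq'⟩ : ∃ q' : Ideal ((E ⊗[k] K) ⊗[E] L), q' = q.comap (e.symm : _ →+* _) := ⟨_, rfl⟩
  haveI : q'.IsPrime := hq' ▸ Ideal.comap_isPrime _ _
  have hq'min : q' ∈ minimalPrimes ((E ⊗[k] K) ⊗[E] L) := hq' ▸ mem_minimalPrimes_of_ringEquiv e q hq
  have hqq' : q = q'.comap (e : _ →+* _) := by
    rw [hq']
    ext x
    simp
  rw [length_localization_eq_of_ringEquiv e q q' hqq']
  exact exists_length_localization_eq_pow E p L (E ⊗[k] K) q' hq'min

end final

end Groth.Agent.Lib.Helper89.TensorLength
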